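import Mathlib

universe u

set_option maxSynthPendingDepth 3

open CategoryTheory

namespace Groth.Agent.Lib.Helper73.PdQuotient

variable {R : Type u} [CommRing R]

section maps

variable (I : Ideal R) {M N P : Type u} [AddCommGroup M] [Module R M] [AddCommGroup N] [Module R N]
  [AddCommGroup P] [Module R P]

theorem smul_top_le_comap (f : M →ₗ[R] N) :
    (I • ⊤ : Submodule R M) ≤ (I • ⊤ : Submodule R N).comap f := by
  rw [← Submodule.map_le_iff_le_comap, Submodule.map_smul'']
  exact Submodule.smul_mono le_rfl le_top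

/-- the induced map `M/IM → N/IN` as an `R/I`-linear map -/
noncomputable def qmap (f : M →ₗ[R] N) :
    (M ⧸ (I • ⊤ : Submodule R M)) →ₗ[R ⧸ I] (N ⧸ (I • ⊤ : Submodule R N)) :=
  LinearMap.extendScalarsOfSurjective Ideal.Quotient.mk_surjective
    (Submodule.mapQ _ _ f (smul_top_le_comap I f))

@[simp]
theorem qmap_mk (f : M →ₗ[R] N) (m : M) :
    qmap I f (Submodule.Quotient.mk m) = Submodule.Quotient.mk (f m) := rfl

theorem qmap_surjective (f : M →ₗ[R] N) (hf : Function.Surjective f) :
    Function.Surjective (qmap I f) := by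
  intro y
  obtain ⟨n, rfl⟩ := Submodule.Quotient.mk_surjective _ y
  obtain ⟨m, rfl⟩ := hf n
  exact ⟨Submodule.Quotient.mk m, rfl⟩

end maps

section regular

variable (x : R) {K F M : Type u} [AddCommGroup K] [Module R K] [AddCommGroup F] [Module R F]
  [AddCommGroup M] [Module R M]

theorem mem_span_smul_top_iff (m : M) :
    m ∈ (Ideal.span {x} • ⊤ : Submodule R M) ↔ ∃ m', m = x • m' := by
  rw [Submodule.ideal_span_singleton_smul, Submodule.mem_smul_pointwise_iff_exists]
  constructor
  · rintro ⟨m', -, rfl⟩; exact ⟨m', rfl⟩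
  · rintro ⟨m', rfl⟩; exact ⟨m', trivial, rfl⟩

theorem qmap_injective (i : K →ₗ[R] F) (p : F →ₗ[R] M) (hi : Function.Injective i)
    (hex : Function.Exact i p) (hM : IsSMulRegular M x) :
    Function.Injective (qmap (Ideal.span {x}) i) := by
  rw [injective_iff_map_eq_zero]
  intro y hy
  obtain ⟨k, rfl⟩ := Submodule.Quotient.mk_surjective _ y
  rw [qmap_mk, Submodule.Quotient.mk_eq_zero, mem_span_smul_top_iff] at hy
  obtain ⟨f, hf⟩ := hy
  have h1 : p (i k) = 0 := hex.apply_apply_eq_zero k
  rw [hf, map_smul] at h1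
  have h2 : p f = 0 := hM (by simpa using h1)
  obtain ⟨k', rfl⟩ := (hex f).mp h2
  rw [← map_smul] at hf
  have := hi hf
  rw [Submodule.Quotient.mk_eq_zero, mem_span_smul_top_iff]
  exact ⟨k', this⟩

theorem qmap_exact (i : K →ₗ[R] F) (p : F →ₗ[R] M) (hp : Function.Surjective p)
    (hex : Function.Exact i p) :
    Function.Exact (qmap (Ideal.span {x}) i) (qmap (Ideal.span {x}) p) := by
  intro y
  obtain ⟨f, rfl⟩ := Submodule.Quotient.mk_surjective _ y
  constructor
  · intro h
    rw [qmap_mk, Submodule.Quotient.mk_eq_zero, mem_span_smul_top_iff] at h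
    obtain ⟨m, hm⟩ := h
    obtain ⟨f', rfl⟩ := hp m
    have h1 : p (f - x • f') = 0 := by rw [map_sub, map_smul, hm, sub_self]
    obtain ⟨k, hk⟩ := (hex _).mp h1
    refine ⟨Submodule.Quotient.mk k, ?_⟩
    rw [qmap_mk, hk, Submodule.Quotient.mk_sub]
    have : (Submodule.Quotient.mk (x • f') : F ⧸ (Ideal.span {x} • ⊤ : Submodule R F)) = 0 := by
      rw [Submodule.Quotient.mk_eq_zero, mem_span_smul_top_iff]; exact ⟨f', rfl⟩
    rw [this, sub_zero]
  · rintro ⟨z, hz⟩
    rw [← hz]
    obtain ⟨k, rfl⟩ := Submodule.Quotient.mk_surjective _ z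
    rw [qmap_mk, qmap_mk, hex.apply_apply_eq_zero, Submodule.Quotient.mk_zero]

end regular

section pd

/-- short exact complex from linear maps -/
theorem shortExact_of_linear {A : Type u} [Ring A] {N₁ N₂ N₃ : Type u} [AddCommGroup N₁] [Module A N₁]
    [AddCommGroup N₂] [Module A N₂] [AddCommGroup N₃] [Module A N₃]
    (f : N₁ →ₗ[A] N₂) (g : N₂ →ₗ[A] N₃) (hf : Function.Injective f)
    (hg : Function.Surjective g) (hfg : Function.Exact f g) :
    (ModuleCat.shortComplexOfCompEqZero f g hfg.linearMap_comp_eq_zero).ShortExact :=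
  ModuleCat.shortComplex_shortExact _ hfg hf hg

theorem projective_quot (I : Ideal R) (M : Type u) [AddCommGroup M] [Module R M]
    [Module.Projective R M] :
    Module.Projective (R ⧸ I) (M ⧸ (I • ⊤ : Submodule R M)) :=
  Module.Projective.of_equiv
    ((TensorProduct.quotTensorEquivQuotSMul M I).extendScalarsOfSurjective
      Ideal.Quotient.mk_surjective)

theorem isSMulRegular_finsupp (x : R) (hR : IsSMulRegular R x) (ι : Type u) :
    IsSMulRegular (ι →₀ R) x := by
  intro f g h
  ext a
  have := DFunLike.congr_fun h a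
  simp only [Finsupp.smul_apply] at this
  exact hR this

theorem isSMulRegular_submodule (x : R) {F : Type u} [AddCommGroup F] [Module R F]
    (hF : IsSMulRegular F x) (K : Submodule R F) : IsSMulRegular K x := by
  intro a b h
  apply Subtype.ext
  apply hF
  have := congrArg Subtype.val h
  simpa using this

theorem hasProjectiveDimensionLT_quot (x : R) (hR : IsSMulRegular R x) :
    ∀ (n : ℕ) (M : Type u) [AddCommGroup M] [Module R M],
    IsSMulRegular M x → HasProjectiveDimensionLT (ModuleCat.of R M) (n + 1) →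
    HasProjectiveDimensionLT (ModuleCat.of (R ⧸ Ideal.span {x})
      (M ⧸ (Ideal.span {x} • ⊤ : Submodule R M))) (n + 1) := by
  intro n
  induction n with
  | zero =>
    intro M _ _ hM h
    rw [zero_add, ← projective_iff_hasProjectiveDimensionLT_one,
      ← IsProjective.iff_projective] at h ⊢
    exact projective_quot _ M
  | succ n ih =>
    intro M _ _ hM h
    obtain ⟨p, hp⟩ : ∃ p : (M →₀ R) →ₗ[R] M, Function.Surjective p :=
      ⟨_, Finsupp.linearCombination_id_surjective R M⟩
    have hex : Function.Exact (LinearMap.ker p).subtype p := LinearMap.exact_subtype_ker_map p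
    have hi : Function.Injective (LinearMap.ker p).subtype := Submodule.injective_subtype _
    have hS := shortExact_of_linear (A := R) (N₁ := LinearMap.ker p) (N₂ := M →₀ R) (N₃ := M)
      (LinearMap.ker p).subtype p hi hp hex
    have hK : HasProjectiveDimensionLT (ModuleCat.of R (LinearMap.ker p)) (n + 1) := by
      refine (hS.hasProjectiveDimensionLT_X₃_iff n ?_).mp h
      change Projective (ModuleCat.of R (M →₀ R))
      rw [← IsProjective.iff_projective]
      infer_instance
    have hF : IsSMulRegular (M →₀ R) x := isSMulRegular_finsupp x hR M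
    have hK' := ih (LinearMap.ker p) (isSMulRegular_submodule x hF _) hK
    have hex' := qmap_exact (K := LinearMap.ker p) x (LinearMap.ker p).subtype p hp hex
    have hi' := qmap_injective (K := LinearMap.ker p) x (LinearMap.ker p).subtype p hi hex hM
    have hp' := qmap_surjective (Ideal.span {x}) _ hp
    have hS' := shortExact_of_linear (A := R ⧸ Ideal.span {x})
      (N₁ := LinearMap.ker p ⧸ (Ideal.span {x} • ⊤ : Submodule R (LinearMap.ker p)))
      (N₂ := (M →₀ R) ⧸ (Ideal.span {x} • ⊤ : Submodule R (M →₀ R)))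
      (N₃ := M ⧸ (Ideal.span {x} • ⊤ : Submodule R M))
      (qmap (Ideal.span {x}) (LinearMap.ker p).subtype)
      (qmap (Ideal.span {x}) p) hi' hp' hex'
    refine (hS'.hasProjectiveDimensionLT_X₃_iff n ?_).mpr hK'
    change Projective (ModuleCat.of (R ⧸ Ideal.span {x})
      ((M →₀ R) ⧸ (Ideal.span {x} • ⊤ : Submodule R (M →₀ R))))
    rw [← IsProjective.iff_projective]
    exact projective_quot _ _

end pd

end Groth.Agent.Lib.Helper73.PdQuotient
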