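import Mathlib
import Groth.Agent.Lib.Helper73.PdQuotient
import Groth.Agent.Lib.Helper85.AzumayaDescent

universe u

set_option maxSynthPendingDepth 3

open CategoryTheory TensorProduct

namespace Groth.Agent.Lib.Helper73.PdDescent

variable (R : Type u) [CommRing R] (S : Type u) [CommRing S] [Algebra R S]

theorem hasProjectiveDimensionLT_of_baseChange [Module.FaithfullyFlat R S] [IsNoetherianRing R] :
    ∀ (n : ℕ) (M : Type u) [AddCommGroup M] [Module R M] [Module.Finite R M],
    HasProjectiveDimensionLT (ModuleCat.of S (S ⊗[R] M)) (n + 1) →
    HasProjectiveDimensionLT (ModuleCat.of R M) (n + 1) := by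
  intro n
  induction n with
  | zero =>
    intro M _ _ _ h
    rw [zero_add, ← projective_iff_hasProjectiveDimensionLT_one,
      ← IsProjective.iff_projective] at h ⊢
    exact (Groth.Agent.Lib.Helper85.finite_projective_of_tensorProduct_of_faithfullyFlat R S M).2
  | succ n ih =>
    intro M _ _ _ h
    obtain ⟨m, g, hg⟩ := Module.Finite.exists_fin' R M
    have hex : Function.Exact (LinearMap.ker g).subtype g := LinearMap.exact_subtype_ker_map g
    have hi : Function.Injective (LinearMap.ker g).subtype := Submodule.injective_subtype _
    have hS := PdQuotient.shortExact_of_linear (A := R) (N₁ := LinearMap.ker g)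
      (N₂ := Fin m → R) (N₃ := M) (LinearMap.ker g).subtype g hi hg hex
    have hex' : Function.Exact ((LinearMap.ker g).subtype.baseChange S) (g.baseChange S) :=
      lTensor_exact S hex hg
    have hi' : Function.Injective ((LinearMap.ker g).subtype.baseChange S) :=
      Module.Flat.lTensor_preserves_injective_linearMap _ hi
    have hg' : Function.Surjective (g.baseChange S) := LinearMap.lTensor_surjective S hg
    have hS' := PdQuotient.shortExact_of_linear (A := S) (N₁ := S ⊗[R] LinearMap.ker g)
      (N₂ := S ⊗[R] (Fin m → R)) (N₃ := S ⊗[R] M) ((LinearMap.ker g).subtype.baseChange S)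
      (g.baseChange S) hi' hg' hex'
    have hK' : HasProjectiveDimensionLT (ModuleCat.of S (S ⊗[R] LinearMap.ker g)) (n + 1) := by
      refine (hS'.hasProjectiveDimensionLT_X₃_iff n ?_).mp h
      change Projective (ModuleCat.of S (S ⊗[R] (Fin m → R)))
      rw [← IsProjective.iff_projective]
      infer_instance
    have hK := ih (LinearMap.ker g) hK'
    refine (hS.hasProjectiveDimensionLT_X₃_iff n ?_).mpr hK
    change Projective (ModuleCat.of R (Fin m → R))
    rw [← IsProjective.iff_projective]
    infer_instance

end Groth.Agent.Lib.Helper73.PdDescent
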