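import Groth.Agent.Lib.Helper73.ProjHorseshoe

/-!
# Helper library: the long exact sequence of left derived functors

For an additive functor `F : C ⥤ D` between abelian categories (`C` with projective resolutions) and
a short exact short complex `S` in `C`, we produce connecting morphisms
`δ : L_{n+1}F(X₃) ⟶ L_nF(X₁)` with the three exactness statements of the long exact sequence
(existence form).
-/

universe v u v' u'

open CategoryTheory CategoryTheory.Limits

noncomputable section

set_option backward.isDefEq.respectTransparency false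

namespace Groth.Agent.Lib.Helper73

namespace LeftDerivedLES

open ProjHorseshoe

variable {C : Type u} [Category.{v} C] [Abelian C]
variable {D : Type u'} [Category.{v'} D] [Abelian D]
variable (F : C ⥤ D) [F.Additive]
variable {S : ShortComplex C} (hS : S.ShortExact)
  (P₁ : ProjectiveResolution S.X₁) (P₃ : ProjectiveResolution S.X₃)

/-- the short complex of complexes `F(P₁) ⟶ F(mid) ⟶ F(P₃)` -/
def mappedSC : ShortComplex (ChainComplex D ℕ) :=
  (ShortComplex.mk (fMap hS P₁ P₃) (gMap hS P₁ P₃) (fMap_gMap hS P₁ P₃)).map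
    (F.mapHomologicalComplex (ComplexShape.down ℕ))

lemma mappedSC_shortExact : (mappedSC F hS P₁ P₃).ShortExact := by
  apply HomologicalComplex.shortExact_of_degreewise_shortExact
  intro n
  exact ((splitting hS P₁ P₃ n).map F).shortExact

variable [HasProjectiveResolutions C]

/-- naturality square for `S.f` -/
lemma nat_f (k : ℕ) :
    (F.leftDerived k).map S.f ≫ ((midRes hS P₁ P₃).isoLeftDerivedObj F k).hom =
      (P₁.isoLeftDerivedObj F k).hom ≫
        HomologicalComplex.homologyMap (mappedSC F hS P₁ P₃).f k := by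
  refine ProjectiveResolution.isoLeftDerivedObj_hom_naturality S.f P₁ (midRes hS P₁ P₃)
    (fMap hS P₁ P₃) ?_ F k
  have := congr_fun (congr_arg HomologicalComplex.Hom.f (fMap_π hS P₁ P₃)) 0
  simpa using this

/-- naturality square for `S.g` -/
lemma nat_g (k : ℕ) :
    (F.leftDerived k).map S.g ≫ (P₃.isoLeftDerivedObj F k).hom =
      ((midRes hS P₁ P₃).isoLeftDerivedObj F k).hom ≫
        HomologicalComplex.homologyMap (mappedSC F hS P₁ P₃).g k := by
  refine ProjectiveResolution.isoLeftDerivedObj_hom_naturality S.g (midRes hS P₁ P₃) P₃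
    (gMap hS P₁ P₃) ?_ F k
  have := congr_fun (congr_arg HomologicalComplex.Hom.f (gMap_π hS P₁ P₃)) 0
  simpa using this

/-- the connecting morphism -/
def δ (n : ℕ) : (F.leftDerived (n + 1)).obj S.X₃ ⟶ (F.leftDerived n).obj S.X₁ :=
  (P₃.isoLeftDerivedObj F (n + 1)).hom ≫
    (mappedSC_shortExact F hS P₁ P₃).δ (n + 1) n rfl ≫ (P₁.isoLeftDerivedObj F n).inv

include hS in
lemma map_f_map_g (n : ℕ) : (F.leftDerived n).map S.f ≫ (F.leftDerived n).map S.g = 0 := by
  let P₁ := projectiveResolution S.X₁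
  let P₃ := projectiveResolution S.X₃
  rw [← cancel_mono (P₃.isoLeftDerivedObj F n).hom, zero_comp, Category.assoc, nat_g F hS P₁ P₃,
    ← Category.assoc, nat_f F hS P₁ P₃, Category.assoc, ← HomologicalComplex.homologyMap_comp,
    (mappedSC F hS P₁ P₃).zero, HomologicalComplex.homologyMap_zero, comp_zero]

lemma map_g_δ (n : ℕ) : (F.leftDerived (n + 1)).map S.g ≫ δ F hS P₁ P₃ n = 0 := by
  dsimp only [δ]
  rw [← Category.assoc, nat_g F hS P₁ P₃, Category.assoc,
    ← Category.assoc (HomologicalComplex.homologyMap _ _),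
    (mappedSC_shortExact F hS P₁ P₃).comp_δ, zero_comp, comp_zero]

lemma δ_map_f (n : ℕ) : δ F hS P₁ P₃ n ≫ (F.leftDerived n).map S.f = 0 := by
  dsimp only [δ]
  rw [← cancel_mono ((midRes hS P₁ P₃).isoLeftDerivedObj F n).hom, zero_comp]
  simp only [Category.assoc]
  rw [nat_f F hS P₁ P₃, Iso.inv_hom_id_assoc, (mappedSC_shortExact F hS P₁ P₃).δ_comp, comp_zero]

include hS in
lemma exact₂ (n : ℕ) :
    (ShortComplex.mk _ _ (map_f_map_g F hS n)).Exact := by
  let P₁ := projectiveResolution S.X₁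
  let P₃ := projectiveResolution S.X₃
  refine (ShortComplex.exact_iff_of_iso ?_).2
    ((mappedSC_shortExact F hS P₁ P₃).homology_exact₂ n)
  exact ShortComplex.isoMk (P₁.isoLeftDerivedObj F n) ((midRes hS P₁ P₃).isoLeftDerivedObj F n)
    (P₃.isoLeftDerivedObj F n) (nat_f F hS P₁ P₃ n).symm (nat_g F hS P₁ P₃ n).symm

lemma exact₃ (n : ℕ) :
    (ShortComplex.mk _ _ (map_g_δ F hS P₁ P₃ n)).Exact := by
  refine (ShortComplex.exact_iff_of_iso ?_).2
    ((mappedSC_shortExact F hS P₁ P₃).homology_exact₃ (n + 1) n rfl)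
  exact ShortComplex.isoMk ((midRes hS P₁ P₃).isoLeftDerivedObj F (n + 1))
    (P₃.isoLeftDerivedObj F (n + 1)) (P₁.isoLeftDerivedObj F n) (nat_g F hS P₁ P₃ (n + 1)).symm
    (by dsimp only [δ]; simp)

lemma exact₁ (n : ℕ) :
    (ShortComplex.mk _ _ (δ_map_f F hS P₁ P₃ n)).Exact := by
  refine (ShortComplex.exact_iff_of_iso ?_).2
    ((mappedSC_shortExact F hS P₁ P₃).homology_exact₁ (n + 1) n rfl)
  exact ShortComplex.isoMk (P₃.isoLeftDerivedObj F (n + 1)) (P₁.isoLeftDerivedObj F n)
    ((midRes hS P₁ P₃).isoLeftDerivedObj F n) (by dsimp only [δ]; simp) (nat_f F hS P₁ P₃ n).symm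

end LeftDerivedLES

/-- **Long exact sequence of left derived functors** (existence form). -/
theorem leftDerived_les {C : Type u} [Category.{v} C] [Abelian C] [HasProjectiveResolutions C]
    {D : Type u'} [Category.{v'} D] [Abelian D] (F : C ⥤ D) [F.Additive]
    {S : ShortComplex C} (hS : S.ShortExact) (n : ℕ) :
    (∃ w₀ : (F.leftDerived n).map S.f ≫ (F.leftDerived n).map S.g = 0,
      (ShortComplex.mk _ _ w₀).Exact) ∧
    ∃ (δ : (F.leftDerived (n + 1)).obj S.X₃ ⟶ (F.leftDerived n).obj S.X₁)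
      (w₁ : (F.leftDerived (n + 1)).map S.g ≫ δ = 0)
      (w₂ : δ ≫ (F.leftDerived n).map S.f = 0),
      (ShortComplex.mk _ δ w₁).Exact ∧ (ShortComplex.mk δ _ w₂).Exact := by
  let P₁ := projectiveResolution S.X₁
  let P₃ := projectiveResolution S.X₃
  exact ⟨⟨_, LeftDerivedLES.exact₂ F hS n⟩, LeftDerivedLES.δ F hS P₁ P₃ n, _, _,
    LeftDerivedLES.exact₃ F hS P₁ P₃ n, LeftDerivedLES.exact₁ F hS P₁ P₃ n⟩

end Groth.Agent.Lib.Helper73
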