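import Mathlib
import Groth.Agent.Lib.Helper73.LeftDerivedLES

/-!
# Helper library: long exact sequence of `Tor` in the FIRST (non-derived) variable

For `S` a short exact short complex of `A`-modules and `N` a module we prove that
`Tor_n(S.X₁, N) ⟶ Tor_n(S.X₂, N) ⟶ Tor_n(S.X₃, N)` is exact and that there are connecting
morphisms `Tor_{n+1}(S.X₃, N) ⟶ Tor_n(S.X₁, N)` giving the long exact sequence
(`Tor = CategoryTheory.Tor (ModuleCat A)`, derived in the second variable).
-/

universe u

open CategoryTheory CategoryTheory.Limits MonoidalCategory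

noncomputable section

set_option backward.isDefEq.respectTransparency false

namespace Groth.Agent.Lib.Helper73

namespace TorFirstVar

variable {A : Type u} [CommRing A]

/-- `X ⊗ -` -/
abbrev TL (X : ModuleCat.{u} A) : ModuleCat.{u} A ⥤ ModuleCat.{u} A :=
  (tensoringLeft (ModuleCat.{u} A)).obj X

/-- the natural transformation `X ⊗ - ⟶ Y ⊗ -` induced by `f : X ⟶ Y` -/
abbrev TLmap {X Y : ModuleCat.{u} A} (f : X ⟶ Y) : TL X ⟶ TL Y :=
  (tensoringLeft (ModuleCat.{u} A)).map f

lemma flat_of_projective (Q : ModuleCat.{u} A) [Projective Q] : Module.Flat A Q := by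
  have : Module.Projective A Q := (IsProjective.iff_projective (R := A) Q).mpr ‹_›
  infer_instance

variable {S : ShortComplex (ModuleCat.{u} A)} (hS : S.ShortExact)
variable {N : ModuleCat.{u} A} (P : ProjectiveResolution N)

/-- the short complex of complexes `S.X₁ ⊗ P ⟶ S.X₂ ⊗ P ⟶ S.X₃ ⊗ P` -/
def tensSC : ShortComplex (ChainComplex (ModuleCat.{u} A) ℕ) where
  X₁ := ((TL S.X₁).mapHomologicalComplex _).obj P.complex
  X₂ := ((TL S.X₂).mapHomologicalComplex _).obj P.complex
  X₃ := ((TL S.X₃).mapHomologicalComplex _).obj P.complex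
  f := (NatTrans.mapHomologicalComplex (TLmap S.f) _).app P.complex
  g := (NatTrans.mapHomologicalComplex (TLmap S.g) _).app P.complex
  zero := by
    refine HomologicalComplex.hom_ext _ _ (fun n => ?_)
    change (S.f ▷ (P.complex.X n)) ≫ (S.g ▷ (P.complex.X n)) = 0
    rw [← comp_whiskerRight, S.zero, MonoidalPreadditive.zero_whiskerRight]

include hS in
lemma tensSC_shortExact : (tensSC (S := S) P).ShortExact := by
  apply HomologicalComplex.shortExact_of_degreewise_shortExact
  intro n
  have : Module.Flat A (P.complex.X n) := flat_of_projective _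
  exact hS.map_of_exact (tensorRight (P.complex.X n))

/-- `Tor_k(X, N)` written as a left derived functor -/
abbrev T (k : ℕ) (X N : ModuleCat.{u} A) : ModuleCat.{u} A := ((TL X).leftDerived k).obj N

/-- `Tor_k(f, N)` written via `NatTrans.leftDerived` -/
abbrev Tmap (k : ℕ) {X Y : ModuleCat.{u} A} (f : X ⟶ Y) (N : ModuleCat.{u} A) :
    T k X N ⟶ T k Y N := (NatTrans.leftDerived (TLmap f) k).app N

/-- naturality square for a morphism in the first variable -/
lemma nat_map {X Y : ModuleCat.{u} A} (f : X ⟶ Y) (k : ℕ) :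
    Tmap k f N ≫ (P.isoLeftDerivedObj (TL Y) k).hom =
      (P.isoLeftDerivedObj (TL X) k).hom ≫
        HomologicalComplex.homologyMap
          ((NatTrans.mapHomologicalComplex (TLmap f) (ComplexShape.down ℕ)).app P.complex) k := by
  dsimp only [Tmap]
  rw [P.leftDerived_app_eq (TLmap f) k]
  simp only [Category.assoc, Iso.inv_hom_id, Category.comp_id]
  rfl

variable (S) in
lemma nat_f (k : ℕ) :
    Tmap k S.f N ≫ (P.isoLeftDerivedObj (TL S.X₂) k).hom =
      (P.isoLeftDerivedObj (TL S.X₁) k).hom ≫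
        HomologicalComplex.homologyMap (tensSC (S := S) P).f k := nat_map P S.f k

variable (S) in
lemma nat_g (k : ℕ) :
    Tmap k S.g N ≫ (P.isoLeftDerivedObj (TL S.X₃) k).hom =
      (P.isoLeftDerivedObj (TL S.X₂) k).hom ≫
        HomologicalComplex.homologyMap (tensSC (S := S) P).g k := nat_map P S.g k

/-- the connecting morphism in the first variable -/
def δ (n : ℕ) : T (n + 1) S.X₃ N ⟶ T n S.X₁ N :=
  (P.isoLeftDerivedObj (TL S.X₃) (n + 1)).hom ≫
    (tensSC_shortExact hS P).δ (n + 1) n rfl ≫ (P.isoLeftDerivedObj (TL S.X₁) n).inv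

variable (S) in
lemma map_f_map_g (N : ModuleCat.{u} A) (n : ℕ) : Tmap n S.f N ≫ Tmap n S.g N = 0 := by
  let P := projectiveResolution N
  rw [← cancel_mono (P.isoLeftDerivedObj (TL S.X₃) n).hom, zero_comp, Category.assoc, nat_g S P,
    ← Category.assoc, nat_f S P, Category.assoc, ← HomologicalComplex.homologyMap_comp,
    (tensSC (S := S) P).zero, HomologicalComplex.homologyMap_zero, comp_zero]

lemma map_g_δ (n : ℕ) : Tmap (n + 1) S.g N ≫ δ hS P n = 0 := by
  dsimp only [δ]
  rw [← Category.assoc, nat_g S P, Category.assoc,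
    ← Category.assoc (HomologicalComplex.homologyMap _ _),
    (tensSC_shortExact hS P).comp_δ, zero_comp, comp_zero]

lemma δ_map_f (n : ℕ) : δ hS P n ≫ Tmap n S.f N = 0 := by
  dsimp only [δ]
  rw [← cancel_mono (P.isoLeftDerivedObj (TL S.X₂) n).hom, zero_comp]
  simp only [Category.assoc]
  rw [nat_f S P, Iso.inv_hom_id_assoc, (tensSC_shortExact hS P).δ_comp, comp_zero]

include hS in
lemma exact₂ (N : ModuleCat.{u} A) (n : ℕ) :
    (ShortComplex.mk _ _ (map_f_map_g S N n)).Exact := by
  let P := projectiveResolution N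
  refine (ShortComplex.exact_iff_of_iso ?_).2
    ((tensSC_shortExact hS P).homology_exact₂ n)
  exact ShortComplex.isoMk (P.isoLeftDerivedObj (TL S.X₁) n) (P.isoLeftDerivedObj (TL S.X₂) n)
    (P.isoLeftDerivedObj (TL S.X₃) n) (nat_f S P n).symm (nat_g S P n).symm

lemma exact₃ (n : ℕ) :
    (ShortComplex.mk _ _ (map_g_δ hS P n)).Exact := by
  refine (ShortComplex.exact_iff_of_iso ?_).2
    ((tensSC_shortExact hS P).homology_exact₃ (n + 1) n rfl)
  exact ShortComplex.isoMk (P.isoLeftDerivedObj (TL S.X₂) (n + 1))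
    (P.isoLeftDerivedObj (TL S.X₃) (n + 1)) (P.isoLeftDerivedObj (TL S.X₁) n)
    (nat_g S P (n + 1)).symm (by dsimp only [δ]; simp)

lemma exact₁ (n : ℕ) :
    (ShortComplex.mk _ _ (δ_map_f hS P n)).Exact := by
  refine (ShortComplex.exact_iff_of_iso ?_).2
    ((tensSC_shortExact hS P).homology_exact₁ (n + 1) n rfl)
  exact ShortComplex.isoMk (P.isoLeftDerivedObj (TL S.X₃) (n + 1))
    (P.isoLeftDerivedObj (TL S.X₁) n)
    (P.isoLeftDerivedObj (TL S.X₂) n) (by dsimp only [δ]; simp) (nat_f S P n).symm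

end TorFirstVar

/-- **Long exact sequence of `Tor` in the first variable** (existence form). -/
theorem tor_les_first {A : Type u} [CommRing A] {S : ShortComplex (ModuleCat.{u} A)}
    (hS : S.ShortExact) (N : ModuleCat.{u} A) (n : ℕ) :
    (∃ w₀ : ((Tor (ModuleCat.{u} A) n).map S.f).app N ≫
        ((Tor (ModuleCat.{u} A) n).map S.g).app N = 0,
      (ShortComplex.mk _ _ w₀).Exact) ∧
    ∃ (δ : ((Tor (ModuleCat.{u} A) (n + 1)).obj S.X₃).obj N ⟶
        ((Tor (ModuleCat.{u} A) n).obj S.X₁).obj N)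
      (w₁ : ((Tor (ModuleCat.{u} A) (n + 1)).map S.g).app N ≫ δ = 0)
      (w₂ : δ ≫ ((Tor (ModuleCat.{u} A) n).map S.f).app N = 0),
      (ShortComplex.mk _ δ w₁).Exact ∧ (ShortComplex.mk δ _ w₂).Exact := by
  let P := projectiveResolution N
  exact ⟨⟨_, TorFirstVar.exact₂ hS N n⟩, TorFirstVar.δ hS P n, _, _,
    TorFirstVar.exact₃ hS P n, TorFirstVar.exact₁ hS P n⟩

end Groth.Agent.Lib.Helper73
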