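import Mathlib

/-!
# Splicing projective resolutions, finite projective resolutions

* `Groth.Agent.Lib.Helper73.splice`: from an epimorphism `p : P₀ ⟶ M` with `P₀` projective and a projective
  resolution `Q` of `kernel p`, a projective resolution of `M` whose complex is
  `ChainComplex.augment Q.complex _ _`.
* `Groth.Agent.Lib.Helper73.exists_finite_resolution`: if `M` has projective dimension `≤ d` (Mathlib's
  Ext-vanishing definition) then `M` has a projective resolution whose terms vanish above `d`.
* `Groth.Agent.Lib.Helper73.hasProjectiveDimensionLE_of_resolution`: the converse.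
-/

set_option autoImplicit false
set_option backward.isDefEq.respectTransparency false
set_option backward.defeqAttrib.useBackward true
universe v u

open CategoryTheory CategoryTheory.Limits

namespace Groth.Agent.Lib.Helper73

variable {C : Type u} [Category.{v} C] [Abelian C]

section splice

variable {M P₀ : C} (p : P₀ ⟶ M) (Q : ProjectiveResolution (kernel p))

lemma splice_w : Q.complex.d 1 0 ≫ Q.π.f 0 ≫ kernel.ι p = 0 := by
  rw [← Category.assoc, Q.complex_d_comp_π_f_zero, zero_comp]

/-- The spliced complex. -/
noncomputable def spliceComplex : ChainComplex C ℕ :=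
  ChainComplex.augment Q.complex (Q.π.f 0 ≫ kernel.ι p) (splice_w p Q)

lemma spliceComplex_d_one_zero_comp : (spliceComplex p Q).d 1 0 ≫ p = 0 := by
  show (Q.π.f 0 ≫ kernel.ι p) ≫ p = 0
  rw [Category.assoc, kernel.condition, comp_zero]

/-- The augmentation map of the spliced complex. -/
noncomputable def spliceπ : spliceComplex p Q ⟶ (ChainComplex.single₀ C).obj M :=
  (ChainComplex.toSingle₀Equiv _ _).symm ⟨p, spliceComplex_d_one_zero_comp p Q⟩

lemma spliceComplex_exactAt_one : (spliceComplex p Q).ExactAt 1 := by
  rw [HomologicalComplex.exactAt_iff' _ 2 1 0 (by simp) (by simp)]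
  let α : ShortComplex.mk _ _ Q.complex_d_comp_π_f_zero ⟶
      (spliceComplex p Q).sc' 2 1 0 :=
    { τ₁ := 𝟙 _
      τ₂ := 𝟙 _
      τ₃ := kernel.ι p
      comm₁₂ := by
        dsimp [spliceComplex]
        rw [Category.id_comp, Category.comp_id]
        rfl
      comm₂₃ := by
        dsimp [spliceComplex]
        rw [Category.id_comp] }
  have : Epi α.τ₁ := by dsimp [α]; infer_instance
  have : IsIso α.τ₂ := by dsimp [α]; infer_instance
  have : Mono α.τ₃ := by dsimp [α]; infer_instance
  exact (ShortComplex.exact_iff_of_epi_of_isIso_of_mono α).mp Q.exact₀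

lemma spliceComplex_exactAt_succ_succ (n : ℕ) : (spliceComplex p Q).ExactAt (n + 2) := by
  rw [HomologicalComplex.exactAt_iff' _ (n + 3) (n + 2) (n + 1) (by simp) (by simp)]
  have h := Q.exact_succ n
  refine (ShortComplex.exact_iff_of_iso ?_).mp h
  refine ShortComplex.isoMk (Iso.refl _) (Iso.refl _) (Iso.refl _) ?_ ?_
  · dsimp [spliceComplex]
    rw [Category.id_comp, Category.comp_id]
    rfl
  · dsimp [spliceComplex]
    rw [Category.id_comp, Category.comp_id]
    rfl

variable [Epi p] [Projective P₀]

/-- Splicing a projective resolution of the kernel of an epimorphism from a projective object. -/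
noncomputable def splice : ProjectiveResolution M where
  complex := spliceComplex p Q
  projective n := by
    cases n with
    | zero => exact (inferInstance : Projective P₀)
    | succ n => exact (inferInstance : Projective (Q.complex.X n))
  π := spliceπ p Q
  quasiIso := ⟨fun n => by
    cases n with
    | zero =>
      rw [ChainComplex.quasiIsoAt₀_iff, ShortComplex.quasiIso_iff_of_zeros']
      · dsimp
        let α : ShortComplex.mk ((spliceComplex p Q).d 1 0) p (spliceComplex_d_one_zero_comp p Q) ⟶
            ShortComplex.mk (kernel.ι p) p (kernel.condition p) :=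
          { τ₁ := Q.π.f 0
            τ₂ := 𝟙 _
            τ₃ := 𝟙 _
            comm₁₂ := by
              dsimp [spliceComplex]
              rw [Category.comp_id]
            comm₂₃ := by simp }
        have : Epi α.τ₁ := by dsimp [α]; infer_instance
        have : IsIso α.τ₂ := by dsimp [α]; infer_instance
        have : Mono α.τ₃ := by dsimp [α]; infer_instance
        refine (ShortComplex.exact_and_epi_g_iff_of_iso ?_).2
          ⟨(ShortComplex.exact_iff_of_epi_of_isIso_of_mono α).mpr
            (ShortComplex.exact_of_f_is_kernel _ (kernelIsKernel p)), by dsimp; infer_instance⟩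
        exact ShortComplex.isoMk (Iso.refl _) (Iso.refl _) (Iso.refl _)
          (by simp) (by simp [spliceπ])
      all_goals rfl
    | succ n =>
      rw [quasiIsoAt_iff_exactAt']
      · cases n with
        | zero => exact spliceComplex_exactAt_one p Q
        | succ n => exact spliceComplex_exactAt_succ_succ p Q n
      · apply ChainComplex.exactAt_succ_single_obj⟩

lemma splice_complex_X_succ (n : ℕ) : (splice p Q).complex.X (n + 1) = Q.complex.X n := rfl

end splice

/-- If the terms of a projective resolution vanish above `d`, the projective dimension is `≤ d`. -/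
lemma hasProjectiveDimensionLE_of_resolution {M : C} (d : ℕ) (P : ProjectiveResolution M)
    (hP : ∀ i : ℕ, d < i → IsZero (P.complex.X i)) : HasProjectiveDimensionLE M d := by
  let _ := HasExt.standard C
  refine HasProjectiveDimensionLT.mk (fun i hi Y e => ?_)
  obtain ⟨f, hf, rfl⟩ := P.extMk_surjective e (i + 1) rfl
  have : f = 0 := (hP i (by omega)).eq_of_src _ _
  subst this
  exact P.extMk_zero (i + 1) rfl

/-- If `M` has projective dimension `≤ d`, there is a projective resolution vanishing above `d`. -/
lemma exists_finite_resolution [EnoughProjectives C] (d : ℕ) :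
    ∀ (M : C) [HasProjectiveDimensionLE M d],
      ∃ P : ProjectiveResolution M, ∀ i : ℕ, d < i → IsZero (P.complex.X i) := by
  induction d with
  | zero =>
    intro M hM
    have : Projective M := (projective_iff_hasProjectiveDimensionLE_zero M).mpr hM
    refine ⟨ProjectiveResolution.self M, fun i hi => ?_⟩
    dsimp
    apply HomologicalComplex.isZero_single_obj_X
    omega
  | succ d ih =>
    intro M hM
    let p : Projective.over M ⟶ M := Projective.π M
    have hS : (ShortComplex.mk (kernel.ι p) p (kernel.condition p)).ShortExact :=
      { exact := ShortComplex.exact_of_f_is_kernel _ (kernelIsKernel p) }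
    have hK : HasProjectiveDimensionLE (kernel p) d := by
      have h2 : HasProjectiveDimensionLT (Projective.over M) (d + 1) :=
        hasProjectiveDimensionLT_of_ge _ 1 (d + 1) (by omega)
      exact hS.hasProjectiveDimensionLT_X₁ (d + 1) h2 hM
    obtain ⟨Q, hQ⟩ := ih (kernel p)
    refine ⟨splice p Q, fun i hi => ?_⟩
    obtain ⟨j, rfl⟩ : ∃ j, i = j + 1 := ⟨i - 1, by omega⟩
    rw [splice_complex_X_succ]
    exact hQ j (by omega)

end Groth.Agent.Lib.Helper73

namespace Groth.Agent.Lib.Helper73

open CategoryTheory CategoryTheory.Limits

/-- Left derived functors vanish in degrees where a chosen projective resolution vanishes. -/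
lemma isZero_leftDerived_obj_of_isZero_resolution {C : Type*} [Category C] [Abelian C]
    {D : Type*} [Category D] [Abelian D] [HasProjectiveResolutions C]
    (F : C ⥤ D) [F.Additive] {X : C} (P : ProjectiveResolution X) (n : ℕ)
    (hP : IsZero (P.complex.X n)) : IsZero ((F.leftDerived n).obj X) := by
  refine IsZero.of_iso ?_ (P.isoLeftDerivedObj F n)
  erw [← HomologicalComplex.exactAt_iff_isZero_homology]
  exact ShortComplex.exact_of_isZero_X₂ _ (F.map_isZero hP)

end Groth.Agent.Lib.Helper73

namespace Groth.Agent.Lib.Helper73

open CategoryTheory CategoryTheory.Limits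

section spliceSE

variable {C : Type u} [Category.{v} C] [Abelian C]
variable (S : ShortComplex C) (Q : ProjectiveResolution S.X₁)

lemma spliceSE_w : Q.complex.d 1 0 ≫ Q.π.f 0 ≫ S.f = 0 := by
  rw [← Category.assoc, Q.complex_d_comp_π_f_zero, zero_comp]

/-- The spliced complex for a short complex `S` and a resolution of `S.X₁`. -/
noncomputable def spliceSEComplex : ChainComplex C ℕ :=
  ChainComplex.augment Q.complex (Q.π.f 0 ≫ S.f) (spliceSE_w S Q)

lemma spliceSEComplex_d_one_zero : (spliceSEComplex S Q).d 1 0 = Q.π.f 0 ≫ S.f := rfl

lemma spliceSEComplex_X_zero : (spliceSEComplex S Q).X 0 = S.X₂ := rfl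

lemma spliceSEComplex_X_succ (n : ℕ) : (spliceSEComplex S Q).X (n + 1) = Q.complex.X n := rfl

lemma spliceSEComplex_d_one_zero_comp : (spliceSEComplex S Q).d 1 0 ≫ S.g = 0 := by
  show (Q.π.f 0 ≫ S.f) ≫ S.g = 0
  rw [Category.assoc, S.zero, comp_zero]

/-- The augmentation map of the spliced complex. -/
noncomputable def spliceSEπ : spliceSEComplex S Q ⟶ (ChainComplex.single₀ C).obj S.X₃ :=
  (ChainComplex.toSingle₀Equiv _ _).symm ⟨S.g, spliceSEComplex_d_one_zero_comp S Q⟩

lemma spliceSEComplex_exactAt_one [Mono S.f] : (spliceSEComplex S Q).ExactAt 1 := by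
  rw [HomologicalComplex.exactAt_iff' _ 2 1 0 (by simp) (by simp)]
  let α : ShortComplex.mk _ _ Q.complex_d_comp_π_f_zero ⟶
      (spliceSEComplex S Q).sc' 2 1 0 :=
    { τ₁ := 𝟙 _
      τ₂ := 𝟙 _
      τ₃ := S.f
      comm₁₂ := by
        dsimp [spliceSEComplex]
        rw [Category.id_comp, Category.comp_id]
        rfl
      comm₂₃ := by
        dsimp [spliceSEComplex]
        rw [Category.id_comp] }
  have : Epi α.τ₁ := by dsimp [α]; infer_instance
  have : IsIso α.τ₂ := by dsimp [α]; infer_instance
  have : Mono α.τ₃ := by dsimp [α]; infer_instance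
  exact (ShortComplex.exact_iff_of_epi_of_isIso_of_mono α).mp Q.exact₀

lemma spliceSEComplex_exactAt_succ_succ (n : ℕ) : (spliceSEComplex S Q).ExactAt (n + 2) := by
  rw [HomologicalComplex.exactAt_iff' _ (n + 3) (n + 2) (n + 1) (by simp) (by simp)]
  have h := Q.exact_succ n
  refine (ShortComplex.exact_iff_of_iso ?_).mp h
  refine ShortComplex.isoMk (Iso.refl _) (Iso.refl _) (Iso.refl _) ?_ ?_
  · dsimp [spliceSEComplex]
    rw [Category.id_comp, Category.comp_id]
    rfl
  · dsimp [spliceSEComplex]
    rw [Category.id_comp, Category.comp_id]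
    rfl

variable (hS : S.ShortExact) [Projective S.X₂]

/-- Splicing a projective resolution of `S.X₁` along a short exact sequence `S` with `S.X₂`
projective gives a projective resolution of `S.X₃`. -/
noncomputable def spliceSE : ProjectiveResolution S.X₃ where
  complex := spliceSEComplex S Q
  projective n := by
    cases n with
    | zero => exact (inferInstance : Projective S.X₂)
    | succ n => exact (inferInstance : Projective (Q.complex.X n))
  π := spliceSEπ S Q
  quasiIso := ⟨fun n => by
    have := hS.mono_f
    have := hS.epi_g
    cases n with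
    | zero =>
      rw [ChainComplex.quasiIsoAt₀_iff, ShortComplex.quasiIso_iff_of_zeros']
      · dsimp
        let α : ShortComplex.mk ((spliceSEComplex S Q).d 1 0) S.g
            (spliceSEComplex_d_one_zero_comp S Q) ⟶ S :=
          { τ₁ := Q.π.f 0
            τ₂ := 𝟙 _
            τ₃ := 𝟙 _
            comm₁₂ := by
              dsimp [spliceSEComplex]
              rw [Category.comp_id]
            comm₂₃ := by simp }
        have : Epi α.τ₁ := by dsimp [α]; infer_instance
        have : IsIso α.τ₂ := by dsimp [α]; infer_instance
        have : Mono α.τ₃ := by dsimp [α]; infer_instance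
        refine (ShortComplex.exact_and_epi_g_iff_of_iso ?_).2
          ⟨(ShortComplex.exact_iff_of_epi_of_isIso_of_mono α).mpr hS.exact,
            by dsimp; infer_instance⟩
        exact ShortComplex.isoMk (Iso.refl _) (Iso.refl _) (Iso.refl _)
          (by simp) (by simp [spliceSEπ])
      all_goals rfl
    | succ n =>
      rw [quasiIsoAt_iff_exactAt']
      · cases n with
        | zero => exact spliceSEComplex_exactAt_one S Q
        | succ n => exact spliceSEComplex_exactAt_succ_succ S Q n
      · apply ChainComplex.exactAt_succ_single_obj⟩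

lemma spliceSE_complex : (spliceSE S Q hS).complex = spliceSEComplex S Q := rfl

end spliceSE

/-- If `P.X (n+2)` is zero and `F` maps `P.d (n+1) n` to a monomorphism, the `(n+1)`-st left derived
functor of `F` vanishes on the resolved object. -/
lemma isZero_leftDerived_obj_of_mono {C : Type*} [Category C] [Abelian C]
    {D : Type*} [Category D] [Abelian D] [HasProjectiveResolutions C]
    (F : C ⥤ D) [F.Additive] {X : C} (P : ProjectiveResolution X) (n : ℕ)
    (hP : IsZero (P.complex.X (n + 2))) (hmono : Mono (F.map (P.complex.d (n + 1) n))) :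
    IsZero ((F.leftDerived (n + 1)).obj X) := by
  refine IsZero.of_iso ?_ (P.isoLeftDerivedObj F (n + 1))
  erw [← HomologicalComplex.exactAt_iff_isZero_homology]
  rw [HomologicalComplex.exactAt_iff' _ (n + 2) (n + 1) n (by simp) (by simp)]
  rw [ShortComplex.exact_iff_mono]
  · exact hmono
  · exact (F.map_isZero hP).eq_of_src _ _

end Groth.Agent.Lib.Helper73
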