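import Mathlib
import Groth.Agent.Lib.Helper73.PdQuotient
import Groth.Agent.Lib.Helper85.RegularLocal
import Groth.Agent.Lib.Helper73.LeftDerivedLES
import Groth.Agent.S5809
import Groth.Agent.S5805
import Groth.Agent.S0560

universe u

set_option maxSynthPendingDepth 3

open CategoryTheory IsLocalRing

namespace Groth.Agent.Lib.Helper73.Serre

section retract

variable {R : Type u} [CommRing R] [IsLocalRing R]

/-- an `R`-linear functional on `m` with value `1` at a given `x ∈ m \ m²`. -/
theorem exists_functional (x : R) (hx : x ∈ maximalIdeal R) (hx2 : x ∉ maximalIdeal R ^ 2) :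
    ∃ φ : maximalIdeal R →ₗ[R] ResidueField R, φ ⟨x, hx⟩ = 1 := by
  have hv0 : (maximalIdeal R).toCotangent ⟨x, hx⟩ ≠ 0 := by
    rw [Ne, Ideal.toCotangent_eq_zero]; exact hx2
  have hker : LinearMap.ker (LinearMap.toSpanSingleton (ResidueField R) (CotangentSpace R)
      ((maximalIdeal R).toCotangent ⟨x, hx⟩)) = ⊥ :=
    LinearMap.ker_toSpanSingleton _ hv0
  obtain ⟨ψ, hψ⟩ := LinearMap.exists_leftInverse_of_injective _ hker
  refine ⟨(ψ.restrictScalars R) ∘ₗ (maximalIdeal R).toCotangent, ?_⟩
  have := LinearMap.congr_fun hψ 1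
  simpa using this

theorem mem_maximalIdeal_of_mk_mem (I : Ideal R) [IsLocalRing (R ⧸ I)] (r : R)
    (h : Ideal.Quotient.mk I r ∈ maximalIdeal (R ⧸ I)) : r ∈ maximalIdeal R := by
  rw [mem_maximalIdeal, mem_nonunits_iff] at h ⊢
  exact fun hu => h (hu.map _)

/-- the map `k' → m/xm`, `1 ↦ x̄` -/
noncomputable def iMap (x : R) (hx : x ∈ maximalIdeal R) [IsLocalRing (R ⧸ Ideal.span {x})] :
    ResidueField (R ⧸ Ideal.span {x}) →ₗ[R ⧸ Ideal.span {x}]
      (maximalIdeal R ⧸ (Ideal.span {x} • ⊤ : Submodule R (maximalIdeal R))) :=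
  Submodule.liftQ (maximalIdeal (R ⧸ Ideal.span {x}))
    (LinearMap.toSpanSingleton (R ⧸ Ideal.span {x})
      (maximalIdeal R ⧸ (Ideal.span {x} • ⊤ : Submodule R (maximalIdeal R)))
      (Submodule.Quotient.mk ⟨x, hx⟩)) (by
    intro r' hr'
    obtain ⟨r, rfl⟩ := Ideal.Quotient.mk_surjective r'
    have hr : r ∈ maximalIdeal R := mem_maximalIdeal_of_mk_mem _ r hr'
    rw [LinearMap.mem_ker, LinearMap.toSpanSingleton_apply, Module.Quotient.mk_smul_mk,
      Submodule.Quotient.mk_eq_zero, PdQuotient.mem_span_smul_top_iff]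
    refine ⟨⟨r, hr⟩, ?_⟩
    apply Subtype.ext
    simp [mul_comm])

theorem iMap_residue (x : R) (hx : x ∈ maximalIdeal R) [IsLocalRing (R ⧸ Ideal.span {x})]
    (r' : R ⧸ Ideal.span {x}) :
    iMap x hx (residue _ r') = r' • (Submodule.Quotient.mk ⟨x, hx⟩ :
      (maximalIdeal R ⧸ (Ideal.span {x} • ⊤ : Submodule R (maximalIdeal R)))) := rfl

/-- the map `m/xm → k'` determined by a functional `φ`. -/
noncomputable def rMap (x : R) [IsLocalRing (R ⧸ Ideal.span {x})]
    [IsLocalHom (algebraMap R (R ⧸ Ideal.span {x}))]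
    (φ : maximalIdeal R →ₗ[R] ResidueField R) :
    (maximalIdeal R ⧸ (Ideal.span {x} • ⊤ : Submodule R (maximalIdeal R))) →ₗ[R ⧸ Ideal.span {x}]
      ResidueField (R ⧸ Ideal.span {x}) :=
  LinearMap.extendScalarsOfSurjective Ideal.Quotient.mk_surjective
    (Submodule.liftQ _
      ((IsScalarTower.toAlgHom R (ResidueField R) (ResidueField (R ⧸ Ideal.span {x}))).toLinearMap
        ∘ₗ φ) (by
      rw [Submodule.smul_le]
      intro a ha y _
      rw [LinearMap.mem_ker, map_smul, Algebra.smul_def]
      have : algebraMap R (ResidueField (R ⧸ Ideal.span {x})) a = 0 := by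
        rw [IsScalarTower.algebraMap_apply R (R ⧸ Ideal.span {x})]
        have : algebraMap R (R ⧸ Ideal.span {x}) a = 0 := Ideal.Quotient.eq_zero_iff_mem.mpr ha
        rw [this, map_zero]
      rw [this, zero_mul]))

theorem rMap_mk (x : R) [IsLocalRing (R ⧸ Ideal.span {x})]
    [IsLocalHom (algebraMap R (R ⧸ Ideal.span {x}))]
    (φ : maximalIdeal R →ₗ[R] ResidueField R) (y : maximalIdeal R) :
    rMap x φ (Submodule.Quotient.mk y) =
      algebraMap (ResidueField R) (ResidueField (R ⧸ Ideal.span {x})) (φ y) := rfl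

theorem rMap_comp_iMap (x : R) (hx : x ∈ maximalIdeal R) [IsLocalRing (R ⧸ Ideal.span {x})]
    [IsLocalHom (algebraMap R (R ⧸ Ideal.span {x}))]
    (φ : maximalIdeal R →ₗ[R] ResidueField R) (hφ : φ ⟨x, hx⟩ = 1) :
    rMap x φ ∘ₗ iMap x hx = LinearMap.id := by
  ext c
  obtain ⟨r', rfl⟩ := residue_surjective c
  rw [LinearMap.comp_apply, iMap_residue, map_smul, rMap_mk, hφ, map_one, LinearMap.id_apply,
    Algebra.smul_def, mul_one]
  rfl

theorem retract_residueField (x : R) (hx : x ∈ maximalIdeal R) (hx2 : x ∉ maximalIdeal R ^ 2)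
    [IsLocalRing (R ⧸ Ideal.span {x})] :
    Nonempty (Retract (ModuleCat.of (R ⧸ Ideal.span {x}) (ResidueField (R ⧸ Ideal.span {x})))
      (ModuleCat.of (R ⧸ Ideal.span {x})
        (maximalIdeal R ⧸ (Ideal.span {x} • ⊤ : Submodule R (maximalIdeal R))))) := by
  have : IsLocalHom (algebraMap R (R ⧸ Ideal.span {x})) :=
    IsLocalHom.of_surjective _ Ideal.Quotient.mk_surjective
  obtain ⟨φ, hφ⟩ := exists_functional x hx hx2
  exact ⟨{ i := ModuleCat.ofHom (iMap x hx)
           r := ModuleCat.ofHom (rMap x φ)
           retract := by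
            rw [← ModuleCat.ofHom_comp, rMap_comp_iMap x hx φ hφ]
            rfl }⟩

end retract

section depthzero

open Limits

variable {R : Type u} [CommRing R] [IsLocalRing R]

/-- if `k` is projective then `m = 0` -/
theorem maximalIdeal_eq_bot_of_projective
    (h : HasProjectiveDimensionLT (ModuleCat.of R (ResidueField R)) 1) :
    maximalIdeal R = ⊥ := by
  rw [← projective_iff_hasProjectiveDimensionLT_one, ← IsProjective.iff_projective] at h
  obtain ⟨s, hs⟩ := Module.projective_lifting_property (Algebra.linearMap R (ResidueField R))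
    LinearMap.id residue_surjective
  have h1 : residue R (s 1) = 1 := LinearMap.congr_fun hs 1
  have hu : IsUnit (s 1) := by
    rw [← residue_ne_zero_iff_isUnit, h1]; exact one_ne_zero
  rw [eq_bot_iff]
  intro r hr
  have h2 : r • s 1 = 0 := by
    rw [← map_smul, Algebra.smul_def, mul_one, ResidueField.algebraMap_eq,
      (residue_eq_zero_iff r).mpr hr, map_zero]
  rw [smul_eq_mul] at h2
  exact (hu.mul_left_eq_zero.mp h2)

/-- the embedding `k → R` attached to an element `a` with annihilator `m`. -/
noncomputable def jMap (a : R) (ha : maximalIdeal R = Submodule.colon ⊥ {a}) :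
    ResidueField R →ₗ[R] R :=
  Submodule.liftQ (maximalIdeal R) (LinearMap.toSpanSingleton R R a) (by
    intro r hr
    rw [ha, Submodule.mem_colon_singleton] at hr
    simpa using hr)

theorem jMap_injective (a : R) (ha : maximalIdeal R = Submodule.colon ⊥ {a}) :
    Function.Injective (jMap a ha) := by
  rw [← LinearMap.ker_eq_bot]
  apply Submodule.ker_liftQ_eq_bot
  intro r hr
  rw [ha, Submodule.mem_colon_singleton]
  simpa using hr

variable [IsNoetherianRing R]

theorem step_down (hass : maximalIdeal R ∈ associatedPrimes R R) (n : ℕ)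
    (h : HasProjectiveDimensionLT (ModuleCat.of R (ResidueField R)) (n + 2)) :
    HasProjectiveDimensionLT (ModuleCat.of R (ResidueField R)) (n + 1) := by
  rw [AssociatedPrimes.mem_iff, isAssociatedPrime_iff] at hass
  obtain ⟨-, a, ha⟩ := hass
  have hS := PdQuotient.shortExact_of_linear (A := R) (N₁ := ResidueField R) (N₂ := R)
    (N₃ := R ⧸ LinearMap.range (jMap a ha)) (jMap a ha) (LinearMap.range (jMap a ha)).mkQ
    (jMap_injective a ha) (Submodule.mkQ_surjective _) (LinearMap.exact_map_mkQ_range _)
  obtain ⟨-, δ, w₁, w₂, -, hex⟩ := leftDerived_les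
    (Groth.Agent.S5809.TF (ModuleCat.of R (ResidueField R))) hS (n + 1)
  have hproj : Projective (ModuleCat.of R R) :=
    (IsProjective.iff_projective (R := R) R).mp inferInstance
  have hz2 : IsZero (((Groth.Agent.S5809.TF (ModuleCat.of R (ResidueField R))).leftDerived
      (n + 1)).obj (ModuleCat.of R R)) :=
    (Groth.Agent.S5809.TF (ModuleCat.of R (ResidueField R))).isZero_leftDerived_obj_projective_succ
      n _
  have hz3 : IsZero (((Groth.Agent.S5809.TF (ModuleCat.of R (ResidueField R))).leftDerived
      (n + 1 + 1)).obj (ModuleCat.of R (R ⧸ LinearMap.range (jMap a ha)))) :=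
    Groth.Agent.S5805.tor_vanish_of_pd (n + 1) _ h _ (n + 2) (by omega)
  have hz1 : IsZero (((Groth.Agent.S5809.TF (ModuleCat.of R (ResidueField R))).leftDerived
      (n + 1)).obj (ModuleCat.of R (ResidueField R))) :=
    hex.isZero_of_both_isZero hz3 hz2
  exact Groth.Agent.S5809.suff n (ResidueField R) hz1

theorem maximalIdeal_eq_bot_of_mem_associatedPrimes
    (hass : maximalIdeal R ∈ associatedPrimes R R) (n : ℕ)
    (h : HasProjectiveDimensionLT (ModuleCat.of R (ResidueField R)) n) :
    maximalIdeal R = ⊥ := by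
  have key : ∀ k : ℕ, HasProjectiveDimensionLT (ModuleCat.of R (ResidueField R)) (k + 1) →
      HasProjectiveDimensionLT (ModuleCat.of R (ResidueField R)) 1 := by
    intro k
    induction k with
    | zero => exact id
    | succ k ih => exact fun hk => ih (step_down hass k hk)
  exact maximalIdeal_eq_bot_of_projective
    (key n (hasProjectiveDimensionLT_of_ge _ n (n + 1) (by omega)))

end depthzero

section main

variable {R : Type u} [CommRing R] [IsLocalRing R] [IsNoetherianRing R]

/-- prime avoidance: a nonzerodivisor in `m \ m²`. -/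
theorem exists_nonZeroDivisor_notMem_sq (hm : ¬ maximalIdeal R ≤ maximalIdeal R ^ 2)
    (hass : maximalIdeal R ∉ associatedPrimes R R) :
    ∃ x ∈ maximalIdeal R, x ∉ maximalIdeal R ^ 2 ∧ x ∈ nonZeroDivisors R := by
  have hfin : (insert (maximalIdeal R ^ 2) (associatedPrimes R R)).Finite :=
    (associatedPrimes.finite R R).insert _
  have hnot : ¬ ((maximalIdeal R : Set R) ⊆
      ⋃ i ∈ insert (maximalIdeal R ^ 2) (associatedPrimes R R), (id i : Ideal R)) := by
    intro hsub
    obtain ⟨i, hi, hle⟩ := (Ideal.subset_union_prime_finite hfin (f := id) (maximalIdeal R ^ 2)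
      (maximalIdeal R ^ 2) (fun i hi h1 _ => by
        rcases hi with rfl | hi
        · exact absurd rfl h1
        · exact hi.isPrime)).mp hsub
    rcases hi with rfl | hi
    · exact hm hle
    · have hp : (i : Ideal R).IsPrime := hi.isPrime
      have : maximalIdeal R = i :=
        (maximalIdeal.isMaximal R).eq_of_le hp.ne_top hle
      exact hass (this ▸ hi)
  rw [Set.not_subset] at hnot
  obtain ⟨x, hx, hxn⟩ := hnot
  simp only [Set.mem_iUnion, not_exists, id] at hxn
  refine ⟨x, hx, fun h => hxn _ (Set.mem_insert _ _) h, ?_⟩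
  by_contra hnz
  have : x ∈ ⋃ p ∈ associatedPrimes R R, (p : Set R) := by
    rw [biUnion_associatedPrimes_eq_compl_nonZeroDivisors]
    exact hnz
  simp only [Set.mem_iUnion] at this
  obtain ⟨p, hp, hxp⟩ := this
  exact hxn p (Set.mem_insert_of_mem _ hp) hxp

omit [IsNoetherianRing R] in
/-- `m` has finite projective dimension if `k` does. -/
theorem hasProjectiveDimensionLT_maximalIdeal (n : ℕ)
    (h : HasProjectiveDimensionLT (ModuleCat.of R (ResidueField R)) n) :
    HasProjectiveDimensionLT (ModuleCat.of R (maximalIdeal R)) (n + 1) := by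
  have hex : Function.Exact (maximalIdeal R).subtype (Algebra.linearMap R (ResidueField R)) := by
    intro r
    rw [Algebra.linearMap_apply, ResidueField.algebraMap_eq, residue_eq_zero_iff]
    simp
  have hS := PdQuotient.shortExact_of_linear (A := R) (N₁ := maximalIdeal R) (N₂ := R)
    (N₃ := ResidueField R) (maximalIdeal R).subtype (Algebra.linearMap R (ResidueField R))
    (Submodule.injective_subtype _) residue_surjective hex
  have hproj : Projective (ModuleCat.of R R) :=
    (IsProjective.iff_projective (R := R) R).mp inferInstance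
  have h2 : HasProjectiveDimensionLT (ModuleCat.of R R) (n + 1) := inferInstance
  have h3 : HasProjectiveDimensionLT (ModuleCat.of R (ResidueField R)) (n + 1 + 1) :=
    hasProjectiveDimensionLT_of_ge _ n (n + 1 + 1) (by omega)
  exact hS.hasProjectiveDimensionLT_X₁ (n + 1) h2 h3

theorem serre_aux : ∀ (t : ℕ) (R : Type u) [CommRing R] [IsLocalRing R] [IsNoetherianRing R]
    (n : ℕ), (maximalIdeal R).spanFinrank = t →
    HasProjectiveDimensionLT (ModuleCat.of R (ResidueField R)) n → IsRegularLocalRing R := by
  intro t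
  induction t using Nat.strong_induction_on with
  | _ t ih =>
    intro R _ _ _ n ht h
    by_cases hm : maximalIdeal R ≤ maximalIdeal R ^ 2
    · have hbot : maximalIdeal R = ⊥ := by
        apply Submodule.eq_bot_of_le_smul_of_le_jacobson_bot (maximalIdeal R) (maximalIdeal R)
          (IsNoetherian.noetherian _)
        · rwa [smul_eq_mul, ← pow_two]
        · exact IsLocalRing.maximalIdeal_le_jacobson _
      apply IsRegularLocalRing.of_spanFinrank_maximalIdeal_le
      rw [hbot, Submodule.spanFinrank_bot]
      simpa using ringKrullDim_nonneg_of_nontrivial (R := R)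
    · have hass : maximalIdeal R ∉ associatedPrimes R R := fun hass => hm (by
        rw [maximalIdeal_eq_bot_of_mem_associatedPrimes hass n h]; exact bot_le)
      obtain ⟨x, hx, hx2, hreg⟩ := exists_nonZeroDivisor_notMem_sq hm hass
      have : IsLocalRing (R ⧸ Ideal.span {x}) :=
        Helper85.isLocalRing_quotient _ (Helper85.span_singleton_ne_top x hx)
      have hlt := Helper85.spanFinrank_maximalIdeal_quotient_add_one_le x hx hx2
      have hRreg : IsSMulRegular R x :=
        ((isRegular_iff_mem_nonZeroDivisors (r := x)).mpr hreg).left.isSMulRegular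
      have hpm := hasProjectiveDimensionLT_maximalIdeal n h
      have hq := PdQuotient.hasProjectiveDimensionLT_quot x hRreg n (maximalIdeal R)
        (PdQuotient.isSMulRegular_submodule x hRreg _) hpm
      obtain ⟨ret⟩ := retract_residueField x hx hx2
      have hk' := ret.hasProjectiveDimensionLT (n + 1)
      have := ih _ (by omega) (R ⧸ Ideal.span {x}) (n + 1) rfl hk'
      exact Groth.Agent.S0560.result R x hx hreg

end main

end Groth.Agent.Lib.Helper73.Serre
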