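import Mathlib
import Groth.Agent.S0564
import Groth.Agent.S0560

universe u

set_option maxSynthPendingDepth 3

open IsLocalRing

namespace Groth.Agent.Lib.Helper73.RegularRing

variable {R : Type u} [CommRing R]

/-- generization: `R_P` is regular if `R_Q` is, for `P ≤ Q`. -/
theorem isRegularLocalRing_localization_of_le (P Q : Ideal R) [P.IsPrime] [Q.IsPrime] (h : P ≤ Q)
    [IsRegularLocalRing (Localization.AtPrime Q)] : IsRegularLocalRing (Localization.AtPrime P) := by
  have hd : Disjoint (Q.primeCompl : Set R) (P : Set R) := by
    rw [Set.disjoint_left]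
    intro a ha haP
    exact ha (h haP)
  have hP' : (P.map (algebraMap R (Localization.AtPrime Q))).IsPrime :=
    IsLocalization.isPrime_of_isPrime_disjoint Q.primeCompl _ P inferInstance hd
  have hcomap : (P.map (algebraMap R (Localization.AtPrime Q))).comap
      (algebraMap R (Localization.AtPrime Q)) = P :=
    IsLocalization.under_map_of_isPrime_disjoint Q.primeCompl _ inferInstance hd
  have loc2 : IsLocalization.AtPrime
      (Localization.AtPrime (P.map (algebraMap R (Localization.AtPrime Q))))
      ((P.map (algebraMap R (Localization.AtPrime Q))).comap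
        (algebraMap R (Localization.AtPrime Q))) :=
    IsLocalization.isLocalization_isLocalization_atPrime_isLocalization
      Q.primeCompl (Localization.AtPrime (P.map (algebraMap R (Localization.AtPrime Q))))
      (P.map (algebraMap R (Localization.AtPrime Q)))
  have hreg : IsRegularLocalRing
      (Localization.AtPrime (P.map (algebraMap R (Localization.AtPrime Q)))) :=
    Groth.Agent.S0564.result (Localization.AtPrime Q) _
  have key : ∀ (I : Ideal R) [I.IsPrime],
      I = (P.map (algebraMap R (Localization.AtPrime Q))).comap
        (algebraMap R (Localization.AtPrime Q)) →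
      IsLocalization.AtPrime
        (Localization.AtPrime (P.map (algebraMap R (Localization.AtPrime Q)))) I := by
    intro I _ hI
    subst hI
    exact loc2
  have loc3 := key P hcomap.symm
  let e := IsLocalization.algEquiv P.primeCompl
    (Localization.AtPrime (P.map (algebraMap R (Localization.AtPrime Q))))
    (Localization.AtPrime P)
  exact IsRegularLocalRing.of_ringEquiv e.toRingEquiv

/-- A Noetherian ring is regular as soon as its localizations at maximal ideals are. -/
theorem isRegularRing_of_maximal [IsNoetherianRing R]
    (h : ∀ (M : Ideal R) [M.IsMaximal], IsRegularLocalRing (Localization.AtPrime M)) :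
    IsRegularRing R := by
  rw [isRegularRing_iff]
  intro P hP
  obtain ⟨M, hM, hPM⟩ := Ideal.exists_le_maximal P hP.ne_top
  have := h M
  exact isRegularLocalRing_localization_of_le P M hPM

/-- `R_P` is regular if `(R/x)_{P/x}` is, for `x ∈ P` a nonzerodivisor. -/
theorem isRegularLocalRing_atPrime_of_quotient [IsNoetherianRing R] (x : R) (P : Ideal R)
    [P.IsPrime] (hxP : x ∈ P) (hx : x ∈ nonZeroDivisors R)
    [hPx : (P.map (Ideal.Quotient.mk (Ideal.span {x}))).IsPrime]
    [hreg : IsRegularLocalRing
      (Localization.AtPrime (P.map (Ideal.Quotient.mk (Ideal.span {x}))))] :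
    IsRegularLocalRing (Localization.AtPrime P) := by
  have hIP : Ideal.span {x} ≤ P := (Ideal.span_singleton_le_iff_mem _).mpr hxP
  have hlies : (P.map (Ideal.Quotient.mk (Ideal.span {x}))).LiesOver P := ⟨by
    rw [Ideal.under, Ideal.Quotient.algebraMap_eq,
      Ideal.comap_map_of_surjective _ Ideal.Quotient.mk_surjective, ← RingHom.ker_eq_comap_bot,
      Ideal.mk_ker]
    exact (sup_eq_left.mpr hIP).symm⟩
  have hsub : Algebra.algebraMapSubmonoid (R ⧸ Ideal.span {x}) P.primeCompl =
      (P.map (Ideal.Quotient.mk (Ideal.span {x}))).primeCompl :=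
    Ideal.algebraMapSubmonoid_primeCompl_of_liesOver_surjective _ P Ideal.Quotient.mk_surjective
  have loc1 : IsLocalization (Algebra.algebraMapSubmonoid (R ⧸ Ideal.span {x}) P.primeCompl)
      (Localization.AtPrime P ⧸ (Ideal.span {x}).map (algebraMap R (Localization.AtPrime P))) :=
    inferInstance
  rw [hsub] at loc1
  let e1 := IsLocalization.algEquiv (P.map (Ideal.Quotient.mk (Ideal.span {x}))).primeCompl
    (Localization.AtPrime (P.map (Ideal.Quotient.mk (Ideal.span {x}))))
    (Localization.AtPrime P ⧸ (Ideal.span {x}).map (algebraMap R (Localization.AtPrime P)))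
  have hmap : (Ideal.span {x}).map (algebraMap R (Localization.AtPrime P)) =
      Ideal.span {algebraMap R (Localization.AtPrime P) x} := by
    rw [Ideal.map_span, Set.image_singleton]
  have hreg2 : IsRegularLocalRing (Localization.AtPrime P ⧸
      (Ideal.span {x}).map (algebraMap R (Localization.AtPrime P))) :=
    IsRegularLocalRing.of_ringEquiv e1.toRingEquiv
  have hreg3 : IsRegularLocalRing (Localization.AtPrime P ⧸
      Ideal.span {algebraMap R (Localization.AtPrime P) x}) :=
    IsRegularLocalRing.of_ringEquiv (Ideal.quotEquivOfEq hmap)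
  have hmem : algebraMap R (Localization.AtPrime P) x ∈ maximalIdeal (Localization.AtPrime P) :=
    (IsLocalization.AtPrime.to_map_mem_maximal_iff _ P x).mpr hxP
  have hnzd : algebraMap R (Localization.AtPrime P) x ∈ nonZeroDivisors (Localization.AtPrime P) :=
    IsLocalization.map_nonZeroDivisors_le P.primeCompl _ (Submonoid.mem_map_of_mem _ hx)
  exact Groth.Agent.S0560.result (Localization.AtPrime P) _ hmem hnzd

/-- If `x` is a nonzerodivisor in the Jacobson radical of a Noetherian ring `R` and `R/x` is
regular, then `R` is regular. -/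
theorem isRegularRing_of_quotient [IsNoetherianRing R] (x : R) (hx : x ∈ nonZeroDivisors R)
    (hJ : x ∈ Ideal.jacobson (⊥ : Ideal R)) [IsRegularRing (R ⧸ Ideal.span {x})] :
    IsRegularRing R := by
  apply isRegularRing_of_maximal
  intro M hM
  have hxM : x ∈ M := by
    rw [Ideal.jacobson, Ideal.mem_sInf] at hJ
    exact hJ ⟨bot_le, hM⟩
  have hIM : Ideal.span {x} ≤ M := (Ideal.span_singleton_le_iff_mem _).mpr hxM
  have hprime : (M.map (Ideal.Quotient.mk (Ideal.span {x}))).IsPrime :=
    Ideal.map_isPrime_of_surjective Ideal.Quotient.mk_surjective (by rwa [Ideal.mk_ker])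
  exact isRegularLocalRing_atPrime_of_quotient x M hxM hx

end Groth.Agent.Lib.Helper73.RegularRing
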