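import Mathlib
import Groth.Agent.Lib.Helper73.RegularRing

universe u

set_option maxSynthPendingDepth 3

open IsLocalRing PowerSeries

namespace Groth.Agent.Lib.Helper73.RegularRing

/-- power series over a regular ring are regular (one variable). -/
theorem isRegularRing_powerSeries (B : Type u) [CommRing B] [IsRegularRing B] :
    IsRegularRing B⟦X⟧ := by
  have hnzd : (X : B⟦X⟧) ∈ nonZeroDivisors B⟦X⟧ := by
    rw [← isRegular_iff_mem_nonZeroDivisors, Commute.isRegular_iff (fun b => Commute.all _ b)]
    exact fun a b h => X_mul_cancel h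
  have hJ : (X : B⟦X⟧) ∈ Ideal.jacobson (⊥ : Ideal B⟦X⟧) := by
    rw [Ideal.mem_jacobson_bot]
    intro y
    rw [isUnit_iff_constantCoeff]
    simp
  have hker : Ideal.span ({X} : Set B⟦X⟧) = RingHom.ker (constantCoeff (R := B)) := by
    apply Ideal.ext
    intro φ
    rw [RingHom.mem_ker, Ideal.mem_span_singleton, X_dvd_iff]
  have hsurj : Function.Surjective (constantCoeff (R := B)) := fun b => ⟨C b, by simp⟩
  let e : (B⟦X⟧ ⧸ Ideal.span ({X} : Set B⟦X⟧)) ≃+* B :=
    (Ideal.quotEquivOfEq hker).trans (RingHom.quotientKerEquivOfSurjective hsurj)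
  have : IsRegularRing (B⟦X⟧ ⧸ Ideal.span ({X} : Set B⟦X⟧)) := IsRegularRing.of_ringEquiv e.symm
  exact isRegularRing_of_quotient X hnzd hJ

theorem isRegularRing_mvPowerSeries (A : Type u) [CommRing A] [IsRegularRing A] (n : ℕ) :
    IsRegularRing (MvPowerSeries (Fin n) A) := by
  induction n with
  | zero =>
    exact IsRegularRing.of_ringEquiv (MvPowerSeries.isEmptyEquiv (Fin 0) A).toRingEquiv.symm
  | succ n ih =>
    have := isRegularRing_powerSeries (MvPowerSeries (Fin n) A)
    exact IsRegularRing.of_ringEquiv (MvPowerSeries.finSuccEquiv A n).toRingEquiv.symm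

end Groth.Agent.Lib.Helper73.RegularRing
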