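import Groth.Prelude.Def_EGA4b
import Groth.Agent.Lib.Helper18.ComplMap
import Groth.Agent.Lib.Helper47.CompletionFlat

/-!
# The map of completions induced by a local homomorphism (helper73)

For a local homomorphism `A → A'` of Noetherian local rings, the induced map `Â → Â'` of the
completions, its compatibility with `A → A'`, flatness and faithful flatness when `A → A'` is flat.
-/

set_option autoImplicit false
set_option maxSynthPendingDepth 3
universe u

namespace Groth.Agent.Lib.Helper73.CplMap

open IsLocalRing

variable (A A' : Type u) [CommRing A] [CommRing A'] [IsLocalRing A] [IsLocalRing A']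
  [Algebra A A'] [IsLocalHom (algebraMap A A')]

theorem map_maximalIdeal_le :
    (maximalIdeal A).map (algebraMap A A') ≤ maximalIdeal A' :=
  IsLocalRing.map_maximalIdeal_le (algebraMap A A')

/-- The map `Â → Â'` induced by a local homomorphism `A → A'`. -/
noncomputable def cplMap : EGA4.Cpl A →+* EGA4.Cpl A' :=
  FSch.complMap (maximalIdeal A) (maximalIdeal A') (algebraMap A A') (map_maximalIdeal_le A A')

theorem cplMap_comp :
    (cplMap A A').comp (algebraMap A (EGA4.Cpl A)) =
      (algebraMap A' (EGA4.Cpl A')).comp (algebraMap A A') := by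
  refine RingHom.ext fun a => ?_
  exact Groth.Agent.Lib.Helper18.complMap_of (maximalIdeal A) (maximalIdeal A') (algebraMap A A')
    (map_maximalIdeal_le A A') a

/-- `Â'` as an algebra over `Â`. -/
noncomputable abbrev cplAlgebra : Algebra (EGA4.Cpl A) (EGA4.Cpl A') := (cplMap A A').toAlgebra

attribute [local instance] cplAlgebra

theorem algebraMap_cpl_eq :
    algebraMap A (EGA4.Cpl A') = (algebraMap A' (EGA4.Cpl A')).comp (algebraMap A A') := by
  ext a
  rw [AdicCompletion.algebraMap_apply]
  rfl

instance isScalarTower_cpl : IsScalarTower A (EGA4.Cpl A) (EGA4.Cpl A') :=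
  IsScalarTower.of_algebraMap_eq' (by rw [algebraMap_cpl_eq, ← cplMap_comp]; rfl)

instance isScalarTower_cpl' : IsScalarTower A A' (EGA4.Cpl A') :=
  IsScalarTower.of_algebraMap_eq' (algebraMap_cpl_eq A A')

variable [IsNoetherianRing A] [IsNoetherianRing A']

theorem isNoetherianRing_cpl : IsNoetherianRing (EGA4.Cpl A) := Groth.Agent.S0543.result A _

theorem flat_cpl [Module.Flat A A'] : Module.Flat (EGA4.Cpl A) (EGA4.Cpl A') :=
  Groth.Agent.Lib.Helper47.flat_completion_of_flat A A' (cplMap A A') (cplMap_comp A A')

theorem isLocalHom_cplMap : IsLocalHom (cplMap A A') := by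
  refine ((IsLocalRing.local_hom_TFAE (cplMap A A')).out 0 2 rfl rfl).mpr ?_
  rw [AdicCompletion.maximalIdeal_eq_map (R := A), Ideal.map_map, cplMap_comp, ← Ideal.map_map,
    AdicCompletion.maximalIdeal_eq_map (R := A')]
  exact Ideal.map_mono (map_maximalIdeal_le A A')

theorem faithfullyFlat_cpl [Module.Flat A A'] :
    Module.FaithfullyFlat (EGA4.Cpl A) (EGA4.Cpl A') := by
  have := flat_cpl A A'
  have : IsLocalHom (algebraMap (EGA4.Cpl A) (EGA4.Cpl A')) := isLocalHom_cplMap A A'
  exact Module.FaithfullyFlat.of_flat_of_isLocalHom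

end Groth.Agent.Lib.Helper73.CplMap
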