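import Groth.Agent.Lib.Helper29.FlatAscent3
import Mathlib.RingTheory.QuasiFinite.Basic

/-!
# Transitivity of "flat with geometrically-`P` fibres" (helper73)

For a property `P` of rings which is invariant under ring isomorphisms and ascends along flat
maps of Noetherian rings with `P` fibres, the class of flat ring maps with geometrically-`P`
fibres (after every finite extension of the residue field) is stable under composition
(EGA IV 6.8.3).  Instantiated for regular and normal rings.
-/

set_option autoImplicit false
set_option maxSynthPendingDepth 3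
universe u

namespace Groth.Agent.Lib.Helper73

open TensorProduct

section FibreIso

variable (B B' C : Type u) [CommRing B] [CommRing B'] [CommRing C] [Algebra B B'] [Algebra B C]
  (q' : Ideal B') [q'.IsPrime]

/-- The fibre of `B' → B' ⊗_B C` at `q'` is the fibre of `B → C` at `q = q' ∩ B`, extended to
`κ(q')`. -/
noncomputable def fiberBaseChangeEquiv
    [Algebra (Localization.AtPrime (q'.under B)) (Localization.AtPrime q')]
    [Localization.AtPrime.IsLiesOverAlgebra (q'.under B) q'] :
    q'.Fiber (B' ⊗[B] C) ≃+*
      q'.ResidueField ⊗[(q'.under B).ResidueField] (q'.under B).Fiber C :=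
  ((Algebra.TensorProduct.cancelBaseChange B B' q'.ResidueField q'.ResidueField
      C).toRingEquiv).trans
    ((Algebra.TensorProduct.cancelBaseChange B (q'.under B).ResidueField q'.ResidueField
      q'.ResidueField C).toRingEquiv).symm

end FibreIso

section Abstract

variable (P : ∀ (R : Type u) [CommRing R], Prop)
  (hiso : ∀ (R R' : Type u) [CommRing R] [CommRing R'], (R ≃+* R') → P R → P R')

include hiso in
/-- Base change of a map with geometrically-`P` fibres along a quasi-finite map has `P`
fibres. -/
theorem fibre_baseChange (B B' C : Type u) [CommRing B] [CommRing B'] [CommRing C]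
    [Algebra B B'] [Algebra B C] [Algebra.QuasiFinite B B']
    (hBC : ∀ (q : Ideal B) [q.IsPrime] (k'' : Type u) [Field k''] [Algebra q.ResidueField k''],
      Module.Finite q.ResidueField k'' → P (k'' ⊗[q.ResidueField] q.Fiber C))
    (q' : Ideal B') [q'.IsPrime] : P (q'.Fiber (B' ⊗[B] C)) := by
  letI := Localization.AtPrime.algebraOfLiesOver (q'.under B) q'
  have hfin : Module.Finite (q'.under B).ResidueField q'.ResidueField := inferInstance
  exact hiso _ _ (fiberBaseChangeEquiv B B' C q').symm (hBC (q'.under B) q'.ResidueField hfin)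

end Abstract


section Model

variable (A B C : Type u) [CommRing A] [CommRing B] [CommRing C] [Algebra A B] [Algebra B C]
  [Algebra A C] [IsScalarTower A B C] (p : Ideal A) [p.IsPrime]
  (k' : Type u) [Field k'] [Algebra p.ResidueField k'] [Algebra A k']
  [IsScalarTower A p.ResidueField k']

noncomputable def modelEquivB : B ⊗[A] k' ≃+* k' ⊗[p.ResidueField] p.Fiber B :=
  ((Algebra.TensorProduct.comm A B k').toRingEquiv).trans
    ((Algebra.TensorProduct.cancelBaseChange A p.ResidueField k' k' B).toRingEquiv).symm

noncomputable def modelEquivC : (B ⊗[A] k') ⊗[B] C ≃+* k' ⊗[p.ResidueField] p.Fiber C :=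
  ((Algebra.TensorProduct.comm B (B ⊗[A] k') C).toRingEquiv).trans <|
  ((Algebra.TensorProduct.cancelBaseChange A B C C k').toRingEquiv).trans <|
  ((Algebra.TensorProduct.comm A C k').toRingEquiv).trans <|
  ((Algebra.TensorProduct.cancelBaseChange A p.ResidueField k' k' C).toRingEquiv).symm

theorem quasiFinite_model [Module.Finite p.ResidueField k'] : Algebra.QuasiFinite B (B ⊗[A] k') := by
  have h1 : Algebra.QuasiFinite A p.ResidueField := inferInstance
  have h2 : Algebra.QuasiFinite p.ResidueField k' := inferInstance
  have h3 : Algebra.QuasiFinite A k' := Algebra.QuasiFinite.trans A p.ResidueField k'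
  infer_instance

end Model

section Main

variable (P : ∀ (R : Type u) [CommRing R], Prop)
  (hiso : ∀ (R R' : Type u) [CommRing R] [CommRing R'], (R ≃+* R') → P R → P R')

include hiso in
/-- Transitivity of geometrically-`P` fibres. -/
theorem geomFibre_comp
    (hasc : ∀ (R S : Type u) [CommRing R] [CommRing S] [Algebra R S] [IsNoetherianRing R]
      [IsNoetherianRing S] [Module.Flat R S], P R →
        (∀ (p : Ideal R) [p.IsPrime], P (p.Fiber S)) → P S)
    (A B C : Type u) [CommRing A] [CommRing B] [CommRing C] [Algebra A B] [Algebra B C]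
    [Algebra A C] [IsScalarTower A B C] [Module.Flat B C]
    (hBC : ∀ (q : Ideal B) [q.IsPrime] (k'' : Type u) [Field k''] [Algebra q.ResidueField k''],
      Module.Finite q.ResidueField k'' → P (k'' ⊗[q.ResidueField] q.Fiber C))
    (p : Ideal A) [p.IsPrime] (k' : Type u) [Field k'] [Algebra p.ResidueField k']
    (hfin : Module.Finite p.ResidueField k')
    (hB' : P (k' ⊗[p.ResidueField] p.Fiber B))
    (hNB : IsNoetherianRing (k' ⊗[p.ResidueField] p.Fiber B))
    (hNC : IsNoetherianRing (k' ⊗[p.ResidueField] p.Fiber C)) :
    P (k' ⊗[p.ResidueField] p.Fiber C) := by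
  letI : Algebra A k' :=
    ((algebraMap p.ResidueField k').comp (algebraMap A p.ResidueField)).toAlgebra
  haveI : IsScalarTower A p.ResidueField k' := IsScalarTower.of_algebraMap_eq (fun _ => rfl)
  haveI := quasiFinite_model A B p k'
  have hN1 : IsNoetherianRing (B ⊗[A] k') :=
    isNoetherianRing_of_ringEquiv _ (modelEquivB A B p k').symm
  have hN2 : IsNoetherianRing ((B ⊗[A] k') ⊗[B] C) :=
    isNoetherianRing_of_ringEquiv _ (modelEquivC A B C p k').symm
  have h1 : P (B ⊗[A] k') := hiso _ _ (modelEquivB A B p k').symm hB'
  have hflat : Module.Flat (B ⊗[A] k') ((B ⊗[A] k') ⊗[B] C) := inferInstance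
  have h2 := hasc (B ⊗[A] k') ((B ⊗[A] k') ⊗[B] C) h1
    (fun q' _ => fibre_baseChange P hiso B (B ⊗[A] k') C hBC q')
  exact hiso _ _ (modelEquivC A B C p k') h2

end Main


section Instances

open Groth.Agent.Lib.Helper29

/-- Ascent of regularity: a flat map of Noetherian rings with regular base and regular fibre
rings has regular total ring. -/
theorem isRegularRing_of_flat_of_fibers {R S : Type u} [CommRing R] [CommRing S] [Algebra R S]
    [IsNoetherianRing R] [IsNoetherianRing S] [Module.Flat R S] (hR : IsRegularRing R)
    (hfib : ∀ (p : Ideal R) [p.IsPrime], IsRegularRing (p.Fiber S)) : IsRegularRing S := by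
  rw [isRegularRing_iff]
  intro q hq
  have hlies : q.LiesOver (q.under R) := ⟨rfl⟩
  obtain ⟨q', hq', hq'q⟩ := exists_fiber_prime (q.under R) q
  have h0 := hfib (q.under R)
  have h1 : IsRegularLocalRing (Localization.AtPrime q') := inferInstance
  have h2 := IsRegularLocalRing.of_ringEquiv (fiberLocalizationEquiv (q.under R) q')
  have h3 := isRegularLocalRing_of_flat_of_fibLoc (q.under R)
    (q'.comap (Algebra.TensorProduct.includeRight : S →ₐ[R] (q.under R).Fiber S))
    inferInstance h2
  have key : ∀ (r : Ideal S) (hr : r.IsPrime), r = q →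
      IsRegularLocalRing (Localization.AtPrime r) →
      IsRegularLocalRing (Localization.AtPrime q) := by
    rintro r hr rfl h
    exact h
  exact key _ _ hq'q h3

/-- Normality is invariant under ring isomorphisms. -/
theorem isNormalRing_of_ringEquiv {R R' : Type u} [CommRing R] [CommRing R'] (e : R ≃+* R')
    (h : EGA4.IsNormalRing R) : EGA4.IsNormalRing R' := by
  intro q hq
  let q₀ : Ideal R := q.comap (e : R →+* R')
  have hq₀ : q₀.IsPrime := Ideal.comap_isPrime _ _
  obtain ⟨hdom, hic⟩ := h q₀
  let ε : Localization.AtPrime q₀ ≃+* Localization.AtPrime q :=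
    Localization.localRingEquiv q₀ q e rfl
  exact ⟨ε.symm.toMulEquiv.isDomain _, IsIntegrallyClosed.of_equiv ε⟩

/-- Ascent of normality: a flat map of Noetherian rings with normal base and normal fibre
rings has normal total ring. -/
theorem isNormalRing_of_flat_of_fibers {R S : Type u} [CommRing R] [CommRing S] [Algebra R S]
    [IsNoetherianRing R] [IsNoetherianRing S] [Module.Flat R S] (hR : EGA4.IsNormalRing R)
    (hfib : ∀ (p : Ideal R) [p.IsPrime], EGA4.IsNormalRing (p.Fiber S)) :
    EGA4.IsNormalRing S := by
  have hfibloc : ∀ (q : Ideal S) [q.IsPrime],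
      IsDomain (EGA4.FibLocRing R S q) ∧ IsIntegrallyClosed (EGA4.FibLocRing R S q) := by
    intro q hq
    have hlies : q.LiesOver (q.under R) := ⟨rfl⟩
    obtain ⟨q', hq', hq'q⟩ := exists_fiber_prime (q.under R) q
    obtain ⟨h1, h2⟩ := hfib (q.under R) q'
    have key : ∀ (r : Ideal S) (hr : r.IsPrime), r = q →
        (IsDomain (Localization.AtPrime r ⧸
            (q.under R).map (algebraMap R (Localization.AtPrime r))) ∧
          IsIntegrallyClosed (Localization.AtPrime r ⧸
            (q.under R).map (algebraMap R (Localization.AtPrime r)))) →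
        IsDomain (EGA4.FibLocRing R S q) ∧ IsIntegrallyClosed (EGA4.FibLocRing R S q) := by
      rintro r hr rfl h
      exact h
    refine key _ inferInstance hq'q ?_
    exact ⟨(fiberLocalizationEquiv (q.under R) q').symm.toMulEquiv.isDomain _,
      IsIntegrallyClosed.of_equiv (fiberLocalizationEquiv (q.under R) q')⟩
  intro q hq
  haveI := (hR (q.comap (algebraMap R S))).1
  haveI := (hR (q.comap (algebraMap R S))).2
  exact isNormal_localization_of_flat_of_fibLoc R S hfibloc q

/-- A finite extension of the base field keeps a Noetherian algebra Noetherian. -/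
theorem isNoetherianRing_tensor_of_finite (k : Type u) [Field k] (k' : Type u) [Field k']
    [Algebra k k'] [Module.Finite k k'] (S : Type u) [CommRing S] [Algebra k S]
    [IsNoetherianRing S] : IsNoetherianRing (k' ⊗[k] S) := by
  have h1 : Module.Finite S (S ⊗[k] k') := inferInstance
  have h2 : IsNoetherianRing (S ⊗[k] k') := Algebra.FiniteType.isNoetherianRing S _
  exact isNoetherianRing_of_ringEquiv _ (Algebra.TensorProduct.comm k S k').toRingEquiv

end Instances

end Groth.Agent.Lib.Helper73
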