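import Groth.Agent.Lib.Helper24.GorenFibre
import Groth.Agent.Lib.Helper73.GeomFibreComp
import Groth.Agent.Lib.Helper29.FibreDescent
import Groth.Prelude.Def_Found

/-!
# Gorenstein rings: ascent along flat maps with Gorenstein fibres, and composition with a
regular map (helper73)

* `isGorensteinRing_of_flat_of_fibers`: a flat map of Noetherian rings with Gorenstein base and
  Gorenstein fibre rings has Gorenstein total ring.
* `isGorensteinRing_fiber_comp_of_isRegularHom`: for flat maps `A → B → C` of Noetherian rings
  with `A → B` having Gorenstein fibres and `B → C` regular, `A → C` has Gorenstein fibres.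
-/

set_option autoImplicit false
set_option maxSynthPendingDepth 3
universe u

namespace Groth.Agent.Lib.Helper73

open TensorProduct Groth.Agent.Lib.Helper29 Groth.Agent.Lib.Helper24

/-- Ascent of the Gorenstein property: a flat map of Noetherian rings with Gorenstein base and
Gorenstein fibre rings has Gorenstein total ring. -/
theorem isGorensteinRing_of_flat_of_fibers {R S : Type u} [CommRing R] [CommRing S] [Algebra R S]
    [IsNoetherianRing R] [IsNoetherianRing S] [Module.Flat R S] (hR : LocCoh.IsGorensteinRing R)
    (hfib : ∀ (p : Ideal R) [p.IsPrime], LocCoh.IsGorensteinRing (p.Fiber S)) :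
    LocCoh.IsGorensteinRing S := by
  refine { isGorensteinLocalRing_localization := fun q hq => ?_ }
  have hlies : q.LiesOver (q.under R) := ⟨rfl⟩
  obtain ⟨q', hq', hq'q⟩ := exists_fiber_prime (q.under R) q
  have h1 := (hfib (q.under R)).isGorensteinLocalRing_localization q'
  have h2 := isGorensteinLocalRing_of_ringEquiv (fiberLocalizationEquiv (q.under R) q') h1
  have key : ∀ (r : Ideal S) (hr : r.IsPrime), r = q →
      LocCoh.IsGorensteinLocalRing (Localization.AtPrime r ⧸
        (q.under R).map (algebraMap R (Localization.AtPrime r))) →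
      LocCoh.IsGorensteinLocalRing (Localization.AtPrime q ⧸
        (q.under R).map (algebraMap R (Localization.AtPrime q))) := by
    rintro r hr rfl h
    exact h
  exact (isGorensteinLocalRing_localization_iff_of_flat (q.under R) q).mpr
    ⟨hR.isGorensteinLocalRing_localization _, key _ _ hq'q h2⟩

/-- Gorenstein fibres are preserved by composing with a regular map. -/
theorem isGorensteinRing_fiber_comp_of_isRegularHom (A B C : Type u) [CommRing A] [CommRing B]
    [CommRing C] [IsNoetherianRing B] [IsNoetherianRing C]
    [Algebra A B] [Algebra B C] [Algebra A C] [IsScalarTower A B C]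
    (hAB : ∀ (q : Ideal A) [q.IsPrime], LocCoh.IsGorensteinRing (q.Fiber B))
    (hBC : CAlg.IsRegularHom B C) (q : Ideal A) [q.IsPrime] :
    LocCoh.IsGorensteinRing (q.Fiber C) := by
  obtain ⟨hflatBC, hfibBC⟩ := hBC
  have hNB : IsNoetherianRing (q.Fiber B) := isNoetherianRing_fiber A B q
  have hNC : IsNoetherianRing (q.Fiber C) := isNoetherianRing_fiber A C q
  let eB : q.ResidueField ⊗[q.ResidueField] q.Fiber B ≃+* q.Fiber B :=
    (Algebra.TensorProduct.lid q.ResidueField (q.Fiber B)).toRingEquiv
  let eC : q.ResidueField ⊗[q.ResidueField] q.Fiber C ≃+* q.Fiber C :=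
    (Algebra.TensorProduct.lid q.ResidueField (q.Fiber C)).toRingEquiv
  have h := geomFibre_comp (fun R _ => LocCoh.IsGorensteinRing R)
    (fun R R' _ _ e h => isGorensteinRing_of_ringEquiv e h)
    (fun R S _ _ _ _ _ _ hR hf => isGorensteinRing_of_flat_of_fibers hR hf)
    A B C
    (fun p _ k'' _ _ hfin'' => by
      have hreg : IsRegularRing (k'' ⊗[p.ResidueField] p.Fiber C) := (hfibBC p).2 k'' hfin''
      exact isGorensteinRing_of_isRegularRing _)
    q q.ResidueField inferInstance
    (isGorensteinRing_of_ringEquiv eB.symm (hAB q))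
    (isNoetherianRing_of_ringEquiv _ eB.symm)
    (isNoetherianRing_of_ringEquiv _ eC.symm)
  exact isGorensteinRing_of_ringEquiv eC h

end Groth.Agent.Lib.Helper73
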