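import Groth.Agent.Lib.Helper73.GorenLCI1
import Groth.Agent.Lib.Helper73.GorenFibreComp
import Groth.Prelude.Def_LCI2

/-!
# Local complete intersections over Gorenstein rings are Gorenstein (helper73)

* `isGorensteinRing_quotient_of_isKoszulRegularIdeal`: a quotient of a Gorenstein ring by a
  Koszul-regular ideal is Gorenstein.
* `isGorensteinRing_mvPolynomial`: polynomial rings in finitely many variables over a Gorenstein
  ring are Gorenstein.
* `isGorensteinRing_of_isLCI`: a local complete intersection algebra over a Gorenstein ring is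
  Gorenstein.
-/

set_option autoImplicit false
set_option maxSynthPendingDepth 3
universe u

namespace Groth.Agent.Lib.Helper73.GorenLCI

open IsLocalRing RingTheory.Sequence TensorProduct

section Quot

variable {P : Type u} [CommRing P]

/-- The complement of a prime of `P ⧸ I` is the image of the complement of its preimage. -/
theorem algebraMapSubmonoid_primeCompl_comap (I : Ideal P) (Q : Ideal (P ⧸ I)) [Q.IsPrime] :
    Algebra.algebraMapSubmonoid (P ⧸ I) (Q.comap (Ideal.Quotient.mk I)).primeCompl =
      Q.primeCompl := by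
  ext y
  constructor
  · rintro ⟨x, hx, rfl⟩
    exact hx
  · intro hy
    obtain ⟨x, rfl⟩ := Ideal.Quotient.mk_surjective y
    exact ⟨x, hy, rfl⟩

/-- The localization of `P ⧸ I` at a prime `Q` is the quotient of the localization of `P` at the
preimage of `Q` by the extension of `I`. -/
noncomputable def localizationQuotientEquiv (I : Ideal P) (Q : Ideal (P ⧸ I)) [Q.IsPrime] :
    Localization.AtPrime Q ≃+*
      (Localization.AtPrime (Q.comap (Ideal.Quotient.mk I)) ⧸
        I.map (algebraMap P (Localization.AtPrime (Q.comap (Ideal.Quotient.mk I))))) := by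
  have h1 : IsLocalization (Algebra.algebraMapSubmonoid (P ⧸ I)
      (Q.comap (Ideal.Quotient.mk I)).primeCompl)
      (Localization.AtPrime (Q.comap (Ideal.Quotient.mk I)) ⧸
        I.map (algebraMap P (Localization.AtPrime (Q.comap (Ideal.Quotient.mk I))))) :=
    inferInstance
  rw [algebraMapSubmonoid_primeCompl_comap] at h1
  exact (IsLocalization.algEquiv Q.primeCompl (Localization.AtPrime Q) _).toRingEquiv

/-- A quotient of a Gorenstein ring by a Koszul-regular ideal is Gorenstein. -/
theorem isGorensteinRing_quotient_of_isKoszulRegularIdeal (hP : LocCoh.IsGorensteinRing P)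
    (I : Ideal P) (hI : LCI.IsKoszulRegularIdeal I) : LocCoh.IsGorensteinRing (P ⧸ I) := by
  have hNP : IsNoetherianRing P := hP.toIsNoetherian
  refine { isGorensteinLocalRing_localization := fun Q hQ => ?_ }
  set 𝔔 : Ideal P := Q.comap (Ideal.Quotient.mk I) with h𝔔
  have hle : I ≤ 𝔔 := by
    intro x hx
    rw [h𝔔, Ideal.mem_comap, Ideal.Quotient.eq_zero_iff_mem.mpr hx]
    exact Q.zero_mem
  obtain ⟨g, hg, l, hl, hIl⟩ := hI ⟨𝔔, inferInstance⟩ hle
  have hg' : g ∉ 𝔔 := hg
  have hGL : LocCoh.IsGorensteinLocalRing (Localization.AtPrime 𝔔) :=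
    hP.isGorensteinLocalRing_localization 𝔔
  have hNL : IsNoetherianRing (Localization.AtPrime 𝔔) := hGL.toIsNoetherian
  have hu : IsUnit (algebraMap P (Localization.AtPrime 𝔔) g) :=
    IsLocalization.map_units (Localization.AtPrime 𝔔) (⟨g, hg'⟩ : 𝔔.primeCompl)
  let ψ : Localization.Away g →+* Localization.AtPrime 𝔔 := IsLocalization.Away.lift g hu
  have hψ : ψ.comp (algebraMap P (Localization.Away g)) = algebraMap P (Localization.AtPrime 𝔔) :=
    IsLocalization.Away.lift_comp g hu
  letI : Algebra (Localization.Away g) (Localization.AtPrime 𝔔) := ψ.toAlgebra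
  haveI : IsScalarTower P (Localization.Away g) (Localization.AtPrime 𝔔) :=
    IsScalarTower.of_algebraMap_eq (fun x => (IsLocalization.Away.lift_eq g hu x).symm)
  have hpow : Submonoid.powers g ≤ 𝔔.primeCompl := by
    rintro _ ⟨n, rfl⟩
    exact fun h => hg' (Ideal.IsPrime.mem_of_pow_mem inferInstance n h)
  haveI : IsLocalization (𝔔.primeCompl.map (algebraMap P (Localization.Away g)))
      (Localization.AtPrime 𝔔) :=
    IsLocalization.isLocalization_of_submonoid_le (Localization.Away g) (Localization.AtPrime 𝔔)
      (Submonoid.powers g) 𝔔.primeCompl hpow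
  have hflat : Module.Flat (Localization.Away g) (Localization.AtPrime 𝔔) :=
    IsLocalization.flat (Localization.AtPrime 𝔔)
      (𝔔.primeCompl.map (algebraMap P (Localization.Away g)))
  have hψflat : ψ.Flat := hflat
  have hK : LCI.IsKoszulRegularSeq (Localization.AtPrime 𝔔) (l.map ψ) :=
    Groth.Agent.Lib.Helper10.KoszulFlat.isKoszulRegularSeq_map ψ hψflat l hl
  have hmapI : I.map (algebraMap P (Localization.AtPrime 𝔔)) = Ideal.ofList (l.map ψ) := by
    rw [← hψ, ← Ideal.map_map, hIl]
    exact Ideal.map_ofList ψ l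
  have hmem : ∀ r ∈ l.map ψ, r ∈ maximalIdeal (Localization.AtPrime 𝔔) := by
    intro r hr
    have h1 : r ∈ Ideal.ofList (l.map ψ) := Ideal.subset_span hr
    rw [← hmapI] at h1
    rw [← Localization.AtPrime.map_eq_maximalIdeal]
    exact Ideal.map_mono hle h1
  have hW := isWeaklyRegular_of_isKoszulRegularSeq (l.map ψ) hmem hK
  have hGq := isGorensteinLocalRing_quotient_ofList _ (Localization.AtPrime 𝔔) (l.map ψ) rfl hmem
    hW hGL
  have hGq' : LocCoh.IsGorensteinLocalRing (Localization.AtPrime 𝔔 ⧸
      I.map (algebraMap P (Localization.AtPrime 𝔔))) :=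
    Groth.Agent.Lib.Helper24.isGorensteinLocalRing_of_ringEquiv
      (Ideal.quotEquivOfEq hmapI.symm) hGq
  exact Groth.Agent.Lib.Helper24.isGorensteinLocalRing_of_ringEquiv
    (localizationQuotientEquiv I Q).symm hGq'

end Quot

section Poly

/-- Polynomial rings in finitely many variables over a Gorenstein ring are Gorenstein. -/
theorem isGorensteinRing_mvPolynomial (A : Type u) [CommRing A] (hA : LocCoh.IsGorensteinRing A)
    (n : ℕ) : LocCoh.IsGorensteinRing (MvPolynomial (Fin n) A) := by
  have hNA : IsNoetherianRing A := hA.toIsNoetherian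
  refine isGorensteinRing_of_flat_of_fibers (R := A) (S := MvPolynomial (Fin n) A) hA ?_
  intro p hp
  let e : p.Fiber (MvPolynomial (Fin n) A) ≃+* MvPolynomial (Fin n) p.ResidueField :=
    (MvPolynomial.algebraTensorAlgEquiv A p.ResidueField (σ := Fin n)).toRingEquiv
  have hreg : IsRegularRing (MvPolynomial (Fin n) p.ResidueField) :=
    MvPolynomial.isRegularRing_of_isRegularRing _
  exact Groth.Agent.Lib.Helper24.isGorensteinRing_of_ringEquiv e.symm
    (Groth.Agent.Lib.Helper24.isGorensteinRing_of_isRegularRing _)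

end Poly

/-- A local complete intersection algebra over a Gorenstein ring is a Gorenstein ring. -/
theorem isGorensteinRing_of_isLCI (A B : Type u) [CommRing A] [CommRing B] [Algebra A B]
    (hA : LocCoh.IsGorensteinRing A) (h : LCI.IsLCI A B) : LocCoh.IsGorensteinRing B := by
  obtain ⟨_, n, f, hf, hI⟩ := h
  have hP := isGorensteinRing_mvPolynomial A hA n
  have hq := isGorensteinRing_quotient_of_isKoszulRegularIdeal hP _ hI
  exact Groth.Agent.Lib.Helper24.isGorensteinRing_of_ringEquiv
    (RingHom.quotientKerEquivOfSurjective (f := f.toRingHom) hf) hq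

end Groth.Agent.Lib.Helper73.GorenLCI
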