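import Groth.Agent.Lib.Helper29.FlatAscent3
import Groth.Agent.Lib.Helper93.DepthFlat

/-!
# Cohen–Macaulay fibres: basic permanence (helper73)

* Artinian rings are Cohen–Macaulay.
* A finite flat algebra over a CM ring is CM; finite field extensions preserve CM.
* A flat map of Noetherian rings with CM target has CM fibres.
-/

set_option autoImplicit false
set_option maxSynthPendingDepth 3
universe u

namespace Groth.Agent.Lib.Helper73.CMFibre

open IsLocalRing TensorProduct

/-- An Artinian local ring is a Cohen–Macaulay local ring. -/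
theorem isCohenMacaulayLocalRing_of_isArtinianRing (L : Type u) [CommRing L] [IsLocalRing L]
    [IsArtinianRing L] : LocCoh.IsCohenMacaulayLocalRing L := by
  have hN : IsNoetherianRing L := inferInstance
  refine { supportDim_eq_depth := ?_ }
  rw [Module.supportDim_self_eq_ringKrullDim]
  have h1 : ringKrullDim L = 0 :=
    (ringKrullDimZero_iff_ringKrullDim_eq_zero).mp inferInstance
  have hfl : IsFiniteLength L L :=
    isFiniteLength_iff_isNoetherian_isArtinian.mpr ⟨inferInstance, inferInstance⟩
  have h2 : LocCoh.depth L L = 0 :=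
    Groth.Agent.Lib.Helper93.DepthFlat.depth_eq_zero_of_isFiniteLength L hfl
  rw [h1, h2]
  rfl

/-- An Artinian ring is a Cohen–Macaulay ring. -/
theorem isCohenMacaulayRing_of_isArtinianRing (T : Type u) [CommRing T] [IsArtinianRing T] :
    LocCoh.IsCohenMacaulayRing T := by
  have hN : IsNoetherianRing T := inferInstance
  refine { isCohenMacaulayLocalRing_localization := fun p hp => ?_ }
  have : IsArtinianRing (Localization.AtPrime p) := inferInstance
  exact isCohenMacaulayLocalRing_of_isArtinianRing _

/-- A finite flat algebra over a Cohen–Macaulay ring is Cohen–Macaulay. -/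
theorem isCohenMacaulayRing_of_finite_flat (R T : Type u) [CommRing R] [CommRing T] [Algebra R T]
    [Module.Finite R T] [Module.Flat R T] (hR : LocCoh.IsCohenMacaulayRing R) :
    LocCoh.IsCohenMacaulayRing T := by
  have hNR : IsNoetherianRing R := hR.toIsNoetherian
  have hNT : IsNoetherianRing T := IsNoetherianRing.of_finite R T
  apply Groth.Agent.Lib.Helper29.isCohenMacaulayRing_of_flat_of_fibers hR
  intro p hp
  have : IsArtinianRing (p.Fiber T) := IsArtinianRing.of_finite p.ResidueField (p.Fiber T)
  exact isCohenMacaulayRing_of_isArtinianRing _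

/-- Finite extensions of the base field preserve Cohen–Macaulayness. -/
theorem isCohenMacaulayRing_tensor_of_finite (k K R : Type u) [Field k] [Field K] [Algebra k K]
    [Module.Finite k K] [CommRing R] [Algebra k R] (hR : LocCoh.IsCohenMacaulayRing R) :
    LocCoh.IsCohenMacaulayRing (K ⊗[k] R) := by
  have hNR : IsNoetherianRing R := hR.toIsNoetherian
  have h1 : LocCoh.IsCohenMacaulayRing (R ⊗[k] K) := isCohenMacaulayRing_of_finite_flat R _ hR
  have : IsNoetherianRing (R ⊗[k] K) := h1.toIsNoetherian
  exact Groth.Agent.Lib.Helper29.isCohenMacaulayRing_of_ringEquiv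
    (Algebra.TensorProduct.comm k K R).toRingEquiv h1

end Groth.Agent.Lib.Helper73.CMFibre

namespace Groth.Agent.Lib.Helper73.CMFibre

open IsLocalRing TensorProduct

theorem arith_cancel (a f : ℕ∞) (a' f' : WithBot ℕ∞) (ha : (a : WithBot ℕ∞) ≤ a')
    (hf : (f : WithBot ℕ∞) ≤ f') (ha' : a' ≠ ⊤)
    (h : ((a + f : ℕ∞) : WithBot ℕ∞) = a' + f') : f' = (f : WithBot ℕ∞) := by
  induction a' with
  | bot => simp at ha
  | coe a'' =>
    induction f' with
    | bot => simp at hf
    | coe f'' =>
      have ha1 : a ≤ a'' := WithBot.coe_le_coe.mp ha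
      have hf1 : f ≤ f'' := WithBot.coe_le_coe.mp hf
      have h1 : a + f = a'' + f'' := by exact_mod_cast h
      have ha2 : a'' ≠ ⊤ := fun hh => ha' (by rw [hh]; rfl)
      congr 1
      lift a'' to ℕ using ha2
      have ha3 : a ≠ ⊤ := fun hh => by rw [hh] at ha1; simp at ha1
      lift a to ℕ using ha3
      by_cases hft : f = ⊤
      · rw [hft] at hf1 ⊢
        exact top_le_iff.mp hf1
      · lift f to ℕ using hft
        have hf2 : f'' ≠ ⊤ := by
          intro hh
          rw [hh] at h1
          simp at h1
        lift f'' to ℕ using hf2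
        have ha4 : a ≤ a'' := by exact_mod_cast ha1
        have hf4 : f ≤ f'' := by exact_mod_cast hf1
        have h4 : a + f = a'' + f'' := by exact_mod_cast h1
        have : f'' = f := by omega
        rw [this]

/-- A flat map of Noetherian rings with Cohen–Macaulay target has Cohen–Macaulay fibres. -/
theorem isCohenMacaulayRing_fiber_of_flat (R T : Type u) [CommRing R] [CommRing T] [Algebra R T]
    [IsNoetherianRing R] [IsNoetherianRing T] [Module.Flat R T]
    (hT : LocCoh.IsCohenMacaulayRing T) (p : Ideal R) [p.IsPrime] :
    LocCoh.IsCohenMacaulayRing (p.Fiber T) := by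
  have hNF : IsNoetherianRing (p.Fiber T) := Groth.Agent.Lib.Helper29.isNoetherianRing_fiber R T p
  refine { isCohenMacaulayLocalRing_localization := fun q' hq' => ?_ }
  let e := Groth.Agent.Lib.Helper29.fiberLocalizationEquiv p q'
  set r := q'.comap (Algebra.TensorProduct.includeRight : T →ₐ[R] p.Fiber T) with hr
  have hloc : IsLocalRing (Localization.AtPrime r ⧸
      p.map (algebraMap R (Localization.AtPrime r))) := e.isLocalRing
  have hNr : IsNoetherianRing (Localization.AtPrime r) :=
    IsLocalization.isNoetherianRing r.primeCompl _ inferInstance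
  have hNp : IsNoetherianRing (Localization.AtPrime p) :=
    IsLocalization.isNoetherianRing p.primeCompl _ inferInstance
  obtain ⟨h1, h2⟩ := Groth.Agent.Lib.Helper29.depth_and_dim_add_of_flat p r
  have h3 := (hT.isCohenMacaulayLocalRing_localization r).supportDim_eq_depth
  rw [Module.supportDim_self_eq_ringKrullDim] at h3
  have h4 := Groth.Agent.Lib.Helper29.depth_le_supportDim (Localization.AtPrime p)
    (Localization.AtPrime p)
  have h5 := Groth.Agent.Lib.Helper29.depth_le_supportDim
    (Localization.AtPrime r ⧸ p.map (algebraMap R (Localization.AtPrime r)))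
    (Localization.AtPrime r ⧸ p.map (algebraMap R (Localization.AtPrime r)))
  rw [Module.supportDim_self_eq_ringKrullDim] at h4 h5
  have h6 : ringKrullDim (Localization.AtPrime p) ≠ ⊤ := by
    have := Groth.Agent.Lib.Helper29.supportDim_ne_top (Localization.AtPrime p)
      (Localization.AtPrime p)
    rwa [Module.supportDim_self_eq_ringKrullDim] at this
  have h7 := arith_cancel _ _ _ _ h4 h5 h6 (by rw [← h1, ← h3, h2])
  have hF : LocCoh.IsCohenMacaulayLocalRing (Localization.AtPrime r ⧸
      p.map (algebraMap R (Localization.AtPrime r))) := by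
    refine { supportDim_eq_depth := ?_ }
    rw [Module.supportDim_self_eq_ringKrullDim]
    exact h7
  exact Groth.Agent.Lib.Helper29.isCohenMacaulayLocalRing_of_ringEquiv e.symm hF

end Groth.Agent.Lib.Helper73.CMFibre
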