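import Groth.Agent.Lib.Helper10.KoszulH1
import Groth.Agent.Lib.Helper10.KoszulFlat
import Groth.Agent.Lib.Helper14.KoszulH1
import Groth.Agent.Lib.Helper24.GorenEquiv
import Groth.Agent.S0343

/-!
# Gorenstein local rings modulo Koszul-regular sequences (helper73)

* `isWeaklyRegular_of_isKoszulRegularSeq`: in a Noetherian local ring a Koszul-regular sequence
  contained in the maximal ideal is a (weakly) regular sequence.
* `isGorensteinLocalRing_quotient_ofList`: a Gorenstein local ring modulo a weakly regular sequence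
  contained in the maximal ideal is Gorenstein.
-/

set_option autoImplicit false
universe u

namespace Groth.Agent.Lib.Helper73.GorenLCI

open IsLocalRing RingTheory.Sequence

/-- `H_1`-regularity in the sense of `CAlgX` gives vanishing of the first Koszul homology of the
ring in the sense of `CInt`. -/
theorem koszulH1Zero_of_isH1Regular {R : Type u} [CommRing R] {c : ℕ} (f : Fin c → R)
    (h : CAlgX.IsH1Regular f) : CInt.KoszulH1Zero f R := by
  intro m hm
  have hm' : ∑ i, m i * f i = 0 := by
    rw [← hm]
    exact Finset.sum_congr rfl fun i _ => by rw [smul_eq_mul, mul_comm]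
  have h1 := h m hm'
  refine Submodule.span_le.mpr ?_ h1
  rintro v ⟨i, j, rfl⟩
  refine Submodule.subset_span ⟨i, j, 1, ?_⟩
  ext k
  simp only [Pi.sub_apply, Pi.smul_apply, Pi.single_apply, smul_eq_mul]
  split_ifs <;> simp

/-- In a Noetherian local ring a Koszul-regular sequence contained in the maximal ideal is a
weakly regular sequence. -/
theorem isWeaklyRegular_of_isKoszulRegularSeq {R : Type u} [CommRing R] [IsNoetherianRing R]
    [IsLocalRing R] (l : List R) (hl : ∀ r ∈ l, r ∈ maximalIdeal R)
    (h : LCI.IsKoszulRegularSeq R l) : IsWeaklyRegular R l := by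
  have h1 := Groth.Agent.Lib.Helper10.KoszulH1.isH1Regular_of_isKoszulRegularSeq l h
  have h2 := koszulH1Zero_of_isH1Regular l.get h1
  have hrad : ∀ i, l.get i ∈ (⊥ : Ideal R).jacobson := by
    intro i
    rw [IsLocalRing.jacobson_eq_maximalIdeal ⊥ bot_ne_top]
    exact hl _ (List.get_mem l i)
  have h3 := Groth.Agent.Lib.Helper14.isWeaklyRegular_of_koszulH1Zero l.get hrad h2
  rwa [List.ofFn_get] at h3

/-- A Gorenstein local ring modulo a weakly regular sequence contained in the maximal ideal is
Gorenstein. -/
theorem isGorensteinLocalRing_quotient_ofList : ∀ (n : ℕ) (R : Type u) [CommRing R]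
    [IsLocalRing R] [IsNoetherianRing R] (l : List R), l.length = n →
    (∀ r ∈ l, r ∈ maximalIdeal R) → IsWeaklyRegular R l → LocCoh.IsGorensteinLocalRing R →
    LocCoh.IsGorensteinLocalRing (R ⧸ Ideal.ofList l) := by
  intro n
  induction n with
  | zero =>
    intro R _ _ _ l hlen _ _ hG
    have hl : l = [] := List.length_eq_zero_iff.mp hlen
    subst hl
    have e : R ≃+* R ⧸ Ideal.ofList ([] : List R) :=
      (RingEquiv.quotientBot R).symm.trans (Ideal.quotEquivOfEq (Ideal.ofList_nil (R := R)).symm)
    exact Groth.Agent.Lib.Helper24.isGorensteinLocalRing_of_ringEquiv e hG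
  | succ n ih =>
    intro R _ _ _ l hlen hmem hreg hG
    obtain ⟨a, l', rfl⟩ : ∃ a l', l = a :: l' := by
      cases l with
      | nil => simp at hlen
      | cons a l' => exact ⟨a, l', rfl⟩
    have hlen' : l'.length = n := by simpa using hlen
    have ha : a ∈ maximalIdeal R := hmem a (by simp)
    obtain ⟨hareg, hreg'⟩ := (isWeaklyRegular_cons_iff R a l').mp hreg
    have hne : Ideal.span {a} ≠ (⊤ : Ideal R) := by
      intro htop
      have : (1 : R) ∈ maximalIdeal R := by
        have h1 : (1 : R) ∈ Ideal.span {a} := by rw [htop]; trivial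
        exact (Ideal.span_le.mpr (Set.singleton_subset_iff.mpr ha)) h1
      exact (Ideal.ne_top_iff_one _).mp (IsLocalRing.maximalIdeal.isMaximal R).ne_top this
    have hnt : Nontrivial (R ⧸ Ideal.span {a}) := Ideal.Quotient.nontrivial_iff.mpr hne
    have hloc : IsLocalRing (R ⧸ Ideal.span {a}) :=
      IsLocalRing.of_surjective' (Ideal.Quotient.mk (Ideal.span {a})) Ideal.Quotient.mk_surjective
    have hlh : IsLocalHom (Ideal.Quotient.mk (Ideal.span {a})) :=
      IsLocalHom.of_surjective _ Ideal.Quotient.mk_surjective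
    have hGS : LocCoh.IsGorensteinLocalRing (R ⧸ Ideal.span {a}) :=
      (Groth.Agent.S0343.result R a ha hareg).mp hG
    -- the image sequence
    have hmem' : ∀ r ∈ l'.map (Ideal.Quotient.mk (Ideal.span {a})),
        r ∈ maximalIdeal (R ⧸ Ideal.span {a}) := by
      intro r hr
      obtain ⟨r0, hr0, rfl⟩ := List.mem_map.mp hr
      exact _root_.map_nonunit _ r0 (hmem r0 (by simp [hr0]))
    have e : QuotSMulTop a R ≃ₗ[R] (R ⧸ Ideal.span {a}) :=
      Submodule.quotEquivOfEq _ _ (by
        rw [← Submodule.ideal_span_singleton_smul, smul_eq_mul, Ideal.mul_top])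
    have hreg'' : IsWeaklyRegular (R ⧸ Ideal.span {a})
        (l'.map (Ideal.Quotient.mk (Ideal.span {a}))) := by
      have h1 : IsWeaklyRegular (R ⧸ Ideal.span {a}) l' := (e.isWeaklyRegular_congr l').mp hreg'
      have h2 := (isWeaklyRegular_map_algebraMap_iff (R ⧸ Ideal.span {a})
        (R ⧸ Ideal.span {a}) l').mpr h1
      rwa [Ideal.Quotient.algebraMap_eq] at h2
    have h3 := ih (R ⧸ Ideal.span {a}) (l'.map (Ideal.Quotient.mk (Ideal.span {a})))
      (by simpa using hlen') hmem' hreg'' hGS
    -- identify the double quotient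
    have hmap : Ideal.ofList (l'.map (Ideal.Quotient.mk (Ideal.span {a}))) =
        (Ideal.ofList l').map (Ideal.Quotient.mk (Ideal.span {a})) :=
      (Ideal.map_ofList _ _).symm
    have e2 : ((R ⧸ Ideal.span {a}) ⧸
        Ideal.ofList (l'.map (Ideal.Quotient.mk (Ideal.span {a})))) ≃+*
        R ⧸ Ideal.ofList (a :: l') :=
      (Ideal.quotEquivOfEq hmap).trans
        ((DoubleQuot.quotQuotEquivQuotSup (Ideal.span {a}) (Ideal.ofList l')).trans
          (Ideal.quotEquivOfEq (Ideal.ofList_cons a l').symm))
    exact Groth.Agent.Lib.Helper24.isGorensteinLocalRing_of_ringEquiv e2 h3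

end Groth.Agent.Lib.Helper73.GorenLCI
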