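import Mathlib
import Groth.Agent.Lib.Helper73.RegularRing

universe u

set_option maxSynthPendingDepth 3

open IsLocalRing

namespace Groth.Agent.Lib.Helper73.RegularRing

/-- a localization of a regular ring is regular. -/
theorem isRegularRing_of_isLocalization {R : Type u} [CommRing R] [IsRegularRing R]
    (T : Submonoid R) (R' : Type u) [CommRing R'] [Algebra R R'] [IsLocalization T R'] :
    IsRegularRing R' := by
  have hN : IsNoetherianRing R' := IsLocalization.isNoetherianRing T R' inferInstance
  rw [isRegularRing_iff]
  intro Q hQ
  have loc2 : IsLocalization.AtPrime (Localization.AtPrime Q) (Q.comap (algebraMap R R')) :=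
    IsLocalization.isLocalization_isLocalization_atPrime_isLocalization T
      (Localization.AtPrime Q) Q
  let e := IsLocalization.algEquiv (Q.comap (algebraMap R R')).primeCompl
    (Localization.AtPrime (Q.comap (algebraMap R R'))) (Localization.AtPrime Q)
  exact IsRegularLocalRing.of_ringEquiv e.toRingEquiv

instance {R : Type u} [CommRing R] [IsRegularRing R] (T : Submonoid R) :
    IsRegularRing (Localization T) :=
  isRegularRing_of_isLocalization T _

end Groth.Agent.Lib.Helper73.RegularRing
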