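import Mathlib

universe u v

set_option maxSynthPendingDepth 3

open TensorProduct RingTheory.Sequence

namespace Groth.Agent.Lib.Helper73.RegSeqTor

variable {R : Type u} [CommRing R] (M : Type v) [AddCommGroup M] [Module R M]

/-- the multiplication map `I ⊗ M → M` -/
noncomputable def mu (I : Ideal R) : I ⊗[R] M →ₗ[R] M :=
  (TensorProduct.lid R M).toLinearMap ∘ₗ LinearMap.rTensor M I.subtype

@[simp]
theorem mu_tmul (I : Ideal R) (y : I) (m : M) : mu M I (y ⊗ₜ m) = (y : R) • m := by
  simp [mu]

theorem mu_injective_iff (I : Ideal R) :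
    Function.Injective (mu M I) ↔ Function.Injective (LinearMap.rTensor M I.subtype) := by
  unfold mu
  rw [LinearMap.coe_comp]
  exact (TensorProduct.lid R M).injective.of_comp_iff _

theorem mu_mem (I : Ideal R) (z : I ⊗[R] M) : mu M I z ∈ (I • ⊤ : Submodule R M) := by
  induction z using TensorProduct.induction_on with
  | zero => simp
  | tmul y m =>
    rw [mu_tmul]
    exact Submodule.smul_mem_smul y.2 Submodule.mem_top
  | add z w hz hw =>
    rw [map_add]
    exact Submodule.add_mem _ hz hw

theorem exists_mu_eq (I : Ideal R) (m : M) (hm : m ∈ (I • ⊤ : Submodule R M)) :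
    ∃ w : I ⊗[R] M, mu M I w = m := by
  refine Submodule.smul_induction_on hm ?_ ?_
  · intro y hy n _
    exact ⟨(⟨y, hy⟩ : I) ⊗ₜ n, by simp⟩
  · rintro x y ⟨w1, rfl⟩ ⟨w2, rfl⟩
    exact ⟨w1 + w2, by simp⟩

theorem step (I' : Ideal R) (a : R)
    (hreg : IsSMulRegular (M ⧸ (I' • ⊤ : Submodule R M)) a)
    (ih : Function.Injective (LinearMap.rTensor M I'.subtype)) :
    Function.Injective (LinearMap.rTensor M (I' ⊔ Ideal.span {a}).subtype) := by
  rw [← mu_injective_iff] at ih ⊢
  have hle : I' ≤ I' ⊔ Ideal.span {a} := le_sup_left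
  have ha : a ∈ I' ⊔ Ideal.span {a} :=
    (le_sup_right : Ideal.span {a} ≤ I' ⊔ Ideal.span {a}) (Ideal.mem_span_singleton_self a)
  obtain ⟨ι, hι⟩ : ∃ ι : I' ⊗[R] M →ₗ[R] (I' ⊔ Ideal.span {a} : Ideal R) ⊗[R] M,
      ι = LinearMap.rTensor M (Submodule.inclusion hle) := ⟨_, rfl⟩
  have hι_tmul : ∀ (b : I') (n : M), ι (b ⊗ₜ n) = (Submodule.inclusion hle b) ⊗ₜ n := by
    intro b n; rw [hι]; rfl
  have hμι : ∀ z', mu M (I' ⊔ Ideal.span {a}) (ι z') = mu M I' z' := by
    intro z'
    induction z' using TensorProduct.induction_on with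
    | zero => simp
    | tmul b n => rw [hι_tmul, mu_tmul, mu_tmul]; rfl
    | add z w hz hw => rw [map_add, map_add, map_add, hz, hw]
  -- Step A
  have hA : ∀ z : (I' ⊔ Ideal.span {a} : Ideal R) ⊗[R] M, ∃ (z' : I' ⊗[R] M) (m : M),
      z = ι z' + (⟨a, ha⟩ : (I' ⊔ Ideal.span {a} : Ideal R)) ⊗ₜ m := by
    intro z
    induction z using TensorProduct.induction_on with
    | zero => exact ⟨0, 0, by simp⟩
    | tmul y n =>
      obtain ⟨y', hy', c', hc', hyc⟩ := Submodule.mem_sup.mp y.2
      obtain ⟨c, rfl⟩ := Ideal.mem_span_singleton'.mp hc'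
      refine ⟨(⟨y', hy'⟩ : I') ⊗ₜ n, c • n, ?_⟩
      rw [hι_tmul, ← TensorProduct.smul_tmul, ← TensorProduct.add_tmul]
      congr 1
      apply Subtype.ext
      simp only [Submodule.coe_add, Submodule.coe_inclusion, Submodule.coe_smul, smul_eq_mul]
      exact hyc.symm
    | add z w hz hw =>
      obtain ⟨z1, m1, rfl⟩ := hz
      obtain ⟨z2, m2, rfl⟩ := hw
      refine ⟨z1 + z2, m1 + m2, ?_⟩
      rw [map_add, TensorProduct.tmul_add]
      abel
  -- Step C
  have hC : ∀ w : I' ⊗[R] M, (⟨a, ha⟩ : (I' ⊔ Ideal.span {a} : Ideal R)) ⊗ₜ (mu M I' w) =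
      ι (a • w) := by
    intro w
    induction w using TensorProduct.induction_on with
    | zero => simp
    | tmul b n =>
      rw [mu_tmul, ← TensorProduct.smul_tmul, TensorProduct.smul_tmul', hι_tmul]
      congr 1
      apply Subtype.ext
      simp only [Submodule.coe_smul, smul_eq_mul, Submodule.coe_inclusion]
      exact mul_comm _ _
    | add z w hz hw =>
      rw [map_add, TensorProduct.tmul_add, hz, hw, smul_add, map_add]
  -- Step D
  rw [injective_iff_map_eq_zero]
  intro z hz
  obtain ⟨z', m, rfl⟩ := hA z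
  rw [map_add, hμι, mu_tmul] at hz
  have hz' : a • m = - mu M I' z' := by
    have : mu M I' z' + a • m = 0 := hz
    exact eq_neg_of_add_eq_zero_right this
  have hm : m ∈ (I' • ⊤ : Submodule R M) := by
    have h1 : a • (Submodule.Quotient.mk m : M ⧸ (I' • ⊤ : Submodule R M)) = a • 0 := by
      rw [← Submodule.Quotient.mk_smul, smul_zero, Submodule.Quotient.mk_eq_zero, hz']
      exact Submodule.neg_mem _ (mu_mem M I' z')
    have h2 := hreg h1
    exact (Submodule.Quotient.mk_eq_zero _).mp h2
  obtain ⟨w, rfl⟩ := exists_mu_eq M I' m hm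
  rw [hC, ← map_add]
  have h3 : mu M I' (z' + a • w) = 0 := by
    rw [map_add, map_smul]
    exact hz
  have h4 := (injective_iff_map_eq_zero _).mp ih _ h3
  rw [h4, map_zero]

/-- For an `M`-regular sequence generating `I`, the map `I ⊗ M → R ⊗ M` is injective
(i.e. `Tor₁(R/I, M) = 0`). -/
theorem rTensor_subtype_injective_of_isWeaklyRegular (rs : List R) (h : IsWeaklyRegular M rs) :
    Function.Injective (LinearMap.rTensor M (Ideal.ofList rs).subtype) := by
  have key : ∀ i, i ≤ rs.length →
      Function.Injective (LinearMap.rTensor M (Ideal.ofList (rs.take i)).subtype) := by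
    intro i
    induction i with
    | zero =>
      intro _
      rw [List.take_zero, Ideal.ofList_nil]
      haveI : Subsingleton ((⊥ : Ideal R) ⊗[R] M) := inferInstance
      exact Function.injective_of_subsingleton _
    | succ i ih =>
      intro hi
      have hi' : i < rs.length := hi
      have h1 : rs.take (i + 1) = rs.take i ++ [rs[i]] := (List.take_concat_get' rs i hi').symm
      rw [h1, Ideal.ofList_append, Ideal.ofList_singleton]
      exact step M _ _ (h.regular_mod_prev i hi') (ih hi'.le)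
  have := key rs.length le_rfl
  rwa [List.take_length] at this

end Groth.Agent.Lib.Helper73.RegSeqTor
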