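import Mathlib
import Groth.Agent.Lib.Helper73.RegularRing
import Groth.Agent.Lib.Helper29.AdicLocal

universe u

set_option maxSynthPendingDepth 3

open IsLocalRing

namespace Groth.Agent.Lib.Helper73.RegularRing

/-- regularity ascends along a flat map at a prime `P = pB`. -/
theorem isRegularLocalRing_atPrime_of_flat_of_map_eq {A B : Type u} [CommRing A] [CommRing B]
    [IsNoetherianRing A] [IsNoetherianRing B] [Algebra A B] [Module.Flat A B]
    (p : Ideal A) [p.IsPrime] (P : Ideal B) [P.IsPrime] [P.LiesOver p]
    (hP : P = p.map (algebraMap A B)) [IsRegularLocalRing (Localization.AtPrime p)] :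
    IsRegularLocalRing (Localization.AtPrime P) := by
  let := Localization.AtPrime.algebraOfLiesOver p P
  have hloc : IsLocalHom (algebraMap (Localization.AtPrime p) (Localization.AtPrime P)) := by
    rw [RingHom.algebraMap_toAlgebra]
    exact Localization.isLocalHom_localRingHom p P (algebraMap A B) Ideal.LiesOver.over
  have hmax : maximalIdeal (Localization.AtPrime P) =
      (maximalIdeal (Localization.AtPrime p)).map
        (algebraMap (Localization.AtPrime p) (Localization.AtPrime P)) := by
    have h1 : P.map (algebraMap B (Localization.AtPrime P)) =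
        (p.map (algebraMap A B)).map (algebraMap B (Localization.AtPrime P)) :=
      congrArg (Ideal.map (algebraMap B (Localization.AtPrime P))) hP
    rw [← Localization.AtPrime.map_eq_maximalIdeal, ← Localization.AtPrime.map_eq_maximalIdeal,
      Ideal.map_map, h1, Ideal.map_map,
      ← IsScalarTower.algebraMap_eq, ← IsScalarTower.algebraMap_eq]
  exact (Groth.Agent.Lib.Helper29.isRegularLocalRing_iff_of_flat_of_map_maximalIdeal_eq
    (Localization.AtPrime p) (Localization.AtPrime P) hmax).mp inferInstance

/-- adic completion of a regular ring is regular -/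
theorem isRegularRing_adicCompletion (A : Type u) [CommRing A] [IsRegularRing A] (J : Ideal A) :
    IsRegularRing (AdicCompletion J A) := by
  have hN : IsNoetherianRing (AdicCompletion J A) := Groth.Agent.S0543.result A J
  apply isRegularRing_of_maximal
  intro M hM
  have fg := Ideal.fg_of_isNoetherianRing J
  have hcompl := AdicCompletion.isAdicComplete_self J fg
  have hJM : J.map (algebraMap A (AdicCompletion J A)) ≤ M := by
    refine le_trans hcompl.le_jacobson_bot ?_
    rw [Ideal.jacobson]
    exact sInf_le ⟨bot_le, hM⟩
  have hker := AdicCompletion.ker_evalOneₐ_eq_map J fg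
  have hsurj := AdicCompletion.evalOneₐ_surjective J
  have h3 : RingHom.ker (AdicCompletion.evalOneₐ J) ≤ M := by
    intro x hx
    apply hJM
    rw [← hker]
    exact hx
  have hMbar : (M.map (AdicCompletion.evalOneₐ J)).IsMaximal :=
    Ideal.IsMaximal.map_of_surjective_of_ker_le hsurj h3
  have hm : ((M.map (AdicCompletion.evalOneₐ J)).comap (Ideal.Quotient.mk J)).IsMaximal :=
    Ideal.comap_isMaximal_of_surjective _ Ideal.Quotient.mk_surjective
  have hJm : J ≤ (M.map (AdicCompletion.evalOneₐ J)).comap (Ideal.Quotient.mk J) := by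
    intro a ha
    rw [Ideal.mem_comap, Ideal.Quotient.eq_zero_iff_mem.mpr ha]
    exact Ideal.zero_mem _
  have hmax' := AdicCompletion.isMaximal_map_of_le J _ hJm fg
  have hle : ((M.map (AdicCompletion.evalOneₐ J)).comap (Ideal.Quotient.mk J)).map
      (algebraMap A (AdicCompletion J A)) ≤ M := by
    rw [Ideal.map_le_iff_le_comap]
    intro a ha
    rw [Ideal.mem_comap] at ha ⊢
    have h1 : AdicCompletion.evalOneₐ J (algebraMap A (AdicCompletion J A) a) ∈
        M.map (AdicCompletion.evalOneₐ J) := by
      simpa using ha
    have h2 := Ideal.mem_comap.mpr h1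
    rw [Ideal.comap_map_of_surjective' _ hsurj] at h2
    exact (sup_eq_left.mpr h3) ▸ h2
  have hMeq : M = ((M.map (AdicCompletion.evalOneₐ J)).comap (Ideal.Quotient.mk J)).map
      (algebraMap A (AdicCompletion J A)) := (hmax'.eq_of_le hM.ne_top hle).symm
  have hlies : M.LiesOver ((M.map (AdicCompletion.evalOneₐ J)).comap (Ideal.Quotient.mk J)) :=
    ⟨hm.eq_of_le (Ideal.comap_ne_top _ hM.ne_top) (Ideal.map_le_iff_le_comap.mp hle)⟩
  exact isRegularLocalRing_atPrime_of_flat_of_map_eq _ M hMeq

end Groth.Agent.Lib.Helper73.RegularRing
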