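import Groth.Agent.Lib.Helper73.RedFibre2
import Groth.Agent.Lib.Helper44.AdicQuot
import Groth.Agent.Lib.Helper44.RigPoint
import Groth.Agent.Lib.Helper75.CompletedModules
import Groth.Agent.Lib.Helper22.FFDomains
import Groth.Agent.S17334

/-!
# Reducedness along flat maps, part 3 (helper73): complete local base

* `isRadical_map_of_complete`: `A` complete Noetherian local, `B` Noetherian flat with `𝔪 B ⊆ rad B`
  and `k' ⊗[A] B` reduced for all fields `k'` finite over `A`; then `J B` is radical for every radical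
  ideal `J` of `A` (Noetherian induction, using `isReduced_of_domain`).
* `isLocalRing_of_finite_domain`, `isAdicComplete_of_finite_domain`: a domain finite over a complete
  Noetherian local ring is a complete local ring.
* `isReduced_tensor_of_finite_domain`, `isGeometricallyReduced_fiber_of_complete`: under the same
  hypotheses all fibres of `A → B` are geometrically reduced.
-/
set_option autoImplicit false
set_option linter.style.haveILetI false
set_option linter.unusedSectionVars false
set_option maxSynthPendingDepth 3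
universe u
namespace Groth.Agent.Lib.Helper73.RedFibre
open IsLocalRing nonZeroDivisors TensorProduct Polynomial

section Quot
variable (A : Type u) [CommRing A] [IsLocalRing A]

theorem isLocalRing_quotient (J : Ideal A) (hJ : J ≠ ⊤) : IsLocalRing (A ⧸ J) := by
  haveI : Nontrivial (A ⧸ J) := Ideal.Quotient.nontrivial_iff.mpr hJ
  exact IsLocalRing.of_surjective' (Ideal.Quotient.mk J) Ideal.Quotient.mk_surjective

theorem maximalIdeal_quotient (J : Ideal A) [IsLocalRing (A ⧸ J)] :
    maximalIdeal (A ⧸ J) = (maximalIdeal A).map (Ideal.Quotient.mk J) := by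
  have hJ : J ≠ ⊤ := Ideal.Quotient.nontrivial_iff.mp inferInstance
  symm
  apply IsLocalRing.eq_maximalIdeal
  exact Ideal.IsMaximal.map_of_surjective_of_ker_le Ideal.Quotient.mk_surjective
    (by rw [Ideal.mk_ker]; exact le_maximalIdeal hJ)

theorem isAdicComplete_quotient [IsNoetherianRing A] [IsAdicComplete (maximalIdeal A) A]
    (J : Ideal A) [IsLocalRing (A ⧸ J)] : IsAdicComplete (maximalIdeal (A ⧸ J)) (A ⧸ J) := by
  rw [maximalIdeal_quotient]
  exact Groth.Agent.Lib.Helper44.isAdicComplete_quotient_ring (maximalIdeal A) J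

end Quot

theorem isRadical_map_of_surjective {R S : Type*} [CommRing R] [CommRing S] {f : R →+* S}
    (hf : Function.Surjective f) {I : Ideal R} (hker : RingHom.ker f ≤ I) (hI : I.IsRadical) :
    (I.map f).IsRadical := by
  rintro y ⟨n, hn⟩
  obtain ⟨x, rfl⟩ := hf y
  rw [← map_pow, Ideal.mem_map_iff_of_surjective f hf] at hn
  obtain ⟨z, hz, hzx⟩ := hn
  have h1 : x ^ n - z ∈ I := hker (by rw [RingHom.mem_ker, map_sub, hzx, sub_self])
  have h2 : x ^ n ∈ I := by
    have := I.add_mem h1 hz
    simpa using this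
  exact Ideal.mem_map_of_mem f (hI ⟨n, h2⟩)

section Main
variable (A : Type u) [CommRing A] [IsNoetherianRing A] [IsLocalRing A]
  [IsAdicComplete (maximalIdeal A) A]
  (B : Type u) [CommRing B] [IsNoetherianRing B] [Algebra A B] [Module.Flat A B]

theorem isRadical_map_of_complete
    (hrad : (maximalIdeal A).map (algebraMap A B) ≤ Ideal.jacobson ⊥)
    (H : ∀ (k' : Type u) [Field k'] [Algebra A k'] [Module.Finite A k'], IsReduced (k' ⊗[A] B))
    (J : Ideal A) : J.IsRadical → (J.map (algebraMap A B)).IsRadical := by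
  suffices key : ∀ J : Ideal A, (∀ J' : Ideal A, J < J' → J'.IsRadical →
      (J'.map (algebraMap A B)).IsRadical) → J.IsRadical → (J.map (algebraMap A B)).IsRadical from
    IsNoetherian.induction (P := fun J : Ideal A => J.IsRadical →
      (J.map (algebraMap A B)).IsRadical) (fun J IH => key J IH) J
  intro J IH hJ
  by_cases hJtop : J = ⊤
  · rw [hJtop, Ideal.map_top]
    exact Ideal.radical_top B ▸ Ideal.radical_isRadical _
  by_cases hJp : J.IsPrime
  · -- the prime case
    haveI := hJp
    haveI : IsLocalRing (A ⧸ J) := isLocalRing_quotient A J hJtop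
    haveI : IsAdicComplete (maximalIdeal (A ⧸ J)) (A ⧸ J) := isAdicComplete_quotient A J
    haveI : Module.Flat (A ⧸ J) (B ⧸ J.map (algebraMap A B)) :=
      Module.Flat.of_linearEquiv
        (Algebra.TensorProduct.quotIdealMapEquivQuotTensor B J).toLinearEquiv
    rw [Ideal.isRadical_iff_quotient_reduced]
    have hcomm : (algebraMap (A ⧸ J) (B ⧸ J.map (algebraMap A B))).comp (Ideal.Quotient.mk J) =
        (Ideal.Quotient.mk (J.map (algebraMap A B))).comp (algebraMap A B) := rfl
    refine isReduced_of_domain (A ⧸ J) (B ⧸ J.map (algebraMap A B)) ?_ ?_ ?_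
    · -- radical
      rw [maximalIdeal_quotient, Ideal.map_map, hcomm, ← Ideal.map_map, Ideal.map_le_iff_le_comap]
      intro y hy
      have hy' := hrad hy
      rw [Ideal.mem_comap, Ideal.jacobson, Ideal.mem_sInf]
      rintro M ⟨-, hM⟩
      haveI := hM
      have hM' : (M.comap (Ideal.Quotient.mk (J.map (algebraMap A B)))).IsMaximal :=
        Ideal.comap_isMaximal_of_surjective _ Ideal.Quotient.mk_surjective
      rw [Ideal.jacobson, Ideal.mem_sInf] at hy'
      exact hy' ⟨bot_le, hM'⟩
    · -- fields
      intro k' _ _ _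
      letI : Algebra A k' := ((algebraMap (A ⧸ J) k').comp (Ideal.Quotient.mk J)).toAlgebra
      haveI : IsScalarTower A (A ⧸ J) k' := IsScalarTower.of_algebraMap_eq fun _ => rfl
      haveI : Module.Finite A k' := Module.Finite.trans (A ⧸ J) k'
      have h := H k'
      let e1 : k' ⊗[A ⧸ J] (B ⧸ J.map (algebraMap A B)) ≃ₐ[k'] k' ⊗[A ⧸ J] ((A ⧸ J) ⊗[A] B) :=
        Algebra.TensorProduct.congr AlgEquiv.refl
          (Algebra.TensorProduct.quotIdealMapEquivQuotTensor B J)
      let e2 := Algebra.TensorProduct.cancelBaseChange A (A ⧸ J) k' k' B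
      exact isReduced_of_injective (e1.trans e2).toRingEquiv (e1.trans e2).injective
    · -- induction hypothesis
      intro Jb hJb0 hJbr
      have hsurj : Function.Surjective (Ideal.Quotient.mk J) := Ideal.Quotient.mk_surjective
      have hle : J ≤ Jb.comap (Ideal.Quotient.mk J) := by
        intro x hx
        rw [Ideal.mem_comap, Ideal.Quotient.eq_zero_iff_mem.mpr hx]
        exact Jb.zero_mem
      have hlt : J < Jb.comap (Ideal.Quotient.mk J) := by
        refine lt_of_le_of_ne hle fun h => hJb0 ?_
        rw [← Ideal.map_comap_of_surjective _ hsurj Jb, ← h, Ideal.map_quotient_self]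
      have h1 := IH _ hlt (hJbr.comap (f := Ideal.Quotient.mk J))
      rw [← Ideal.map_comap_of_surjective _ hsurj Jb, Ideal.map_map, hcomm, ← Ideal.map_map]
      refine isRadical_map_of_surjective Ideal.Quotient.mk_surjective ?_ h1
      rw [Ideal.mk_ker]
      exact Ideal.map_mono hle
  · -- the non-prime case
    obtain h | ⟨a, ha, b, hb, hab⟩ := (Ideal.not_isPrime_iff.mp hJp)
    · exact absurd h hJtop
    have hJ1 : J < (J ⊔ Ideal.span {a}).radical := by
      refine lt_of_le_of_ne (le_sup_left.trans Ideal.le_radical) fun h => ha ?_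
      rw [h]
      exact Ideal.le_radical (Ideal.mem_sup_right (Ideal.mem_span_singleton_self a))
    have hJ2 : J < (J ⊔ Ideal.span {b}).radical := by
      refine lt_of_le_of_ne (le_sup_left.trans Ideal.le_radical) fun h => hb ?_
      rw [h]
      exact Ideal.le_radical (Ideal.mem_sup_right (Ideal.mem_span_singleton_self b))
    have hinf : J = (J ⊔ Ideal.span {a}).radical ⊓ (J ⊔ Ideal.span {b}).radical := by
      apply le_antisymm (le_inf hJ1.le hJ2.le)
      rw [← Ideal.radical_mul]
      have hmul : (J ⊔ Ideal.span {a}) * (J ⊔ Ideal.span {b}) ≤ J := by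
        rw [Ideal.mul_le]
        intro r hr s hs
        obtain ⟨j1, hj1, a', ha', rfl⟩ := Submodule.mem_sup.mp hr
        obtain ⟨j2, hj2, b', hb', rfl⟩ := Submodule.mem_sup.mp hs
        obtain ⟨x, rfl⟩ := Ideal.mem_span_singleton'.mp ha'
        obtain ⟨y, rfl⟩ := Ideal.mem_span_singleton'.mp hb'
        have : (j1 + x * a) * (j2 + y * b) = j1 * (j2 + y * b) + x * a * j2 + (x * y) * (a * b) := by
          ring
        rw [this]
        exact J.add_mem (J.add_mem (J.mul_mem_right _ hj1) (J.mul_mem_left _ hj2))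
          (J.mul_mem_left _ hab)
      calc ((J ⊔ Ideal.span {a}) * (J ⊔ Ideal.span {b})).radical ≤ J.radical :=
            Ideal.radical_mono hmul
        _ = J := hJ.radical
    have h1 := IH _ hJ1 (Ideal.radical_isRadical _)
    have h2 := IH _ hJ2 (Ideal.radical_isRadical _)
    rw [hinf, map_inf_of_flat]
    exact h1.inf h2

end Main

section FiniteDomain
variable (A : Type u) [CommRing A] [IsNoetherianRing A] [IsLocalRing A]
  [IsAdicComplete (maximalIdeal A) A]
  (B' : Type u) [CommRing B'] [Algebra A B'] [Module.Finite A B']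

theorem isAdicComplete_map_of_finite :
    IsAdicComplete ((maximalIdeal A).map (algebraMap A B')) B' := by
  have h := Groth.Agent.Lib.Helper75.CompletedModules.isAdicComplete_of_finite (A := A) B'
  exact (IsAdicComplete.map_algebraMap_iff _ _).mpr h

theorem isArtinianRing_quotient_map :
    IsArtinianRing (B' ⧸ (maximalIdeal A).map (algebraMap A B')) := by
  letI : Field (A ⧸ maximalIdeal A) := Ideal.Quotient.field (maximalIdeal A)
  haveI : Module.Finite (A ⧸ maximalIdeal A) (B' ⧸ (maximalIdeal A).map (algebraMap A B')) :=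
    Module.Finite.equiv
      (Algebra.TensorProduct.quotIdealMapEquivQuotTensor B' (maximalIdeal A)).symm.toLinearEquiv
  exact IsArtinianRing.of_finite (A ⧸ maximalIdeal A) _

variable [IsDomain B']

theorem map_maximalIdeal_ne_top : (maximalIdeal A).map (algebraMap A B') ≠ ⊤ := by
  have hker : RingHom.ker (algebraMap A B') ≤ maximalIdeal A :=
    le_maximalIdeal (RingHom.ker_ne_top _)
  obtain ⟨Q, hQ, hQc⟩ := Ideal.exists_ideal_over_maximal_of_isIntegral (S := B')
    (maximalIdeal A) hker
  intro h
  have : (maximalIdeal A).map (algebraMap A B') ≤ Q := by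
    rw [Ideal.map_le_iff_le_comap, hQc]
  rw [h, top_le_iff] at this
  exact hQ.ne_top this

include A in
theorem isLocalRing_of_finite_domain : IsLocalRing B' := by
  haveI hc := isAdicComplete_map_of_finite A B'
  haveI := isArtinianRing_quotient_map A B'
  haveI : Nontrivial (B' ⧸ (maximalIdeal A).map (algebraMap A B')) :=
    Ideal.Quotient.nontrivial_iff.mpr (map_maximalIdeal_ne_top A B')
  have hjac : (maximalIdeal A).map (algebraMap A B') ≤ Ideal.jacobson ⊥ :=
    IsAdicComplete.le_jacobson_bot _
  haveI := isLocalHom_of_le_jacobson_bot _ hjac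
  -- idempotents of the quotient are trivial
  have hidem : ∀ e : B' ⧸ (maximalIdeal A).map (algebraMap A B'), IsIdempotentElem e →
      e = 0 ∨ e = 1 := by
    intro e he
    obtain ⟨a₀, rfl⟩ := Ideal.Quotient.mk_surjective e
    have hmon : (X ^ 2 - X : B'[X]).Monic := by
      apply Polynomial.monic_X_pow_sub
      rw [degree_X]; norm_num
    have h1 : (X ^ 2 - X : B'[X]).eval a₀ ∈ (maximalIdeal A).map (algebraMap A B') := by
      rw [eval_sub, eval_pow, eval_X, ← Ideal.Quotient.eq_zero_iff_mem, map_sub, map_pow, sub_eq_zero,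
        pow_two]
      exact he
    have h2 : IsUnit (Ideal.Quotient.mk ((maximalIdeal A).map (algebraMap A B'))
        ((X ^ 2 - X : B'[X]).derivative.eval a₀)) := by
      have : (X ^ 2 - X : B'[X]).derivative.eval a₀ = 2 * a₀ - 1 := by
        rw [derivative_sub, derivative_X_pow, derivative_X, eval_sub, eval_mul, eval_pow, eval_X,
          eval_one]
        simp
      rw [this]
      apply IsUnit.of_mul_eq_one (Ideal.Quotient.mk _ (2 * a₀ - 1))
      rw [← map_mul, ← map_one (Ideal.Quotient.mk ((maximalIdeal A).map (algebraMap A B'))),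
        Ideal.Quotient.eq]
      have : (2 * a₀ - 1) * (2 * a₀ - 1) - 1 = 4 * (a₀ ^ 2 - a₀) := by ring
      rw [this]
      apply Ideal.mul_mem_left
      rw [← Ideal.Quotient.eq_zero_iff_mem, map_sub, map_pow, sub_eq_zero, pow_two]
      exact he
    obtain ⟨a, ha, haa⟩ := HenselianRing.is_henselian (I := (maximalIdeal A).map (algebraMap A B'))
      (X ^ 2 - X : B'[X]) hmon a₀ h1 h2
    have ha' : a * (a - 1) = 0 := by
      have : (X ^ 2 - X : B'[X]).eval a = 0 := ha
      rw [eval_sub, eval_pow, eval_X] at this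
      linear_combination this
    have hmk : Ideal.Quotient.mk ((maximalIdeal A).map (algebraMap A B')) a₀ =
        Ideal.Quotient.mk _ a := by
      rw [eq_comm, Ideal.Quotient.eq]
      exact haa
    rw [hmk]
    rcases mul_eq_zero.mp ha' with h | h
    · left; rw [h, map_zero]
    · right
      rw [sub_eq_zero.mp h, map_one]
  haveI : IsLocalRing (B' ⧸ (maximalIdeal A).map (algebraMap A B')) := by
    apply IsLocalRing.of_isUnit_or_isUnit_one_sub_self
    intro a
    rcases Groth.Agent.S17334.isUnit_or_isNilpotent_of_idem_trivial hidem a with hu | hn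
    · exact Or.inl hu
    · exact Or.inr hn.isUnit_one_sub
  haveI : Nontrivial B' := inferInstance
  apply IsLocalRing.of_isUnit_or_isUnit_one_sub_self
  intro a
  rcases IsLocalRing.isUnit_or_isUnit_one_sub_self
    (Ideal.Quotient.mk ((maximalIdeal A).map (algebraMap A B')) a) with h | h
  · exact Or.inl (isUnit_of_map_unit _ _ h)
  · right
    rw [← map_one (Ideal.Quotient.mk ((maximalIdeal A).map (algebraMap A B'))), ← map_sub] at h
    exact isUnit_of_map_unit _ _ h

theorem exists_pow_maximalIdeal_le [IsLocalRing B'] :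
    (maximalIdeal A).map (algebraMap A B') ≤ maximalIdeal B' ∧
      ∃ r : ℕ, maximalIdeal B' ^ r ≤ (maximalIdeal A).map (algebraMap A B') := by
  have hne := map_maximalIdeal_ne_top A B'
  refine ⟨le_maximalIdeal hne, ?_⟩
  haveI := isArtinianRing_quotient_map A B'
  haveI : Nontrivial (B' ⧸ (maximalIdeal A).map (algebraMap A B')) :=
    Ideal.Quotient.nontrivial_iff.mpr hne
  haveI : IsLocalRing (B' ⧸ (maximalIdeal A).map (algebraMap A B')) :=
    IsLocalRing.of_surjective' (Ideal.Quotient.mk _) Ideal.Quotient.mk_surjective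
  obtain ⟨r, hr⟩ := (isArtinianRing_iff_isNilpotent_maximalIdeal _).mp
    (isArtinianRing_quotient_map A B')
  refine ⟨r, ?_⟩
  have h1 : (maximalIdeal B').map (Ideal.Quotient.mk ((maximalIdeal A).map (algebraMap A B'))) ≤
      maximalIdeal _ := by
    rw [Ideal.map_le_iff_le_comap]
    intro x hx
    rw [Ideal.mem_comap, IsLocalRing.mem_maximalIdeal, mem_nonunits_iff]
    intro hu
    haveI := isLocalHom_of_le_jacobson_bot _
      ((le_maximalIdeal hne).trans (IsLocalRing.maximalIdeal_le_jacobson ⊥))
    exact hx (isUnit_of_map_unit _ _ hu)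
  have h2 : (maximalIdeal B' ^ r).map
      (Ideal.Quotient.mk ((maximalIdeal A).map (algebraMap A B'))) = ⊥ := by
    rw [Ideal.map_pow, eq_bot_iff, ← Ideal.zero_eq_bot, ← hr]
    exact Ideal.pow_right_mono h1 r
  intro x hx
  have := Ideal.mem_map_of_mem (Ideal.Quotient.mk ((maximalIdeal A).map (algebraMap A B'))) hx
  rw [h2, Ideal.mem_bot, Ideal.Quotient.eq_zero_iff_mem] at this
  exact this

include A in
theorem isAdicComplete_of_finite_domain [IsLocalRing B'] :
    IsAdicComplete (maximalIdeal B') B' := by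
  haveI := isAdicComplete_map_of_finite A B'
  obtain ⟨h1, r, h2⟩ := exists_pow_maximalIdeal_le A B'
  exact Groth.Agent.Lib.Helper44.isAdicComplete_of_le_of_pow_le _ _ h1 r h2

end FiniteDomain

theorem algebraMap_mem_of_isMaximal (R D S : Type u) [CommRing R] [CommRing D] [CommRing S]
    [Algebra R D] [Algebra R S] [Module.Finite R D] (M : Ideal (D ⊗[R] S)) [hM : M.IsMaximal]
    (t : R) (ht : algebraMap R S t ∈ Ideal.jacobson (⊥ : Ideal S)) :
    algebraMap R (D ⊗[R] S) t ∈ M := by
  let c := (Algebra.TensorProduct.comm R S D).toRingEquiv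
  have hM' : (M.comap (c : S ⊗[R] D →+* D ⊗[R] S)).IsMaximal := Ideal.comap_isMaximal_of_equiv c
  haveI := hM'
  have hM'' : ((M.comap (c : S ⊗[R] D →+* D ⊗[R] S)).comap
      (algebraMap S (S ⊗[R] D))).IsMaximal :=
    Ideal.isMaximal_comap_of_isIntegral_of_isMaximal (R := S) _
  have h3 : algebraMap R S t ∈ ((M.comap (c : S ⊗[R] D →+* D ⊗[R] S)).comap
      (algebraMap S (S ⊗[R] D))) := by
    rw [Ideal.jacobson, Ideal.mem_sInf] at ht
    exact ht ⟨bot_le, hM''⟩
  rw [Ideal.mem_comap, Ideal.mem_comap] at h3
  convert h3 using 1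
  rw [← IsScalarTower.algebraMap_apply]
  simp [c]
  rw [Algebra.algebraMap_eq_smul_one, Algebra.algebraMap_eq_smul_one (R := R) (A := S),
    TensorProduct.smul_tmul]

section Geom
variable (A : Type u) [CommRing A] [IsNoetherianRing A] [IsLocalRing A]
  [IsAdicComplete (maximalIdeal A) A]
  (B : Type u) [CommRing B] [IsNoetherianRing B] [Algebra A B] [Module.Flat A B]

theorem isReduced_tensor_of_finite_domain
    (hrad : (maximalIdeal A).map (algebraMap A B) ≤ Ideal.jacobson ⊥)
    (H : ∀ (k' : Type u) [Field k'] [Algebra A k'] [Module.Finite A k'], IsReduced (k' ⊗[A] B))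
    (B' : Type u) [CommRing B'] [IsDomain B'] [Algebra A B'] [Module.Finite A B'] :
    IsReduced (B' ⊗[A] B) := by
  haveI := isLocalRing_of_finite_domain A B'
  haveI := isAdicComplete_of_finite_domain A B'
  haveI : IsNoetherianRing B' := IsNoetherianRing.of_finite A B'
  haveI : IsNoetherianRing (B ⊗[A] B') := IsNoetherianRing.of_finite B _
  haveI : IsNoetherianRing (B' ⊗[A] B) :=
    isNoetherianRing_of_ringEquiv (B ⊗[A] B') (Algebra.TensorProduct.comm A B B').toRingEquiv
  have hrad' : (maximalIdeal B').map (algebraMap B' (B' ⊗[A] B)) ≤ Ideal.jacobson ⊥ := by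
    obtain ⟨-, r, hr⟩ := exists_pow_maximalIdeal_le A B'
    rw [Ideal.map_le_iff_le_comap]
    intro x hx
    rw [Ideal.mem_comap, Ideal.jacobson, Ideal.mem_sInf]
    rintro M ⟨-, hM⟩
    haveI := hM
    have h1 : x ^ r ∈ (maximalIdeal A).map (algebraMap A B') := hr (Ideal.pow_mem_pow hx r)
    have h2 : (maximalIdeal A).map (algebraMap A B') ≤ M.comap (algebraMap B' (B' ⊗[A] B)) := by
      rw [Ideal.map_le_iff_le_comap]
      intro a ha
      rw [Ideal.mem_comap, Ideal.mem_comap, ← IsScalarTower.algebraMap_apply]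
      exact algebraMap_mem_of_isMaximal A B' B M a (hrad (Ideal.mem_map_of_mem _ ha))
    have h3 : x ^ r ∈ M.comap (algebraMap B' (B' ⊗[A] B)) := h2 h1
    exact (Ideal.IsPrime.mem_of_pow_mem (Ideal.comap_isPrime _ _) r h3)
  have H' : ∀ (k' : Type u) [Field k'] [Algebra B' k'] [Module.Finite B' k'],
      IsReduced (k' ⊗[B'] (B' ⊗[A] B)) := by
    intro k' _ _ _
    letI : Algebra A k' := ((algebraMap B' k').comp (algebraMap A B')).toAlgebra
    haveI : IsScalarTower A B' k' := IsScalarTower.of_algebraMap_eq fun _ => rfl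
    haveI : Module.Finite A k' := Module.Finite.trans B' k'
    have h := H k'
    let e2 := Algebra.TensorProduct.cancelBaseChange A B' k' k' B
    exact isReduced_of_injective e2.toRingEquiv e2.injective
  have h := isRadical_map_of_complete B' (B' ⊗[A] B) hrad' H' ⊥
    (Ideal.radical_eq_iff.mp (Ideal.radical_bot_of_isReduced))
  rw [Ideal.map_bot] at h
  refine ⟨fun x hx => ?_⟩
  obtain ⟨n, hn⟩ := hx
  have := h ⟨n, by rw [hn]; exact Ideal.zero_mem _⟩
  simpa using this

theorem isGeometricallyReduced_fiber_of_complete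
    (hrad : (maximalIdeal A).map (algebraMap A B) ≤ Ideal.jacobson ⊥)
    (H : ∀ (k' : Type u) [Field k'] [Algebra A k'] [Module.Finite A k'], IsReduced (k' ⊗[A] B))
    (p : Ideal A) [p.IsPrime] : Algebra.IsGeometricallyReduced p.ResidueField (p.Fiber B) := by
  apply Groth.Agent.Lib.Helper22.FFDomains.isGeometricallyReduced_of_forall_finite
  intro K _ _ _
  refine Groth.Agent.Lib.Helper22.FFDomains.isReduced_tensor_fiber_of_forall B p K ?_
  intro B' _ _ _ _ q _ _
  haveI := isReduced_tensor_of_finite_domain A B hrad H B'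
  infer_instance

end Geom

end Groth.Agent.Lib.Helper73.RedFibre
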