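import Mathlib
import Groth.Agent.Lib.Helper29.SerreNormal
import Groth.Agent.Lib.Helper28.RegularCM
import Groth.Agent.S0564

universe u

set_option maxSynthPendingDepth 3

namespace Groth.Agent.Lib.Helper73.RegularNormal

open IsLocalRing

/-- depth of a regular local ring equals its dimension (as `ℕ∞`-valued height). -/
theorem depth_self_of_isRegularLocalRing (R : Type u) [CommRing R] [IsRegularLocalRing R] :
    ((LocCoh.depth R R : ℕ∞) : WithBot ℕ∞) = ringKrullDim R := by
  have hCM := Groth.Agent.Lib.Helper28.isCohenMacaulayModule_self_of_isRegularLocalRing R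
  unfold LocCoh.IsCohenMacaulayModule at hCM
  rw [Module.supportDim_self_eq_ringKrullDim] at hCM
  exact hCM.symm

/-- A Noetherian ring all of whose localizations at primes are regular local is normal. -/
theorem isNormalRing_of_forall_isRegularLocalRing (R : Type u) [CommRing R] [IsNoetherianRing R]
    (h : ∀ (p : Ideal R) [p.IsPrime], IsRegularLocalRing (Localization.AtPrime p)) :
    EGA4.IsNormalRing R := by
  apply Groth.Agent.Lib.Helper29.isNormalRing_of_hasRk_one_of_hasSk_two
  · intro p hp _
    exact h p
  · rw [Groth.Agent.Lib.Helper29.hasSk_self_iff]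
    intro p hp
    haveI := h p
    have h1 := depth_self_of_isRegularLocalRing (Localization.AtPrime p)
    rw [IsLocalization.AtPrime.ringKrullDim_eq_height p (Localization.AtPrime p)] at h1
    have h2 : LocCoh.depth (Localization.AtPrime p) (Localization.AtPrime p) = p.height :=
      WithBot.coe_injective h1
    rw [h2]
    exact min_le_right _ _

theorem isIntegrallyClosed_of_isNormalRing (R : Type u) [CommRing R] [IsDomain R]
    (h : EGA4.IsNormalRing R) : IsIntegrallyClosed R := by
  rw [isIntegrallyClosed_iff (FractionRing R)]
  intro x hx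
  have := Groth.Agent.Lib.Helper13.mem_range_of_isIntegral_of_isNormalRing
    (K := FractionRing R) (nonZeroDivisors R) le_rfl h x hx
  obtain ⟨y, hy⟩ := this
  exact ⟨y, hy⟩

/-- A regular local ring is an integrally closed domain. -/
theorem isIntegrallyClosed_of_isRegularLocalRing (R : Type u) [CommRing R] [IsRegularLocalRing R] :
    IsDomain R ∧ IsIntegrallyClosed R := by
  have hdom : IsDomain R := Groth.Agent.Lib.Helper85.isDomain_of_isRegularLocalRing R
  refine ⟨hdom, ?_⟩
  apply isIntegrallyClosed_of_isNormalRing
  apply isNormalRing_of_forall_isRegularLocalRing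
  intro p hp
  exact Groth.Agent.S0564.result R p

end Groth.Agent.Lib.Helper73.RegularNormal
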