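import Groth.Agent.Lib.Helper29.DepthCM

/-!
# Cohen–Macaulayness descends along cyclically pure local maps of the same dimension (helper73)
-/

set_option autoImplicit false
universe u

namespace Groth.Agent.Lib.Helper73.ProjCM

open IsLocalRing RingTheory.Sequence

section Pure

variable {R S : Type u} [CommRing R] [CommRing S] (φ : R →+* S)

/-- If every ideal of `R` is contracted from `S` and `S` is Noetherian, so is `R`. -/
theorem isNoetherianRing_of_pure [IsNoetherianRing S]
    (hpure : ∀ I : Ideal R, (I.map φ).comap φ = I) : IsNoetherianRing R := by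
  rw [isNoetherianRing_iff, isNoetherian_iff']
  have hmono : StrictMono (Ideal.map φ : Ideal R → Ideal S) := by
    intro I J hIJ
    refine lt_of_le_of_ne (Ideal.map_mono hIJ.le) fun h => hIJ.ne ?_
    rw [← hpure I, ← hpure J, h]
  exact hmono.wellFoundedGT

/-- Weakly regular sequences descend along cyclically pure maps. -/
theorem isWeaklyRegular_of_map (hpure : ∀ I : Ideal R, (I.map φ).comap φ = I) (xs : List R)
    (h : IsWeaklyRegular S (xs.map φ)) : IsWeaklyRegular R xs := by
  rw [isWeaklyRegular_iff] at h ⊢
  intro i hi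
  have hi' : i < (xs.map φ).length := by simpa using hi
  have h1 := h i hi'
  rw [isSMulRegular_quotient_iff_mem_of_smul_mem] at h1 ⊢
  intro r hr
  rw [smul_eq_mul, Ideal.mul_top] at hr ⊢
  have h2 := h1 (φ r)
  rw [smul_eq_mul, Ideal.mul_top, ← List.map_take, ← Ideal.map_ofList, List.getElem_map,
    smul_eq_mul, ← map_mul] at h2
  have h3 := h2 (Ideal.mem_map_of_mem φ hr)
  rw [← hpure (Ideal.ofList (List.take i xs))]
  exact h3

end Pure

section Main

variable {R S : Type u} [CommRing R] [CommRing S] [IsLocalRing R] [IsLocalRing S] (φ : R →+* S)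

/-- A cyclically pure map of local rings is local. -/
theorem map_maximalIdeal_le (hpure : ∀ I : Ideal R, (I.map φ).comap φ = I) :
    (maximalIdeal R).map φ ≤ maximalIdeal S := by
  by_contra hcon
  have htop : (maximalIdeal R).map φ = ⊤ := by
    by_contra hne
    exact hcon (IsLocalRing.le_maximalIdeal hne)
  have := hpure (maximalIdeal R)
  rw [htop, Ideal.comap_top] at this
  exact (maximalIdeal.isMaximal R).ne_top this.symm

/-- **Descent of Cohen–Macaulayness**: let `φ : R → S` be a map of local rings such that every
ideal of `R` is contracted from `S`, `𝔪_R S` is `𝔪_S`-primary and `dim R ≤ dim S`.  If `S` is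
Cohen–Macaulay, so is `R`. -/
theorem isCohenMacaulayLocalRing_of_pure [hS : LocCoh.IsCohenMacaulayLocalRing S]
    (hpure : ∀ I : Ideal R, (I.map φ).comap φ = I)
    (hrad : maximalIdeal S ≤ ((maximalIdeal R).map φ).radical)
    (hdim : ringKrullDim R ≤ ringKrullDim S) :
    LocCoh.IsCohenMacaulayLocalRing R := by
  classical
  have hNS : IsNoetherianRing S := hS.toIsNoetherian
  have hN : IsNoetherianRing R := isNoetherianRing_of_pure φ hpure
  have hloc := map_maximalIdeal_le φ hpure
  -- a system of parameters of `R`
  obtain ⟨s, hs, hcard⟩ :=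
    Ideal.exists_finset_card_eq_height_of_isNoetherianRing (maximalIdeal R)
  have hsle : Ideal.span (s : Set R) ≤ maximalIdeal R := hs.1.2
  have hradR : maximalIdeal R ≤ (Ideal.span (s : Set R)).radical := by
    rw [← Ideal.sInf_minimalPrimes]
    refine le_sInf fun q hq => ?_
    have hqle : q ≤ maximalIdeal R := IsLocalRing.le_maximalIdeal hq.1.1.ne_top
    exact hs.2 hq.1 hqle
  set xs : List R := s.toList with hxs
  have hofList : Ideal.ofList xs = Ideal.span (s : Set R) := by
    unfold Ideal.ofList
    congr 1
    ext x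
    simp [hxs]
  have hlen : xs.length = s.card := Finset.length_toList s
  have hxsmem : ∀ x ∈ xs, x ∈ maximalIdeal R := fun x hx =>
    hsle (Ideal.subset_span (by simpa [hxs] using hx))
  -- the image sequence
  set ys : List S := xs.map φ with hys
  have hysI : Ideal.ofList ys = (Ideal.span (s : Set R)).map φ := by
    rw [hys, ← Ideal.map_ofList, hofList]
  have hysle : Ideal.ofList ys ≤ maximalIdeal S := by
    rw [hysI]
    exact (Ideal.map_mono hsle).trans hloc
  have hysmem : ∀ y ∈ ys, y ∈ maximalIdeal S := fun y hy =>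
    hysle (Ideal.subset_span hy)
  have hradS : maximalIdeal S ≤ (Ideal.ofList ys).radical := by
    rw [hysI]
    calc maximalIdeal S ≤ ((maximalIdeal R).map φ).radical := hrad
      _ ≤ (((Ideal.span (s : Set R)).radical).map φ).radical :=
          Ideal.radical_mono (Ideal.map_mono hradR)
      _ ≤ (((Ideal.span (s : Set R)).map φ).radical).radical :=
          Ideal.radical_mono (Ideal.map_radical_le φ)
      _ = ((Ideal.span (s : Set R)).map φ).radical := Ideal.radical_idem _
  -- `dim S ≤ card s`
  have hminS : maximalIdeal S ∈ ((Ideal.span ((s.image φ : Finset S) : Set S))).minimalPrimes := by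
    have hspan : Ideal.span ((s.image φ : Finset S) : Set S) = Ideal.ofList ys := by
      rw [hysI, Ideal.map_span, Finset.coe_image]
    rw [hspan]
    refine ⟨⟨inferInstance, hysle⟩, fun q hq _ => ?_⟩
    exact hradS.trans ((Ideal.radical_mono hq.2).trans hq.1.radical.le)
  have hhtS : (maximalIdeal S).height ≤ s.card :=
    (Ideal.height_le_card_of_mem_minimalPrimes_span_finset hminS).trans
      (by exact_mod_cast Finset.card_image_le)
  have hdimR : ringKrullDim R = ((s.card : ℕ∞) : WithBot ℕ∞) := by
    rw [← IsLocalRing.maximalIdeal_height_eq_ringKrullDim, ← hcard]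
  have hdimS : ringKrullDim S = ((s.card : ℕ∞) : WithBot ℕ∞) := by
    refine le_antisymm ?_ (hdimR ▸ hdim)
    rw [← IsLocalRing.maximalIdeal_height_eq_ringKrullDim]
    exact_mod_cast hhtS
  -- `ys` is a regular sequence on `S`
  have hCMS : LocCoh.IsCohenMacaulayModule S S := hS.supportDim_eq_depth
  have hquot : Module.supportDim S (S ⧸ Ideal.ofList ys • (⊤ : Submodule S S)) = 0 := by
    rw [smul_eq_mul, Ideal.mul_top]
    unfold Module.supportDim
    rw [Module.support_eq_zeroLocus, Ideal.annihilator_quotient]
    have hne : Nonempty (PrimeSpectrum.zeroLocus ((Ideal.ofList ys : Ideal S) : Set S)) :=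
      ⟨⟨IsLocalRing.closedPoint S, hysle⟩⟩
    have hsub : Subsingleton (PrimeSpectrum.zeroLocus ((Ideal.ofList ys : Ideal S) : Set S)) := by
      have key : ∀ q ∈ PrimeSpectrum.zeroLocus ((Ideal.ofList ys : Ideal S) : Set S),
          q = IsLocalRing.closedPoint S := by
        intro q hq
        ext1
        refine le_antisymm (IsLocalRing.le_maximalIdeal q.2.ne_top) ?_
        exact hradS.trans ((Ideal.radical_mono hq).trans q.2.radical.le)
      exact ⟨fun a b => Subtype.ext ((key a a.2).trans (key b b.2).symm)⟩
    exact le_antisymm Order.krullDim_nonpos_of_subsingleton Order.krullDim_nonneg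
  have hregS : IsWeaklyRegular S ys := by
    rw [Groth.Agent.Lib.Helper29.isWeaklyRegular_iff_supportDim_of_isCohenMacaulayModule S S hCMS
      ys hysmem, hquot, Module.supportDim_self_eq_ringKrullDim, hdimS, hys, List.length_map, hlen,
      zero_add]
    rfl
  -- descend
  have hregR : IsWeaklyRegular R xs := isWeaklyRegular_of_map φ hpure xs hregS
  have hregR' : IsRegular R xs :=
    Groth.Agent.Lib.Helper29.isRegular_of_isWeaklyRegular_of_mem
      (Groth.Agent.Lib.Helper29.maximalIdeal_smul_top_ne_top R R) hregR hxsmem
  have hdepth : (s.card : ℕ∞) ≤ LocCoh.depth R R :=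
    (Groth.Agent.Lib.Helper29.le_depth_iff R R s.card).mpr ⟨xs, hlen, hxsmem, hregR'⟩
  refine { supportDim_eq_depth := ?_ }
  refine le_antisymm ?_ (Groth.Agent.Lib.Helper29.depth_le_supportDim R R)
  rw [Module.supportDim_self_eq_ringKrullDim, hdimR]
  exact_mod_cast hdepth

end Main

end Groth.Agent.Lib.Helper73.ProjCM
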