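import Mathlib
import Groth.Agent.S0605

universe u

set_option maxSynthPendingDepth 3

namespace Groth.Agent.Lib.Helper73.MCM

open IsLocalRing

/-- Over a regular local ring, a finite module of depth at least `dim R` is free. -/
theorem free_of_le_depth (R : Type u) [CommRing R] [IsRegularLocalRing R] (M : Type u)
    [AddCommGroup M] [Module R M] [Module.Finite R M]
    (h : ((maximalIdeal R).spanFinrank : ℕ∞) ≤ LocCoh.depth R M) : Module.Free R M := by
  by_cases hM : Subsingleton M
  · exact Module.Free.of_subsingleton R M
  rw [not_subsingleton_iff_nontrivial] at hM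
  obtain ⟨e, he, hsum⟩ := Groth.Agent.S0605.pd_add_depth R M
  have he0 : e = 0 := by
    have h1 : ((e + (maximalIdeal R).spanFinrank : ℕ) : ℕ∞) ≤ ((maximalIdeal R).spanFinrank : ℕ∞) := by
      calc ((e + (maximalIdeal R).spanFinrank : ℕ) : ℕ∞)
          = (e : ℕ∞) + ((maximalIdeal R).spanFinrank : ℕ∞) := by push_cast; rfl
        _ ≤ (e : ℕ∞) + LocCoh.depth R M := by gcongr
        _ = ((maximalIdeal R).spanFinrank : ℕ∞) := hsum.symm
    have := ENat.coe_le_coe.mp h1
    omega
  subst he0
  have hproj : CategoryTheory.Projective (ModuleCat.of R M) := by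
    rw [CategoryTheory.projective_iff_hasProjectiveDimensionLT_one]
    have : CategoryTheory.HasProjectiveDimensionLE (ModuleCat.of R M) 0 :=
      (CategoryTheory.projectiveDimension_le_iff _ 0).mp (le_of_eq he)
    exact this
  rw [← IsProjective.iff_projective] at hproj
  exact Module.free_of_flat_of_isLocalRing

end Groth.Agent.Lib.Helper73.MCM
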