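import Groth.Agent.Lib.Helper73.CMFibre4
import Groth.Agent.Lib.Helper73.CplMap

/-!
# EGA IV 7.5.x for the property "Cohen–Macaulay" (helper73)

`isCohenMacaulayRing_fiber_of_closedFibre`: a flat local homomorphism `A → B` of Noetherian local
rings with finite residue field extension, such that `A` has Cohen–Macaulay formal fibres and the
closed fibre of `A → B̂` is Cohen–Macaulay, has Cohen–Macaulay fibres.
-/
set_option autoImplicit false
set_option maxSynthPendingDepth 3
universe u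
namespace Groth.Agent.Lib.Helper73.CMFibre
open IsLocalRing RingTheory.Sequence TensorProduct

section Closed

variable (A S : Type u) [CommRing A] [IsLocalRing A] [CommRing S] [Algebra A S]

/-- The closed fibre `κ(𝔪) ⊗ S` is `S / 𝔪 S`. -/
noncomputable def closedFibreEquiv :
    (maximalIdeal A).Fiber S ≃+* S ⧸ (maximalIdeal A).map (algebraMap A S) :=
  let e1 : (A ⧸ maximalIdeal A) ≃ₐ[A] (maximalIdeal A).ResidueField :=
    AlgEquiv.ofBijective (IsScalarTower.toAlgHom A (A ⧸ maximalIdeal A) (maximalIdeal A).ResidueField)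
      (maximalIdeal A).bijective_algebraMap_quotient_residueField
  let e2 : (maximalIdeal A).ResidueField ⊗[A] S ≃ₐ[A] (A ⧸ maximalIdeal A) ⊗[A] S :=
    Algebra.TensorProduct.congr e1.symm AlgEquiv.refl
  e2.toRingEquiv.trans
    (Algebra.TensorProduct.quotIdealMapEquivQuotTensor S (maximalIdeal A)).symm.toRingEquiv

end Closed

end Groth.Agent.Lib.Helper73.CMFibre

namespace Groth.Agent.Lib.Helper73.CMFibre
open IsLocalRing RingTheory.Sequence TensorProduct

section Reduction

variable (A B : Type u) [CommRing A] [CommRing B] [IsNoetherianRing A] [IsNoetherianRing B]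
  [IsLocalRing A] [IsLocalRing B] [Algebra A B] [IsLocalHom (algebraMap A B)]

/-- The residue field of the completion of `B` is a finite `A`-module when the residue field
extension is finite. -/
theorem finite_residue_cpl [Module.Finite (ResidueField A) (ResidueField B)] :
    Module.Finite A (EGA4.Cpl B ⧸ maximalIdeal (EGA4.Cpl B)) := by
  have h0 : Module.Finite A (ResidueField B) := Module.Finite.trans (ResidueField A) _
  have h1 : Module.Finite A (B ⧸ maximalIdeal B) := h0
  let f : (B ⧸ maximalIdeal B) →ₐ[A] (EGA4.Cpl B ⧸ maximalIdeal (EGA4.Cpl B)) :=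
    Ideal.quotientMapₐ (maximalIdeal (EGA4.Cpl B)) (IsScalarTower.toAlgHom A B (EGA4.Cpl B))
      (by
        intro b hb
        rw [Ideal.mem_comap]
        exact map_nonunit (algebraMap B (EGA4.Cpl B)) b hb)
  have hf : Function.Surjective f := by
    intro y
    obtain ⟨x, hx⟩ := (AdicCompletion.residueField_map_bijective B).2 y
    obtain ⟨b, rfl⟩ := IsLocalRing.residue_surjective x
    exact ⟨Ideal.Quotient.mk _ b, hx⟩
  exact Module.Finite.of_surjective f.toLinearMap hf

attribute [local instance] Groth.Agent.Lib.Helper73.CplMap.cplAlgebra in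
/-- **EGA IV 7.5.x for Cohen–Macaulay**: a flat local homomorphism `A → B` of Noetherian local rings
with finite residue field extension, such that `A` has Cohen–Macaulay formal fibres and the closed
fibre of `A → B̂` is Cohen–Macaulay, has Cohen–Macaulay fibres. -/
theorem isCohenMacaulayRing_fiber_of_closedFibre [Module.Flat A B]
    [Module.Finite (ResidueField A) (ResidueField B)]
    (hA : EGA4.HasCMFormalFibres A)
    (hcl : LocCoh.IsCohenMacaulayRing ((maximalIdeal A).Fiber (EGA4.Cpl B)))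
    (p : Ideal A) [p.IsPrime] : LocCoh.IsCohenMacaulayRing (p.Fiber B) := by
  classical
  have hNA : IsNoetherianRing (EGA4.Cpl A) := Groth.Agent.Lib.Helper73.CplMap.isNoetherianRing_cpl A
  have hNB : IsNoetherianRing (EGA4.Cpl B) := Groth.Agent.Lib.Helper73.CplMap.isNoetherianRing_cpl B
  have hfl := Groth.Agent.Lib.Helper73.CplMap.flat_cpl A B
  have hloc : IsLocalHom (algebraMap (EGA4.Cpl A) (EGA4.Cpl B)) :=
    Groth.Agent.Lib.Helper73.CplMap.isLocalHom_cplMap A B
  have hres : Module.Finite (EGA4.Cpl A) (EGA4.Cpl B ⧸ maximalIdeal (EGA4.Cpl B)) := by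
    have := finite_residue_cpl A B
    exact Module.Finite.of_restrictScalars_finite A (EGA4.Cpl A) _
  -- the closed fibre
  have hJ' : (maximalIdeal (EGA4.Cpl A)).map (algebraMap (EGA4.Cpl A) (EGA4.Cpl B)) =
      (maximalIdeal A).map (algebraMap A (EGA4.Cpl B)) := by
    rw [AdicCompletion.maximalIdeal_eq_map (R := A), Ideal.map_map,
      ← IsScalarTower.algebraMap_eq]
  have hJle : (maximalIdeal (EGA4.Cpl A)).map (algebraMap (EGA4.Cpl A) (EGA4.Cpl B)) ≤
      maximalIdeal (EGA4.Cpl B) := IsLocalRing.map_maximalIdeal_le _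
  have hnt : Nontrivial (EGA4.Cpl B ⧸
      (maximalIdeal (EGA4.Cpl A)).map (algebraMap (EGA4.Cpl A) (EGA4.Cpl B))) :=
    Ideal.Quotient.nontrivial_iff.mpr
      (ne_top_of_le_ne_top (maximalIdeal.isMaximal _).ne_top hJle)
  have hlocF : IsLocalRing (EGA4.Cpl B ⧸
      (maximalIdeal (EGA4.Cpl A)).map (algebraMap (EGA4.Cpl A) (EGA4.Cpl B))) :=
    IsLocalRing.of_surjective' (Ideal.Quotient.mk _) Ideal.Quotient.mk_surjective
  have hCMF : LocCoh.IsCohenMacaulayLocalRing (EGA4.Cpl B ⧸
      (maximalIdeal (EGA4.Cpl A)).map (algebraMap (EGA4.Cpl A) (EGA4.Cpl B))) := by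
    apply isCohenMacaulayLocalRing_of_isCohenMacaulayRing
    exact isCohenMacaulayRing_iso _ _
      ((closedFibreEquiv A (EGA4.Cpl B)).trans (Ideal.quotEquivOfEq hJ'.symm)) hcl
  obtain ⟨rs, hrs1, hrs2, hrs3⟩ := exists_regular_sop _ hCMF
  -- lift the sequence to `B̂`
  choose g hg using fun r : EGA4.Cpl B ⧸
      (maximalIdeal (EGA4.Cpl A)).map (algebraMap (EGA4.Cpl A) (EGA4.Cpl B)) =>
    Ideal.Quotient.mk_surjective r
  have hys : (rs.map g).map (Ideal.Quotient.mk
      ((maximalIdeal (EGA4.Cpl A)).map (algebraMap (EGA4.Cpl A) (EGA4.Cpl B)))) = rs := by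
    rw [List.map_map]
    conv_rhs => rw [← List.map_id rs]
    apply List.map_congr_left
    intro r _
    exact hg r
  have hmaxF : maximalIdeal (EGA4.Cpl B ⧸
      (maximalIdeal (EGA4.Cpl A)).map (algebraMap (EGA4.Cpl A) (EGA4.Cpl B))) =
      (maximalIdeal (EGA4.Cpl B)).map (Ideal.Quotient.mk _) := by
    symm
    apply IsLocalRing.eq_maximalIdeal
    exact Ideal.IsMaximal.map_of_surjective_of_ker_le Ideal.Quotient.mk_surjective
      (by rw [Ideal.mk_ker]; exact hJle)
  have hmem : ∀ y ∈ rs.map g, y ∈ maximalIdeal (EGA4.Cpl B) := by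
    intro y hy
    obtain ⟨r, hr, rfl⟩ := List.mem_map.mp hy
    by_contra hnm
    have hu : IsUnit (g r) := IsLocalRing.notMem_maximalIdeal.mp hnm
    have hu' := hu.map (Ideal.Quotient.mk
      ((maximalIdeal (EGA4.Cpl A)).map (algebraMap (EGA4.Cpl A) (EGA4.Cpl B))))
    rw [hg r] at hu'
    exact (hrs1 r hr) hu'
  have hreg : IsWeaklyRegular (EGA4.Cpl B ⧸
      ((maximalIdeal (EGA4.Cpl A)).map (algebraMap (EGA4.Cpl A) (EGA4.Cpl B))) •
        (⊤ : Submodule (EGA4.Cpl B) (EGA4.Cpl B))) (rs.map g) := by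
    have h1 : IsWeaklyRegular (EGA4.Cpl B ⧸
        (maximalIdeal (EGA4.Cpl A)).map (algebraMap (EGA4.Cpl A) (EGA4.Cpl B))) (rs.map g) := by
      rw [← isWeaklyRegular_map_algebraMap_iff (EGA4.Cpl B ⧸
        (maximalIdeal (EGA4.Cpl A)).map (algebraMap (EGA4.Cpl A) (EGA4.Cpl B))) _ (rs.map g),
        Ideal.Quotient.algebraMap_eq, hys]
      exact hrs2
    have e : (EGA4.Cpl B ⧸
        ((maximalIdeal (EGA4.Cpl A)).map (algebraMap (EGA4.Cpl A) (EGA4.Cpl B))) •
          (⊤ : Submodule (EGA4.Cpl B) (EGA4.Cpl B))) ≃ₗ[EGA4.Cpl B] (EGA4.Cpl B ⧸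
        (maximalIdeal (EGA4.Cpl A)).map (algebraMap (EGA4.Cpl A) (EGA4.Cpl B))) :=
      Submodule.quotEquivOfEq _ _ (by rw [smul_eq_mul, Ideal.mul_top])
    exact (e.isWeaklyRegular_congr (rs.map g)).mpr h1
  have hrad : maximalIdeal (EGA4.Cpl B) ≤
      ((maximalIdeal (EGA4.Cpl A)).map (algebraMap (EGA4.Cpl A) (EGA4.Cpl B)) ⊔
        Ideal.ofList (rs.map g)).radical := by
    intro b hb
    have hb' : Ideal.Quotient.mk ((maximalIdeal (EGA4.Cpl A)).map
        (algebraMap (EGA4.Cpl A) (EGA4.Cpl B))) b ∈ maximalIdeal _ := by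
      rw [hmaxF]
      exact Ideal.mem_map_of_mem _ hb
    obtain ⟨n, hn⟩ := hrs3 hb'
    refine ⟨n, ?_⟩
    rw [← map_pow, ← hys, ← Ideal.map_ofList] at hn
    rw [sup_comm]
    exact Ideal.mem_quotient_iff_mem_sup.mp hn
  -- the complete case
  have hT : ∀ (P : Ideal (EGA4.Cpl A)) [P.IsPrime],
      LocCoh.IsCohenMacaulayRing (P.Fiber (EGA4.Cpl B)) := fun P _ =>
    isCohenMacaulayRing_fiber_of_complete (EGA4.Cpl A) (EGA4.Cpl B) hres (rs.map g) hmem hreg hrad P
  have hcomp : LocCoh.IsCohenMacaulayRing (p.Fiber (EGA4.Cpl B)) :=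
    Groth.Agent.Lib.Helper29.isCohenMacaulayRing_fiber_comp A (EGA4.Cpl A) (EGA4.Cpl B) p (hA p) hT
  have hffB : Module.FaithfullyFlat B (EGA4.Cpl B) := Module.FaithfullyFlat.of_flat_of_isLocalHom
  exact Groth.Agent.Lib.Helper29.isCohenMacaulayRing_fiber_of_faithfullyFlat A B (EGA4.Cpl B) p hcomp

end Reduction
end Groth.Agent.Lib.Helper73.CMFibre
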