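import Mathlib
import Groth.Agent.Lib.Helper73.CplMap
import Groth.Agent.Lib.Helper73.CMFibre5
import Groth.Agent.Lib.Helper29.FibreDescent
import Groth.Agent.Lib.Helper29.FlatAscent2
import Groth.Agent.Lib.Helper29.CMLocusOpen
import Groth.Agent.Lib.Helper29.CplFlat
import Groth.Agent.Lib.Helper82.CMPoly
import Groth.Agent.Lib.Helper24.CMFieldTensor
import Groth.Agent.S9249
import Groth.Agent.S9808
import Groth.Agent.S4755

/-!
# Cohen–Macaulay formal fibres pass to essentially finite type local algebras (helper73)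

* `hasCMFormalFibres_of_flat_local`: descent of CM formal fibres along a flat local homomorphism
  with CM fibres.
* `hasCMFormalFibres_of_isCohenMacaulayLocalRing`: a CM local ring has CM formal fibres.
* `isCohenMacaulayRing_tensor_of_essFiniteType`: `K ⊗[k] S` is CM for `S` CM and `K/k` a finitely
  generated field extension.
* `hasCMFormalFibres_of_essFiniteType_of_CM`: a Noetherian local ring essentially of finite type
  over a CM ring has CM formal fibres.
* `isCohenMacaulayRing_fiber_localization`: fibres of a localization map are CM.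
* `hasCMFormalFibres_of_essFiniteType`: EGA IV 7.4.4 for "Cohen–Macaulay".
-/
set_option autoImplicit false
set_option linter.style.haveILetI false
set_option linter.unusedSectionVars false
set_option maxSynthPendingDepth 3
universe u
namespace Groth.Agent.Lib.Helper73.CMEssFT
open TensorProduct IsLocalRing


/-- (β) Descent of Cohen–Macaulay formal fibres along a flat local homomorphism with
Cohen–Macaulay fibres. -/
theorem hasCMFormalFibres_of_flat_local (A A' : Type u) [CommRing A] [CommRing A']
    [IsNoetherianRing A] [IsNoetherianRing A'] [IsLocalRing A] [IsLocalRing A'] [Algebra A A']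
    [IsLocalHom (algebraMap A A')] [Module.Flat A A']
    (hf : ∀ (p : Ideal A) [p.IsPrime], LocCoh.IsCohenMacaulayRing (p.Fiber A'))
    (hA' : EGA4.HasCMFormalFibres A') : EGA4.HasCMFormalFibres A := by
  classical
  letI := Groth.Agent.Lib.Helper73.CplMap.cplAlgebra A A'
  have hN : IsNoetherianRing (EGA4.Cpl A') :=
    Groth.Agent.Lib.Helper73.CplMap.isNoetherianRing_cpl A'
  have hN0 : IsNoetherianRing (EGA4.Cpl A) :=
    Groth.Agent.Lib.Helper73.CplMap.isNoetherianRing_cpl A
  have hfl := Groth.Agent.Lib.Helper73.CplMap.flat_cpl A A'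
  have hff := Groth.Agent.Lib.Helper73.CplMap.faithfullyFlat_cpl A A'
  intro p _
  have h1 : LocCoh.IsCohenMacaulayRing (p.Fiber (EGA4.Cpl A')) :=
    Groth.Agent.Lib.Helper29.isCohenMacaulayRing_fiber_comp A A' (EGA4.Cpl A') p (hf p)
      (fun q _ => hA' q)
  exact Groth.Agent.Lib.Helper29.isCohenMacaulayRing_fiber_of_faithfullyFlat A (EGA4.Cpl A)
    (EGA4.Cpl A') p h1

/-- (γ₁) A Cohen–Macaulay local ring has Cohen–Macaulay formal fibres. -/
theorem hasCMFormalFibres_of_isCohenMacaulayLocalRing (S : Type u) [CommRing S]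
    [IsNoetherianRing S] [IsLocalRing S] (h : LocCoh.IsCohenMacaulayLocalRing S) :
    EGA4.HasCMFormalFibres S := by
  have hN : IsNoetherianRing (EGA4.Cpl S) :=
    Groth.Agent.Lib.Helper73.CplMap.isNoetherianRing_cpl S
  haveI h1 : LocCoh.IsCohenMacaulayLocalRing (EGA4.Cpl S) := (Groth.Agent.S9249.result S).mp h
  have h2 : LocCoh.IsCohenMacaulayRing (EGA4.Cpl S) :=
    { isCohenMacaulayLocalRing_localization := fun q hq =>
        Groth.Agent.S9808.isCohenMacaulayLocalRing_atPrime (EGA4.Cpl S) q }
  intro p _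
  exact Groth.Agent.Lib.Helper73.CMFibre.isCohenMacaulayRing_fiber_of_flat S (EGA4.Cpl S) h2 p

/-- (α) Base change of a Cohen–Macaulay algebra over a field along a finitely generated field
extension is Cohen–Macaulay. -/
theorem isCohenMacaulayRing_tensor_of_essFiniteType (k K S : Type u) [Field k] [Field K]
    [CommRing S] [Algebra k K] [Algebra k S] [Algebra.EssFiniteType k K]
    (hS : LocCoh.IsCohenMacaulayRing S) : LocCoh.IsCohenMacaulayRing (K ⊗[k] S) := by
  classical
  obtain ⟨n, f, hf⟩ := Algebra.FiniteType.iff_quotient_mvPolynomial''.mp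
    (inferInstance : Algebra.FiniteType k (Algebra.EssFiniteType.subalgebra k K))
  let Pk := MvPolynomial (Fin n) k
  let ψ : Pk →ₐ[k] K := (Algebra.EssFiniteType.subalgebra k K).val.comp f
  let _ : Algebra Pk K := ψ.toRingHom.toAlgebra
  have htower : IsScalarTower k Pk K := IsScalarTower.of_algebraMap_eq fun c => (ψ.commutes c).symm
  have hgen : ∀ x : K, ∃ a b : Pk, algebraMap Pk K b ≠ 0 ∧
      x * algebraMap Pk K b = algebraMap Pk K a := by
    intro x
    obtain ⟨⟨a₀, b₀⟩, hab⟩ := IsLocalization.surj (Algebra.EssFiniteType.submonoid k K) x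
    obtain ⟨a, rfl⟩ := hf a₀
    obtain ⟨b, hb⟩ := hf b₀.1
    refine ⟨a, b, ?_, ?_⟩
    · have hu : IsUnit (algebraMap (Algebra.EssFiniteType.subalgebra k K) K b₀.1) := b₀.2
      have : algebraMap Pk K b = algebraMap (Algebra.EssFiniteType.subalgebra k K) K b₀.1 := by
        change ((Algebra.EssFiniteType.subalgebra k K).val (f b)) = _
        rw [hb]; rfl
      rw [this]
      exact hu.ne_zero
    · have : algebraMap Pk K b = algebraMap (Algebra.EssFiniteType.subalgebra k K) K b₀.1 := by
        change ((Algebra.EssFiniteType.subalgebra k K).val (f b)) = _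
        rw [hb]; rfl
      rw [this]
      exact hab
  obtain ⟨p, hp, ⟨e⟩⟩ := Groth.Agent.Lib.Helper24.exists_algEquiv_residueField (R := Pk) (K := K) hgen
  haveI := hS
  let eT : (Pk ⊗[k] S) ≃+* MvPolynomial (Fin n) S :=
    (Algebra.TensorProduct.comm k Pk S).toRingEquiv.trans
      (MvPolynomial.algebraTensorAlgEquiv k S (σ := Fin n)).toRingEquiv
  have hCMpoly : LocCoh.IsCohenMacaulayRing (MvPolynomial (Fin n) S) :=
    Groth.Agent.Lib.Helper82.CMPoly.isCohenMacaulayRing_mvPolynomial n
  have hCMT : LocCoh.IsCohenMacaulayRing (Pk ⊗[k] S) :=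
    Groth.Agent.Lib.Helper82.CMPoly.isCohenMacaulayRing_of_ringEquiv eT.symm hCMpoly
  have hNT : IsNoetherianRing (Pk ⊗[k] S) := hCMT.toIsNoetherian
  have hfib : LocCoh.IsCohenMacaulayRing (p.Fiber (Pk ⊗[k] S)) :=
    Groth.Agent.Lib.Helper73.CMFibre.isCohenMacaulayRing_fiber_of_flat Pk (Pk ⊗[k] S) hCMT p
  let e1 : p.Fiber (Pk ⊗[k] S) ≃+* p.ResidueField ⊗[k] S :=
    (Algebra.TensorProduct.cancelBaseChange k Pk Pk p.ResidueField S).toRingEquiv
  let e2 : p.ResidueField ⊗[k] S ≃+* K ⊗[k] S :=
    (Algebra.TensorProduct.congr (e.restrictScalars k) (AlgEquiv.refl : S ≃ₐ[k] S)).toRingEquiv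
  exact Groth.Agent.Lib.Helper82.CMPoly.isCohenMacaulayRing_of_ringEquiv (e1.trans e2) hfib


/-- (γ₀) A Noetherian local ring essentially of finite type over a Cohen–Macaulay ring has
Cohen–Macaulay formal fibres. -/
theorem hasCMFormalFibres_of_essFiniteType_of_CM (R B : Type u) [CommRing R] [CommRing B]
    [IsNoetherianRing B] [IsLocalRing B] [Algebra R B] [Algebra.EssFiniteType R B]
    (hR : LocCoh.IsCohenMacaulayRing R) : EGA4.HasCMFormalFibres B := by
  classical
  obtain ⟨n, f, hf⟩ := Algebra.FiniteType.iff_quotient_mvPolynomial''.mp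
    (inferInstance : Algebra.FiniteType R (Algebra.EssFiniteType.subalgebra R B))
  let Pn := MvPolynomial (Fin n) R
  let φ : Pn →ₐ[R] B := (Algebra.EssFiniteType.subalgebra R B).val.comp f
  let P : Ideal Pn := (maximalIdeal B).comap φ.toRingHom
  haveI hP : P.IsPrime := Ideal.comap_isPrime _ _
  haveI := hR
  have hCMPn : LocCoh.IsCohenMacaulayRing Pn :=
    Groth.Agent.Lib.Helper82.CMPoly.isCohenMacaulayRing_mvPolynomial n
  haveI hNPn : IsNoetherianRing Pn := hCMPn.toIsNoetherian
  have hS : LocCoh.IsCohenMacaulayLocalRing (Localization.AtPrime P) :=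
    hCMPn.isCohenMacaulayLocalRing_localization P
  haveI hNS : IsNoetherianRing (Localization.AtPrime P) :=
    IsLocalization.isNoetherianRing P.primeCompl _ inferInstance
  have hunit : ∀ y : P.primeCompl, IsUnit (φ.toRingHom y) := by
    intro y
    have h1 : φ.toRingHom y ∉ maximalIdeal B := y.2
    exact (IsLocalRing.notMem_maximalIdeal.mp h1)
  let π : Localization.AtPrime P →+* B := IsLocalization.lift (M := P.primeCompl) hunit
  have hπ : Function.Surjective π := by
    intro x
    obtain ⟨⟨a₀, b₀⟩, hab⟩ := IsLocalization.surj (Algebra.EssFiniteType.submonoid R B) x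
    obtain ⟨a, rfl⟩ := hf a₀
    obtain ⟨b, hb⟩ := hf b₀.1
    have hu : IsUnit (algebraMap (Algebra.EssFiniteType.subalgebra R B) B b₀.1) := b₀.2
    have hφb : φ b = algebraMap (Algebra.EssFiniteType.subalgebra R B) B b₀.1 := by
      change ((Algebra.EssFiniteType.subalgebra R B).val (f b)) = _
      rw [hb]; rfl
    have hφa : φ a = algebraMap (Algebra.EssFiniteType.subalgebra R B) B (f a) := rfl
    have hbP : b ∈ P.primeCompl := by
      change φ.toRingHom b ∉ maximalIdeal B
      rw [IsLocalRing.notMem_maximalIdeal]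
      change IsUnit (φ b)
      rw [hφb]
      exact hu
    refine ⟨IsLocalization.mk' (Localization.AtPrime P) a ⟨b, hbP⟩, ?_⟩
    rw [IsLocalization.lift_mk'_spec]
    change φ a = φ b * x
    rw [hφb, hφa, mul_comm]
    exact hab.symm
  let I := RingHom.ker π
  let e : Localization.AtPrime P ⧸ I ≃+* B := RingHom.quotientKerEquivOfSurjective hπ
  haveI : Nontrivial (Localization.AtPrime P ⧸ I) := e.toEquiv.nontrivial
  have h1 : EGA4.HasCMFormalFibres (Localization.AtPrime P) :=
    hasCMFormalFibres_of_isCohenMacaulayLocalRing _ hS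
  have h2 : EGA4.HasCMFormalFibres (Localization.AtPrime P ⧸ I) :=
    Groth.Agent.S4755.result _ h1 I
  letI : Algebra B (Localization.AtPrime P ⧸ I) := e.symm.toRingHom.toAlgebra
  haveI : IsLocalHom (algebraMap B (Localization.AtPrime P ⧸ I)) := by
    refine ⟨fun a ha => ?_⟩
    have h3 := ha.map e.toRingHom
    change IsUnit (e (e.symm a)) at h3
    rwa [RingEquiv.apply_symm_apply] at h3
  haveI : Module.Flat B (Localization.AtPrime P ⧸ I) :=
    RingHom.Flat.of_bijective (f := e.symm.toRingHom) e.symm.bijective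
  haveI : Module.Finite B (Localization.AtPrime P ⧸ I) :=
    Module.Finite.of_surjective (Algebra.linearMap B (Localization.AtPrime P ⧸ I)) e.symm.surjective
  refine hasCMFormalFibres_of_flat_local B (Localization.AtPrime P ⧸ I) ?_ h2
  intro p _
  haveI : IsArtinianRing (p.Fiber (Localization.AtPrime P ⧸ I)) :=
    IsArtinianRing.of_finite p.ResidueField _
  exact Groth.Agent.Lib.Helper73.CMFibre.isCohenMacaulayRing_of_isArtinianRing _


theorem isNoetherianRing_of_essFiniteType (R S : Type u) [CommRing R] [CommRing S] [Algebra R S]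
    [IsNoetherianRing R] [Algebra.EssFiniteType R S] : IsNoetherianRing S := by
  haveI : IsNoetherianRing (Algebra.EssFiniteType.subalgebra R S) :=
    Algebra.FiniteType.isNoetherianRing R _
  exact IsLocalization.isNoetherianRing (Algebra.EssFiniteType.submonoid R S) S inferInstance

/-- The fibres of a localization map are Cohen–Macaulay (they are fields or zero). -/
theorem isCohenMacaulayRing_fiber_localization (D : Type u) [CommRing D] (M : Submonoid D)
    (r : Ideal D) [r.IsPrime] : LocCoh.IsCohenMacaulayRing (r.Fiber (Localization M)) := by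
  have hsurj : Function.Surjective (algebraMap r.ResidueField (r.Fiber (Localization M))) := by
    intro z
    induction z using TensorProduct.induction_on with
    | zero => exact ⟨0, map_zero _⟩
    | add z₁ z₂ h₁ h₂ =>
      obtain ⟨a₁, ha₁⟩ := h₁
      obtain ⟨a₂, ha₂⟩ := h₂
      exact ⟨a₁ + a₂, by rw [map_add, ha₁, ha₂]⟩
    | tmul x y =>
      obtain ⟨d, s, rfl⟩ := IsLocalization.exists_mk'_eq M y
      by_cases hs : algebraMap D r.ResidueField s = 0
      · refine ⟨0, ?_⟩
        rw [map_zero]
        have h1 : (IsLocalization.mk' (Localization M) d s) =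
            (s : D) • IsLocalization.mk' (Localization M) d (s * s) := by
          rw [Algebra.smul_def, ← IsLocalization.mk'_one (M := M) (Localization M) (s : D),
            ← IsLocalization.mk'_mul, one_mul, mul_comm]
          exact (IsLocalization.mk'_cancel d s s).symm
        rw [h1, ← TensorProduct.smul_tmul, Algebra.smul_def, hs, zero_mul, TensorProduct.zero_tmul]
      · refine ⟨x * algebraMap D r.ResidueField d * (algebraMap D r.ResidueField s)⁻¹, ?_⟩
        rw [Algebra.TensorProduct.algebraMap_apply, Algebra.algebraMap_self, RingHom.id_apply]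
        have h2 : x = (s : D) • (x * (algebraMap D r.ResidueField s)⁻¹) := by
          rw [Algebra.smul_def, mul_comm x, ← mul_assoc, mul_inv_cancel₀ hs, one_mul]
        have h3 : (s : D) • IsLocalization.mk' (Localization M) d s =
            (d : D) • (1 : Localization M) := by
          rw [Algebra.smul_def, mul_comm, IsLocalization.mk'_spec, Algebra.algebraMap_eq_smul_one]
        have h4 : x ⊗ₜ[D] IsLocalization.mk' (Localization M) d s =
            ((d : D) • (x * (algebraMap D r.ResidueField s)⁻¹)) ⊗ₜ[D] (1 : Localization M) := by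
          conv_lhs => rw [h2]
          rw [TensorProduct.smul_tmul, h3, ← TensorProduct.smul_tmul]
        rw [h4, Algebra.smul_def]
        congr 1
        ring
  haveI : Module.Finite r.ResidueField (r.Fiber (Localization M)) :=
    Module.Finite.of_surjective (Algebra.linearMap _ _) hsurj
  haveI : IsArtinianRing (r.Fiber (Localization M)) := IsArtinianRing.of_finite r.ResidueField _
  exact Groth.Agent.Lib.Helper73.CMFibre.isCohenMacaulayRing_of_isArtinianRing _

section Main
attribute [local instance] Algebra.TensorProduct.rightAlgebra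

/-- **EGA IV 7.4.4 for "Cohen–Macaulay"**: Cohen–Macaulay formal fibres pass to Noetherian local
rings essentially of finite type. -/
theorem hasCMFormalFibres_of_essFiniteType (A : Type u) [CommRing A] [IsNoetherianRing A]
    [IsLocalRing A] (hA : EGA4.HasCMFormalFibres A) (B : Type u) [CommRing B] [IsNoetherianRing B]
    [IsLocalRing B] [Algebra A B] [Algebra.EssFiniteType A B] : EGA4.HasCMFormalFibres B := by
  classical
  haveI hLAh : IsLocalRing (EGA4.Cpl A) := Groth.Agent.Lib.Helper29.isLocalRing_cpl A
  haveI hNAh : IsNoetherianRing (EGA4.Cpl A) :=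
    Groth.Agent.Lib.Helper73.CplMap.isNoetherianRing_cpl A
  haveI hcAh : IsAdicComplete (maximalIdeal (EGA4.Cpl A)) (EGA4.Cpl A) :=
    Groth.Agent.Lib.Helper29.isAdicComplete_cpl A
  obtain ⟨R, hRring, hReg, f, hf⟩ :=
    Groth.Agent.Lib.Helper29.exists_regular_surjective_of_complete (EGA4.Cpl A)
  haveI : Module.FaithfullyFlat A (EGA4.Cpl A) := Groth.Agent.Lib.Helper29.faithfullyFlat_cpl A
  haveI hEFT : Algebra.EssFiniteType (EGA4.Cpl A) (B ⊗[A] EGA4.Cpl A) :=
    RingHom.essFiniteType_algebraMap.mp
      (RingHom.EssFiniteType.isStableUnderBaseChange A B (EGA4.Cpl A) (B ⊗[A] EGA4.Cpl A)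
        (RingHom.essFiniteType_algebraMap.mpr inferInstance))
  haveI hND : IsNoetherianRing (B ⊗[A] EGA4.Cpl A) :=
    isNoetherianRing_of_essFiniteType (EGA4.Cpl A) (B ⊗[A] EGA4.Cpl A)
  haveI hFF : Module.FaithfullyFlat B (B ⊗[A] EGA4.Cpl A) := inferInstance
  obtain ⟨Q', hQ'p, hQ'o⟩ :=
    Ideal.exists_isPrime_liesOver_of_faithfullyFlat (B := B ⊗[A] EGA4.Cpl A) (maximalIdeal B)
  haveI hNB' : IsNoetherianRing (Localization.AtPrime Q') :=
    IsLocalization.isNoetherianRing Q'.primeCompl _ inferInstance
  haveI hloc : IsLocalHom (algebraMap B (Localization.AtPrime Q')) := by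
    refine ⟨fun b hb => ?_⟩
    by_contra hnu
    have h1 : b ∈ maximalIdeal B := (IsLocalRing.mem_maximalIdeal b).mpr hnu
    rw [hQ'o.over, Ideal.under, Ideal.mem_comap] at h1
    have h2 : algebraMap (B ⊗[A] EGA4.Cpl A) (Localization.AtPrime Q')
        (algebraMap B (B ⊗[A] EGA4.Cpl A) b) ∈ maximalIdeal (Localization.AtPrime Q') := by
      rw [← Ideal.mem_comap]
      have h3 := IsLocalization.AtPrime.under_maximalIdeal (Localization.AtPrime Q') Q'
      rw [Ideal.under] at h3
      rw [h3]
      exact h1
    rw [← IsScalarTower.algebraMap_apply] at h2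
    exact (IsLocalRing.mem_maximalIdeal _).mp h2 hb
  haveI hflat : Module.Flat B (Localization.AtPrime Q') :=
    Module.Flat.trans B (B ⊗[A] EGA4.Cpl A) (Localization.AtPrime Q')
  have hB' : EGA4.HasCMFormalFibres (Localization.AtPrime Q') := by
    let g : R →+* Localization.AtPrime Q' :=
      (algebraMap (B ⊗[A] EGA4.Cpl A) (Localization.AtPrime Q')).comp
        ((algebraMap (EGA4.Cpl A) (B ⊗[A] EGA4.Cpl A)).comp f)
    have hg : g.EssFiniteType :=
      RingHom.EssFiniteType.comp
        (RingHom.EssFiniteType.comp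
          (RingHom.FiniteType.essFiniteType (RingHom.FiniteType.of_surjective f hf))
          (RingHom.essFiniteType_algebraMap.mpr hEFT))
        (RingHom.essFiniteType_algebraMap.mpr
          (Algebra.EssFiniteType.of_isLocalization (Localization.AtPrime Q') Q'.primeCompl))
    letI := g.toAlgebra
    haveI : Algebra.EssFiniteType R (Localization.AtPrime Q') := hg
    exact hasCMFormalFibres_of_essFiniteType_of_CM R (Localization.AtPrime Q')
      (Groth.Agent.Lib.Helper82.CMPoly.isCohenMacaulayRing_of_isRegularRing R)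
  refine hasCMFormalFibres_of_flat_local B (Localization.AtPrime Q') ?_ hB'
  intro q _
  refine Groth.Agent.Lib.Helper29.isCohenMacaulayRing_fiber_comp B (B ⊗[A] EGA4.Cpl A)
    (Localization.AtPrime Q') q ?_
    (fun r _ => isCohenMacaulayRing_fiber_localization (B ⊗[A] EGA4.Cpl A) Q'.primeCompl r)
  haveI hpprime : (q.under A).IsPrime := Ideal.comap_isPrime _ _
  haveI : q.LiesOver (q.under A) := ⟨rfl⟩
  letI := Localization.AtPrime.algebraOfLiesOver (q.under A) q
  have hfib : LocCoh.IsCohenMacaulayRing ((q.under A).Fiber (EGA4.Cpl A)) := hA (q.under A)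
  have h1 := isCohenMacaulayRing_tensor_of_essFiniteType (q.under A).ResidueField q.ResidueField
    ((q.under A).Fiber (EGA4.Cpl A)) hfib
  let e1 := Algebra.TensorProduct.cancelBaseChange A (q.under A).ResidueField
    (q.under A).ResidueField q.ResidueField (EGA4.Cpl A)
  let e2 := Algebra.TensorProduct.cancelBaseChange A B B q.ResidueField (EGA4.Cpl A)
  exact Groth.Agent.Lib.Helper82.CMPoly.isCohenMacaulayRing_of_ringEquiv
    (e1.toRingEquiv.trans e2.toRingEquiv.symm) h1

end Main

end Groth.Agent.Lib.Helper73.CMEssFT
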