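import Groth.Agent.Lib.Helper16.LFRes.Regular
import Groth.Agent.Lib.Helper85.RegularLocal

/-!
# Syzygies on regular schemes of bounded dimension are locally free (helper73)
-/

set_option autoImplicit false
universe u v

open CategoryTheory CategoryTheory.Limits AlgebraicGeometry

namespace Groth.Agent.Lib.Helper73.SyzLocFree

open Groth.Agent.Lib.Helper16 Groth.Agent.Lib.Helper16.LFRes

/-- global dimension of a regular Noetherian ring of dimension `≤ m` is `≤ m` -/
theorem hasProjectiveDimensionLT_of_regular_of_dim_le {P : Type u} [CommRing P] [IsNoetherianRing P]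
    (hreg : ∀ p : PrimeSpectrum P, IsRegularLocalRing (Localization.AtPrime p.asIdeal))
    (m : ℕ) (hm : ringKrullDim P ≤ (m : WithBot ℕ∞)) (M : Type u) [AddCommGroup M] [Module P M] :
    HasProjectiveDimensionLT (ModuleCat.of P M) (m + 1) := by
  rcases subsingleton_or_nontrivial P with hP | hP
  · have : Subsingleton M := Module.subsingleton P M
    have hz : IsZero (ModuleCat.of P M) := ModuleCat.isZero_of_subsingleton _
    have := hz.hasProjectiveDimensionLT_zero
    exact hasProjectiveDimensionLT_of_ge _ 0 (m + 1) (by omega)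
  · obtain ⟨d, hd⟩ := Groth.Agent.Lib.Helper85.exists_nat_eq_of_le
      (ringKrullDim_nonneg_of_nontrivial (R := P)) hm
    have hdm : d ≤ m := by
      rw [hd] at hm
      exact_mod_cast hm
    have := Groth.Agent.Lib.Helper35.KL.hasProjectiveDimensionLT_of_regular hreg d hd M
    exact hasProjectiveDimensionLT_of_ge _ (d + 1) (m + 1) (by omega)




theorem ringKrullDim_sections_le {X : Scheme.{u}} {V : X.Opens} (hV : IsAffineOpen V) :
    ringKrullDim Γ(X, V) ≤ topologicalKrullDim X := by
  rw [← PrimeSpectrum.topologicalKrullDim_eq_ringKrullDim]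
  have h : Topology.IsInducing (hV.fromSpec : Spec Γ(X, V) ⟶ X) :=
    (hV.fromSpec).isOpenEmbedding.isInducing
  exact h.topologicalKrullDim_le

/-- sections of any module over an affine open of a regular Noetherian scheme of dimension `≤ m`
have projective dimension `≤ m`. -/
theorem pdLT_of_regular_of_dim_le {X : Scheme.{u}} [IsLocallyNoetherian X]
    (hreg : ∀ x : X, IsRegularLocalRing (X.presheaf.stalk x)) (m : ℕ)
    (hdim : topologicalKrullDim ↥X ≤ (m : WithBot ℕ∞)) (A : X.Modules)
    {V : X.Opens} (hV : IsAffineOpen V) : PdLT A (m + 1) V := by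
  have : IsNoetherianRing Γ(X, V) := IsLocallyNoetherian.component_noetherian ⟨V, hV⟩
  exact hasProjectiveDimensionLT_of_regular_of_dim_le
    (fun p => isRegularLocalRing_localization_sections hreg hV p) m
    ((ringKrullDim_sections_le hV).trans hdim) Γ(A, V)



section Splice
variable {C : Type v} [Category.{u} C] [Abelian C]

/-- SES from a kernel and an epi -/
lemma shortExact_kernel {A B : C} (f : A ⟶ B) [Epi f] :
    (ShortComplex.mk (kernel.ι f) f (kernel.condition f)).ShortExact :=
  ShortComplex.ShortExact.mk' (ShortComplex.exact_of_f_is_kernel _ (kernelIsKernel f))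
    (by dsimp; infer_instance) (by dsimp; infer_instance)

/-- SES `ker f → A → ker g` for an exact pair -/
lemma shortExact_kernel_lift {A B D : C} (f : A ⟶ B) (g : B ⟶ D) (w : f ≫ g = 0)
    (hex : (ShortComplex.mk f g w).Exact) :
    (ShortComplex.mk (kernel.ι f) (kernel.lift g f w)
      (by rw [← cancel_mono (kernel.ι g)]; simp)).ShortExact := by
  have hz : kernel.ι f ≫ kernel.lift g f w = 0 := by
    rw [← cancel_mono (kernel.ι g)]; simp
  refine ShortComplex.ShortExact.mk' (ShortComplex.exact_of_f_is_kernel _ ?_)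
    (by dsimp; infer_instance) ?_
  · exact isKernelOfComp (f := kernel.lift g f w) (kernel.ι g) f (kernelIsKernel f) hz
      (kernel.lift_ι g f w)
  · dsimp
    exact (ShortComplex.exact_iff_epi_kernel_lift _).1 hex

theorem splice (Q : ℕ → C → Prop) (good : C → Prop)
    (hQiso : ∀ n (A B : C), (A ≅ B) → Q n A → Q n B)
    (hstep : ∀ n (S : ShortComplex C), S.ShortExact → good S.X₂ → Q (n + 1) S.X₃ → Q n S.X₁)
    (m : ℕ) (S : ComposableArrows C (m + 1)) (hS : S.Exact)
    (hmono : Mono (S.map' 0 1 (Nat.zero_le 1) (Nat.le_add_left 1 m)))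
    (hepi : Epi (S.map' m (m + 1) (Nat.le_succ m) (le_refl (m + 1))))
    (hE : ∀ i : Fin m, good (S.obj ⟨i.1 + 1, Nat.succ_lt_succ (Nat.lt_succ_of_lt i.2)⟩))
    (hF : Q m (S.obj (Fin.last (m + 1)))) : Q 0 (S.obj 0) := by
  rcases m with _ | m
  · have : IsIso (S.map' 0 1 (Nat.zero_le 1) (Nat.le_add_left 1 0)) :=
      isIso_of_mono_of_epi _
    exact hQiso 0 _ _ (asIso (S.map' 0 1 (Nat.zero_le 1) (Nat.le_add_left 1 0))).symm hF
  · have key : ∀ k j : ℕ, ∀ (h : j + 1 + k = m + 1),
        Q j (kernel (S.map' (j + 1) (j + 1 + 1) (by omega) (by omega))) := by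
      intro k
      induction k with
      | zero =>
        intro j h
        obtain rfl : j = m := by omega
        have hse := shortExact_kernel (S.map' (j + 1) (j + 1 + 1) _ _)
        exact hstep j _ hse (hE ⟨j, by omega⟩) hF
      | succ k ih =>
        intro j h
        have ih' := ih (j + 1) (by omega)
        have hex := hS.exact (j + 1) (by omega)
        have hse := shortExact_kernel_lift _ _ _ hex
        exact hstep j _ hse (hE ⟨j, by omega⟩) ih'
    have h0 := key m 0 (by omega)
    have hex := hS.exact 0 (by omega)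
    let φ := kernel.lift (S.map' 1 2 (by omega) (by omega))
        (S.map' 0 1 (by omega) (by omega)) (hS.toIsComplex.zero 0 (by omega))
    have hepi' : Epi φ := (ShortComplex.exact_iff_epi_kernel_lift _).1 hex
    have hmono' : Mono φ := mono_of_mono_fac (kernel.lift_ι _ _ _)
    have : IsIso φ := isIso_of_mono_of_epi _
    exact hQiso 0 _ _ (asIso φ).symm h0

end Splice



open Groth.Agent.Lib

/-- `PdLT` is invariant under isomorphism -/
theorem pdLT_of_iso {X : Scheme.{u}} {A B : X.Modules} (e : A ≅ B) (n : ℕ) (V : X.Opens)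
    (h : PdLT A n V) : PdLT B n V := by
  unfold PdLT at h ⊢
  let el : Γ(A, V) ≃ₗ[Γ(X, V)] Γ(B, V) :=
    LinearEquiv.ofLinear (Helper45.appₗ e.hom V) (Helper45.appₗ e.inv V)
      (by
        ext m
        have := congrArg (fun g => g.app V m) e.inv_hom_id
        exact this)
      (by
        ext m
        have := congrArg (fun g => g.app V m) e.hom_inv_id
        exact this)
  exact hasProjectiveDimensionLT_of_iso el.toModuleIso n

theorem isFinLocFree_syzygy {X : Scheme.{u}} [IsNoetherian X]
    (hreg : ∀ x : X, IsRegularLocalRing (X.presheaf.stalk x)) (m : ℕ)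
    (hdim : topologicalKrullDim ↥X ≤ (m : WithBot ℕ∞))
    (S : ComposableArrows X.Modules (m + 1)) (hS : S.Exact)
    (hmono : Mono (S.map' 0 1 (Nat.zero_le 1) (Nat.le_add_left 1 m)))
    (hepi : Epi (S.map' m (m + 1) (Nat.le_succ m) (le_refl (m + 1))))
    (hE : ∀ i : Fin m, FlatMod.IsFinLocFree (S.obj ⟨i.1 + 1, Nat.succ_lt_succ (Nat.lt_succ_of_lt i.2)⟩))
    (hF : Coh.IsCoh (S.obj (Fin.last (m + 1)))) :
    FlatMod.IsFinLocFree (S.obj 0) := by
  let Q : ℕ → X.Modules → Prop := fun n A =>
    Coh.IsCoh A ∧ ∀ V : X.Opens, IsAffineOpen V → PdLT A (n + 1) V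
  have hQ : Q 0 (S.obj 0) := by
    refine splice Q FlatMod.IsFinLocFree ?_ ?_ m S hS hmono hepi hE ?_
    · rintro n A B e ⟨h1, h2⟩
      exact ⟨CohThick.isCoh_of_iso e h1, fun V hV => pdLT_of_iso e _ V (h2 V hV)⟩
    · rintro n T hT hgood ⟨h1, h2⟩
      have hses : ResK0.SES T.X₁ T.X₂ T.X₃ := ResK0.SES.of_shortExact hT
      have hK : Coh.IsCoh T.X₁ := isCoh_of_ses_ker hses (isCoh_of_isFinLocFree hgood) h1
      refine ⟨hK, fun V hV => ?_⟩
      exact pdLT_X₁ hT hK.1 hV (n + 1)
        ((pdLT_one_of_isFinLocFree hgood hV).mono (by omega)) (h2 V hV)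
    · exact ⟨hF, fun V hV => pdLT_of_regular_of_dim_le hreg m hdim _ hV⟩
  refine isFinLocFree_of_pdLT_one hQ.1 fun x => ?_
  obtain ⟨_, ⟨W, hW : IsAffineOpen W, rfl⟩, hxW, -⟩ :=
    X.isBasis_affineOpens.exists_subset_of_mem_open (Set.mem_univ x) isOpen_univ
  exact ⟨W, hW, hxW, hQ.2 W hW⟩

end Groth.Agent.Lib.Helper73.SyzLocFree
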