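import Mathlib
import Groth.Agent.Lib.Helper11.EffCartier
import Groth.Agent.Lib.Helper20.DenseAffine
import Groth.Agent.S1687

/-!
helper73: a Noetherian scheme with affine diagonal and factorial local rings has an ample family
of invertible modules.
-/

set_option autoImplicit false
universe u

open CategoryTheory CategoryTheory.Limits AlgebraicGeometry TopologicalSpace

namespace Groth.Agent.Lib.Helper73.AmpleFamilyUFD

theorem hasAmpleFamily_of_ufd (X : Scheme.{u}) [IsNoetherian X]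
    (hΔ : ∀ V W : X.Opens, IsAffineOpen V → IsAffineOpen W → IsAffineOpen (V ⊓ W))
    (hufd : ∀ x : ↥X, IsDomain (X.presheaf.stalk x) ∧
      UniqueFactorizationMonoid (X.presheaf.stalk x)) :
    MoreMor.HasAmpleFamily X := by
  refine ⟨inferInstance, fun x => ?_⟩
  obtain ⟨U, hxU, hU, hd⟩ := Groth.Agent.Lib.Helper20.DenseAffine.exists_dense_isAffineOpen X x
  obtain ⟨𝓘, h𝓘, hsupp⟩ := Groth.Agent.S1687.result X hΔ U hU hd (fun y _ => hufd y)
  obtain ⟨N, s, hN, hgen⟩ := Groth.Agent.Lib.Helper11.EffCartier.exists_OD 𝓘 h𝓘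
  obtain ⟨s', hs'⟩ := Groth.Agent.Lib.Helper11.GenLocus.exists_tensorPow_one_genLocus_eq s
  have hUeq : CohB1.genLocus (CohB1.tensorPow N (0 + 1)) s' = U := by
    rw [hs', hgen]
    apply TopologicalSpace.Opens.ext
    show ((𝓘.support : Set X))ᶜ = (U : Set X)
    rw [hsupp, compl_compl]
  refine ⟨N, 0 + 1, s', hN, le_rfl, ?_, ?_⟩
  · rw [hUeq]; exact hxU
  · rw [hUeq]; exact hU

end Groth.Agent.Lib.Helper73.AmpleFamilyUFD
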