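import Groth.Prelude.Def_CAlgX
import Groth.Agent.Lib.Helper47.McCoy
import Mathlib

/-!
# Buchsbaum–Eisenbud, part 1: basics on `CAlgX.minorIdeal` and `CAlgX.matrixRank` (helper73)
-/

set_option autoImplicit false
universe u

open Matrix

namespace Groth.Agent.Lib.Helper73.BE

variable {R : Type u} [CommRing R]

theorem det_mem_minorIdeal {n m r : ℕ} (A : Matrix (Fin n) (Fin m) R)
    (f : Fin r → Fin n) (g : Fin r → Fin m) :
    (A.submatrix f g).det ∈ CAlgX.minorIdeal A r :=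
  Ideal.subset_span ⟨(f, g), rfl⟩

theorem minorIdeal_le_iff {n m r : ℕ} (A : Matrix (Fin n) (Fin m) R) (J : Ideal R) :
    CAlgX.minorIdeal A r ≤ J ↔
      ∀ (f : Fin r → Fin n) (g : Fin r → Fin m), (A.submatrix f g).det ∈ J := by
  rw [CAlgX.minorIdeal, Ideal.span_le]
  constructor
  · intro h f g
    exact h ⟨(f, g), rfl⟩
  · rintro h _ ⟨⟨f, g⟩, rfl⟩
    exact h f g

theorem minorIdeal_eq_bot_iff {n m r : ℕ} (A : Matrix (Fin n) (Fin m) R) :
    CAlgX.minorIdeal A r = ⊥ ↔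
      ∀ (f : Fin r → Fin n) (g : Fin r → Fin m), (A.submatrix f g).det = 0 := by
  rw [eq_bot_iff, minorIdeal_le_iff]
  simp

theorem minorIdeal_map {S : Type*} [CommRing S] (φ : R →+* S) {n m : ℕ}
    (A : Matrix (Fin n) (Fin m) R) (r : ℕ) :
    CAlgX.minorIdeal (A.map φ) r = (CAlgX.minorIdeal A r).map φ := by
  rw [CAlgX.minorIdeal, CAlgX.minorIdeal, Ideal.map_span]
  congr 1
  ext y
  constructor
  · rintro ⟨⟨f, g⟩, rfl⟩
    refine ⟨(A.submatrix f g).det, ⟨(f, g), rfl⟩, ?_⟩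
    rw [RingHom.map_det]
    rfl
  · rintro ⟨_, ⟨⟨f, g⟩, rfl⟩, rfl⟩
    refine ⟨(f, g), ?_⟩
    change ((A.map φ).submatrix f g).det = φ ((A.submatrix f g).det)
    rw [RingHom.map_det]
    rfl

theorem minorIdeal_zero {n m : ℕ} (A : Matrix (Fin n) (Fin m) R) :
    CAlgX.minorIdeal A 0 = ⊤ := by
  rw [Ideal.eq_top_iff_one]
  have := det_mem_minorIdeal A (r := 0) Fin.elim0 Fin.elim0
  rwa [Matrix.det_isEmpty] at this

theorem minorIdeal_zero_matrix {n m r : ℕ} (hr : 0 < r) :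
    CAlgX.minorIdeal (0 : Matrix (Fin n) (Fin m) R) r = ⊥ := by
  rw [minorIdeal_eq_bot_iff]
  intro f g
  have : Nonempty (Fin r) := ⟨⟨0, hr⟩⟩
  have h0 : (0 : Matrix (Fin n) (Fin m) R).submatrix f g = 0 := by
    ext i j; simp
  rw [h0, Matrix.det_zero]

theorem minorIdeal_eq_bot_of_cols_lt {n m r : ℕ} (A : Matrix (Fin n) (Fin m) R) (h : m < r) :
    CAlgX.minorIdeal A r = ⊥ :=
  Groth.Agent.Lib.Helper47.minorIdeal_eq_bot_of_lt A h

theorem minorIdeal_eq_bot_of_rows_lt {n m r : ℕ} (A : Matrix (Fin n) (Fin m) R) (h : n < r) :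
    CAlgX.minorIdeal A r = ⊥ := by
  rw [minorIdeal_eq_bot_iff]
  intro f g
  have hf : ¬ Function.Injective f := by
    intro hf
    have := Fintype.card_le_of_injective f hf
    simp at this
    omega
  simp only [Function.Injective, not_forall] at hf
  obtain ⟨i, j, hij, hne⟩ := hf
  exact Matrix.det_zero_of_row_eq hne (by ext k; simp [Matrix.submatrix_apply, hij])

theorem minorIdeal_succ_le {n m : ℕ} (A : Matrix (Fin n) (Fin m) R) (r : ℕ) :
    CAlgX.minorIdeal A (r + 1) ≤ CAlgX.minorIdeal A r := by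
  rw [minorIdeal_le_iff]
  intro f g
  rw [Matrix.det_succ_row_zero]
  refine Ideal.sum_mem _ fun j _ => ?_
  apply Ideal.mul_mem_left
  exact det_mem_minorIdeal A (f ∘ Fin.succ) (g ∘ j.succAbove)

theorem minorIdeal_antitone {n m : ℕ} (A : Matrix (Fin n) (Fin m) R) {r k : ℕ} (h : r ≤ k) :
    CAlgX.minorIdeal A k ≤ CAlgX.minorIdeal A r := by
  induction k, h using Nat.le_induction with
  | base => exact le_rfl
  | succ k _ ih => exact (minorIdeal_succ_le A k).trans ih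

theorem minorIdeal_eq_bot_of_le {n m : ℕ} (A : Matrix (Fin n) (Fin m) R) {r k : ℕ}
    (h0 : CAlgX.minorIdeal A r = ⊥) (h : r ≤ k) : CAlgX.minorIdeal A k = ⊥ := by
  rw [eq_bot_iff, ← h0]
  exact minorIdeal_antitone A h

theorem bddAbove_rankSet {n m : ℕ} (A : Matrix (Fin n) (Fin m) R) :
    BddAbove {r : ℕ | CAlgX.minorIdeal A r ≠ ⊥} := by
  refine ⟨m, ?_⟩
  intro r hr
  by_contra hlt
  exact hr (minorIdeal_eq_bot_of_cols_lt A (by omega))

theorem minorIdeal_matrixRank_succ {n m : ℕ} (A : Matrix (Fin n) (Fin m) R) :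
    CAlgX.minorIdeal A (CAlgX.matrixRank A + 1) = ⊥ := by
  by_contra hne
  have : CAlgX.matrixRank A + 1 ≤ CAlgX.matrixRank A :=
    le_csSup (bddAbove_rankSet A) hne
  omega

theorem matrixRank_eq {n m r : ℕ} (A : Matrix (Fin n) (Fin m) R)
    (h1 : CAlgX.minorIdeal A (r + 1) = ⊥) (h2 : CAlgX.minorIdeal A r ≠ ⊥) :
    CAlgX.matrixRank A = r := by
  apply IsGreatest.csSup_eq
  refine ⟨h2, ?_⟩
  intro k hk
  by_contra hlt
  exact hk (minorIdeal_eq_bot_of_le A h1 (by omega))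

theorem minorIdeal_one_eq_bot_iff {n m : ℕ} (A : Matrix (Fin n) (Fin m) R) :
    CAlgX.minorIdeal A 1 = ⊥ ↔ A = 0 := by
  rw [minorIdeal_eq_bot_iff]
  constructor
  · intro h
    ext i j
    have := h (fun _ => i) (fun _ => j)
    rw [Matrix.det_unique] at this
    simpa using this
  · rintro rfl f g
    rw [Matrix.det_unique]
    simp

end Groth.Agent.Lib.Helper73.BE
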