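import Groth.Agent.Lib.Helper73.BE1
import Groth.Agent.S10890

/-!
# Buchsbaum–Eisenbud, part 2: split maps over local rings (helper73)
-/

set_option autoImplicit false
universe u

open Matrix

namespace Groth.Agent.Lib.Helper73.BE

variable {S : Type u} [CommRing S]

/-- The image of `A` is a direct summand of rank `r`. -/
def SplitRk {n m : ℕ} (A : Matrix (Fin n) (Fin m) S) (r : ℕ) : Prop :=
  ∃ N' : Submodule S (Fin n → S), IsCompl (LinearMap.range A.mulVecLin) N' ∧
    Module.finrank S (LinearMap.range A.mulVecLin) = r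

theorem mulVecLin_zero' {n m : ℕ} :
    (0 : Matrix (Fin n) (Fin m) S).mulVecLin = 0 := by
  refine LinearMap.ext fun v => ?_
  simp

theorem splitRk_zero_matrix [Nontrivial S] {n m : ℕ} : SplitRk (0 : Matrix (Fin n) (Fin m) S) 0 := by
  refine ⟨⊤, ?_, ?_⟩
  · rw [mulVecLin_zero', LinearMap.range_zero]
    exact isCompl_bot_top
  · rw [mulVecLin_zero', LinearMap.range_zero]
    exact finrank_bot S _

theorem eq_zero_of_range_eq_bot {n m : ℕ} (A : Matrix (Fin n) (Fin m) S)
    (h : LinearMap.range A.mulVecLin = ⊥) : A = 0 := by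
  ext i j
  have : A.mulVecLin (Pi.single j 1) ∈ LinearMap.range A.mulVecLin := ⟨_, rfl⟩
  rw [h, Submodule.mem_bot] at this
  have := congrFun this i
  simpa using this

section Compl

variable {M : Type u} [AddCommGroup M] [Module S M] [Module.Free S M] [Module.Finite S M]

theorem projective_of_isCompl {p q : Submodule S M} (h : IsCompl p q) : Module.Projective S p := by
  refine Module.Projective.of_split p.subtype (Submodule.linearProjOfIsCompl p q h) ?_
  refine LinearMap.ext fun x => ?_
  exact Submodule.linearProjOfIsCompl_apply_left h x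

theorem finite_of_isCompl {p q : Submodule S M} (h : IsCompl p q) : Module.Finite S p :=
  Module.Finite.of_surjective (Submodule.linearProjOfIsCompl p q h)
    (Submodule.linearProjOfIsCompl_surjective h)

theorem free_of_isCompl [IsLocalRing S] {p q : Submodule S M} (h : IsCompl p q) :
    Module.Free S p := by
  haveI := projective_of_isCompl h
  haveI := finite_of_isCompl h
  exact Module.free_of_flat_of_isLocalRing

theorem finrank_add_of_isCompl [IsLocalRing S] {p q : Submodule S M} (h : IsCompl p q) :
    Module.finrank S p + Module.finrank S q = Module.finrank S M := by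
  haveI := free_of_isCompl h
  haveI := finite_of_isCompl h
  haveI := free_of_isCompl h.symm
  haveI := finite_of_isCompl h.symm
  rw [← Module.finrank_prod, (Submodule.prodEquivOfIsCompl p q h).finrank_eq]

end Compl

theorem splitRk_iff [IsLocalRing S] {n m : ℕ} (A : Matrix (Fin n) (Fin m) S) (r : ℕ) :
    SplitRk A r ↔ CAlgX.minorIdeal A (r + 1) = ⊥ ∧ CAlgX.minorIdeal A r = ⊤ := by
  rcases Nat.eq_zero_or_pos r with rfl | hr
  · constructor
    · rintro ⟨N', hc, hfin⟩
      haveI := free_of_isCompl hc
      haveI := finite_of_isCompl hc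
      have hsub : Subsingleton (LinearMap.range A.mulVecLin) :=
        (Module.finrank_eq_zero_iff_of_free S _).mp hfin
      have hbot : LinearMap.range A.mulVecLin = ⊥ := by
        rw [eq_bot_iff]
        intro x hx
        have : (⟨x, hx⟩ : LinearMap.range A.mulVecLin) = 0 := Subsingleton.elim _ _
        rw [Submodule.mem_bot]
        exact congrArg Subtype.val this
      have hA := eq_zero_of_range_eq_bot A hbot
      exact ⟨(minorIdeal_one_eq_bot_iff A).mpr hA, minorIdeal_zero A⟩
    · rintro ⟨h1, _⟩
      rw [(minorIdeal_one_eq_bot_iff A).mp h1]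
      exact splitRk_zero_matrix
  · by_cases hrn : r ≤ n
    · exact Groth.Agent.S10890.result S n m r hr hrn A
    · constructor
      · rintro ⟨N', hc, hfin⟩
        exfalso
        have h1 := Submodule.finrank_le (LinearMap.range A.mulVecLin)
        rw [Module.finrank_fin_fun, hfin] at h1
        omega
      · rintro ⟨_, h2⟩
        exfalso
        rw [minorIdeal_eq_bot_of_rows_lt A (by omega)] at h2
        exact bot_ne_top h2

theorem range_le_ker_of_mul_eq_zero {a b c : ℕ} (B : Matrix (Fin a) (Fin b) S)
    (C : Matrix (Fin b) (Fin c) S) (hBC : B * C = 0) :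
    LinearMap.range C.mulVecLin ≤ LinearMap.ker B.mulVecLin := by
  rintro _ ⟨w, rfl⟩
  rw [LinearMap.mem_ker, Matrix.mulVecLin_apply, Matrix.mulVecLin_apply, Matrix.mulVec_mulVec, hBC,
    Matrix.zero_mulVec]

theorem mul_eq_zero_of_range_le_ker {a b c : ℕ} (B : Matrix (Fin a) (Fin b) S)
    (C : Matrix (Fin b) (Fin c) S)
    (h : LinearMap.range C.mulVecLin ≤ LinearMap.ker B.mulVecLin) : B * C = 0 := by
  ext i j
  have h1 : C.mulVecLin (Pi.single j 1) ∈ LinearMap.ker B.mulVecLin := h ⟨_, rfl⟩
  rw [LinearMap.mem_ker, Matrix.mulVecLin_apply, Matrix.mulVecLin_apply, Matrix.mulVec_mulVec] at h1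
  have := congrFun h1 i
  simpa using this

/-- Two consecutive split maps of complementary ranks composing to zero are exact. -/
theorem ker_eq_range_of_splitRk [IsLocalRing S] {a b c : ℕ} (B : Matrix (Fin a) (Fin b) S)
    (C : Matrix (Fin b) (Fin c) S) (hBC : B * C = 0) {r r' : ℕ} (hB : SplitRk B r)
    (hC : SplitRk C r') (hr : r + r' = b) :
    LinearMap.ker B.mulVecLin = LinearMap.range C.mulVecLin := by
  obtain ⟨N', hc, hfC⟩ := hC
  obtain ⟨NB, hcB, hfB⟩ := hB
  have hle := range_le_ker_of_mul_eq_zero B C hBC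
  refine le_antisymm ?_ hle
  haveI := free_of_isCompl hc.symm
  haveI := finite_of_isCompl hc.symm
  haveI := free_of_isCompl hcB
  haveI := finite_of_isCompl hcB
  have hrk : Module.finrank S N' = Module.finrank S (LinearMap.range B.mulVecLin) := by
    have := finrank_add_of_isCompl hc
    rw [Module.finrank_fin_fun, hfC] at this
    omega
  let g : N' →ₗ[S] LinearMap.range B.mulVecLin := B.mulVecLin.rangeRestrict.comp N'.subtype
  have hsplit : ∀ v : Fin b → S, ∃ k ∈ LinearMap.range C.mulVecLin, ∃ n' ∈ N', k + n' = v := by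
    intro v
    have : v ∈ LinearMap.range C.mulVecLin ⊔ N' := by rw [hc.sup_eq_top]; trivial
    exact Submodule.mem_sup.mp this
  have hg : Function.Surjective g := by
    rintro ⟨_, ⟨v, rfl⟩⟩
    obtain ⟨k, hk, n', hn', rfl⟩ := hsplit v
    refine ⟨⟨n', hn'⟩, ?_⟩
    apply Subtype.ext
    change B.mulVecLin n' = B.mulVecLin (k + n')
    rw [map_add, LinearMap.mem_ker.mp (hle hk), zero_add]
  have hinj : Function.Injective g :=
    OrzechProperty.injective_of_surjective_of_injective
      (LinearEquiv.ofFinrankEq _ _ hrk).toLinearMap g (LinearEquiv.injective _) hg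
  intro z hz
  obtain ⟨k, hk, n', hn', rfl⟩ := hsplit z
  have h0 : g ⟨n', hn'⟩ = 0 := by
    apply Subtype.ext
    change B.mulVecLin n' = 0
    have := LinearMap.mem_ker.mp hz
    rw [map_add, LinearMap.mem_ker.mp (hle hk), zero_add] at this
    exact this
  have h1 : (⟨n', hn'⟩ : N') = 0 := hinj (by rw [h0, map_zero])
  have h2 : n' = 0 := congrArg Subtype.val h1
  rw [h2, add_zero]
  exact hk

/-- Over a local ring of depth zero, exactness propagates splitness downwards. -/
theorem splitRk_of_exact_of_depth_zero [IsLocalRing S] (y : S) (hy : y ≠ 0)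
    (hmy : ∀ a ∈ IsLocalRing.maximalIdeal S, a * y = 0) {a b c : ℕ}
    (B : Matrix (Fin a) (Fin b) S) (C : Matrix (Fin b) (Fin c) S)
    (hex : LinearMap.ker B.mulVecLin = LinearMap.range C.mulVecLin) {r' : ℕ}
    (hC : SplitRk C r') : ∃ r, r + r' = b ∧ SplitRk B r := by
  classical
  obtain ⟨N', hc, hfC⟩ := hC
  haveI := free_of_isCompl hc.symm
  haveI := finite_of_isCompl hc.symm
  have hrk : r' + Module.finrank S N' = b := by
    have := finrank_add_of_isCompl hc
    rw [Module.finrank_fin_fun, hfC] at this
    exact this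
  set r := Module.finrank S N' with hr
  refine ⟨r, by omega, ?_⟩
  let β : Module.Basis (Fin r) S N' := Module.finBasis S N'
  let D : Matrix (Fin a) (Fin r) S := Matrix.of fun i k => B.mulVec (β k : Fin b → S) i
  have hD : ∀ u : Fin r → S, D.mulVec u = B.mulVec (((∑ k, u k • β k : N') : Fin b → S)) := by
    intro u
    have h1 : ((∑ k, u k • β k : N') : Fin b → S) = ∑ k, u k • (β k : Fin b → S) := by
      rw [Submodule.coe_sum]
      rfl
    rw [h1]
    have h2 : B.mulVec (∑ k, u k • (β k : Fin b → S)) =
        ∑ k, u k • B.mulVec (β k : Fin b → S) := by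
      have := map_sum B.mulVecLin (fun k => u k • (β k : Fin b → S)) Finset.univ
      simp only [Matrix.mulVecLin_apply, Matrix.mulVec_smul] at this
      exact this
    rw [h2]
    funext i
    simp only [Matrix.mulVec, dotProduct, D, Matrix.of_apply, Finset.sum_apply, Pi.smul_apply,
      smul_eq_mul]
    refine Finset.sum_congr rfl fun k _ => ?_
    rw [mul_comm]
  have hsplit : ∀ v : Fin b → S, ∃ k ∈ LinearMap.range C.mulVecLin, ∃ n' ∈ N', k + n' = v := by
    intro v
    have : v ∈ LinearMap.range C.mulVecLin ⊔ N' := by rw [hc.sup_eq_top]; trivial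
    exact Submodule.mem_sup.mp this
  have hDinj : Function.Injective D.mulVecLin := by
    rw [injective_iff_map_eq_zero]
    intro u hu
    have hu' : B.mulVec (((∑ k, u k • β k : N') : Fin b → S)) = 0 := by
      rw [← hD]; exact hu
    have hmem : ((∑ k, u k • β k : N') : Fin b → S) ∈ LinearMap.range C.mulVecLin ⊓ N' := by
      refine ⟨?_, Submodule.coe_mem _⟩
      rw [← hex]
      exact hu'
    rw [hc.inf_eq_bot, Submodule.mem_bot] at hmem
    have h0 : (∑ k, u k • β k : N') = 0 := Subtype.ext hmem
    have := Fintype.linearIndependent_iff.mp β.linearIndependent u h0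
    funext k
    exact this k
  have hmc := (Groth.Agent.Lib.Helper47.mulVecLin_injective_iff D).mp hDinj
  have htop : CAlgX.minorIdeal D r = ⊤ := by
    by_contra hne
    have hle : CAlgX.minorIdeal D r ≤ IsLocalRing.maximalIdeal S := IsLocalRing.le_maximalIdeal hne
    have hyann : y ∈ (CAlgX.detIdeal D).annihilator := by
      rw [Submodule.mem_annihilator]
      intro d hd
      rw [CAlgX.detIdeal, hmc.1] at hd
      rw [smul_eq_mul, mul_comm]
      exact hmy d (hle hd)
    rw [hmc.2, Submodule.mem_bot] at hyann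
    exact hy hyann
  have hDsplit : SplitRk D r :=
    (splitRk_iff D r).mpr ⟨minorIdeal_eq_bot_of_cols_lt D (by omega), htop⟩
  have hrange : LinearMap.range D.mulVecLin = LinearMap.range B.mulVecLin := by
    apply le_antisymm
    · rintro _ ⟨u, rfl⟩
      rw [Matrix.mulVecLin_apply, hD]
      exact ⟨_, rfl⟩
    · rintro _ ⟨v, rfl⟩
      obtain ⟨k, hk, n', hn', rfl⟩ := hsplit v
      refine ⟨β.repr ⟨n', hn'⟩, ?_⟩
      rw [Matrix.mulVecLin_apply, hD, β.sum_repr, Matrix.mulVecLin_apply, Matrix.mulVec_add]
      have hk0 : B.mulVec k = 0 := by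
        have : k ∈ LinearMap.ker B.mulVecLin := by rw [hex]; exact hk
        exact this
      rw [hk0, zero_add]
  obtain ⟨ND, hcD, hfD⟩ := hDsplit
  exact ⟨ND, hrange ▸ hcD, hrange ▸ hfD⟩

end Groth.Agent.Lib.Helper73.BE
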