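import Groth.Agent.Lib.Helper73.BE2

/-!
# Buchsbaum–Eisenbud, part 3: localisation of matrix complexes (helper73)
-/

set_option autoImplicit false
universe u

open Matrix

namespace Groth.Agent.Lib.Helper73.BE

section Loc

variable {R : Type u} [CommRing R] (M : Submonoid R) (S : Type u) [CommRing S] [Algebra R S]
  [IsLocalization M S]

omit [Algebra R S] [IsLocalization M S] in
theorem map_mulVec_comp {S : Type*} [CommRing S] {a b : ℕ} (f : R →+* S) (B : Matrix (Fin a) (Fin b) R) (v : Fin b → R) :
    (B.map f).mulVec (f ∘ v) = f ∘ (B.mulVec v) := by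
  funext i
  exact (RingHom.map_mulVec f B v i).symm

/-- Common denominators for vectors. -/
theorem exists_common_denom {c : ℕ} (w' : Fin c → S) :
    ∃ s ∈ M, ∃ w : Fin c → R, (algebraMap R S s) • w' = algebraMap R S ∘ w := by
  obtain ⟨b, hb⟩ := IsLocalization.exist_integer_multiples_of_finite M w'
  choose w hw using hb
  refine ⟨b, b.2, w, ?_⟩
  funext j
  have := hw j
  simp only [Pi.smul_apply, smul_eq_mul, Function.comp_apply]
  rw [this, Algebra.smul_def]

/-- Simultaneous annihilation of finitely many elements mapping to zero. -/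
theorem exists_mul_eq_zero {k : ℕ} (u : Fin k → R) (hu : algebraMap R S ∘ u = 0) :
    ∃ t ∈ M, t • u = 0 := by
  classical
  have h : ∀ i, ∃ m : M, (m : R) * u i = 0 := by
    intro i
    have := congrFun hu i
    simp only [Function.comp_apply, Pi.zero_apply] at this
    exact (IsLocalization.map_eq_zero_iff M S (u i)).mp this
  choose t ht using h
  refine ⟨∏ i, (t i : R), Submonoid.prod_mem _ fun i _ => (t i).2, ?_⟩
  funext i
  simp only [Pi.smul_apply, smul_eq_mul, Pi.zero_apply]
  rw [← Finset.mul_prod_erase Finset.univ (fun i => (t i : R)) (Finset.mem_univ i)]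
  rw [mul_comm ((t i : R)), mul_assoc, ht i, mul_zero]

include M in
/-- Exactness localises. -/
theorem ker_eq_range_map {a b c : ℕ} (B : Matrix (Fin a) (Fin b) R) (C : Matrix (Fin b) (Fin c) R)
    (hex : LinearMap.ker B.mulVecLin = LinearMap.range C.mulVecLin) :
    LinearMap.ker (B.map (algebraMap R S)).mulVecLin =
      LinearMap.range (C.map (algebraMap R S)).mulVecLin := by
  set f := algebraMap R S with hf
  have hBC : B * C = 0 := mul_eq_zero_of_range_le_ker B C hex.ge
  apply le_antisymm
  · intro v' hv'
    have hv0 : (B.map f).mulVec v' = 0 := hv'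
    obtain ⟨s, hs, v, hv⟩ := exists_common_denom M S v'
    have h1 : f ∘ (B.mulVec v) = 0 := by
      rw [← map_mulVec_comp, ← hv, Matrix.mulVec_smul, hv0, smul_zero]
    obtain ⟨t, ht, htu⟩ := exists_mul_eq_zero M S (B.mulVec v) h1
    have h2 : (t • v) ∈ LinearMap.ker B.mulVecLin := by
      rw [LinearMap.mem_ker, Matrix.mulVecLin_apply, Matrix.mulVec_smul]
      exact htu
    rw [hex] at h2
    obtain ⟨w, hw⟩ := h2
    have hunit : IsUnit (f (t * s)) := IsLocalization.map_units S (⟨t * s, M.mul_mem ht hs⟩ : M)
    obtain ⟨un, hun⟩ := hunit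
    refine ⟨(↑un⁻¹ : S) • (f ∘ w), ?_⟩
    rw [Matrix.mulVecLin_apply, Matrix.mulVec_smul, map_mulVec_comp]
    have hw' : C.mulVec w = t • v := hw
    rw [hw']
    have h3 : f ∘ (t • v) = f t • (f ∘ v) := by
      funext i
      simp
    rw [h3, ← hv, smul_smul, smul_smul]
    have h4 : (↑un⁻¹ : S) * f t * algebraMap R S s = 1 := by
      rw [mul_assoc, ← map_mul, ← hun, Units.inv_mul]
    rw [h4, one_smul]
  · apply range_le_ker_of_mul_eq_zero
    rw [← Matrix.map_mul, hBC]
    ext i j
    simp

/-- If the localised complex is exact, cycles become boundaries after multiplying by a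
denominator. -/
theorem exists_smul_mem_range {a b c : ℕ} (B : Matrix (Fin a) (Fin b) R)
    (C : Matrix (Fin b) (Fin c) R)
    (hex : LinearMap.ker (B.map (algebraMap R S)).mulVecLin ≤
      LinearMap.range (C.map (algebraMap R S)).mulVecLin)
    (v : Fin b → R) (hv : B.mulVec v = 0) :
    ∃ s ∈ M, s • v ∈ LinearMap.range C.mulVecLin := by
  set f := algebraMap R S with hf
  have h1 : f ∘ v ∈ LinearMap.ker (B.map f).mulVecLin := by
    rw [LinearMap.mem_ker, Matrix.mulVecLin_apply, map_mulVec_comp, hv]
    funext i
    simp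
  obtain ⟨w', hw'⟩ := hex h1
  rw [Matrix.mulVecLin_apply] at hw'
  obtain ⟨s, hs, w, hw⟩ := exists_common_denom M S w'
  have h2 : f ∘ (s • v - C.mulVec w) = 0 := by
    have h3 : f ∘ (s • v - C.mulVec w) = f s • (f ∘ v) - f ∘ (C.mulVec w) := by
      funext i
      simp
    rw [h3, ← map_mulVec_comp, ← hw, Matrix.mulVec_smul, hw', sub_self]
  obtain ⟨t, ht, htu⟩ := exists_mul_eq_zero M S _ h2
  refine ⟨t * s, M.mul_mem ht hs, t • w, ?_⟩
  rw [Matrix.mulVecLin_apply, Matrix.mulVec_smul]
  rw [smul_sub, sub_eq_zero] at htu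
  rw [← htu, smul_smul]

end Loc

section Ass

variable {R : Type u} [CommRing R] [IsNoetherianRing R]

/-- The localisation at an associated prime has depth zero. -/
theorem exists_depth_zero_witness (P : Ideal R) (hP : P ∈ associatedPrimes R R) :
    haveI : P.IsPrime := hP.isPrime
    ∃ y : Localization.AtPrime P, y ≠ 0 ∧
      ∀ a ∈ IsLocalRing.maximalIdeal (Localization.AtPrime P), a * y = 0 := by
  haveI : P.IsPrime := hP.isPrime
  obtain ⟨_, z, hz⟩ := (isAssociatedPrime_iff).mp hP
  refine ⟨algebraMap R _ z, ?_, ?_⟩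
  · intro h0
    obtain ⟨t, ht⟩ := (IsLocalization.map_eq_zero_iff P.primeCompl (Localization.AtPrime P) z).mp h0
    apply t.2
    apply hz.ge
    rw [Submodule.mem_colon_singleton, Submodule.mem_bot, smul_eq_mul]
    exact ht
  · intro a ha
    rw [← Localization.AtPrime.map_eq_maximalIdeal] at ha
    have hle : P.map (algebraMap R (Localization.AtPrime P)) ≤
        (⊥ : Submodule (Localization.AtPrime P) (Localization.AtPrime P)).colon
          {algebraMap R (Localization.AtPrime P) z} := by
      rw [Ideal.map_le_iff_le_comap]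
      intro p hp
      rw [Ideal.mem_comap, Submodule.mem_colon_singleton, Submodule.mem_bot, smul_eq_mul,
        ← map_mul]
      rw [hz, Submodule.mem_colon_singleton, Submodule.mem_bot, smul_eq_mul] at hp
      rw [hp, map_zero]
    have := hle ha
    rw [Submodule.mem_colon_singleton, Submodule.mem_bot, smul_eq_mul] at this
    exact this

/-- An element vanishing in the localisations at all associated primes is zero. -/
theorem eq_zero_of_forall_associatedPrimes (d : R)
    (h : ∀ (P : Ideal R) (hP : P ∈ associatedPrimes R R),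
      haveI : P.IsPrime := hP.isPrime
      algebraMap R (Localization.AtPrime P) d = 0) : d = 0 := by
  by_contra hd
  obtain ⟨P, hP, hle⟩ := exists_le_isAssociatedPrime_of_isNoetherianRing R d hd
  haveI : P.IsPrime := hP.isPrime
  have h0 := h P hP
  obtain ⟨t, ht⟩ := (IsLocalization.map_eq_zero_iff P.primeCompl (Localization.AtPrime P) d).mp h0
  apply t.2
  apply hle
  rw [Submodule.mem_colon_singleton, Submodule.mem_bot, smul_eq_mul]
  exact ht

/-- An ideal which becomes the unit ideal at all associated primes contains a nonzerodivisor. -/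
theorem exists_mem_nonZeroDivisors_of_forall_associatedPrimes (I : Ideal R)
    (h : ∀ (P : Ideal R) (hP : P ∈ associatedPrimes R R),
      haveI : P.IsPrime := hP.isPrime
      I.map (algebraMap R (Localization.AtPrime P)) = ⊤) :
    ∃ x ∈ I, x ∈ nonZeroDivisors R := by
  by_contra hcon
  push Not at hcon
  have hdisj : Disjoint (I : Set R) (nonZeroDivisors R) := by
    rw [Set.disjoint_left]
    intro a haI haN
    exact hcon a haI haN
  obtain ⟨P, hP, hIP⟩ : ∃ P ∈ associatedPrimes R R, I ≤ P :=
    (I.subset_union_prime_finite (associatedPrimes.finite ..) (f := id) 0 0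
      fun _ h _ _ ↦ h.1).1 <|
    biUnion_associatedPrimes_eq_compl_nonZeroDivisors R ▸ hdisj.subset_compl_right
  haveI : P.IsPrime := hP.isPrime
  have h1 := h P hP
  have h2 : I.map (algebraMap R (Localization.AtPrime P)) ≤
      IsLocalRing.maximalIdeal (Localization.AtPrime P) := by
    rw [← Localization.AtPrime.map_eq_maximalIdeal]
    exact Ideal.map_mono hIP
  rw [h1] at h2
  exact (IsLocalRing.maximalIdeal.isMaximal _).ne_top (top_le_iff.mp h2)

end Ass

end Groth.Agent.Lib.Helper73.BE
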