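import Groth.Agent.Lib.Helper73.BE3
import Groth.Agent.Lib.Helper29.DepthSelf
import Groth.Agent.Lib.Helper29.DepthFiniteAlg

/-!
# Buchsbaum–Eisenbud, part 4: reduction modulo a regular element (helper73)
-/

set_option autoImplicit false
universe u

open Matrix

namespace Groth.Agent.Lib.Helper73.BE

variable {R : Type u} [CommRing R] (x : R)

theorem exists_lift_vec {c : ℕ} (w' : Fin c → R ⧸ Ideal.span {x}) :
    ∃ w : Fin c → R, Ideal.Quotient.mk (Ideal.span {x}) ∘ w = w' := by
  choose w hw using fun j => Ideal.Quotient.mk_surjective (w' j)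
  exact ⟨w, funext hw⟩

theorem exists_eq_smul_of_mk_comp_eq_zero {b : ℕ} (v : Fin b → R)
    (hv : Ideal.Quotient.mk (Ideal.span {x}) ∘ v = 0) : ∃ v' : Fin b → R, v = x • v' := by
  have h : ∀ i, ∃ a, a * x = v i := by
    intro i
    have := congrFun hv i
    simp only [Function.comp_apply, Pi.zero_apply, Ideal.Quotient.eq_zero_iff_mem] at this
    exact Ideal.mem_span_singleton'.mp this
  choose v' hv' using h
  refine ⟨v', ?_⟩
  funext i
  simp only [Pi.smul_apply, smul_eq_mul]
  rw [← hv' i, mul_comm]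

theorem mk_comp_smul {b : ℕ} (v : Fin b → R) :
    Ideal.Quotient.mk (Ideal.span {x}) ∘ (x • v) = 0 := by
  funext i
  simp only [Function.comp_apply, Pi.smul_apply, smul_eq_mul, Pi.zero_apply,
    Ideal.Quotient.eq_zero_iff_mem]
  exact Ideal.mul_mem_right _ _ (Ideal.mem_span_singleton_self x)

theorem smul_vec_cancel {b : ℕ} (hx : IsSMulRegular R x) {v v' : Fin b → R}
    (h : x • v = x • v') : v = v' := by
  funext i
  exact hx (congrFun h i)

/-- Exactness in positive degrees is inherited by the reduction modulo a regular element. -/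
theorem ker_eq_range_map_mk (hx : IsSMulRegular R x) {a b c d : ℕ}
    (B : Matrix (Fin a) (Fin b) R) (C : Matrix (Fin b) (Fin c) R) (D : Matrix (Fin c) (Fin d) R)
    (hBC : LinearMap.ker B.mulVecLin = LinearMap.range C.mulVecLin)
    (hCD : LinearMap.ker C.mulVecLin = LinearMap.range D.mulVecLin) :
    LinearMap.ker (C.map (Ideal.Quotient.mk (Ideal.span {x}))).mulVecLin =
      LinearMap.range (D.map (Ideal.Quotient.mk (Ideal.span {x}))).mulVecLin := by
  set π := Ideal.Quotient.mk (Ideal.span {x}) with hπ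
  have hBC0 : B * C = 0 := mul_eq_zero_of_range_le_ker B C hBC.ge
  have hCD0 : C * D = 0 := mul_eq_zero_of_range_le_ker C D hCD.ge
  apply le_antisymm
  · intro w' hw'
    have hw0 : (C.map π).mulVec w' = 0 := hw'
    obtain ⟨w, rfl⟩ := exists_lift_vec x w'
    rw [map_mulVec_comp] at hw0
    obtain ⟨v, hv⟩ := exists_eq_smul_of_mk_comp_eq_zero x _ hw0
    have h1 : x • B.mulVec v = x • (0 : Fin a → R) := by
      rw [← Matrix.mulVec_smul, ← hv, Matrix.mulVec_mulVec, hBC0, Matrix.zero_mulVec, smul_zero]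
    have h2 : B.mulVec v = 0 := smul_vec_cancel x hx h1
    have h3 : v ∈ LinearMap.range C.mulVecLin := by rw [← hBC]; exact h2
    obtain ⟨w1, hw1⟩ := h3
    rw [Matrix.mulVecLin_apply] at hw1
    have h4 : (w - x • w1) ∈ LinearMap.ker C.mulVecLin := by
      rw [LinearMap.mem_ker, Matrix.mulVecLin_apply, Matrix.mulVec_sub, Matrix.mulVec_smul, hw1,
        hv, sub_self]
    rw [hCD] at h4
    obtain ⟨u, hu⟩ := h4
    rw [Matrix.mulVecLin_apply] at hu
    refine ⟨π ∘ u, ?_⟩
    rw [Matrix.mulVecLin_apply, map_mulVec_comp, hu]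
    funext i
    simp only [Function.comp_apply, Pi.sub_apply, Pi.smul_apply, smul_eq_mul, map_sub, map_mul]
    have : π x = 0 := by
      rw [hπ, Ideal.Quotient.eq_zero_iff_mem]
      exact Ideal.mem_span_singleton_self x
    rw [this, zero_mul, sub_zero]
  · apply range_le_ker_of_mul_eq_zero
    rw [← Matrix.map_mul, hCD0]
    ext i j
    simp

/-- If the reduction modulo a regular element `x` is exact at the next spot, then `x` is regular
on the cokernel. -/
theorem mem_range_of_smul_mem_range (hx : IsSMulRegular R x) {b c d : ℕ}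
    (C : Matrix (Fin b) (Fin c) R) (D : Matrix (Fin c) (Fin d) R) (hCD0 : C * D = 0)
    (hex : LinearMap.ker (C.map (Ideal.Quotient.mk (Ideal.span {x}))).mulVecLin ≤
      LinearMap.range (D.map (Ideal.Quotient.mk (Ideal.span {x}))).mulVecLin)
    (v : Fin b → R) (hv : x • v ∈ LinearMap.range C.mulVecLin) :
    v ∈ LinearMap.range C.mulVecLin := by
  set π := Ideal.Quotient.mk (Ideal.span {x}) with hπ
  obtain ⟨w, hw⟩ := hv
  rw [Matrix.mulVecLin_apply] at hw
  have h1 : π ∘ w ∈ LinearMap.ker (C.map π).mulVecLin := by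
    rw [LinearMap.mem_ker, Matrix.mulVecLin_apply, map_mulVec_comp, hw]
    exact mk_comp_smul x v
  obtain ⟨u', hu'⟩ := hex h1
  rw [Matrix.mulVecLin_apply] at hu'
  obtain ⟨u, rfl⟩ := exists_lift_vec x u'
  rw [map_mulVec_comp] at hu'
  have h2 : π ∘ (w - D.mulVec u) = 0 := by
    funext i
    have := congrFun hu' i
    simp only [Function.comp_apply, Pi.sub_apply, map_sub, Pi.zero_apply] at this ⊢
    rw [this, sub_self]
  obtain ⟨w1, hw1⟩ := exists_eq_smul_of_mk_comp_eq_zero x _ h2
  have h3 : x • v = x • C.mulVec w1 := by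
    rw [← Matrix.mulVec_smul, ← hw1, Matrix.mulVec_sub, Matrix.mulVec_mulVec, hCD0,
      Matrix.zero_mulVec, sub_zero, hw]
  exact ⟨w1, (smul_vec_cancel x hx h3).symm⟩

/-- Depth drops by one modulo a regular element of the ideal. -/
theorem idealDepth_map_mk_add_one [IsNoetherianRing R] (I : Ideal R) (hxI : x ∈ I)
    (hx : IsSMulRegular R x) :
    LocCoh.idealDepth (I.map (Ideal.Quotient.mk (Ideal.span {x}))) (R ⧸ Ideal.span {x}) + 1 =
      LocCoh.idealDepth I R := by
  rw [← Groth.Agent.Lib.Helper29.idealDepth_quotSMulTop_add_one I R hxI hx]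
  congr 1
  rw [← Groth.Agent.Lib.Helper29.idealDepth_congr I
    (Groth.Agent.Lib.Helper29.quotientSpanSingletonEquivQuotSMulTop R x)]
  exact (Groth.Agent.Lib.Helper29.idealDepth_map_eq (A := R) (B := R ⧸ Ideal.span {x}) I
    (R ⧸ Ideal.span {x})).symm

end Groth.Agent.Lib.Helper73.BE
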