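import Groth.Agent.Lib.Helper73.BE4

/-!
# Buchsbaum–Eisenbud, part 5: sufficiency (helper73)
-/

set_option autoImplicit false
universe u

open Matrix RingTheory.Sequence

namespace Groth.Agent.Lib.Helper73.BE

theorem smul_top_eq_self {R : Type u} [CommRing R] (I : Ideal R) :
    I • (⊤ : Submodule R R) = I := by
  rw [smul_eq_mul, Ideal.mul_top]

theorem idealDepth_top {R : Type u} [CommRing R] : LocCoh.idealDepth (⊤ : Ideal R) R = ⊤ :=
  Groth.Agent.Lib.Helper29.idealDepth_of_smul_top_eq _ _ (smul_top_eq_self ⊤)

/-- An ideal of positive depth contains a regular element. -/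
theorem exists_regular_mem_of_le_idealDepth {R : Type u} [CommRing R] (I : Ideal R) {k : ℕ}
    (hk : 1 ≤ k) (h : (k : ℕ∞) ≤ LocCoh.idealDepth I R) : ∃ x ∈ I, IsSMulRegular R x := by
  have h1 : ((1 : ℕ) : ℕ∞) ≤ LocCoh.idealDepth I R := le_trans (by exact_mod_cast hk) h
  rcases (Groth.Agent.Lib.Helper29.le_idealDepth_iff I R 1).mp h1 with
    htop | ⟨rs, hlen, hmem, hreg⟩
  · rw [smul_top_eq_self] at htop
    exact ⟨1, by rw [htop]; trivial, IsSMulRegular.one R⟩
  · obtain ⟨x, rfl⟩ := List.length_eq_one_iff.mp hlen
    exact ⟨x, hmem x (by simp), ((isWeaklyRegular_cons_iff R x []).mp hreg).1⟩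

theorem one_le_idealDepth_of_regular_mem {R : Type u} [CommRing R] (I : Ideal R) (x : R)
    (hxI : x ∈ I) (hx : IsSMulRegular R x) : ((1 : ℕ) : ℕ∞) ≤ LocCoh.idealDepth I R := by
  rw [Groth.Agent.Lib.Helper29.le_idealDepth_iff]
  refine Or.inr ⟨[x], rfl, ?_, ?_⟩
  · intro r hr
    rw [List.mem_singleton] at hr
    rw [hr]; exact hxI
  · exact (isWeaklyRegular_cons_iff R x []).mpr ⟨hx, IsWeaklyRegular.nil R _⟩

theorem enat_le_of_add_one {a : ℕ∞} {k : ℕ} (h : ((k + 1 : ℕ) : ℕ∞) ≤ a + 1) :
    (k : ℕ∞) ≤ a := by
  induction a using ENat.recTopCoe with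
  | top => exact le_top
  | coe a =>
    have : ((k + 1 : ℕ) : ℕ∞) ≤ ((a + 1 : ℕ) : ℕ∞) := by exact_mod_cast h
    have h2 : k + 1 ≤ a + 1 := by exact_mod_cast this
    exact_mod_cast (by omega : k ≤ a)

theorem map_mk_eq_zero {R : Type u} [CommRing R] (I : Ideal R) {a b : ℕ} :
    (0 : Matrix (Fin a) (Fin b) R).map (Ideal.Quotient.mk I) = 0 := by
  ext i j
  simp

theorem map_ringHom_zero {R S : Type*} [CommRing R] [CommRing S] (f : R →+* S) {a b : ℕ} :
    (0 : Matrix (Fin a) (Fin b) R).map f = 0 := by
  ext i j
  simp

/-- **Buchsbaum–Eisenbud, sufficiency**, for normalised complexes (`A e = 0`). -/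
theorem suff (e : ℕ) : ∀ (R : Type u) [CommRing R] [IsNoetherianRing R] (n : ℕ → ℕ)
    (A : (i : ℕ) → Matrix (Fin (n i)) (Fin (n (i + 1))) R), A e = 0 →
    (∀ i, i < e → A i * A (i + 1) = 0) →
    ∀ ρ : ℕ → ℕ, ρ e = 0 → (∀ i, i < e → ρ i + ρ (i + 1) = n (i + 1)) →
    (∀ i, i < e → CAlgX.minorIdeal (A i) (ρ i + 1) = ⊥) →
    (∀ i, i < e →
      ((i + 1 : ℕ) : ℕ∞) ≤ LocCoh.idealDepth (CAlgX.minorIdeal (A i) (ρ i)) R) →
    ∀ i, i < e → LinearMap.ker (A i).mulVecLin = LinearMap.range (A (i + 1)).mulVecLin := by
  induction e with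
  | zero =>
    intro R _ _ n A _ _ ρ _ _ _ _ i hi
    omega
  | succ e ih =>
    intro R _ _ n A hAe hcomp ρ hρe hρ hmin hdep
    have hshift := ih R (fun i => n (i + 1)) (fun i => A (i + 1)) hAe
      (fun i hi => hcomp (i + 1) (by omega)) (fun i => ρ (i + 1)) hρe
      (fun i hi => hρ (i + 1) (by omega)) (fun i hi => hmin (i + 1) (by omega))
      (fun i hi => le_trans (by exact_mod_cast (by omega : i + 1 ≤ i + 1 + 1))
        (hdep (i + 1) (by omega)))
    have hmain : LinearMap.ker (A 0).mulVecLin = LinearMap.range (A 1).mulVecLin := by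
      have hle : LinearMap.range (A 1).mulVecLin ≤ LinearMap.ker (A 0).mulVecLin :=
        range_le_ker_of_mul_eq_zero (A 0) (A 1) (hcomp 0 (by omega))
      refine le_antisymm ?_ hle
      -- regular elements in all the determinantal ideals
      have hexx : ∀ i, ∃ x, i < e + 1 →
          x ∈ CAlgX.minorIdeal (A i) (ρ i) ∧ IsSMulRegular R x := by
        intro i
        by_cases hi : i < e + 1
        · obtain ⟨x, hx, hreg⟩ := exists_regular_mem_of_le_idealDepth _
            (by omega : 1 ≤ i + 1) (hdep i hi)
          exact ⟨x, fun _ => ⟨hx, hreg⟩⟩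
        · exact ⟨0, fun h => absurd h hi⟩
      choose xs hxs using hexx
      set x := ∏ i ∈ Finset.range (e + 1), xs i with hxdef
      have hxmem : ∀ i, i < e + 1 → x ∈ CAlgX.minorIdeal (A i) (ρ i) := by
        intro i hi
        obtain ⟨c, hc⟩ := Finset.dvd_prod_of_mem xs (Finset.mem_range.mpr hi)
        rw [hxdef, hc]
        exact Ideal.mul_mem_right _ _ (hxs i hi).1
      have hxreg : IsSMulRegular R x := by
        apply Finset.prod_induction xs (fun y => IsSMulRegular R y)
        · intro a b ha hb; exact ha.mul hb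
        · exact IsSMulRegular.one R
        · intro i hi; exact (hxs i (Finset.mem_range.mp hi)).2
      -- `x` is regular on the cokernel of `A 1`
      have hReg : ∀ v : Fin (n 1) → R, x • v ∈ LinearMap.range (A 1).mulVecLin →
          v ∈ LinearMap.range (A 1).mulVecLin := by
        rcases Nat.eq_zero_or_pos e with he0 | hepos
        · subst he0
          intro v hv
          have hA1 : A 1 = 0 := hAe
          rw [hA1, mulVecLin_zero', LinearMap.range_zero, Submodule.mem_bot] at hv ⊢
          have : x • v = x • (0 : Fin (n 1) → R) := by rw [hv, smul_zero]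
          exact smul_vec_cancel x hxreg this
        · -- the reduction modulo `x`
          have hbar := ih (R ⧸ Ideal.span {x}) (fun i => n (i + 1))
            (fun i => (A (i + 1)).map (Ideal.Quotient.mk (Ideal.span {x})))
            (by
              change (A (e + 1)).map (Ideal.Quotient.mk (Ideal.span {x})) = 0
              rw [hAe]; exact map_mk_eq_zero _)
            (fun i hi => by
              change (A (i + 1)).map (Ideal.Quotient.mk (Ideal.span {x})) *
                (A (i + 1 + 1)).map (Ideal.Quotient.mk (Ideal.span {x})) = 0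
              rw [← Matrix.map_mul, hcomp (i + 1) (by omega)]; exact map_mk_eq_zero _)
            (fun i => ρ (i + 1)) hρe (fun i hi => hρ (i + 1) (by omega))
            (fun i hi => by
              change CAlgX.minorIdeal ((A (i + 1)).map (Ideal.Quotient.mk (Ideal.span {x})))
                (ρ (i + 1) + 1) = ⊥
              rw [minorIdeal_map, hmin (i + 1) (by omega), Ideal.map_bot])
            (fun i hi => by
              change ((i + 1 : ℕ) : ℕ∞) ≤ LocCoh.idealDepth (CAlgX.minorIdeal
                ((A (i + 1)).map (Ideal.Quotient.mk (Ideal.span {x}))) (ρ (i + 1))) _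
              rw [minorIdeal_map]
              apply enat_le_of_add_one
              rw [idealDepth_map_mk_add_one x _ (hxmem (i + 1) (by omega)) hxreg]
              exact hdep (i + 1) (by omega))
          have h0 := hbar 0 hepos
          intro v hv
          exact mem_range_of_smul_mem_range x hxreg (A 1) (A 2) (hcomp 1 (by omega)) h0.le v hv
      -- cycles are `x`-power torsion modulo boundaries
      have hTors : ∀ v : Fin (n 1) → R, (A 0).mulVec v = 0 →
          ∃ k : ℕ, x ^ k • v ∈ LinearMap.range (A 1).mulVecLin := by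
        intro v hv
        set J : Ideal R := (LinearMap.range (A 1).mulVecLin).colon {v} with hJ
        have hxJ : x ∈ J.radical := by
          rw [Ideal.radical_eq_sInf, Ideal.mem_sInf]
          rintro P ⟨hJP, hPprime⟩
          by_contra hxP
          haveI := hPprime
          set f := algebraMap R (Localization.AtPrime P) with hf
          have hunit : IsUnit (f x) :=
            IsLocalization.map_units (Localization.AtPrime P) (⟨x, hxP⟩ : P.primeCompl)
          have hS0 : SplitRk ((A 0).map f) (ρ 0) := by
            rw [splitRk_iff, minorIdeal_map, minorIdeal_map, hmin 0 (by omega), Ideal.map_bot]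
            exact ⟨rfl, Ideal.eq_top_of_isUnit_mem _
              (Ideal.mem_map_of_mem f (hxmem 0 (by omega))) hunit⟩
          have hS1 : SplitRk ((A 1).map f) (ρ 1) := by
            rcases Nat.eq_zero_or_pos e with he0 | hepos
            · subst he0
              have hA1 : A 1 = 0 := hAe
              have hρ1 : ρ 1 = 0 := hρe
              rw [hA1, hρ1, map_ringHom_zero]
              exact splitRk_zero_matrix
            · rw [splitRk_iff, minorIdeal_map, minorIdeal_map, hmin 1 (by omega), Ideal.map_bot]
              exact ⟨rfl, Ideal.eq_top_of_isUnit_mem _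
                (Ideal.mem_map_of_mem f (hxmem 1 (by omega))) hunit⟩
          have hcomp0 : (A 0).map f * (A 1).map f = 0 := by
            rw [← Matrix.map_mul, hcomp 0 (by omega)]; exact map_ringHom_zero f
          have hexS := ker_eq_range_of_splitRk _ _ hcomp0 hS0 hS1 (hρ 0 (by omega))
          obtain ⟨s, hs, hsv⟩ := exists_smul_mem_range P.primeCompl (Localization.AtPrime P)
            (A 0) (A 1) hexS.le v hv
          apply hs
          apply hJP
          rw [hJ, Submodule.mem_colon_singleton]
          exact hsv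
        obtain ⟨k, hk⟩ := hxJ
        refine ⟨k, ?_⟩
        rw [hJ, Submodule.mem_colon_singleton] at hk
        exact hk
      intro v hv
      obtain ⟨k, hk⟩ := hTors v hv
      induction k with
      | zero => simpa using hk
      | succ k ihk =>
        apply ihk
        apply hReg
        rw [smul_smul, ← pow_succ']
        exact hk
    intro i hi
    rcases Nat.eq_zero_or_pos i with rfl | hpos
    · exact hmain
    · obtain ⟨i', rfl⟩ := Nat.exists_eq_succ_of_ne_zero (by omega : i ≠ 0)
      exact hshift i' (by omega)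

end Groth.Agent.Lib.Helper73.BE
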