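import Groth.Agent.Lib.Helper73.BE5

/-!
# Buchsbaum–Eisenbud, part 6: sufficiency in the form of the statement (helper73)
-/

set_option autoImplicit false
universe u

open Matrix RingTheory.Sequence

namespace Groth.Agent.Lib.Helper73.BE

theorem altsum_succ (n : ℕ → ℕ) (e j : ℕ) (hj : j ≤ e) :
    ∑ t ∈ Finset.Icc j e, (-1 : ℤ) ^ (t - j) * (n t : ℤ) =
      (n j : ℤ) - ∑ t ∈ Finset.Icc (j + 1) e, (-1 : ℤ) ^ (t - (j + 1)) * (n t : ℤ) := by
  rw [Finset.Icc_eq_cons_Ioc hj, Finset.sum_cons, ← Finset.Icc_add_one_left_eq_Ioc, Nat.sub_self,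
    pow_zero, one_mul, sub_eq_add_neg, ← Finset.sum_neg_distrib]
  congr 1
  refine Finset.sum_congr rfl fun t ht => ?_
  rw [Finset.mem_Icc] at ht
  have : t - j = (t - (j + 1)) + 1 := by omega
  rw [this, pow_succ]
  ring

theorem altsum_empty (n : ℕ → ℕ) (e j : ℕ) (hj : e < j) :
    ∑ t ∈ Finset.Icc j e, (-1 : ℤ) ^ (t - j) * (n t : ℤ) = 0 := by
  rw [Finset.Icc_eq_empty (by omega), Finset.sum_empty]

/-- The complex normalised so that the map out of the top term is zero. -/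
def normA {R : Type u} [CommRing R] (e : ℕ) (n : ℕ → ℕ)
    (A : (i : ℕ) → Matrix (Fin (n i)) (Fin (n (i + 1))) R) :
    (i : ℕ) → Matrix (Fin (n i)) (Fin (n (i + 1))) R :=
  fun i => if i < e then A i else 0

theorem normA_of_lt {R : Type u} [CommRing R] {e : ℕ} {n : ℕ → ℕ}
    (A : (i : ℕ) → Matrix (Fin (n i)) (Fin (n (i + 1))) R) {i : ℕ} (h : i < e) :
    normA e n A i = A i := if_pos h

theorem normA_of_le {R : Type u} [CommRing R] {e : ℕ} {n : ℕ → ℕ}
    (A : (i : ℕ) → Matrix (Fin (n i)) (Fin (n (i + 1))) R) {i : ℕ} (h : e ≤ i) :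
    normA e n A i = 0 := if_neg (by omega)

theorem le_idealDepth_of_top_or_regular {R : Type u} [CommRing R] (I : Ideal R) (j : ℕ)
    (h : I = ⊤ ∨ ∃ rs : List R, rs.length = j ∧ (∀ r ∈ rs, r ∈ I) ∧ IsRegular R rs) :
    (j : ℕ∞) ≤ LocCoh.idealDepth I R := by
  rw [Groth.Agent.Lib.Helper29.le_idealDepth_iff]
  rcases h with h | ⟨rs, h1, h2, h3⟩
  · left
    rw [smul_top_eq_self, h]
  · exact Or.inr ⟨rs, h1, h2, h3.toIsWeaklyRegular⟩

theorem top_or_regular_of_le_idealDepth {R : Type u} [CommRing R] (I : Ideal R) (j : ℕ)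
    (h : (j : ℕ∞) ≤ LocCoh.idealDepth I R) :
    I = ⊤ ∨ ∃ rs : List R, rs.length = j ∧ (∀ r ∈ rs, r ∈ I) ∧ IsRegular R rs := by
  by_cases htop : I = ⊤
  · exact Or.inl htop
  · right
    have htop' : I • (⊤ : Submodule R R) ≠ ⊤ := by rwa [smul_top_eq_self]
    rcases (Groth.Agent.Lib.Helper29.le_idealDepth_iff I R j).mp h with h1 | ⟨rs, h1, h2, h3⟩
    · exact absurd h1 htop'
    · exact ⟨rs, h1, h2,
        Groth.Agent.Lib.Helper29.isRegular_of_isWeaklyRegular_of_mem htop' h3 h2⟩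

/-- **Buchsbaum–Eisenbud, sufficiency**, in the form of the milestone. -/
theorem exact_of_rank_and_detIdeal {R : Type u} [CommRing R] [IsNoetherianRing R]
    (e : ℕ) (he : 1 ≤ e) (n : ℕ → ℕ) (A : (i : ℕ) → Matrix (Fin (n i)) (Fin (n (i + 1))) R)
    (hA : ∀ i, i + 2 ≤ e → A i * A (i + 1) = 0)
    (hrank : ∀ j, 1 ≤ j → j ≤ e →
      (CAlgX.matrixRank (A (j - 1)) : ℤ) = ∑ t ∈ Finset.Icc j e, (-1 : ℤ) ^ (t - j) * (n t : ℤ))
    (hdet : ∀ j, 1 ≤ j → j ≤ e →
      CAlgX.detIdeal (A (j - 1)) = ⊤ ∨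
        ∃ rs : List R, rs.length = j ∧ (∀ r ∈ rs, r ∈ CAlgX.detIdeal (A (j - 1))) ∧
          RingTheory.Sequence.IsRegular R rs) :
    LinearMap.ker (A (e - 1)).mulVecLin = ⊥ ∧
      ∀ i, i + 2 ≤ e → LinearMap.ker (A i).mulVecLin = LinearMap.range (A (i + 1)).mulVecLin := by
  have hrank' : ∀ i, i < e → (CAlgX.matrixRank (A i) : ℤ) =
      ∑ t ∈ Finset.Icc (i + 1) e, (-1 : ℤ) ^ (t - (i + 1)) * (n t : ℤ) :=
    fun i hi => hrank (i + 1) (by omega) (by omega)
  have hdet' : ∀ i, i < e → CAlgX.detIdeal (A i) = ⊤ ∨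
        ∃ rs : List R, rs.length = i + 1 ∧ (∀ r ∈ rs, r ∈ CAlgX.detIdeal (A i)) ∧
          RingTheory.Sequence.IsRegular R rs :=
    fun i hi => hdet (i + 1) (by omega) (by omega)
  set ρ : ℕ → ℕ := fun i => if i < e then CAlgX.matrixRank (A i) else 0 with hρdef
  have hρlt : ∀ i, i < e → ρ i = CAlgX.matrixRank (A i) := fun i hi => if_pos hi
  have hρge : ∀ i, e ≤ i → ρ i = 0 := fun i hi => if_neg (by omega)
  have key := suff e R n (normA e n A) (normA_of_le A le_rfl)
    (fun i hi => by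
      by_cases h1 : i + 1 < e
      · rw [normA_of_lt A hi, normA_of_lt A h1]
        exact hA i (by omega)
      · rw [normA_of_le A (by omega : e ≤ i + 1), Matrix.mul_zero])
    ρ (hρge e le_rfl)
    (fun i hi => by
      by_cases h1 : i + 1 < e
      · have e1 := hrank' i hi
        have e2 := hrank' (i + 1) h1
        rw [altsum_succ n e (i + 1) (by omega)] at e1
        rw [hρlt i hi, hρlt (i + 1) h1]
        omega
      · have e1 := hrank' i hi
        rw [altsum_succ n e (i + 1) (by omega), altsum_empty n e (i + 1 + 1) (by omega)] at e1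
        rw [hρlt i hi, hρge (i + 1) (by omega)]
        omega)
    (fun i hi => by
      rw [normA_of_lt A hi, hρlt i hi]
      exact minorIdeal_matrixRank_succ (A i))
    (fun i hi => by
      rw [normA_of_lt A hi, hρlt i hi]
      exact le_idealDepth_of_top_or_regular _ _ (hdet' i hi))
  constructor
  · have := key (e - 1) (by omega)
    rw [normA_of_lt A (by omega : e - 1 < e), normA_of_le A (by omega : e ≤ e - 1 + 1),
      mulVecLin_zero', LinearMap.range_zero] at this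
    exact this
  · intro i hi
    have := key i (by omega)
    rw [normA_of_lt A (by omega : i < e), normA_of_lt A (by omega : i + 1 < e)] at this
    exact this

end Groth.Agent.Lib.Helper73.BE
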