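import Groth.Agent.Lib.Helper73.BE6

/-!
# Buchsbaum–Eisenbud, part 7: necessity (helper73)
-/

set_option autoImplicit false
universe u

open Matrix RingTheory.Sequence

namespace Groth.Agent.Lib.Helper73.BE

/-- The expected ranks are determined by the recursion. -/
theorem rho_unique (e : ℕ) (m : ℕ → ℕ) (ρ ρ' : ℕ → ℕ) (h0 : ρ e = 0) (h0' : ρ' e = 0)
    (h : ∀ i, i < e → ρ i + ρ (i + 1) = m (i + 1))
    (h' : ∀ i, i < e → ρ' i + ρ' (i + 1) = m (i + 1)) : ∀ i, i ≤ e → ρ i = ρ' i := by
  have key : ∀ k i, i + k = e → ρ i = ρ' i := by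
    intro k
    induction k with
    | zero =>
      intro i hi
      have : i = e := by omega
      rw [this, h0, h0']
    | succ k ih =>
      intro i hi
      have h1 := h i (by omega)
      have h2 := h' i (by omega)
      have h3 := ih (i + 1) (by omega)
      omega
  intro i hi
  exact key (e - i) i (by omega)

theorem rho_eq_altsum (e : ℕ) (n : ℕ → ℕ) (ρ : ℕ → ℕ) (h0 : ρ e = 0)
    (h : ∀ i, i < e → ρ i + ρ (i + 1) = n (i + 1)) : ∀ i, i ≤ e →
      (ρ i : ℤ) = ∑ t ∈ Finset.Icc (i + 1) e, (-1 : ℤ) ^ (t - (i + 1)) * (n t : ℤ) := by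
  have key : ∀ k i, i + k = e →
      (ρ i : ℤ) = ∑ t ∈ Finset.Icc (i + 1) e, (-1 : ℤ) ^ (t - (i + 1)) * (n t : ℤ) := by
    intro k
    induction k with
    | zero =>
      intro i hi
      have : i = e := by omega
      rw [this, h0, altsum_empty n e (e + 1) (by omega)]
      rfl
    | succ k ih =>
      intro i hi
      have h1 := h i (by omega)
      have h3 := ih (i + 1) (by omega)
      rw [altsum_succ n e (i + 1) (by omega), ← h3]
      omega
  intro i hi
  exact key (e - i) i (by omega)

theorem isSMulRegular_of_mem_nonZeroDivisors {R : Type u} [CommRing R] {x : R}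
    (hx : x ∈ nonZeroDivisors R) : IsSMulRegular R x := by
  intro a b hab
  have h1 : x * (a - b) = 0 := by
    have : x * a = x * b := hab
    rw [mul_sub, this, sub_self]
  have := (mem_nonZeroDivisors_iff.mp hx).1 (a - b) h1
  exact sub_eq_zero.mp this

/-- A common regular element of finitely many ideals containing regular elements. -/
theorem exists_common_regular {R : Type u} [CommRing R] (N : ℕ) (I : ℕ → Ideal R)
    (h : ∀ i, i < N → ∃ x ∈ I i, IsSMulRegular R x) :
    ∃ x, IsSMulRegular R x ∧ ∀ i, i < N → x ∈ I i := by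
  have hexx : ∀ i, ∃ x, i < N → x ∈ I i ∧ IsSMulRegular R x := by
    intro i
    by_cases hi : i < N
    · obtain ⟨x, hx, hreg⟩ := h i hi
      exact ⟨x, fun _ => ⟨hx, hreg⟩⟩
    · exact ⟨0, fun h => absurd h hi⟩
  choose xs hxs using hexx
  refine ⟨∏ i ∈ Finset.range N, xs i, ?_, ?_⟩
  · apply Finset.prod_induction xs (fun y => IsSMulRegular R y)
    · intro a b ha hb; exact ha.mul hb
    · exact IsSMulRegular.one R
    · intro i hi; exact (hxs i (Finset.mem_range.mp hi)).2
  · intro i hi
    obtain ⟨c, hc⟩ := Finset.dvd_prod_of_mem xs (Finset.mem_range.mpr hi)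
    rw [hc]
    exact Ideal.mul_mem_right _ _ (hxs i hi).1

/-- Over a local ring of depth zero an exact complex of finite free modules splits. -/
theorem splitRk_chain_of_depth_zero {S : Type u} [CommRing S] [IsLocalRing S] (y : S) (hy : y ≠ 0)
    (hmy : ∀ a ∈ IsLocalRing.maximalIdeal S, a * y = 0) (n : ℕ → ℕ)
    (A : (i : ℕ) → Matrix (Fin (n i)) (Fin (n (i + 1))) S) (e : ℕ)
    (hAe : ∀ i, e ≤ i → A i = 0)
    (hex : ∀ i, i < e →
      LinearMap.ker (A i).mulVecLin = LinearMap.range (A (i + 1)).mulVecLin) (k : ℕ) :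
    ∀ j, j + k = e → ∃ ρ : ℕ → ℕ, (∀ i, e ≤ i → ρ i = 0) ∧
      ∀ i, j ≤ i → i < e → ρ i + ρ (i + 1) = n (i + 1) ∧ SplitRk (A i) (ρ i) := by
  induction k with
  | zero =>
    intro j hj
    exact ⟨fun _ => 0, fun _ _ => rfl, fun i h1 h2 => by omega⟩
  | succ k ih =>
    intro j hj
    obtain ⟨ρ, hρe, hρ⟩ := ih (j + 1) (by omega)
    have hsplit : SplitRk (A (j + 1)) (ρ (j + 1)) := by
      by_cases h1 : j + 1 < e
      · exact (hρ (j + 1) le_rfl h1).2
      · rw [hAe (j + 1) (by omega), hρe (j + 1) (by omega)]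
        exact splitRk_zero_matrix
    obtain ⟨r, hr, hsr⟩ := splitRk_of_exact_of_depth_zero y hy hmy (A j) (A (j + 1))
      (hex j (by omega)) hsplit
    refine ⟨Function.update ρ j r, ?_, ?_⟩
    · intro i hi
      rw [Function.update_of_ne (by omega)]
      exact hρe i hi
    · intro i hji hie
      rcases Nat.eq_or_lt_of_le hji with rfl | hlt
      · rw [Function.update_self, Function.update_of_ne (by omega)]
        exact ⟨hr, hsr⟩
      · rw [Function.update_of_ne (by omega), Function.update_of_ne (by omega)]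
        exact hρ i (by omega) hie

/-- **Buchsbaum–Eisenbud, necessity**, for normalised complexes. -/
theorem nec (e : ℕ) : ∀ (R : Type u) [CommRing R] [Nontrivial R] [IsNoetherianRing R]
    (n : ℕ → ℕ) (A : (i : ℕ) → Matrix (Fin (n i)) (Fin (n (i + 1))) R),
    (∀ i, e ≤ i → A i = 0) →
    (∀ i, i < e → LinearMap.ker (A i).mulVecLin = LinearMap.range (A (i + 1)).mulVecLin) →
    ∃ ρ : ℕ → ℕ, (∀ i, e ≤ i → ρ i = 0) ∧ (∀ i, i < e → ρ i + ρ (i + 1) = n (i + 1)) ∧
      (∀ i, i < e → CAlgX.minorIdeal (A i) (ρ i + 1) = ⊥) ∧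
      (∀ i, i < e →
        ((i + 1 : ℕ) : ℕ∞) ≤ LocCoh.idealDepth (CAlgX.minorIdeal (A i) (ρ i)) R) := by
  induction e with
  | zero =>
    intro R _ _ _ n A _ _
    exact ⟨fun _ => 0, fun _ _ => rfl, fun i hi => by omega, fun i hi => by omega,
      fun i hi => by omega⟩
  | succ e ih =>
    intro R _ _ _ n A hAe hex
    -- splitting at the associated primes
    have hloc : ∀ (P : Ideal R) [P.IsPrime], P ∈ associatedPrimes R R →
        ∃ ρ : ℕ → ℕ, (∀ i, e + 1 ≤ i → ρ i = 0) ∧ ∀ i, i < e + 1 →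
          ρ i + ρ (i + 1) = n (i + 1) ∧
            SplitRk ((A i).map (algebraMap R (Localization.AtPrime P))) (ρ i) := by
      intro P _ hP
      obtain ⟨y, hy, hmy⟩ := exists_depth_zero_witness P hP
      obtain ⟨ρ, h1, h2⟩ := splitRk_chain_of_depth_zero y hy hmy n
        (fun i => (A i).map (algebraMap R (Localization.AtPrime P))) (e + 1)
        (fun i hi => by
          change (A i).map (algebraMap R (Localization.AtPrime P)) = 0
          rw [hAe i hi]; exact map_ringHom_zero _)
        (fun i hi => ker_eq_range_map P.primeCompl (Localization.AtPrime P) (A i) (A (i + 1))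
          (hex i hi)) (e + 1) 0 (by omega)
      exact ⟨ρ, h1, fun i hi => h2 i (Nat.zero_le i) hi⟩
    obtain ⟨P₀, hP₀⟩ := associatedPrimes.nonempty R R
    haveI : P₀.IsPrime := hP₀.isPrime
    obtain ⟨ρ, hρe, hρ⟩ := hloc P₀ hP₀
    have hρrec : ∀ i, i < e + 1 → ρ i + ρ (i + 1) = n (i + 1) := fun i hi => (hρ i hi).1
    have hρP : ∀ (P : Ideal R) [P.IsPrime], P ∈ associatedPrimes R R → ∀ i, i < e + 1 →
        SplitRk ((A i).map (algebraMap R (Localization.AtPrime P))) (ρ i) := by
      intro P _ hP i hi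
      obtain ⟨ρ', hρ'e, hρ'⟩ := hloc P hP
      have := rho_unique (e + 1) n ρ' ρ (hρ'e _ le_rfl) (hρe _ le_rfl)
        (fun i hi => (hρ' i hi).1) hρrec i (by omega)
      rw [← this]
      exact (hρ' i hi).2
    have hmin : ∀ i, i < e + 1 → CAlgX.minorIdeal (A i) (ρ i + 1) = ⊥ := by
      intro i hi
      rw [minorIdeal_eq_bot_iff]
      intro f g
      apply eq_zero_of_forall_associatedPrimes
      intro P hP
      haveI : P.IsPrime := hP.isPrime
      have h1 := ((splitRk_iff _ _).mp (hρP P hP i hi)).1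
      rw [minorIdeal_map] at h1
      have hmem : algebraMap R (Localization.AtPrime P) ((A i).submatrix f g).det ∈
          (CAlgX.minorIdeal (A i) (ρ i + 1)).map (algebraMap R (Localization.AtPrime P)) :=
        Ideal.mem_map_of_mem _ (det_mem_minorIdeal (A i) f g)
      rw [h1] at hmem
      exact hmem
    obtain ⟨x, hxreg, hxmem⟩ := exists_common_regular (e + 1)
      (fun i => CAlgX.minorIdeal (A i) (ρ i)) (fun i hi => by
        obtain ⟨x, hx, hxn⟩ := exists_mem_nonZeroDivisors_of_forall_associatedPrimes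
          (CAlgX.minorIdeal (A i) (ρ i)) (fun P hP => by
            haveI : P.IsPrime := hP.isPrime
            have h1 := ((splitRk_iff _ _).mp (hρP P hP i hi)).2
            rwa [minorIdeal_map] at h1)
        exact ⟨x, hx, isSMulRegular_of_mem_nonZeroDivisors hxn⟩)
    refine ⟨ρ, hρe, hρrec, hmin, ?_⟩
    by_cases hunit : IsUnit x
    · intro i hi
      have : CAlgX.minorIdeal (A i) (ρ i) = ⊤ := Ideal.eq_top_of_isUnit_mem _ (hxmem i hi) hunit
      rw [this, idealDepth_top]
      exact le_top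
    · haveI : Nontrivial (R ⧸ Ideal.span {x}) :=
        Ideal.Quotient.nontrivial_iff.mpr (by rwa [Ne, Ideal.span_singleton_eq_top])
      obtain ⟨ρb, hρbe, hρbrec, _, hρbdep⟩ := ih (R ⧸ Ideal.span {x}) (fun i => n (i + 1))
        (fun i => (A (i + 1)).map (Ideal.Quotient.mk (Ideal.span {x})))
        (fun i hi => by
          change (A (i + 1)).map (Ideal.Quotient.mk (Ideal.span {x})) = 0
          rw [hAe (i + 1) (by omega)]; exact map_mk_eq_zero _)
        (fun i hi => ker_eq_range_map_mk x hxreg (A i) (A (i + 1)) (A (i + 1 + 1))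
          (hex i (by omega)) (hex (i + 1) (by omega)))
      have hρb : ∀ i, i ≤ e → ρb i = ρ (i + 1) :=
        rho_unique e (fun i => n (i + 1)) ρb (fun i => ρ (i + 1)) (hρbe e le_rfl)
          (hρe (e + 1) le_rfl) hρbrec (fun i hi => hρrec (i + 1) (by omega))
      intro i hi
      rcases i with _ | i'
      · exact one_le_idealDepth_of_regular_mem _ x (hxmem 0 (by omega)) hxreg
      · have h1 := hρbdep i' (by omega)
        change ((i' + 1 : ℕ) : ℕ∞) ≤ LocCoh.idealDepth (CAlgX.minorIdeal
          ((A (i' + 1)).map (Ideal.Quotient.mk (Ideal.span {x}))) (ρb i')) _ at h1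
        rw [hρb i' (by omega), minorIdeal_map] at h1
        rw [← idealDepth_map_mk_add_one x _ (hxmem (i' + 1) hi) hxreg]
        push_cast
        exact add_le_add_left h1 1

end Groth.Agent.Lib.Helper73.BE
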