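import Groth.Agent.Lib.Helper73.BE7

/-!
# Buchsbaum–Eisenbud, part 8: the criterion in the form of the milestone (helper73)
-/

set_option autoImplicit false
universe u

open Matrix RingTheory.Sequence

namespace Groth.Agent.Lib.Helper73.BE

/-- **Buchsbaum–Eisenbud, necessity**, in the form of the milestone. -/
theorem rank_and_detIdeal_of_exact {R : Type u} [CommRing R] [Nontrivial R] [IsNoetherianRing R]
    (e : ℕ) (he : 1 ≤ e) (n : ℕ → ℕ) (A : (i : ℕ) → Matrix (Fin (n i)) (Fin (n (i + 1))) R)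
    (hex : LinearMap.ker (A (e - 1)).mulVecLin = ⊥ ∧
        ∀ i, i + 2 ≤ e → LinearMap.ker (A i).mulVecLin = LinearMap.range (A (i + 1)).mulVecLin) :
    ∀ j, 1 ≤ j → j ≤ e →
        (CAlgX.matrixRank (A (j - 1)) : ℤ) = ∑ t ∈ Finset.Icc j e, (-1 : ℤ) ^ (t - j) * (n t : ℤ) ∧
          (CAlgX.detIdeal (A (j - 1)) = ⊤ ∨
            ∃ rs : List R, rs.length = j ∧ (∀ r ∈ rs, r ∈ CAlgX.detIdeal (A (j - 1))) ∧
              RingTheory.Sequence.IsRegular R rs) := by
  obtain ⟨ρ, hρe, hρrec, hmin, hdep⟩ := nec e R n (normA e n A) (fun i hi => normA_of_le A hi)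
    (fun i hi => by
      by_cases h1 : i + 1 < e
      · rw [normA_of_lt A hi, normA_of_lt A h1]
        exact hex.2 i (by omega)
      · rw [normA_of_lt A hi, normA_of_le A (by omega : e ≤ i + 1), mulVecLin_zero',
          LinearMap.range_zero]
        have : i = e - 1 := by omega
        subst this
        exact hex.1)
  have key : ∀ i, i < e → ∀ j, j = i + 1 →
      (CAlgX.matrixRank (A i) : ℤ) = ∑ t ∈ Finset.Icc j e, (-1 : ℤ) ^ (t - j) * (n t : ℤ) ∧
        (CAlgX.detIdeal (A i) = ⊤ ∨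
          ∃ rs : List R, rs.length = j ∧ (∀ r ∈ rs, r ∈ CAlgX.detIdeal (A i)) ∧
            RingTheory.Sequence.IsRegular R rs) := by
    intro i hi j hj
    subst hj
    have hm := hmin i hi
    have hd := hdep i hi
    rw [normA_of_lt A hi] at hm hd
    have hne : CAlgX.minorIdeal (A i) (ρ i) ≠ ⊥ := by
      intro hbot
      obtain ⟨x, hx, hreg⟩ := exists_regular_mem_of_le_idealDepth _ (by omega : 1 ≤ i + 1) hd
      rw [hbot, Submodule.mem_bot] at hx
      rw [hx] at hreg
      have h10 : (1 : R) = 0 := hreg (by simp)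
      exact one_ne_zero h10
    have hrk : CAlgX.matrixRank (A i) = ρ i := matrixRank_eq (A i) hm hne
    refine ⟨?_, ?_⟩
    · rw [hrk]
      exact rho_eq_altsum e n ρ (hρe e le_rfl) hρrec i (by omega)
    · have hdet : CAlgX.detIdeal (A i) = CAlgX.minorIdeal (A i) (ρ i) := by
        rw [CAlgX.detIdeal, hrk]
      rw [hdet]
      exact top_or_regular_of_le_idealDepth _ _ hd
  intro j hj1 hje
  exact key (j - 1) (by omega) j (by omega)

end Groth.Agent.Lib.Helper73.BE
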