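import Groth.Agent.Lib.Helper73.CMFibre1
import Groth.Agent.Lib.Helper73.GeomFibreComp
import Groth.Agent.Lib.Helper73.RegularPowerSeries
import Groth.Agent.Lib.Helper82.CMPoly
import Groth.Agent.S0580

/-!
# Cohen–Macaulay fibres of `A → A[[Y_1, …, Y_d]]` for complete local `A` (helper73)
-/

set_option autoImplicit false
set_option maxSynthPendingDepth 3
universe u

namespace Groth.Agent.Lib.Helper73.CMFibre

open IsLocalRing TensorProduct MvPowerSeries

section Ker

variable {S A : Type u} [CommRing S] [CommRing A] [Algebra S A] (σ : Type*)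

theorem map_surjective (hf : Function.Surjective (algebraMap S A)) :
    Function.Surjective (MvPowerSeries.map (σ := σ) (algebraMap S A)) := by
  intro g
  choose c hc using fun m => hf (coeff m g)
  refine ⟨fun m => c m, ?_⟩
  ext m
  rw [coeff_map]
  exact hc m

theorem exists_eq_sum_of_map_eq_zero [IsNoetherianRing S] (g : MvPowerSeries σ S)
    (hg : MvPowerSeries.map (σ := σ) (algebraMap S A) g = 0) :
    ∃ (r : ℕ) (a : Fin r → S) (h : Fin r → MvPowerSeries σ S),
      (∀ i, algebraMap S A (a i) = 0) ∧ g = ∑ i, C (a i) * h i := by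
  classical
  have hfg : (RingHom.ker (algebraMap S A)).FG := IsNoetherian.noetherian _
  obtain ⟨r, a, ha⟩ := Submodule.fg_iff_exists_fin_generating_family.mp hfg
  have hmem : ∀ m, coeff m g ∈ Ideal.span (Set.range a) := by
    intro m
    have : coeff m g ∈ RingHom.ker (algebraMap S A) := by
      rw [RingHom.mem_ker, ← coeff_map, hg, map_zero]
    rw [← ha] at this
    exact this
  choose c hc using fun m => (Ideal.mem_span_range_iff_exists_fun).mp (hmem m)
  refine ⟨r, a, fun i => (fun m => c m i), fun i => ?_, ?_⟩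
  · have : a i ∈ RingHom.ker (algebraMap S A) := by
      rw [← ha]
      exact Submodule.subset_span ⟨i, rfl⟩
    exact this
  · ext m
    rw [map_sum, ← hc m]
    apply Finset.sum_congr rfl
    intro i _
    rw [coeff_C_mul, mul_comm]
    rfl

end Ker

section Iso
variable (S A : Type u) [CommRing S] [CommRing A] [Algebra S A] (σ : Type*)

instance isScalarTower_mvPowerSeries :
    IsScalarTower S (MvPowerSeries σ S) (MvPowerSeries σ A) := by
  apply IsScalarTower.of_algebraMap_eq
  intro s
  rw [MvPowerSeries.algebraMap_apply'', MvPowerSeries.algebraMap_apply,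
    MvPowerSeries.algebraMap_apply, map_C]
  rfl

/-- The comparison map `A ⊗[S] S[[σ]] → A[[σ]]`. -/
noncomputable def tensorToPS : A ⊗[S] MvPowerSeries σ S →ₐ[A] MvPowerSeries σ A :=
  Algebra.TensorProduct.productLeftAlgHom (Algebra.ofId A (MvPowerSeries σ A))
    (IsScalarTower.toAlgHom S (MvPowerSeries σ S) (MvPowerSeries σ A))

theorem tensorToPS_one_tmul (g : MvPowerSeries σ S) :
    tensorToPS S A σ (1 ⊗ₜ g) = MvPowerSeries.map (algebraMap S A) g := by
  simp [tensorToPS, MvPowerSeries.algebraMap_apply'']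

variable {S A σ}

theorem exists_one_tmul (hf : Function.Surjective (algebraMap S A))
    (z : A ⊗[S] MvPowerSeries σ S) : ∃ g : MvPowerSeries σ S, z = 1 ⊗ₜ g := by
  induction z using TensorProduct.induction_on with
  | zero => exact ⟨0, by simp⟩
  | tmul a g =>
    obtain ⟨s, rfl⟩ := hf a
    refine ⟨s • g, ?_⟩
    rw [TensorProduct.tmul_smul, TensorProduct.smul_tmul', Algebra.smul_def, mul_one]
  | add x y hx hy =>
    obtain ⟨g1, rfl⟩ := hx
    obtain ⟨g2, rfl⟩ := hy
    exact ⟨g1 + g2, by rw [TensorProduct.tmul_add]⟩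

theorem tensorToPS_bijective [IsNoetherianRing S] (hf : Function.Surjective (algebraMap S A)) :
    Function.Bijective (tensorToPS S A σ) := by
  constructor
  · rw [injective_iff_map_eq_zero]
    intro z hz
    obtain ⟨g, rfl⟩ := exists_one_tmul hf z
    rw [tensorToPS_one_tmul] at hz
    obtain ⟨r, a, h, ha, rfl⟩ := exists_eq_sum_of_map_eq_zero σ g hz
    rw [TensorProduct.tmul_sum]
    apply Finset.sum_eq_zero
    intro i _
    have : C (a i) * h i = a i • h i := by
      rw [Algebra.smul_def, MvPowerSeries.algebraMap_apply]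
      rfl
    rw [this, TensorProduct.tmul_smul, TensorProduct.smul_tmul', Algebra.smul_def, ha i, zero_mul,
      TensorProduct.zero_tmul]
  · intro g
    obtain ⟨g', rfl⟩ := map_surjective σ hf g
    exact ⟨1 ⊗ₜ g', tensorToPS_one_tmul S A σ g'⟩

/-- `A ⊗[S] S[[σ]] ≃ A[[σ]]` for a quotient `A` of a Noetherian ring `S`. -/
noncomputable def tensorEquivPS [IsNoetherianRing S] (hf : Function.Surjective (algebraMap S A)) :
    A ⊗[S] MvPowerSeries σ S ≃ₐ[A] MvPowerSeries σ A :=
  AlgEquiv.ofBijective (tensorToPS S A σ) (tensorToPS_bijective hf)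

end Iso

section PS

/-- Power series rings are flat over a Noetherian base. -/
theorem flat_mvPowerSeries (S : Type u) [CommRing S] [IsNoetherianRing S] (d : ℕ) :
    Module.Flat S (MvPowerSeries (Fin d) S) := by
  haveI : Module.Flat (MvPolynomial (Fin d) S) (MvPowerSeries (Fin d) S) :=
    Module.Flat.of_linearEquiv (MvPowerSeries.toAdicCompletionAlgEquiv (Fin d) S).toLinearEquiv
  exact Module.Flat.trans S (MvPolynomial (Fin d) S) (MvPowerSeries (Fin d) S)

theorem isCohenMacaulayRing_iso (R R' : Type u) [CommRing R] [CommRing R'] (e : R ≃+* R')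
    (h : LocCoh.IsCohenMacaulayRing R) : LocCoh.IsCohenMacaulayRing R' := by
  have : IsNoetherianRing R := h.toIsNoetherian
  exact Groth.Agent.Lib.Helper29.isCohenMacaulayRing_of_ringEquiv e.symm h

/-- For a quotient `A` of a regular ring, the fibres of `A → A[[Y_1, …, Y_d]]` are
Cohen–Macaulay. -/
theorem isCohenMacaulayRing_fiber_mvPowerSeries_of_surjective (S A : Type u) [CommRing S]
    [IsRegularRing S] [CommRing A] [Algebra S A] (hf : Function.Surjective (algebraMap S A))
    (d : ℕ) (p : Ideal A) [p.IsPrime] :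
    LocCoh.IsCohenMacaulayRing (p.Fiber (MvPowerSeries (Fin d) A)) := by
  have hS' : IsRegularRing (MvPowerSeries (Fin d) S) :=
    Groth.Agent.Lib.Helper73.RegularRing.isRegularRing_mvPowerSeries S d
  have hCM : LocCoh.IsCohenMacaulayRing (MvPowerSeries (Fin d) S) :=
    Groth.Agent.Lib.Helper82.CMPoly.isCohenMacaulayRing_of_isRegularRing _
  have hflat := flat_mvPowerSeries S d
  have hfin : Module.Finite S A := Module.Finite.of_surjective (Algebra.linearMap S A) hf
  have hNA : IsNoetherianRing A := isNoetherianRing_of_surjective S A (algebraMap S A) hf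
  have hBC : ∀ (q : Ideal S) [q.IsPrime] (k'' : Type u) [Field k''] [Algebra q.ResidueField k''],
      Module.Finite q.ResidueField k'' →
        LocCoh.IsCohenMacaulayRing (k'' ⊗[q.ResidueField] q.Fiber (MvPowerSeries (Fin d) S)) := by
    intro q _ k'' _ _ hfin''
    exact isCohenMacaulayRing_tensor_of_finite _ _ _
      (isCohenMacaulayRing_fiber_of_flat S (MvPowerSeries (Fin d) S) hCM q)
  have key := Groth.Agent.Lib.Helper73.fibre_baseChange
    (fun R _ => LocCoh.IsCohenMacaulayRing R) isCohenMacaulayRing_iso S A (MvPowerSeries (Fin d) S) hBC p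
  let e := tensorEquivPS (σ := Fin d) hf
  let e' : p.Fiber (A ⊗[S] MvPowerSeries (Fin d) S) ≃+* p.Fiber (MvPowerSeries (Fin d) A) :=
    (Algebra.TensorProduct.congr (AlgEquiv.refl (R := A) (A₁ := p.ResidueField)) e).toRingEquiv
  exact isCohenMacaulayRing_iso _ _ e' key

/-- For a complete Noetherian local ring `A`, the fibres of `A → A[[Y_1, …, Y_d]]` are
Cohen–Macaulay. -/
theorem isCohenMacaulayRing_fiber_mvPowerSeries (A : Type u) [CommRing A] [IsNoetherianRing A]
    [IsLocalRing A] [IsAdicComplete (maximalIdeal A) A] (d : ℕ) (p : Ideal A) [p.IsPrime] :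
    LocCoh.IsCohenMacaulayRing (p.Fiber (MvPowerSeries (Fin d) A)) := by
  obtain ⟨Λ, _, n, f, hΛ, hf⟩ := Groth.Agent.S0580.result A (IsNoetherian.noetherian _)
  have hreg : IsRegularRing Λ := by
    rcases hΛ with hΛ | hΛ
    · letI := hΛ.toField
      infer_instance
    · obtain ⟨_, _, _⟩ := hΛ
      infer_instance
  have hS : IsRegularRing (MvPowerSeries (Fin n) Λ) :=
    Groth.Agent.Lib.Helper73.RegularRing.isRegularRing_mvPowerSeries Λ n
  letI : Algebra (MvPowerSeries (Fin n) Λ) A := f.toAlgebra
  exact isCohenMacaulayRing_fiber_mvPowerSeries_of_surjective (MvPowerSeries (Fin n) Λ) A hf d p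

end PS

end Groth.Agent.Lib.Helper73.CMFibre
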