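import Groth.Agent.Lib.Helper73.CMFibre2
import Groth.Agent.Lib.Helper75.CompletedModules
import Groth.Agent.Lib.Helper44.RigPoint
import Groth.Agent.Lib.Helper90.PSUniv

/-!
# Finiteness over a complete local base (helper73)

`finite_of_complete`: a complete Noetherian local algebra `B` over a complete local ring `C`
(local homomorphism) with `B / 𝔪_B` finite over `C` and `𝔪_C B` primary to `𝔪_B` is a finite
`C`-module.
-/

set_option autoImplicit false
set_option maxSynthPendingDepth 3
universe u

namespace Groth.Agent.Lib.Helper73.CMFibre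

open IsLocalRing

section Fin

variable (C B : Type u) [CommRing C] [CommRing B] [Algebra C B] [IsLocalRing B]
  [IsNoetherianRing B]

theorem exists_finite_lifts (hres : Module.Finite C (B ⧸ maximalIdeal B)) :
    ∃ (t : ℕ) (b : Fin t → B), ∀ a : B, ∃ c : Fin t → C,
      a - ∑ j, algebraMap C B (c j) * b j ∈ maximalIdeal B := by
  obtain ⟨t, v, hv⟩ := Module.Finite.exists_fin (R := C) (M := B ⧸ maximalIdeal B)
  choose b hb using fun j => Ideal.Quotient.mk_surjective (v j)
  refine ⟨t, b, fun a => ?_⟩
  have : Ideal.Quotient.mk (maximalIdeal B) a ∈ Submodule.span C (Set.range v) := by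
    rw [hv]; trivial
  obtain ⟨c, hc⟩ := (Submodule.mem_span_range_iff_exists_fun C).mp this
  refine ⟨c, ?_⟩
  rw [← Ideal.Quotient.eq_zero_iff_mem, map_sub, sub_eq_zero, ← hc, map_sum]
  refine Finset.sum_congr rfl (fun j _ => ?_)
  rw [map_mul, hb, Algebra.smul_def]
  rfl

theorem finite_quotient_pow (hres : Module.Finite C (B ⧸ maximalIdeal B)) (N : ℕ) :
    Module.Finite C (B ⧸ maximalIdeal B ^ N) := by
  classical
  induction N with
  | zero =>
    haveI : Subsingleton (B ⧸ maximalIdeal B ^ 0) := by
      rw [pow_zero]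
      exact Ideal.Quotient.subsingleton_iff.mpr Ideal.one_eq_top
    infer_instance
  | succ N ih =>
    have hle : maximalIdeal B ^ (N + 1) ≤ maximalIdeal B ^ N :=
      Ideal.pow_le_pow_right (Nat.le_succ N)
    let π : (B ⧸ maximalIdeal B ^ (N + 1)) →ₗ[C] (B ⧸ maximalIdeal B ^ N) :=
      (Ideal.Quotient.factorₐ C hle).toLinearMap
    have hπ : Function.Surjective π := Ideal.Quotient.factor_surjective hle
    obtain ⟨t, b, hb⟩ := exists_finite_lifts C B hres
    obtain ⟨s, z, hz⟩ : ∃ (s : ℕ) (z : Fin s → B),
        Ideal.span (Set.range z) = maximalIdeal B ^ N := by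
      obtain ⟨s, z, hz⟩ := Submodule.fg_iff_exists_fin_generating_family.mp
        (IsNoetherian.noetherian (maximalIdeal B ^ N))
      exact ⟨s, z, hz⟩
    have hzm : ∀ i, z i ∈ maximalIdeal B ^ N := fun i => hz ▸ Ideal.subset_span ⟨i, rfl⟩
    let S : Set (B ⧸ maximalIdeal B ^ (N + 1)) :=
      Set.range (fun ij : Fin t × Fin s => Ideal.Quotient.mk _ (b ij.1 * z ij.2))
    have hSfin : S.Finite := Set.finite_range _
    have hker : LinearMap.ker π = Submodule.span C S := by
      apply le_antisymm
      · intro y hy
        obtain ⟨y, rfl⟩ := Ideal.Quotient.mk_surjective y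
        have hy' : y ∈ maximalIdeal B ^ N := by
          have : Ideal.Quotient.mk (maximalIdeal B ^ N) y = 0 := hy
          exact Ideal.Quotient.eq_zero_iff_mem.mp this
        rw [← hz] at hy'
        obtain ⟨a, ha⟩ := (Ideal.mem_span_range_iff_exists_fun).mp hy'
        choose c hc using fun i => hb (a i)
        have key : Ideal.Quotient.mk (maximalIdeal B ^ (N + 1)) y =
            ∑ i, ∑ j, c i j • Ideal.Quotient.mk (maximalIdeal B ^ (N + 1)) (b j * z i) := by
          rw [← ha, map_sum]
          refine Finset.sum_congr rfl (fun i _ => ?_)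
          have h1 : (a i - ∑ j, algebraMap C B (c i j) * b j) * z i ∈
              maximalIdeal B ^ (N + 1) := by
            rw [pow_succ']
            exact Ideal.mul_mem_mul (hc i) (hzm i)
          have h2 := Ideal.Quotient.eq_zero_iff_mem.mpr h1
          rw [sub_mul, map_sub, sub_eq_zero] at h2
          rw [h2, Finset.sum_mul, map_sum]
          refine Finset.sum_congr rfl (fun j _ => ?_)
          rw [mul_assoc, map_mul, Algebra.smul_def]
          rfl
        rw [key]
        refine Submodule.sum_mem _ (fun i _ => Submodule.sum_mem _ (fun j _ => ?_))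
        exact Submodule.smul_mem _ _ (Submodule.subset_span ⟨(j, i), rfl⟩)
      · rw [Submodule.span_le]
        rintro _ ⟨ij, rfl⟩
        change π (Ideal.Quotient.mk _ (b ij.1 * z ij.2)) = 0
        change Ideal.Quotient.mk (maximalIdeal B ^ N) (b ij.1 * z ij.2) = 0
        rw [Ideal.Quotient.eq_zero_iff_mem]
        exact Ideal.mul_mem_left _ _ (hzm ij.2)
    haveI : Module.Finite C (LinearMap.ker π) := by
      rw [hker]
      exact Module.Finite.span_of_finite C hSfin
    exact Module.Finite.of_exact (LinearMap.exact_subtype_ker_map π) hπ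

variable [IsLocalRing C] [IsNoetherianRing C] [IsLocalHom (algebraMap C B)]
  [IsAdicComplete (maximalIdeal C) C] [IsAdicComplete (maximalIdeal B) B]

/-- Complete Nakayama: `B` is finite over `C`. -/
theorem finite_of_complete (hres : Module.Finite C (B ⧸ maximalIdeal B))
    (hrad : maximalIdeal B ≤ ((maximalIdeal C).map (algebraMap C B)).radical) :
    Module.Finite C B := by
  obtain ⟨N, hN⟩ := Ideal.exists_pow_le_of_le_radical_of_fg hrad (IsNoetherian.noetherian _)
  have hN1 : maximalIdeal B ^ (N + 1) ≤ (maximalIdeal C).map (algebraMap C B) :=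
    le_trans (Ideal.pow_le_pow_right (Nat.le_succ N)) hN
  have hmap_le : (maximalIdeal C).map (algebraMap C B) ≤ maximalIdeal B :=
    IsLocalRing.map_maximalIdeal_le (algebraMap C B)
  -- finiteness of the quotient
  haveI := finite_quotient_pow C B hres (N + 1)
  have hq : Module.Finite C (B ⧸ (maximalIdeal C).map (algebraMap C B)) :=
    Module.Finite.of_surjective (Ideal.Quotient.factorₐ C hN1).toLinearMap
      (Ideal.Quotient.factor_surjective hN1)
  -- completeness
  haveI h1 : IsAdicComplete (maximalIdeal B ^ (N + 1)) B :=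
    Groth.Agent.Lib.Helper90.PSUniv.isAdicComplete_pow (maximalIdeal B) (N + 1) (Nat.succ_pos N)
  have h2 : IsAdicComplete ((maximalIdeal C).map (algebraMap C B)) B :=
    Groth.Agent.Lib.Helper44.isAdicComplete_of_le_of_pow_le (maximalIdeal B ^ (N + 1))
      ((maximalIdeal C).map (algebraMap C B)) hN1 (N + 1) (Ideal.pow_right_mono hmap_le (N + 1))
  have h3 : IsAdicComplete (maximalIdeal C) B := (IsAdicComplete.map_algebraMap_iff _ _).mp h2
  have heq : (maximalIdeal C • ⊤ : Submodule C B) =
      ((maximalIdeal C).map (algebraMap C B)).restrictScalars C := Ideal.smul_top_eq_map _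
  haveI : Module.Finite C (B ⧸ (maximalIdeal C • ⊤ : Submodule C B)) := by
    have e : (B ⧸ (maximalIdeal C • ⊤ : Submodule C B)) ≃ₗ[C]
        (B ⧸ (maximalIdeal C).map (algebraMap C B)) :=
      (Submodule.quotEquivOfEq _ _ heq).trans
        (Submodule.Quotient.restrictScalarsEquiv C ((maximalIdeal C).map (algebraMap C B)))
    exact Module.Finite.equiv e.symm
  have h4 : Module.Finite C (AdicCompletion (maximalIdeal C) B) :=
    Groth.Agent.Lib.Helper75.CompletedModules.finite_adicCompletion_of_finite_quot
      (maximalIdeal C) B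
  exact Module.Finite.equiv (AdicCompletion.ofLinearEquiv (maximalIdeal C) B).symm

end Fin

end Groth.Agent.Lib.Helper73.CMFibre
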