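import Groth.Agent.Lib.Helper73.CMFibre3
import Groth.Agent.Lib.Helper29.RegSeqFibre
import Groth.Agent.Lib.Helper73.RegSeqTor
import Groth.Agent.Lib.Helper71.FibreCritNoeth
import Groth.Agent.Lib.Helper58.MvPSComplete
import Groth.Agent.Lib.Helper90.PSIdeal

/-!
# Cohen–Macaulay fibres of a flat local homomorphism of complete local rings (helper73)

`isCohenMacaulayRing_fiber_of_complete`: a flat local homomorphism `A → B` of complete Noetherian
local rings with finite residue field extension and Cohen–Macaulay closed fibre has Cohen–Macaulay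
fibres.  (`B` is finite and flat over `A[[Y_1, …, Y_d]]`, `Y_i ↦` a system of parameters of the
closed fibre; the fibres of `A → A[[Y]]` are CM by the Cohen structure theorem.)
-/
set_option autoImplicit false
set_option maxSynthPendingDepth 3
universe u
namespace Groth.Agent.Lib.Helper73.CMFibre
open IsLocalRing RingTheory.Sequence TensorProduct

section TR

/-- Flatness transfers along a bijective ring map. -/
theorem flat_of_bijective_algebraMap (A Q N : Type u) [CommRing A] [CommRing Q] [Algebra A Q]
    [AddCommGroup N] [Module A N] [Module Q N] [IsScalarTower A Q N]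
    (hbij : Function.Bijective (algebraMap A Q)) [Module.Flat A N] : Module.Flat Q N := by
  let e0 : Q ⊗[A] N ≃ₗ[A] N :=
    (TensorProduct.congr (LinearEquiv.ofBijective (Algebra.linearMap A Q) hbij).symm
      (LinearEquiv.refl A N)) ≪≫ₗ TensorProduct.lid A N
  let e : Q ⊗[A] N ≃ₗ[Q] N := LinearEquiv.extendScalarsOfSurjective hbij.2 e0
  have he : ∀ x : N, e (1 ⊗ₜ x) = (LinearMap.id : N →ₗ[A] N) x := by
    intro x
    change e0 (1 ⊗ₜ x) = x
    have h1 : (LinearEquiv.ofBijective (Algebra.linearMap A Q) hbij).symm 1 = 1 := by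
      rw [LinearEquiv.symm_apply_eq]
      exact (map_one (algebraMap A Q)).symm
    simp only [e0, LinearEquiv.trans_apply, TensorProduct.congr_tmul, h1, LinearEquiv.refl_apply,
      TensorProduct.lid_tmul, one_smul]
  exact Module.Flat.isBaseChange (R := A) (S := Q) (M := N) (N := N) (IsBaseChange.of_equiv e he)

end TR
end Groth.Agent.Lib.Helper73.CMFibre

namespace Groth.Agent.Lib.Helper73.CMFibre
open IsLocalRing RingTheory.Sequence TensorProduct

section Main

variable (A B : Type u) [CommRing A] [CommRing B] [IsNoetherianRing A] [IsNoetherianRing B]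
  [IsLocalRing A] [IsLocalRing B] [Algebra A B] [IsLocalHom (algebraMap A B)]

/-- The constant-coefficient ideal of a power series ring is the span of the variables, as an
`ofList`. -/
theorem ofList_ofFn_X (d : ℕ) :
    Ideal.ofList (List.ofFn (MvPowerSeries.X : Fin d → MvPowerSeries (Fin d) A)) =
      Ideal.span (Set.range (MvPowerSeries.X : Fin d → MvPowerSeries (Fin d) A)) := by
  unfold Ideal.ofList
  congr 1
  ext f
  simp [List.mem_ofFn]

theorem mem_ofList_ofFn_X_iff (d : ℕ) (f : MvPowerSeries (Fin d) A) :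
    f ∈ Ideal.ofList (List.ofFn (MvPowerSeries.X : Fin d → MvPowerSeries (Fin d) A)) ↔
      MvPowerSeries.constantCoeff f = 0 := by
  rw [ofList_ofFn_X, Groth.Agent.Lib.Helper90.PSIdeal.mem_span_X_iff]

theorem bijective_algebraMap_quotient (d : ℕ) :
    Function.Bijective (algebraMap A (MvPowerSeries (Fin d) A ⧸
      Ideal.ofList (List.ofFn (MvPowerSeries.X : Fin d → MvPowerSeries (Fin d) A)))) := by
  constructor
  · rw [injective_iff_map_eq_zero]
    intro a ha
    rw [IsScalarTower.algebraMap_apply A (MvPowerSeries (Fin d) A), Ideal.Quotient.algebraMap_eq,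
      Ideal.Quotient.eq_zero_iff_mem, mem_ofList_ofFn_X_iff, MvPowerSeries.algebraMap_apply] at ha
    simpa using ha
  · intro q
    obtain ⟨f, rfl⟩ := Ideal.Quotient.mk_surjective q
    refine ⟨MvPowerSeries.constantCoeff f, ?_⟩
    rw [IsScalarTower.algebraMap_apply A (MvPowerSeries (Fin d) A), Ideal.Quotient.algebraMap_eq,
      Ideal.Quotient.eq, mem_ofList_ofFn_X_iff, MvPowerSeries.algebraMap_apply]
    simp


section Aux

variable (d : ℕ)

variable [Algebra (MvPowerSeries (Fin d) A) B] [IsScalarTower A (MvPowerSeries (Fin d) A) B]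

theorem algebraMap_C (a : A) : algebraMap (MvPowerSeries (Fin d) A) B (MvPowerSeries.C a) = algebraMap A B a := by
  rw [IsScalarTower.algebraMap_apply A (MvPowerSeries (Fin d) A) B, MvPowerSeries.algebraMap_apply]
  rfl

/-- `(MvPowerSeries (Fin d) A) → B` is local as soon as the variables go into the maximal ideal. -/
theorem isLocalHom_of_X_mem (hX : ∀ i, algebraMap (MvPowerSeries (Fin d) A) B (MvPowerSeries.X i) ∈ maximalIdeal B) :
    IsLocalHom (algebraMap (MvPowerSeries (Fin d) A) B) := by
  have hIle : (Ideal.ofList (List.ofFn (MvPowerSeries.X : Fin d → (MvPowerSeries (Fin d) A)))).map (algebraMap (MvPowerSeries (Fin d) A) B) ≤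
      maximalIdeal B := by
    rw [ofList_ofFn_X, Ideal.map_span, Ideal.span_le]
    rintro _ ⟨_, ⟨i, rfl⟩, rfl⟩
    exact hX i
  refine ⟨fun f hf => ?_⟩
  rw [MvPowerSeries.isUnit_iff_constantCoeff]
  by_contra hnu
  have h1 : f - MvPowerSeries.C (MvPowerSeries.constantCoeff f) ∈
      Ideal.ofList (List.ofFn (MvPowerSeries.X : Fin d → (MvPowerSeries (Fin d) A))) := by
    rw [mem_ofList_ofFn_X_iff]
    simp
  have h2 : algebraMap (MvPowerSeries (Fin d) A) B (f - MvPowerSeries.C (MvPowerSeries.constantCoeff f)) ∈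
      maximalIdeal B := hIle (Ideal.mem_map_of_mem _ h1)
  have h3 : algebraMap A B (MvPowerSeries.constantCoeff f) ∈ maximalIdeal B := by
    rw [mem_maximalIdeal, mem_nonunits_iff]
    exact fun h => hnu (isUnit_of_map_unit (algebraMap A B) _ h)
  have h4 : algebraMap (MvPowerSeries (Fin d) A) B f ∈ maximalIdeal B := by
    have := add_mem h2 h3
    rwa [← algebraMap_C A B d, ← map_add, sub_add_cancel] at this
  exact h4 hf

theorem isCohenMacaulayRing_fiber_of_complete_aux [Module.Flat A B]
    [IsAdicComplete (maximalIdeal A) A] [IsAdicComplete (maximalIdeal B) B]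
    (hres : Module.Finite A (B ⧸ maximalIdeal B))
    (hX : ∀ i, algebraMap (MvPowerSeries (Fin d) A) B (MvPowerSeries.X i) ∈ maximalIdeal B)
    (hreg : IsWeaklyRegular
      (B ⧸ ((maximalIdeal A).map (algebraMap A B)) • (⊤ : Submodule B B))
      ((List.ofFn (MvPowerSeries.X : Fin d → MvPowerSeries (Fin d) A)).map
        (algebraMap (MvPowerSeries (Fin d) A) B)))
    (hrad : maximalIdeal B ≤ ((maximalIdeal A).map (algebraMap A B) ⊔
      (Ideal.ofList (List.ofFn (MvPowerSeries.X : Fin d → MvPowerSeries (Fin d) A))).map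
        (algebraMap (MvPowerSeries (Fin d) A) B)).radical)
    (p : Ideal A) [p.IsPrime] : LocCoh.IsCohenMacaulayRing (p.Fiber B) := by
  have hloc : IsLocalHom (algebraMap (MvPowerSeries (Fin d) A) B) := isLocalHom_of_X_mem A B d hX
  haveI hcompl : IsAdicComplete (maximalIdeal (MvPowerSeries (Fin d) A))
      (MvPowerSeries (Fin d) A) := Groth.Agent.Lib.Helper58.MvPSComplete.isAdicComplete
  have hresC : Module.Finite (MvPowerSeries (Fin d) A) (B ⧸ maximalIdeal B) :=
    Module.Finite.of_restrictScalars_finite A (MvPowerSeries (Fin d) A) _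
  have hIle : Ideal.ofList (List.ofFn (MvPowerSeries.X : Fin d → MvPowerSeries (Fin d) A)) ≤
      maximalIdeal (MvPowerSeries (Fin d) A) := by
    intro f hf
    rw [mem_ofList_ofFn_X_iff] at hf
    rw [mem_maximalIdeal, mem_nonunits_iff, MvPowerSeries.isUnit_iff_constantCoeff, hf]
    exact not_isUnit_zero
  have hAle : (maximalIdeal A).map (algebraMap A (MvPowerSeries (Fin d) A)) ≤
      maximalIdeal (MvPowerSeries (Fin d) A) := by
    rw [Ideal.map_le_iff_le_comap]
    intro a ha
    rw [Ideal.mem_comap, mem_maximalIdeal, mem_nonunits_iff,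
      MvPowerSeries.isUnit_iff_constantCoeff, MvPowerSeries.algebraMap_apply]
    simpa using ha
  have hradC : maximalIdeal B ≤ ((maximalIdeal (MvPowerSeries (Fin d) A)).map
      (algebraMap (MvPowerSeries (Fin d) A) B)).radical := by
    refine le_trans hrad (Ideal.radical_mono (sup_le ?_ (Ideal.map_mono hIle)))
    rw [IsScalarTower.algebraMap_eq A (MvPowerSeries (Fin d) A) B, ← Ideal.map_map]
    exact Ideal.map_mono hAle
  have hfin : Module.Finite (MvPowerSeries (Fin d) A) B :=
    finite_of_complete (MvPowerSeries (Fin d) A) B hresC hradC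
  -- the lifted regular sequence
  obtain ⟨hregB, hflatQ⟩ :=
    Groth.Agent.Lib.Helper29.isWeaklyRegular_and_flat_of_fibre A B _ B hreg
  have hflatQ' := hflatQ _ le_rfl
  rw [List.take_length, ← Ideal.map_ofList] at hflatQ'
  have hregC : IsWeaklyRegular B
      (List.ofFn (MvPowerSeries.X : Fin d → MvPowerSeries (Fin d) A)) :=
    (isWeaklyRegular_map_algebraMap_iff B B _).mp hregB
  have hinj := Groth.Agent.Lib.Helper73.RegSeqTor.rTensor_subtype_injective_of_isWeaklyRegular B
    (List.ofFn (MvPowerSeries.X : Fin d → MvPowerSeries (Fin d) A)) hregC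
  -- flatness of the quotient over `PS ⧸ I`
  have hflatI : Module.Flat (MvPowerSeries (Fin d) A ⧸
      Ideal.ofList (List.ofFn (MvPowerSeries.X : Fin d → MvPowerSeries (Fin d) A)))
      ((MvPowerSeries (Fin d) A ⧸
        Ideal.ofList (List.ofFn (MvPowerSeries.X : Fin d → MvPowerSeries (Fin d) A)))
          ⊗[MvPowerSeries (Fin d) A] B) := by
    have heq : (Ideal.ofList (List.ofFn (MvPowerSeries.X : Fin d → MvPowerSeries (Fin d) A)) •
        ⊤ : Submodule (MvPowerSeries (Fin d) A) B) =
        (((Ideal.ofList (List.ofFn (MvPowerSeries.X : Fin d → MvPowerSeries (Fin d) A))).map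
          (algebraMap (MvPowerSeries (Fin d) A) B)) • (⊤ : Submodule B B)).restrictScalars
            (MvPowerSeries (Fin d) A) := by
      rw [Ideal.smul_top_eq_map, smul_eq_mul, Ideal.mul_top]
    let e : ((MvPowerSeries (Fin d) A ⧸
        Ideal.ofList (List.ofFn (MvPowerSeries.X : Fin d → MvPowerSeries (Fin d) A)))
          ⊗[MvPowerSeries (Fin d) A] B) ≃ₗ[MvPowerSeries (Fin d) A]
        (B ⧸ ((Ideal.ofList (List.ofFn (MvPowerSeries.X : Fin d →
          MvPowerSeries (Fin d) A))).map (algebraMap (MvPowerSeries (Fin d) A) B)) •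
            (⊤ : Submodule B B)) :=
      (TensorProduct.quotTensorEquivQuotSMul B _).trans
        ((Submodule.quotEquivOfEq _ _ heq).trans
          (Submodule.Quotient.restrictScalarsEquiv (MvPowerSeries (Fin d) A) _))
    haveI : Module.Flat A ((MvPowerSeries (Fin d) A ⧸
        Ideal.ofList (List.ofFn (MvPowerSeries.X : Fin d → MvPowerSeries (Fin d) A)))
          ⊗[MvPowerSeries (Fin d) A] B) :=
      Module.Flat.of_linearEquiv (e.restrictScalars A)
    exact flat_of_bijective_algebraMap A _ _ (bijective_algebraMap_quotient A d)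
  have hflat : Module.Flat (MvPowerSeries (Fin d) A) B := by
    refine Groth.Agent.Lib.Helper71.FibreCritNoeth.flat_of_rTensor_injective
      (Ideal.ofList (List.ofFn (MvPowerSeries.X : Fin d → MvPowerSeries (Fin d) A))) (B := B) B
      ?_ hinj
    rw [IsLocalRing.jacobson_eq_maximalIdeal ⊥ bot_ne_top]
    exact le_trans (Ideal.map_mono hIle) (IsLocalRing.map_maximalIdeal_le _)
  have hAC : LocCoh.IsCohenMacaulayRing (p.Fiber (MvPowerSeries (Fin d) A)) :=
    isCohenMacaulayRing_fiber_mvPowerSeries A d p
  have hCB : ∀ (q : Ideal (MvPowerSeries (Fin d) A)) [q.IsPrime],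
      LocCoh.IsCohenMacaulayRing (q.Fiber B) := by
    intro q _
    have : IsArtinianRing (q.Fiber B) := IsArtinianRing.of_finite q.ResidueField (q.Fiber B)
    exact isCohenMacaulayRing_of_isArtinianRing _
  exact Groth.Agent.Lib.Helper29.isCohenMacaulayRing_fiber_comp A (MvPowerSeries (Fin d) A) B p
    hAC hCB

end Aux

/-- **Complete case.** A flat local homomorphism `A → B` of complete Noetherian local rings with
finite residue field extension whose closed fibre admits a regular sequence `ys` (of elements of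
`𝔪_B`) generating an ideal primary to the maximal ideal (i.e. the closed fibre is
Cohen–Macaulay) has Cohen–Macaulay fibres. -/
theorem isCohenMacaulayRing_fiber_of_complete [Module.Flat A B]
    [IsAdicComplete (maximalIdeal A) A] [IsAdicComplete (maximalIdeal B) B]
    (hres : Module.Finite A (B ⧸ maximalIdeal B))
    (ys : List B) (hmem : ∀ y ∈ ys, y ∈ maximalIdeal B)
    (hreg : IsWeaklyRegular
      (B ⧸ ((maximalIdeal A).map (algebraMap A B)) • (⊤ : Submodule B B)) ys)
    (hrad : maximalIdeal B ≤ ((maximalIdeal A).map (algebraMap A B) ⊔ Ideal.ofList ys).radical)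
    (p : Ideal A) [p.IsPrime] : LocCoh.IsCohenMacaulayRing (p.Fiber B) := by
  classical
  let x : Fin ys.length → B := fun i => ys.get i
  have hx : ∀ i, x i ∈ maximalIdeal B := fun i => hmem _ (List.get_mem ys i)
  obtain ⟨φ, hφ, -⟩ := Groth.Agent.Lib.Helper90.PSUniv.exists_eval (B := A) (maximalIdeal B) x hx
  have hφX : ∀ i, φ (MvPowerSeries.X i) = x i := by
    intro i
    have := hφ (MvPolynomial.X i)
    rwa [MvPolynomial.coe_X, MvPolynomial.aeval_X] at this
  letI algCB : Algebra (MvPowerSeries (Fin ys.length) A) B := φ.toRingHom.toAlgebra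
  have hst : IsScalarTower A (MvPowerSeries (Fin ys.length) A) B :=
    IsScalarTower.of_algebraMap_eq (fun a => (φ.commutes a).symm)
  have hmap : (List.ofFn (MvPowerSeries.X : Fin ys.length → MvPowerSeries (Fin ys.length) A)).map
      (algebraMap (MvPowerSeries (Fin ys.length) A) B) = ys := by
    rw [List.map_ofFn]
    have : (algebraMap (MvPowerSeries (Fin ys.length) A) B) ∘
        (MvPowerSeries.X : Fin ys.length → MvPowerSeries (Fin ys.length) A) = x := funext hφX
    rw [this]
    exact List.ofFn_get ys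
  refine isCohenMacaulayRing_fiber_of_complete_aux A B ys.length hres ?_ ?_ ?_ p
  · intro i
    exact (hφX i).symm ▸ hx i
  · rw [hmap]
    exact hreg
  · rw [Ideal.map_ofList, hmap]
    exact hrad

end Main
end Groth.Agent.Lib.Helper73.CMFibre

namespace Groth.Agent.Lib.Helper73.CMFibre
open IsLocalRing RingTheory.Sequence TensorProduct

/-- A local ring which is a Cohen–Macaulay ring is a Cohen–Macaulay local ring. -/
theorem isCohenMacaulayLocalRing_of_isCohenMacaulayRing (F : Type u) [CommRing F] [IsLocalRing F]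
    (h : LocCoh.IsCohenMacaulayRing F) : LocCoh.IsCohenMacaulayLocalRing F := by
  have h1 := h.isCohenMacaulayLocalRing_localization (maximalIdeal F)
  have hunits : (maximalIdeal F).primeCompl ≤ IsUnit.submonoid F := fun x hx =>
    IsLocalRing.notMem_maximalIdeal.mp hx
  let e : F ≃ₐ[F] Localization.AtPrime (maximalIdeal F) :=
    IsLocalization.atUnits F (maximalIdeal F).primeCompl hunits
  exact Groth.Agent.Lib.Helper29.isCohenMacaulayLocalRing_of_ringEquiv e.symm.toRingEquiv h1

/-- A Cohen–Macaulay local ring has a regular sequence in the maximal ideal generating an ideal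
primary to the maximal ideal. -/
theorem exists_regular_sop (F : Type u) [CommRing F] [IsLocalRing F]
    (h : LocCoh.IsCohenMacaulayLocalRing F) :
    ∃ rs : List F, (∀ r ∈ rs, r ∈ maximalIdeal F) ∧ IsWeaklyRegular F rs ∧
      maximalIdeal F ≤ (Ideal.ofList rs).radical := by
  have hN : IsNoetherianRing F := h.toIsNoetherian
  have hdim := h.supportDim_eq_depth
  rw [Module.supportDim_self_eq_ringKrullDim] at hdim
  have hlt : ringKrullDim F < ⊤ := ringKrullDim_lt_top
  have hne : LocCoh.depth F F ≠ ⊤ := by
    intro hh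
    rw [hh] at hdim
    rw [hdim] at hlt
    exact absurd hlt (by simp)
  obtain ⟨n, hn⟩ := ENat.ne_top_iff_exists.mp hne
  obtain ⟨rs, h1, h2, h3⟩ := (Groth.Agent.Lib.Helper29.le_depth_iff F F n).mp (by rw [← hn])
  refine ⟨rs, h2, h3.toIsWeaklyRegular, ?_⟩
  have h4 := ringKrullDim_add_length_eq_ringKrullDim_of_isRegular rs h3
  rw [hdim, ← hn, h1] at h4
  have hJne : Ideal.ofList rs ≠ ⊤ := by
    intro hh
    apply h3.top_ne_smul
    rw [hh, smul_eq_mul, Ideal.mul_top]
  have h5 : ringKrullDim (F ⧸ Ideal.ofList rs) = 0 := by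
    have hnt : Nontrivial (F ⧸ Ideal.ofList rs) := Ideal.Quotient.nontrivial_iff.mpr hJne
    generalize ringKrullDim (F ⧸ Ideal.ofList rs) = x at h4
    induction x with
    | bot => simp at h4
    | coe x =>
      have : x + (n : ℕ∞) = (n : ℕ∞) := by exact_mod_cast h4
      have hx : x = 0 := by
        have h6 : x + (n : ℕ∞) = 0 + (n : ℕ∞) := by rw [this, zero_add]
        exact ENat.add_left_injective_of_ne_top (ENat.natCast_ne_top n) h6
      rw [hx]
      rfl
  have h6 : Ring.KrullDimLE 0 (F ⧸ Ideal.ofList rs) := by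
    rw [Ring.krullDimLE_iff, h5]
    rfl
  rw [Ideal.radical_eq_sInf]
  refine le_sInf ?_
  rintro P ⟨hP1, hP2⟩
  have hPmax : (P.map (Ideal.Quotient.mk (Ideal.ofList rs))).IsMaximal := by
    have : (P.map (Ideal.Quotient.mk (Ideal.ofList rs))).IsPrime :=
      Ideal.map_isPrime_of_surjective Ideal.Quotient.mk_surjective (by rwa [Ideal.mk_ker])
    exact Ideal.isMaximal_of_isPrime _
  have hPmax' : P.IsMaximal := by
    have := Ideal.comap_isMaximal_of_surjective (Ideal.Quotient.mk (Ideal.ofList rs))
      Ideal.Quotient.mk_surjective (K := P.map (Ideal.Quotient.mk (Ideal.ofList rs)))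
    rwa [Ideal.comap_map_of_surjective' _ Ideal.Quotient.mk_surjective, Ideal.mk_ker,
      sup_eq_left.mpr hP1] at this
  rw [IsLocalRing.eq_maximalIdeal hPmax']

end Groth.Agent.Lib.Helper73.CMFibre
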