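import Groth.Agent.H34.GorDual
import Groth.Agent.Lib.Helper98.TorsionFreeEmbed

/-!
# Canonical ideals of one-dimensional local domains, part 1 (helper73)

Finite-length duality `L ↦ Ext¹(L, ω)`; generic length induction adapted from helper34's `GorDual`.
-/

set_option autoImplicit false
universe u

namespace Groth.Agent.Lib.Helper73.CanonDual

open IsLocalRing Groth.Agent.Lib.Helper29 Groth.Agent.Lib.Helper28
  Groth.Agent.Lib.Helper60 CategoryTheory Abelian

section Generic

variable (A : Type u) [CommRing A] [IsLocalRing A] (W : ModuleCat.{u} A)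

/-- The length induction: if `Ext^i(k, A) = 0` for `i ≠ n` then for every finite length `M`,
`Ext^i(M, A) = 0` for `i ≠ n` and `length Ext^n(M, A) = length M * length Ext^n(k, A)`. -/
theorem ext_of_isFiniteLength_aux (n : ℕ)
    (hk1 : ∀ i : ℕ, i ≠ n → Subsingleton
      (Ext (ModuleCat.of A (A ⧸ maximalIdeal A)) W i))
    (M : Type u) [AddCommGroup M] [Module A M] (hM : IsFiniteLength A M) :
    (∀ i : ℕ, i ≠ n → Subsingleton (Ext (ModuleCat.of A M) W i)) ∧
    Module.length A (Ext (ModuleCat.of A M) W n) =
      Module.length A M *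
        Module.length A (Ext (ModuleCat.of A (A ⧸ maximalIdeal A)) W n) := by
  induction hM with
  | @of_subsingleton M _ _ _ =>
    refine ⟨fun i _ => ext_subsingleton_of_isZero_left A (ModuleCat.isZero_of_subsingleton _) _ i,
      ?_⟩
    have := ext_subsingleton_of_isZero_left A
      (ModuleCat.isZero_of_subsingleton (ModuleCat.of A M)) W n
    rw [Module.length_eq_zero, Module.length_eq_zero, zero_mul]
  | @of_simple_quotient M _ _ N hsimple hN ih =>
    obtain ⟨ih1, ih2⟩ := ih
    obtain ⟨I, hI, ⟨eq⟩⟩ := isSimpleModule_iff_quot_maximal.mp hsimple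
    obtain rfl : I = maximalIdeal A := IsLocalRing.eq_maximalIdeal hI
    let S : ShortComplex (ModuleCat.{u} A) :=
      ShortComplex.mk (ModuleCat.ofHom N.subtype) (ModuleCat.ofHom N.mkQ) (by
        ext x
        exact (Submodule.Quotient.mk_eq_zero N).mpr x.2)
    have hS : S.ShortExact :=
      { exact := (ShortComplex.ShortExact.moduleCat_exact_iff_function_exact S).mpr
          (LinearMap.exact_subtype_mkQ N)
        mono_f := (ModuleCat.mono_iff_injective _).mpr N.injective_subtype
        epi_g := (ModuleCat.epi_iff_surjective _).mpr N.mkQ_surjective }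
    have hq1 : ∀ i : ℕ, i ≠ n → Subsingleton (Ext S.X₃ W i) := by
      intro i hi
      have := hk1 i hi
      exact (extCongrLeft eq.toModuleIso W i).symm.toEquiv.subsingleton
    have hq2 : Module.length A (Ext S.X₃ W n) =
        Module.length A (Ext (ModuleCat.of A (A ⧸ maximalIdeal A)) W n) :=
      (length_ext_congr A eq.toModuleIso W n).symm
    constructor
    · intro i hi
      have s₁ := ih1 i hi
      have s₃ := hq1 i hi
      refine subsingleton_of_forall_eq 0 (fun x₂ => ?_)
      obtain ⟨x₃, hx₃⟩ := Ext.contravariant_sequence_exact₂ hS W x₂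
        (Subsingleton.elim _ _)
      rw [← hx₃, Subsingleton.elim x₃ 0]
      exact Ext.comp_zero _ _ _ _ _
    · let f : Ext S.X₃ W n →ₗ[A] Ext S.X₂ W n :=
        (Ext.mk₀ S.g).precompOfLinear A W (zero_add n)
      let g : Ext S.X₂ W n →ₗ[A] Ext S.X₁ W n :=
        (Ext.mk₀ S.f).precompOfLinear A W (zero_add n)
      have hf : Function.Injective f := by
        rcases Nat.eq_zero_or_pos n with h0 | hpos
        · subst h0
          exact Ext.precomp_mk₀_injective_of_epi W S.g (hg := hS.epi_g)
        · obtain ⟨m, rfl⟩ : ∃ m, n = m + 1 := ⟨n - 1, by omega⟩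
          rw [injective_iff_map_eq_zero]
          intro x hx
          obtain ⟨x₁, hx₁⟩ := Ext.contravariant_sequence_exact₃ hS W x hx
            (add_comm 1 m)
          have := ih1 m (by omega)
          rw [← hx₁, Subsingleton.elim x₁ 0]
          exact Ext.comp_zero _ _ _ _ _
      have hg : Function.Surjective g := by
        intro y
        have := hq1 (n + 1) (by omega)
        exact Ext.contravariant_sequence_exact₁ hS W y (add_comm 1 n)
          (Subsingleton.elim _ _)
      have hfg : Function.Exact f g := by
        intro y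
        constructor
        · intro hy
          obtain ⟨x, hx⟩ := Ext.contravariant_sequence_exact₂ hS W y hy
          exact ⟨x, hx⟩
        · rintro ⟨x, rfl⟩
          change (Ext.mk₀ S.f).comp ((Ext.mk₀ S.g).comp x (zero_add n)) (zero_add n) = 0
          rw [← Ext.comp_assoc_of_second_deg_zero, Ext.mk₀_comp_mk₀, S.zero, Ext.mk₀_zero,
            Ext.zero_comp]
      have h := Module.length_eq_add_of_exact f g hf hg hfg
      have h' := Module.length_eq_add_of_exact N.subtype N.mkQ N.injective_subtype
        N.mkQ_surjective (LinearMap.exact_subtype_mkQ N)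
      rw [Module.length_eq_one A (M ⧸ N)] at h'
      change Module.length A (Ext S.X₂ W n) = _
      rw [h, hq2, ih2, h', add_mul, one_mul, add_comm]

end Generic

end Groth.Agent.Lib.Helper73.CanonDual
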