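import Groth.Agent.Lib.Helper73.CanonDual1

set_option autoImplicit false
universe u

namespace Groth.Agent.Lib.Helper73.CanonDual

open IsLocalRing CategoryTheory Abelian

section Connecting

variable {A : Type u} [CommRing A] {S : ShortComplex (ModuleCat.{u} A)} (hS : S.ShortExact)
  (W : ModuleCat.{u} A)

/-- the connecting map `Hom(X₁, W) → Ext¹(X₃, W)` as a linear map -/
noncomputable def conn : (S.X₁ ⟶ W) →ₗ[A] Ext S.X₃ W 1 :=
  (hS.extClass.precompOfLinear A W (add_zero 1)) ∘ₗ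
    (Ext.linearEquiv₀ (R := A) (X := S.X₁) (Y := W)).symm.toLinearMap

lemma conn_apply (φ : S.X₁ ⟶ W) : conn hS W φ = hS.extClass.comp (Ext.mk₀ φ) (add_zero 1) := rfl

lemma conn_surjective (h2 : Subsingleton (Ext S.X₂ W 1)) : Function.Surjective (conn hS W) := by
  intro x₃
  obtain ⟨x₁, hx₁⟩ := Ext.contravariant_sequence_exact₃ hS W x₃ (Subsingleton.elim _ _)
    (add_zero 1)
  refine ⟨Ext.linearEquiv₀ (R := A) x₁, ?_⟩
  rw [conn_apply, Ext.mk₀_linearEquiv₀_apply]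
  exact hx₁

lemma conn_eq_zero_iff (φ : S.X₁ ⟶ W) : conn hS W φ = 0 ↔ ∃ ψ : S.X₂ ⟶ W, S.f ≫ ψ = φ := by
  constructor
  · intro h
    obtain ⟨x₂, hx₂⟩ := Ext.contravariant_sequence_exact₁ hS W (Ext.mk₀ φ) (add_zero 1) h
    refine ⟨Ext.linearEquiv₀ (R := A) x₂, ?_⟩
    apply (Ext.mk₀_bijective _ _).1
    rw [← Ext.mk₀_comp_mk₀, Ext.mk₀_linearEquiv₀_apply]
    exact hx₂
  · rintro ⟨ψ, rfl⟩
    rw [conn_apply, ← Ext.mk₀_comp_mk₀, ← Ext.comp_assoc_of_third_deg_zero, hS.extClass_comp,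
      Ext.zero_comp]

/-- the range of restriction along `S.f` -/
noncomputable def resRange : Submodule A (S.X₁ ⟶ W) :=
  LinearMap.range (Linear.leftComp A W S.f)

lemma ker_conn : LinearMap.ker (conn hS W) = resRange (S := S) W := by
  ext φ
  rw [LinearMap.mem_ker, conn_eq_zero_iff]
  constructor
  · rintro ⟨ψ, rfl⟩
    exact ⟨ψ, rfl⟩
  · rintro ⟨ψ, rfl⟩
    exact ⟨ψ, rfl⟩

/-- `Ext¹(X₃, W) ≃ Hom(X₁, W) / im Hom(X₂, W)` when `Ext¹(X₂, W) = 0` -/
noncomputable def extOneEquiv (h2 : Subsingleton (Ext S.X₂ W 1)) :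
    ((S.X₁ ⟶ W) ⧸ resRange (S := S) W) ≃ₗ[A] Ext S.X₃ W 1 :=
  (Submodule.quotEquivOfEq _ _ (ker_conn hS W).symm).trans
    ((conn hS W).quotKerEquivOfSurjective (conn_surjective hS W h2))

end Connecting

end Groth.Agent.Lib.Helper73.CanonDual
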