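import Groth.Agent.Lib.Helper73.CanonDual2

set_option autoImplicit false
universe u

namespace Groth.Agent.Lib.Helper73.CanonDual

open IsLocalRing CategoryTheory Abelian

section TorsionFree

variable (O : Type u) [CommRing O] [IsDomain O]

/-- `Ext^i(M, W) = 0` for `i ≥ 1`, `M` finitely generated torsion-free, `W` of injective
dimension `≤ 1` (over any domain). -/
theorem ext_subsingleton_of_torsionFree (K : Type u) [Field K] [Algebra O K] [IsFractionRing O K]
    (W : ModuleCat.{u} O) (hW : HasInjectiveDimensionLT W 2)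
    (M : Type u) [AddCommGroup M] [Module O M] [Module.Finite O M] [NoZeroSMulDivisors O M]
    (i : ℕ) (hi : 1 ≤ i) : Subsingleton (Ext (ModuleCat.of O M) W i) := by
  by_cases h2 : 2 ≤ i
  · exact HasInjectiveDimensionLT.subsingleton _ 2 i h2 _
  have hi1 : i = 1 := by omega
  subst hi1
  obtain ⟨f, hf⟩ := Groth.Agent.Lib.Helper98.exists_injective_to_pi O K M
    (Module.finrank K (TensorProduct O K M)) rfl
  let S : ShortComplex (ModuleCat.{u} O) :=
    ShortComplex.mk (ModuleCat.ofHom f) (ModuleCat.ofHom (LinearMap.range f).mkQ) (by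
      ext x
      change (LinearMap.range f).mkQ (f x) = 0
      rw [Submodule.mkQ_apply, Submodule.Quotient.mk_eq_zero]
      exact ⟨x, rfl⟩)
  have hS : S.ShortExact := by
    have hmono : Mono S.f := by
      rw [ModuleCat.mono_iff_injective]
      exact hf
    have hepi : Epi S.g := by
      rw [ModuleCat.epi_iff_surjective]
      exact Submodule.mkQ_surjective _
    refine ShortComplex.ShortExact.mk ?_
    rw [ShortComplex.moduleCat_exact_iff]
    intro a ha
    change (LinearMap.range f).mkQ a = 0 at ha
    rw [Submodule.mkQ_apply, Submodule.Quotient.mk_eq_zero] at ha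
    exact ha
  refine subsingleton_of_forall_eq 0 fun x => ?_
  have h0 : hS.extClass.comp x (show 1 + 1 = 2 by rfl) = 0 :=
    (HasInjectiveDimensionLT.subsingleton W 2 2 le_rfl _).elim _ _
  obtain ⟨x₂, hx₂⟩ := Abelian.Ext.contravariant_sequence_exact₁ hS W x
    (show 1 + 1 = 2 by rfl) h0
  have : Projective S.X₂ := by
    change Projective (ModuleCat.of O (Fin _ → O))
    exact ModuleCat.projective_of_free (Module.Free.chooseBasis O (Fin _ → O))
  have hx₂0 : x₂ = 0 := Abelian.Ext.eq_zero_of_projective _
  rw [← hx₂, hx₂0, Abelian.Ext.comp_zero]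

end TorsionFree

section Residue

variable (O : Type u) [CommRing O] [IsDomain O] [IsLocalRing O]

/-- `Ext^i(k, W) = 0` for `i ≠ 1` when `W` is torsion-free of injective dimension `≤ 1` and `O` is
not a field. -/
theorem ext_residue_subsingleton (hO : ¬ IsField O) (W : Type u) [AddCommGroup W] [Module O W]
    [NoZeroSMulDivisors O W] (hW : HasInjectiveDimensionLT (ModuleCat.of O W) 2)
    (i : ℕ) (hi : i ≠ 1) :
    Subsingleton (Ext (ModuleCat.of O (O ⧸ maximalIdeal O)) (ModuleCat.of O W) i) := by
  by_cases h2 : 2 ≤ i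
  · exact HasInjectiveDimensionLT.subsingleton _ 2 i h2 _
  have hi0 : i = 0 := by omega
  subst hi0
  refine (Ext.linearEquiv₀ (R := O)).toEquiv.subsingleton_congr.mpr ?_
  refine ⟨fun φ ψ => ?_⟩
  have key : ∀ φ : ModuleCat.of O (O ⧸ maximalIdeal O) ⟶ ModuleCat.of O W, φ = 0 := by
    intro φ
    obtain ⟨x, hxm, hx0⟩ : ∃ x ∈ maximalIdeal O, x ≠ 0 := by
      by_contra hcon
      push Not at hcon
      apply hO
      exact IsLocalRing.isField_iff_maximalIdeal_eq.mpr ((Submodule.eq_bot_iff _).mpr hcon)
    refine ModuleCat.hom_ext (LinearMap.ext fun t => ?_)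
    change φ.hom t = 0
    have h1 : x • φ.hom t = 0 := by
      rw [← map_smul]
      have : x • t = 0 := by
        obtain ⟨s, rfl⟩ := Ideal.Quotient.mk_surjective t
        rw [← Ideal.Quotient.mk_eq_mk, Algebra.smul_def]
        change Ideal.Quotient.mk _ x * Ideal.Quotient.mk _ s = 0
        rw [(Ideal.Quotient.eq_zero_iff_mem).mpr hxm, zero_mul]
      rw [this, map_zero]
    exact (smul_eq_zero.mp h1).resolve_left hx0
  rw [key φ, key ψ]

end Residue

end Groth.Agent.Lib.Helper73.CanonDual
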