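import Groth.Agent.Lib.Helper73.CanonDual3

set_option autoImplicit false
universe u

namespace Groth.Agent.Lib.Helper73.CanonDual

section HomDiv

variable {O : Type u} [CommRing O] [IsDomain O]
  {K : Type u} [Field K] [Algebra O K] [IsFractionRing O K]

/-- multiplication by an element of `J / I` as a linear map `I → J` -/
def mulHom (I J : Submodule O K) (y : ↥(J / I)) : ↥I →ₗ[O] ↥J where
  toFun b := ⟨y.1 * b.1, (Submodule.mem_div_iff_forall_mul_mem.1 y.2) b.1 b.2⟩
  map_add' a b := by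
    ext
    simp [mul_add]
  map_smul' r a := by
    ext
    simp [Algebra.smul_def, mul_left_comm]

@[simp] lemma mulHom_apply_coe (I J : Submodule O K) (y : ↥(J / I)) (b : ↥I) :
    ((mulHom I J y b : ↥J) : K) = y.1 * b.1 := rfl

/-- `mulHom` as a linear map -/
def mulHomₗ (I J : Submodule O K) : ↥(J / I) →ₗ[O] (↥I →ₗ[O] ↥J) where
  toFun := mulHom I J
  map_add' y z := by
    ext b
    simp [add_mul]
  map_smul' r y := by
    ext b
    simp [Algebra.smul_def, mul_assoc]

lemma mulHomₗ_injective (I J : Submodule O K) (hI : I ≠ ⊥) :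
    Function.Injective (mulHomₗ I J) := by
  obtain ⟨a, haI, ha0⟩ := (Submodule.ne_bot_iff I).mp hI
  intro y z h
  have h1 := congrArg (fun φ : ↥I →ₗ[O] ↥J => ((φ ⟨a, haI⟩ : ↥J) : K)) h
  simp only [mulHomₗ, LinearMap.coe_mk, AddHom.coe_mk, mulHom_apply_coe] at h1
  exact Subtype.ext (mul_right_cancel₀ ha0 h1)

/-- key computation: linear maps between submodules of the fraction field are "multiplications" -/
lemma apply_mul_eq (I J : Submodule O K) (φ : ↥I →ₗ[O] ↥J) (a b : ↥I) :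
    (φ b : K) * a.1 = (φ a : K) * b.1 := by
  obtain ⟨⟨a₁, s⟩, hs⟩ := IsLocalization.surj (nonZeroDivisors O) a.1
  obtain ⟨⟨b₁, t⟩, ht⟩ := IsLocalization.surj (nonZeroDivisors O) b.1
  simp only at hs ht
  have hs0 : algebraMap O K s ≠ 0 := IsFractionRing.to_map_ne_zero_of_mem_nonZeroDivisors s.2
  have ht0 : algebraMap O K t ≠ 0 := IsFractionRing.to_map_ne_zero_of_mem_nonZeroDivisors t.2
  -- (b₁ * s) • a = (a₁ * t) • b
  have hrel : ((b₁ * s : O)) • a = ((a₁ * t : O)) • b := by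
    ext
    simp only [Submodule.coe_smul, Algebra.smul_def, map_mul]
    rw [← hs, ← ht]
    ring
  have h2 := congrArg (fun x : ↥I => ((φ x : ↥J) : K)) hrel
  simp only [map_smul, Submodule.coe_smul, Algebra.smul_def, map_mul] at h2
  -- b₁ s φ(a) = a₁ t φ(b)
  have e1 : (φ b : K) * a.1 * (algebraMap O K s * algebraMap O K t) =
      (φ a : K) * b.1 * (algebraMap O K s * algebraMap O K t) := by
    calc (φ b : K) * a.1 * (algebraMap O K s * algebraMap O K t)
        = (algebraMap O K a₁ * algebraMap O K t) * (φ b : K) := by rw [← hs]; ring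
      _ = (algebraMap O K b₁ * algebraMap O K s) * (φ a : K) := h2.symm
      _ = (φ a : K) * b.1 * (algebraMap O K s * algebraMap O K t) := by rw [← ht]; ring
  exact mul_right_cancel₀ (mul_ne_zero hs0 ht0) e1

lemma mulHomₗ_surjective (I J : Submodule O K) (hI : I ≠ ⊥) :
    Function.Surjective (mulHomₗ I J) := by
  obtain ⟨a, haI, ha0⟩ := (Submodule.ne_bot_iff I).mp hI
  intro φ
  have hmul : ∀ b : ↥I, (φ b : K) = ((φ ⟨a, haI⟩ : ↥J) : K) / a * b.1 := by
    intro b
    have := apply_mul_eq I J φ ⟨a, haI⟩ b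
    simp only at this
    field_simp
    exact this
  refine ⟨⟨((φ ⟨a, haI⟩ : ↥J) : K) / a, ?_⟩, ?_⟩
  · rw [Submodule.mem_div_iff_forall_mul_mem]
    intro b hb
    rw [← hmul ⟨b, hb⟩]
    exact (φ ⟨b, hb⟩).2
  · ext b
    simp only [mulHomₗ, LinearMap.coe_mk, AddHom.coe_mk, mulHom_apply_coe]
    exact (hmul b).symm

/-- `Hom_O(I, J) ≃ J / I` for nonzero `I` -/
noncomputable def homEquivDiv (I J : Submodule O K) (hI : I ≠ ⊥) :
    ↥(J / I) ≃ₗ[O] (↥I →ₗ[O] ↥J) :=
  LinearEquiv.ofBijective (mulHomₗ I J) ⟨mulHomₗ_injective I J hI, mulHomₗ_surjective I J hI⟩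

@[simp] lemma homEquivDiv_apply_coe (I J : Submodule O K) (hI : I ≠ ⊥) (y : ↥(J / I)) (b : ↥I) :
    ((homEquivDiv I J hI y b : ↥J) : K) = y.1 * b.1 := rfl

end HomDiv

end Groth.Agent.Lib.Helper73.CanonDual
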