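import Groth.Agent.Lib.Helper73.CanonDual4

set_option autoImplicit false
universe u

namespace Groth.Agent.Lib.Helper73.CanonDual

open IsLocalRing CategoryTheory Abelian

section Lattice

variable (O : Type u) [CommRing O] [IsDomain O] [IsLocalRing O]
  (K : Type u) [Field K] [Algebra O K] [IsFractionRing O K]

/-- the type of `ω`: length of `Ext¹(k, ω)` -/
noncomputable def typ (ω : Submodule O K) : ℕ∞ :=
  Module.length O (Ext (ModuleCat.of O (O ⧸ maximalIdeal O)) (ModuleCat.of O ↥ω) 1)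

variable {O K}

omit [IsLocalRing O] in
lemma noZeroSMulDivisors_submodule (I : Submodule O K) : NoZeroSMulDivisors O ↥I := by
  refine ⟨fun {c x} h => ?_⟩
  have h1 : algebraMap O K c * x.1 = 0 := by
    have := congrArg Subtype.val h
    rwa [Submodule.coe_smul, Algebra.smul_def, Submodule.coe_zero] at this
  rcases mul_eq_zero.mp h1 with h2 | h2
  · left
    exact (IsFractionRing.to_map_eq_zero_iff (K := K)).mp h2
  · right
    exact Subtype.ext h2

/-- the short complex `J → I → I/J` -/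
noncomputable def quotSC {I J : Submodule O K} (hJI : J ≤ I) : ShortComplex (ModuleCat.{u} O) :=
  ShortComplex.mk (ModuleCat.ofHom (Submodule.inclusion hJI))
    (ModuleCat.ofHom (J.submoduleOf I).mkQ) (by
      ext x
      change (J.submoduleOf I).mkQ (Submodule.inclusion hJI x) = 0
      rw [Submodule.mkQ_apply, Submodule.Quotient.mk_eq_zero]
      exact x.2)

lemma quotSC_shortExact {I J : Submodule O K} (hJI : J ≤ I) : (quotSC hJI).ShortExact := by
  have hmono : Mono (quotSC hJI).f := by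
    rw [ModuleCat.mono_iff_injective]
    exact Submodule.inclusion_injective hJI
  have hepi : Epi (quotSC hJI).g := by
    rw [ModuleCat.epi_iff_surjective]
    exact Submodule.mkQ_surjective _
  refine ShortComplex.ShortExact.mk ?_
  rw [ShortComplex.moduleCat_exact_iff]
  intro a ha
  change (J.submoduleOf I).mkQ a = 0 at ha
  rw [Submodule.mkQ_apply, Submodule.Quotient.mk_eq_zero] at ha
  exact ⟨⟨a.1, ha⟩, rfl⟩

theorem length_div_quotient (hO : ¬ IsField O) (ω : Submodule O K)
    (hωinj : HasInjectiveDimensionLT (ModuleCat.of O ↥ω) 2)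
    (I J : Submodule O K) (hJ0 : J ≠ ⊥) (hIfg : I.FG) (hJI : J ≤ I)
    (hfl : IsFiniteLength O (↥I ⧸ J.submoduleOf I)) :
    Module.length O (↥(ω / J) ⧸ (ω / I).submoduleOf (ω / J)) =
      Module.length O (↥I ⧸ J.submoduleOf I) * typ O K ω := by
  have hI0 : I ≠ ⊥ := fun h => hJ0 (le_bot_iff.mp (h ▸ hJI))
  have : Module.Finite O ↥I := Module.Finite.iff_fg.mpr hIfg
  haveI := noZeroSMulDivisors_submodule I
  haveI := noZeroSMulDivisors_submodule ω
  have h2 : Subsingleton (Ext (quotSC hJI).X₂ (ModuleCat.of O ↥ω) 1) :=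
    ext_subsingleton_of_torsionFree O K (ModuleCat.of O ↥ω) hωinj ↥I 1 le_rfl
  let E := extOneEquiv (quotSC_shortExact hJI) (ModuleCat.of O ↥ω) h2
  let e : ↥(ω / J) ≃ₗ[O] ((quotSC hJI).X₁ ⟶ ModuleCat.of O ↥ω) :=
    (homEquivDiv J ω hJ0).trans (ModuleCat.homLinearEquiv (M := ModuleCat.of O ↥J) (N := ModuleCat.of O ↥ω) (S := O)).symm
  have hmap : ((ω / I).submoduleOf (ω / J)).map e.toLinearMap =
      resRange (S := quotSC hJI) (ModuleCat.of O ↥ω) := by
    ext φ
    constructor
    · rintro ⟨y, hy, rfl⟩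
      refine ⟨ModuleCat.ofHom (mulHom I ω ⟨y.1, hy⟩), ?_⟩
      refine ModuleCat.hom_ext (LinearMap.ext fun b => ?_)
      apply Subtype.ext
      rfl
    · rintro ⟨ψ, rfl⟩
      obtain ⟨y', hy'⟩ := mulHomₗ_surjective I ω hI0 ψ.hom
      have hy'J : y'.1 ∈ ω / J := by
        rw [Submodule.mem_div_iff_forall_mul_mem]
        intro b hb
        exact (Submodule.mem_div_iff_forall_mul_mem.1 y'.2) b (hJI hb)
      refine ⟨⟨y'.1, hy'J⟩, y'.2, ?_⟩
      refine ModuleCat.hom_ext (LinearMap.ext fun b => ?_)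
      apply Subtype.ext
      have := congrArg (fun f : ↥I →ₗ[O] ↥ω => ((f (Submodule.inclusion hJI b) : ↥ω) : K)) hy'
      exact this
  have e1 : Module.length O (↥(ω / J) ⧸ (ω / I).submoduleOf (ω / J)) =
      Module.length O (Ext (quotSC hJI).X₃ (ModuleCat.of O ↥ω) 1) :=
    ((Submodule.Quotient.equiv _ _ e hmap).trans E).length_eq
  rw [e1]
  have hk := ext_residue_subsingleton O hO ↥ω hωinj
  exact (ext_of_isFiniteLength_aux O (ModuleCat.of O ↥ω) 1 (fun i hi => hk i hi)
    (↥I ⧸ J.submoduleOf I) hfl).2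

end Lattice

end Groth.Agent.Lib.Helper73.CanonDual
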