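import Groth.Agent.Lib.Helper73.CanonDual5
import Groth.Agent.Lib.Helper74.LatticeDet

set_option autoImplicit false
universe u

namespace Groth.Agent.Lib.Helper73.CanonDual

open IsLocalRing CategoryTheory Abelian Groth.Agent.Lib.Helper74

section Scale

variable {O : Type u} [CommRing O] [IsDomain O]
  {K : Type u} [Field K] [Algebra O K] [IsFractionRing O K]

/-- multiplication by a nonzero element of `K`, as a `K`-linear automorphism of `K` -/
noncomputable def mulK (a : K) (ha : a ≠ 0) : K ≃ₗ[K] K := LinearEquiv.smulOfNeZero K K a ha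

/-- scaling a submodule of `K` by an element -/
noncomputable def sc (a : K) (I : Submodule O K) : Submodule O K :=
  I.map (LinearMap.mulLeft O a)

lemma sc_eq_map (a : K) (ha : a ≠ 0) (I : Submodule O K) :
    sc a I = I.map ((mulK a ha).restrictScalars O).toLinearMap := rfl

lemma mem_sc {a : K} {I : Submodule O K} {y : K} :
    y ∈ sc a I ↔ ∃ b ∈ I, a * b = y := by
  unfold sc
  rw [Submodule.mem_map]
  rfl

lemma mem_sc' {a : K} (ha : a ≠ 0) {I : Submodule O K} {y : K} :
    y ∈ sc a I ↔ a⁻¹ * y ∈ I := by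
  rw [mem_sc]
  constructor
  · rintro ⟨b, hb, rfl⟩
    rwa [inv_mul_cancel_left₀ ha]
  · intro h
    exact ⟨a⁻¹ * y, h, mul_inv_cancel_left₀ ha y⟩

lemma sc_sc_inv (a : K) (ha : a ≠ 0) (I : Submodule O K) :
    sc a⁻¹ (sc a I) = I := by
  ext y
  rw [mem_sc' (inv_ne_zero ha), mem_sc' ha, inv_inv, inv_mul_cancel_left₀ ha]

lemma sc_inv_sc (a : K) (ha : a ≠ 0) (I : Submodule O K) :
    sc a (sc a⁻¹ I) = I := by
  ext y
  rw [mem_sc' ha, mem_sc' (inv_ne_zero ha), inv_inv, mul_inv_cancel_left₀ ha]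

lemma div_one' (ω : Submodule O K) : ω / 1 = ω := by
  ext y
  rw [Submodule.mem_div_iff_forall_mul_mem]
  constructor
  · intro h
    have := h 1 (Submodule.one_le.mp le_rfl)
    rwa [mul_one] at this
  · intro hy b hb
    obtain ⟨r, rfl⟩ := Submodule.mem_one.mp hb
    rw [mul_comm, ← Algebra.smul_def]
    exact ω.smul_mem r hy

lemma div_sc (ω I : Submodule O K) (a : K) (ha : a ≠ 0) :
    ω / sc a I = sc a⁻¹ (ω / I) := by
  ext y
  rw [mem_sc' (inv_ne_zero ha), inv_inv, Submodule.mem_div_iff_forall_mul_mem,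
    Submodule.mem_div_iff_forall_mul_mem]
  constructor
  · intro h b hb
    have := h (a * b) (mem_sc.mpr ⟨b, hb, rfl⟩)
    rwa [← mul_assoc, mul_comm y a] at this
  · intro h b hb
    obtain ⟨c, hc, rfl⟩ := mem_sc.mp hb
    have := h c hc
    have e : y * (a * c) = a * y * c := by ring
    rwa [e]

lemma sc_div (ω I : Submodule O K) (a : K) (ha : a ≠ 0) :
    sc a ω / I = sc a (ω / I) := by
  ext y
  rw [mem_sc' ha, Submodule.mem_div_iff_forall_mul_mem, Submodule.mem_div_iff_forall_mul_mem]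
  constructor
  · intro h b hb
    have := (mem_sc' ha).mp (h b hb)
    rwa [← mul_assoc] at this
  · intro h b hb
    rw [mem_sc' ha, ← mul_assoc]
    exact h b hb

lemma sc_fg {a : K} {I : Submodule O K} (h : I.FG) : (sc a I).FG := h.map _

lemma sc_ne_bot {a : K} (ha : a ≠ 0) {I : Submodule O K} (h : I ≠ ⊥) : sc a I ≠ ⊥ := by
  obtain ⟨b, hb, hb0⟩ := (Submodule.ne_bot_iff I).mp h
  exact (Submodule.ne_bot_iff _).mpr ⟨a * b, mem_sc.mpr ⟨b, hb, rfl⟩, mul_ne_zero ha hb0⟩

lemma sc_mono {a : K} {I J : Submodule O K} (h : I ≤ J) : sc a I ≤ sc a J :=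
  Submodule.map_mono h

lemma sc_one_le {a : K} {I : Submodule O K} (ha : a ∈ I) : sc a 1 ≤ I := by
  intro y hy
  obtain ⟨b, hb, rfl⟩ := mem_sc.mp hy
  obtain ⟨r, rfl⟩ := Submodule.mem_one.mp hb
  rw [mul_comm, ← Algebra.smul_def]
  exact I.smul_mem r ha

lemma sc_algebraMap_le (r : O) (I : Submodule O K) : sc (algebraMap O K r) I ≤ I := by
  intro y hy
  obtain ⟨b, hb, rfl⟩ := mem_sc.mp hy
  rw [← Algebra.smul_def]
  exact I.smul_mem r hb

lemma div_anti {ω I J : Submodule O K} (h : J ≤ I) : ω / I ≤ ω / J := by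
  intro y hy
  rw [Submodule.mem_div_iff_forall_mul_mem] at hy ⊢
  exact fun b hb => hy b (h hb)

lemma span_eq_top_of_ne_bot {I : Submodule O K} (h : I ≠ ⊥) :
    Submodule.span K (I : Set K) = ⊤ := by
  obtain ⟨b, hb, hb0⟩ := (Submodule.ne_bot_iff I).mp h
  rw [eq_top_iff]
  intro y _
  have : y = (y / b) • b := by
    rw [smul_eq_mul, div_mul_cancel₀ y hb0]
  rw [this]
  exact Submodule.smul_mem _ _ (Submodule.subset_span hb)

lemma one_ne_bot : (1 : Submodule O K) ≠ ⊥ :=
  (Submodule.ne_bot_iff _).mpr ⟨1, Submodule.one_le.mp le_rfl, one_ne_zero⟩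

lemma one_fg : (1 : Submodule O K).FG := by
  rw [Submodule.one_eq_span]
  exact Submodule.fg_span_singleton 1

end Scale

end Groth.Agent.Lib.Helper73.CanonDual
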