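import Groth.Agent.Lib.Helper73.CanonDual6

set_option autoImplicit false
universe u

namespace Groth.Agent.Lib.Helper73.CanonDual

open IsLocalRing CategoryTheory Abelian Groth.Agent.Lib.Helper74

section Main

variable {O : Type u} [CommRing O] [IsDomain O] [IsNoetherianRing O] [IsLocalRing O]
  [Ring.KrullDimLE 1 O]
  {K : Type u} [Field K] [Algebra O K] [IsFractionRing O K]

/-- a canonical ideal: nonzero finitely generated submodule of `K` of injective dimension `≤ 1` -/
structure IsCanon (ω : Submodule O K) : Prop where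
  ne_bot : ω ≠ ⊥
  fg : ω.FG
  inj : HasInjectiveDimensionLT (ModuleCat.of O ↥ω) 2

omit [IsLocalRing O] in
lemma isFiniteLength_quot {I J : Submodule O K} (hIfg : I.FG) (hJ0 : J ≠ ⊥) :
    IsFiniteLength O (↥I ⧸ J.submoduleOf I) :=
  Module.length_ne_top_iff.mp
    (length_quotient_submoduleOf_lt_top K J I hIfg (span_eq_top_of_ne_bot hJ0)).ne

/-- variant of `length_div_quotient` with the duals named -/
theorem length_div_quotient' (hO : ¬ IsField O) {ω : Submodule O K} (hω : IsCanon ω)
    (I J : Submodule O K) (hJ0 : J ≠ ⊥) (hIfg : I.FG) (hJI : J ≤ I)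
    (Dj Di : Submodule O K) (hDj : Dj = ω / J) (hDi : Di = ω / I) :
    Module.length O (↥Dj ⧸ Di.submoduleOf Dj) =
      Module.length O (↥I ⧸ J.submoduleOf I) * typ O K ω := by
  subst hDj hDi
  exact length_div_quotient hO ω hω.inj I J hJ0 hIfg hJI (isFiniteLength_quot hIfg hJ0)

omit [IsNoetherianRing O] [Ring.KrullDimLE 1 O] in
lemma exists_mem_maximalIdeal_ne_zero (hO : ¬ IsField O) : ∃ x ∈ maximalIdeal O, x ≠ 0 := by
  by_contra hcon
  push Not at hcon
  exact hO (IsLocalRing.isField_iff_maximalIdeal_eq.mpr ((Submodule.eq_bot_iff _).mpr hcon))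

/-- a canonical ideal has type one -/
theorem typ_eq_one (hO : ¬ IsField O) {ω : Submodule O K} (hω : IsCanon ω) : typ O K ω = 1 := by
  obtain ⟨x₀, hx₀m, hx₀⟩ := exists_mem_maximalIdeal_ne_zero hO
  set x : K := algebraMap O K x₀ with hx
  have hx0 : x ≠ 0 := by
    rw [hx, Ne, IsFractionRing.to_map_eq_zero_iff]
    exact hx₀
  set X : Submodule O K := sc x 1 with hX
  have hX1 : X ≤ 1 := sc_algebraMap_le x₀ 1
  have hXne : X ≠ ⊥ := sc_ne_bot hx0 one_ne_bot
  have h1 := length_div_quotient' hO hω 1 X hXne one_fg hX1 (sc x⁻¹ ω) ω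
    (by rw [hX, div_sc _ _ _ hx0, div_one']) (div_one' ω).symm
  -- transport along multiplication by x⁻¹
  have h2 := length_quotient_submoduleOf_map
    ((mulK x⁻¹ (inv_ne_zero hx0)).restrictScalars O) (sc x ω) ω
  rw [← sc_eq_map, ← sc_eq_map, sc_sc_inv x hx0] at h2
  -- distance of lattices
  have hlatω : IsLat K ω := ⟨hω.fg, span_eq_top_of_ne_bot hω.ne_bot⟩
  have hlat1 : IsLat K (1 : Submodule O K) := ⟨one_fg, span_eq_top_of_ne_bot one_ne_bot⟩
  have h3 := latDist_map_eq_of_isLat K hlatω hlat1 (mulK x hx0)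
  rw [← sc_eq_map, ← sc_eq_map, latDist_of_le (sc_algebraMap_le x₀ ω),
    latDist_of_le (sc_algebraMap_le x₀ 1)] at h3
  have hfinω : Module.length O (↥ω ⧸ (sc x ω).submoduleOf ω) < ⊤ :=
    length_quotient_submoduleOf_lt_top K _ _ hω.fg
      (span_eq_top_of_ne_bot (sc_ne_bot hx0 hω.ne_bot))
  have hfin1 : Module.length O (↥(1 : Submodule O K) ⧸ X.submoduleOf 1) < ⊤ :=
    length_quotient_submoduleOf_lt_top K _ _ one_fg (span_eq_top_of_ne_bot hXne)
  have h4 : Module.length O (↥ω ⧸ (sc x ω).submoduleOf ω) =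
      Module.length O (↥(1 : Submodule O K) ⧸ X.submoduleOf 1) := by
    have h3' : (Module.length O (↥ω ⧸ (sc x ω).submoduleOf ω)).toNat =
        (Module.length O (↥(1 : Submodule O K) ⧸ X.submoduleOf 1)).toNat := by
      exact_mod_cast h3
    rw [← ENat.coe_toNat hfinω.ne, ← ENat.coe_toNat hfin1.ne, h3']
  -- nonvanishing
  have hpos : Module.length O (↥(1 : Submodule O K) ⧸ X.submoduleOf 1) ≠ 0 := by
    rw [Ne, Module.length_eq_zero_iff, Submodule.Quotient.subsingleton_iff]
    intro htop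
    have h1X : (1 : K) ∈ X := by
      have : (⟨1, Submodule.one_le.mp le_rfl⟩ : ↥(1 : Submodule O K)) ∈ X.submoduleOf 1 := by
        rw [htop]; trivial
      exact this
    obtain ⟨b, hb, hb1⟩ := mem_sc.mp h1X
    obtain ⟨r, rfl⟩ := Submodule.mem_one.mp hb
    rw [hx, ← map_mul] at hb1
    have : x₀ * r = 1 := IsFractionRing.injective O K (by rw [hb1, map_one])
    exact (IsLocalRing.mem_maximalIdeal x₀).mp hx₀m (IsUnit.of_mul_eq_one _ this)
  -- conclude
  rw [h2, h4] at h1
  set L := Module.length O (↥(1 : Submodule O K) ⧸ X.submoduleOf 1) with hL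
  lift L to ℕ using hfin1.ne with l hl
  have hl0 : l ≠ 0 := by exact_mod_cast hpos
  set r := typ O K ω with hr
  by_cases hrt : r = ⊤
  · rw [hrt] at h1
    exfalso
    rw [ENat.mul_top (by exact_mod_cast hl0)] at h1
    exact ENat.coe_ne_top l h1
  · lift r to ℕ using hrt with t ht
    have h1' : l = l * t := by exact_mod_cast h1
    have : t = 1 := by
      have : l * 1 = l * t := by rw [mul_one]; exact h1'
      exact (Nat.eq_of_mul_eq_mul_left (Nat.pos_of_ne_zero hl0) this).symm
    rw [this]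
    rfl

end Main

end Groth.Agent.Lib.Helper73.CanonDual
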