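import Groth.Agent.Lib.Helper73.CanonDual7

set_option autoImplicit false
universe u

namespace Groth.Agent.Lib.Helper73.CanonDual

open IsLocalRing CategoryTheory Abelian Groth.Agent.Lib.Helper74

section Main

variable {O : Type u} [CommRing O] [IsDomain O] [IsNoetherianRing O] [IsLocalRing O]
  [Ring.KrullDimLE 1 O]
  {K : Type u} [Field K] [Algebra O K] [IsFractionRing O K]

/-- **duality preserves colength** -/
theorem length_div (hO : ¬ IsField O) {ω : Submodule O K} (hω : IsCanon ω)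
    (I J : Submodule O K) (hJ0 : J ≠ ⊥) (hIfg : I.FG) (hJI : J ≤ I)
    (Dj Di : Submodule O K) (hDj : Dj = ω / J) (hDi : Di = ω / I) :
    Module.length O (↥Dj ⧸ Di.submoduleOf Dj) = Module.length O (↥I ⧸ J.submoduleOf I) := by
  rw [length_div_quotient' hO hω I J hJ0 hIfg hJI Dj Di hDj hDi, typ_eq_one hO hω, mul_one]

omit [IsNoetherianRing O] [IsLocalRing O] [Ring.KrullDimLE 1 O] in
lemma le_of_length_quot_eq_zero {I J : Submodule O K}
    (h : Module.length O (↥I ⧸ J.submoduleOf I) = 0) : I ≤ J := by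
  rw [Module.length_eq_zero_iff, Submodule.Quotient.subsingleton_iff] at h
  intro y hy
  have : (⟨y, hy⟩ : ↥I) ∈ J.submoduleOf I := by rw [h]; trivial
  exact this

/-- `ω : ω = O` -/
theorem div_self (hO : ¬ IsField O) {ω : Submodule O K} (hω : IsCanon ω) : ω / ω = 1 := by
  set O' := ω / ω with hO'
  have h1 : (1 : Submodule O K) ≤ O' := by
    rw [Submodule.one_le, hO', Submodule.mem_div_iff_forall_mul_mem]
    intro y hy
    rwa [one_mul]
  obtain ⟨a, haω, ha0⟩ := (Submodule.ne_bot_iff ω).mp hω.ne_bot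
  have hO'fg : O'.FG := by
    refine Submodule.FG.of_le (sc_fg (a := a⁻¹) hω.fg) ?_
    intro y hy
    rw [mem_sc' (inv_ne_zero ha0), inv_inv, mul_comm]
    exact (Submodule.mem_div_iff_forall_mul_mem.mp hy) a haω
  have hdiv : ω / O' = ω := by
    apply le_antisymm
    · intro y hy
      have := (Submodule.mem_div_iff_forall_mul_mem.mp hy) 1 (Submodule.one_le.mp h1)
      rwa [mul_one] at this
    · intro y hy
      rw [Submodule.mem_div_iff_forall_mul_mem]
      intro b hb
      rw [mul_comm]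
      exact (Submodule.mem_div_iff_forall_mul_mem.mp hb) y hy
  have hlen := length_div hO hω O' 1 one_ne_bot hO'fg h1 ω ω (div_one' ω).symm hdiv.symm
  have hz : Module.length O (↥ω ⧸ ω.submoduleOf ω) = 0 := by
    rw [Module.length_eq_zero_iff, Submodule.Quotient.subsingleton_iff]
    exact Submodule.submoduleOf_self ω
  rw [hz] at hlen
  exact le_antisymm (le_of_length_quot_eq_zero hlen.symm) h1

/-- the dual of a lattice is nonzero -/
lemma div_ne_bot {ω : Submodule O K} (hω0 : ω ≠ ⊥) {I : Submodule O K} (hIfg : I.FG) :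
    ω / I ≠ ⊥ := by
  obtain ⟨d, hd0, hd⟩ := exists_ne_zero_smul_le_of_fg_of_span_eq_top K I (1 : Submodule O K) hIfg
    (span_eq_top_of_ne_bot one_ne_bot)
  obtain ⟨w, hwω, hw0⟩ := (Submodule.ne_bot_iff ω).mp hω0
  refine (Submodule.ne_bot_iff _).mpr ⟨algebraMap O K d * w, ?_, ?_⟩
  · rw [Submodule.mem_div_iff_forall_mul_mem]
    intro b hb
    obtain ⟨r, hr⟩ := Submodule.mem_one.mp (hd b hb)
    have : algebraMap O K d * w * b = r • w := by
      rw [Algebra.smul_def, hr, Algebra.smul_def]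
      ring
    rw [this]
    exact ω.smul_mem r hwω
  · refine mul_ne_zero ?_ hw0
    rwa [Ne, IsFractionRing.to_map_eq_zero_iff]

omit [IsLocalRing O] [Ring.KrullDimLE 1 O] in
/-- the dual of a nonzero submodule is finitely generated -/
lemma div_fg {ω : Submodule O K} (hωfg : ω.FG) {I : Submodule O K} (hI0 : I ≠ ⊥) :
    (ω / I).FG := by
  obtain ⟨a, haI, ha0⟩ := (Submodule.ne_bot_iff I).mp hI0
  refine Submodule.FG.of_le (sc_fg (a := a⁻¹) hωfg) ?_
  intro y hy
  rw [mem_sc' (inv_ne_zero ha0), inv_inv, mul_comm]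
  exact (Submodule.mem_div_iff_forall_mul_mem.mp hy) a haI

/-- **reflexivity** `ω : (ω : I) = I` -/
theorem div_div (hO : ¬ IsField O) {ω : Submodule O K} (hω : IsCanon ω)
    (I : Submodule O K) (hI0 : I ≠ ⊥) (hIfg : I.FG) : ω / (ω / I) = I := by
  obtain ⟨a, haI, ha0⟩ := (Submodule.ne_bot_iff I).mp hI0
  set J : Submodule O K := sc a 1 with hJ
  have hJI : J ≤ I := sc_one_le haI
  have hJ0 : J ≠ ⊥ := sc_ne_bot ha0 one_ne_bot
  have hJfg : J.FG := sc_fg one_fg
  have hdJ : ω / J = sc a⁻¹ ω := by rw [hJ, div_sc _ _ _ ha0, div_one']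
  have hddJ : ω / (ω / J) = J := by
    rw [hdJ, div_sc _ _ _ (inv_ne_zero ha0), inv_inv, div_self hO hω]
  set I'' := ω / (ω / I) with hI''
  have hII'' : I ≤ I'' := by
    rw [hI'', Submodule.le_div_iff]
    intro b hb y hy
    rw [mul_comm]
    exact (Submodule.mem_div_iff_forall_mul_mem.mp hy) b hb
  have hdI0 : ω / I ≠ ⊥ := div_ne_bot hω.ne_bot hIfg
  have hdJfg : (ω / J).FG := div_fg hω.fg hJ0
  have hanti : ω / I ≤ ω / J := div_anti hJI
  have e1 := length_div hO hω I J hJ0 hIfg hJI (ω / J) (ω / I) rfl rfl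
  have e2 := length_div hO hω (ω / J) (ω / I) hdI0 hdJfg hanti I'' J hI'' hddJ.symm
  have e3 := length_quotient_submoduleOf_add hJI hII''
  have hfin : Module.length O (↥I ⧸ J.submoduleOf I) ≠ ⊤ :=
    (length_quotient_submoduleOf_lt_top K J I hIfg (span_eq_top_of_ne_bot hJ0)).ne
  rw [e2, e1] at e3
  have hz : Module.length O (↥I'' ⧸ I.submoduleOf I'') = 0 := by
    set l := Module.length O (↥I ⧸ J.submoduleOf I) with hl
    have : l + 0 = l + Module.length O (↥I'' ⧸ I.submoduleOf I'') := by rw [add_zero]; exact e3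
    exact ((ENat.add_right_injective_of_ne_top hfin) this).symm
  exact le_antisymm (le_of_length_quot_eq_zero hz) hII''

end Main

end Groth.Agent.Lib.Helper73.CanonDual
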