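import Groth.Agent.Lib.Helper73.CanonDual8

/-!
# Canonical ideals, part 9: the conductor (helper73)
-/

set_option autoImplicit false
universe u

namespace Groth.Agent.Lib.Helper73.CanonDual

open IsLocalRing CategoryTheory Abelian Groth.Agent.Lib.Helper74

section Conductor

variable {O : Type u} [CommRing O] [IsDomain O] [IsNoetherianRing O] [IsLocalRing O]
  [Ring.KrullDimLE 1 O]
  {K : Type u} [Field K] [Algebra O K] [IsFractionRing O K]

/-- for a canonical ideal `O ⊆ ω ⊆ Õ` (with `Õ` an overring, finite over `O`):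
`ω : Õ` is the conductor `O : Õ`. -/
theorem div_overring_eq (hO : ¬ IsField O) {ω : Submodule O K} (hω : IsCanon ω)
    (Õ : Submodule O K) (h1ω : 1 ≤ ω) (hωÕ : ω ≤ Õ)
    (hmul : ∀ y ∈ Õ, ∀ z ∈ Õ, y * z ∈ Õ) : ω / Õ = 1 / Õ := by
  have h1Õ : (1 : K) ∈ Õ := hωÕ (Submodule.one_le.mp h1ω)
  apply le_antisymm
  · -- `ω : Õ ≤ ω : ω = 1` and it is an `Õ`-module
    have hle1 : ω / Õ ≤ 1 := by
      rw [← div_self hO hω]
      exact div_anti hωÕ
    intro y hy
    rw [Submodule.mem_div_iff_forall_mul_mem]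
    intro z hz
    apply hle1
    rw [Submodule.mem_div_iff_forall_mul_mem]
    intro t ht
    rw [mul_assoc]
    exact (Submodule.mem_div_iff_forall_mul_mem.mp hy) (z * t) (hmul z hz t ht)
  · intro y hy
    rw [Submodule.mem_div_iff_forall_mul_mem] at hy ⊢
    exact fun z hz => h1ω (hy z hz)

theorem length_conductor (hO : ¬ IsField O) {ω : Submodule O K} (hω : IsCanon ω)
    (Õ : Submodule O K) (hÕfg : Õ.FG) (h1ω : 1 ≤ ω) (hωÕ : ω ≤ Õ)
    (hmul : ∀ y ∈ Õ, ∀ z ∈ Õ, y * z ∈ Õ) :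
    Module.length O (↥ω ⧸ (1 : Submodule O K).submoduleOf ω) +
      Module.length O (↥Õ ⧸ (1 / Õ).submoduleOf Õ) =
    2 * Module.length O (↥Õ ⧸ (1 : Submodule O K).submoduleOf Õ) := by
  have h1Õ : (1 : Submodule O K) ≤ Õ := h1ω.trans hωÕ
  have hC := div_overring_eq hO hω Õ h1ω hωÕ hmul
  have hC1 : (1 : Submodule O K) / Õ ≤ 1 := by
    intro y hy
    have := (Submodule.mem_div_iff_forall_mul_mem.mp hy) 1 (Submodule.one_le.mp h1Õ)
    rwa [mul_one] at this
  -- duality for `1 ≤ Õ`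
  have e1 := length_div hO hω Õ 1 one_ne_bot hÕfg h1Õ ω (1 / Õ) (div_one' ω).symm hC.symm
  -- additivity
  have e2 := length_quotient_submoduleOf_add hC1 h1ω
  have e3 := length_quotient_submoduleOf_add hC1 h1Õ
  rw [e3, ← e1, e2, two_mul]
  ring

end Conductor

end Groth.Agent.Lib.Helper73.CanonDual
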