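import Groth.Agent.Lib.Helper73.CanonDual9

set_option autoImplicit false
universe u v w

namespace Groth.Agent.Lib.Helper73.CanonDual

open CategoryTheory Abelian

section Shift

variable {C : Type u} [Category.{v} C] [Abelian C] [HasExt.{w} C]
  {S : ShortComplex C} (hS : S.ShortExact)

/-- contravariant dimension shift -/
noncomputable def shiftContra (W : C) (n : ℕ) (h1 : Subsingleton (Ext S.X₂ W n))
    (h2 : Subsingleton (Ext S.X₂ W (n + 1))) : Ext S.X₁ W n ≃+ Ext S.X₃ W (n + 1) :=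
  AddEquiv.ofBijective (hS.extClass.precomp W (add_comm 1 n)) (by
    constructor
    · rw [injective_iff_map_eq_zero]
      intro x hx
      obtain ⟨x₂, hx₂⟩ := Ext.contravariant_sequence_exact₁ hS W x (add_comm 1 n) hx
      rw [← hx₂, Subsingleton.elim x₂ 0, Ext.comp_zero]
    · intro x₃
      obtain ⟨x₁, hx₁⟩ := Ext.contravariant_sequence_exact₃ hS W x₃ (Subsingleton.elim _ _)
        (add_comm 1 n)
      exact ⟨x₁, hx₁⟩)

/-- covariant dimension shift -/
noncomputable def shiftCov (W : C) (n : ℕ) (h1 : Subsingleton (Ext W S.X₂ n))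
    (h2 : Subsingleton (Ext W S.X₂ (n + 1))) : Ext W S.X₃ n ≃+ Ext W S.X₁ (n + 1) :=
  AddEquiv.ofBijective (hS.extClass.postcomp W (rfl : n + 1 = n + 1)) (by
    constructor
    · rw [injective_iff_map_eq_zero]
      intro x hx
      obtain ⟨x₂, hx₂⟩ := Ext.covariant_sequence_exact₃ W hS x rfl hx
      rw [← hx₂, Subsingleton.elim x₂ 0, Ext.zero_comp]
    · intro x₁
      obtain ⟨x₃, hx₃⟩ := Ext.covariant_sequence_exact₁ W hS x₁ (Subsingleton.elim _ _) rfl
      exact ⟨x₃, hx₃⟩)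

end Shift

section ConnectingCov

variable {A : Type u} [CommRing A] {S : ShortComplex (ModuleCat.{u} A)} (hS : S.ShortExact)
  (W : ModuleCat.{u} A)

/-- the connecting map `Hom(W, X₃) → Ext¹(W, X₁)` as a linear map -/
noncomputable def connCov : (W ⟶ S.X₃) →ₗ[A] Ext W S.X₁ 1 :=
  (hS.extClass.postcompOfLinear A W (zero_add 1)) ∘ₗ
    (Ext.linearEquiv₀ (R := A) (X := W) (Y := S.X₃)).symm.toLinearMap

lemma connCov_apply (φ : W ⟶ S.X₃) :
    connCov hS W φ = (Ext.mk₀ φ).comp hS.extClass (zero_add 1) := rfl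

lemma connCov_surjective (h2 : Subsingleton (Ext W S.X₂ 1)) :
    Function.Surjective (connCov hS W) := by
  intro x₁
  obtain ⟨x₃, hx₃⟩ := Ext.covariant_sequence_exact₁ W hS x₁ (Subsingleton.elim _ _)
    (zero_add 1)
  refine ⟨Ext.linearEquiv₀ (R := A) x₃, ?_⟩
  rw [connCov_apply, Ext.mk₀_linearEquiv₀_apply]
  exact hx₃

lemma connCov_eq_zero_iff (φ : W ⟶ S.X₃) :
    connCov hS W φ = 0 ↔ ∃ ψ : W ⟶ S.X₂, ψ ≫ S.g = φ := by
  constructor
  · intro h
    obtain ⟨x₂, hx₂⟩ := Ext.covariant_sequence_exact₃ W hS (Ext.mk₀ φ) (zero_add 1) h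
    refine ⟨Ext.linearEquiv₀ (R := A) x₂, ?_⟩
    apply (Ext.mk₀_bijective _ _).1
    rw [← Ext.mk₀_comp_mk₀, Ext.mk₀_linearEquiv₀_apply]
    exact hx₂
  · rintro ⟨ψ, rfl⟩
    rw [connCov_apply, ← Ext.mk₀_comp_mk₀, Ext.comp_assoc_of_second_deg_zero, hS.comp_extClass,
      Ext.comp_zero]

/-- the range of corestriction along `S.g` -/
noncomputable def coRange : Submodule A (W ⟶ S.X₃) :=
  LinearMap.range (Linear.rightComp A W S.g)

lemma ker_connCov : LinearMap.ker (connCov hS W) = coRange (S := S) W := by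
  ext φ
  rw [LinearMap.mem_ker, connCov_eq_zero_iff]
  constructor
  · rintro ⟨ψ, rfl⟩
    exact ⟨ψ, rfl⟩
  · rintro ⟨ψ, rfl⟩
    exact ⟨ψ, rfl⟩

/-- `Ext¹(W, X₁) ≃ Hom(W, X₃) / im Hom(W, X₂)` when `Ext¹(W, X₂) = 0` -/
noncomputable def extOneEquivCov (h2 : Subsingleton (Ext W S.X₂ 1)) :
    ((W ⟶ S.X₃) ⧸ coRange (S := S) W) ≃ₗ[A] Ext W S.X₁ 1 :=
  (Submodule.quotEquivOfEq _ _ (ker_connCov hS W).symm).trans
    ((connCov hS W).quotKerEquivOfSurjective (connCov_surjective hS W h2))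

end ConnectingCov

end Groth.Agent.Lib.Helper73.CanonDual
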