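import Groth.Agent.Lib.Helper73.CanonDualExt1

set_option autoImplicit false
universe u

namespace Groth.Agent.Lib.Helper73.CanonDual

open CategoryTheory Abelian

section DualFunctor

variable {A : Type u} [CommRing A] (W : Type u) [AddCommGroup W] [Module A W]

/-- the `W`-dual of a module -/
noncomputable abbrev D (M : ModuleCat.{u} A) : ModuleCat.{u} A := ModuleCat.of A (M →ₗ[A] W)

/-- the `W`-dual of a map -/
noncomputable def Dmap {M N : ModuleCat.{u} A} (f : M ⟶ N) : D W N ⟶ D W M :=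
  ModuleCat.ofHom (LinearMap.lcomp A W f.hom)

lemma Dmap_apply {M N : ModuleCat.{u} A} (f : M ⟶ N) (φ : N →ₗ[A] W) (m : M) :
    ((Dmap W f).hom φ : M →ₗ[A] W) m = φ (f.hom m) := rfl

lemma Dmap_comp {M N P : ModuleCat.{u} A} (f : M ⟶ N) (g : N ⟶ P) :
    Dmap W (f ≫ g) = Dmap W g ≫ Dmap W f := rfl

lemma Dmap_zero {M N : ModuleCat.{u} A} : Dmap W (0 : M ⟶ N) = 0 := by
  ext φ m
  change φ ((0 : M ⟶ N).hom m) = 0
  rw [ModuleCat.hom_zero, LinearMap.zero_apply, map_zero]

/-- `Dmap` as a linear map on Hom's -/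
noncomputable def DmapL (M N : ModuleCat.{u} A) : (M ⟶ N) →ₗ[A] (D W N ⟶ D W M) where
  toFun f := Dmap W f
  map_add' f g := by
    ext φ m
    change φ ((f + g).hom m) = φ (f.hom m) + φ (g.hom m)
    rw [ModuleCat.hom_add, LinearMap.add_apply, map_add]
  map_smul' a f := by
    ext φ m
    change φ ((a • f).hom m) = a • φ (f.hom m)
    rw [ModuleCat.hom_smul, LinearMap.smul_apply, map_smul]

lemma DmapL_apply {M N : ModuleCat.{u} A} (f : M ⟶ N) : DmapL W M N f = Dmap W f := rfl

/-- evaluation into the double dual -/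
noncomputable def ev (M : ModuleCat.{u} A) : M ⟶ D W (D W M) :=
  ModuleCat.ofHom (LinearMap.applyₗ (R := A) (M := M) (M₂ := W))

lemma ev_apply (M : ModuleCat.{u} A) (m : M) (φ : M →ₗ[A] W) :
    ((ev W M).hom m : (M →ₗ[A] W) →ₗ[A] W) φ = φ m := rfl

lemma ev_naturality {M N : ModuleCat.{u} A} (f : M ⟶ N) :
    f ≫ ev W N = ev W M ≫ Dmap W (Dmap W f) := rfl

lemma DmapL_injective {M N : ModuleCat.{u} A} (hN : Function.Injective (ev W N).hom) :
    Function.Injective (DmapL W M N) := by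
  rw [injective_iff_map_eq_zero]
  intro f hf
  ext m
  apply hN
  rw [ModuleCat.hom_zero, LinearMap.zero_apply, map_zero]
  refine LinearMap.ext fun φ => ?_
  have : ((Dmap W f).hom φ : M →ₗ[A] W) m = 0 := by
    have h0 : Dmap W f = 0 := hf
    rw [h0]; rfl
  exact this

lemma DmapL_surjective {M N : ModuleCat.{u} A} (hN : Function.Bijective (ev W N).hom) :
    Function.Surjective (DmapL W M N) := by
  intro g
  let e := LinearEquiv.ofBijective (ev W N).hom hN
  refine ⟨ModuleCat.ofHom (e.symm.toLinearMap ∘ₗ (Dmap W g).hom ∘ₗ (ev W M).hom), ?_⟩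
  ext φ m
  change φ (e.symm ((Dmap W g).hom ((ev W M).hom m))) = (g.hom φ : M →ₗ[A] W) m
  have h1 : φ (e.symm ((Dmap W g).hom ((ev W M).hom m))) =
      ((ev W N).hom (e.symm ((Dmap W g).hom ((ev W M).hom m)))) φ := rfl
  have h2 : (ev W N).hom (e.symm ((Dmap W g).hom ((ev W M).hom m))) =
      (Dmap W g).hom ((ev W M).hom m) := e.apply_symm_apply _
  rw [h1, h2]
  rfl

/-- `D` on Hom's as a linear equivalence when the target is reflexive -/
noncomputable def DmapEquiv {M N : ModuleCat.{u} A} (hN : Function.Bijective (ev W N).hom) :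
    (M ⟶ N) ≃ₗ[A] (D W N ⟶ D W M) :=
  LinearEquiv.ofBijective (DmapL W M N) ⟨DmapL_injective W hN.1, DmapL_surjective W hN⟩

lemma DmapEquiv_apply {M N : ModuleCat.{u} A} (hN : Function.Bijective (ev W N).hom)
    (f : M ⟶ N) : DmapEquiv W hN f = Dmap W f := rfl

/-- the dual short complex -/
noncomputable def DS (S : ShortComplex (ModuleCat.{u} A)) : ShortComplex (ModuleCat.{u} A) :=
  ShortComplex.mk (Dmap W S.g) (Dmap W S.f) (by rw [← Dmap_comp, S.zero, Dmap_zero])

lemma DS_shortExact {S : ShortComplex (ModuleCat.{u} A)} (hS : S.ShortExact)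
    (h : Subsingleton (Ext S.X₃ (ModuleCat.of A W) 1)) : (DS W S).ShortExact := by
  haveI := hS.mono_f
  haveI := hS.epi_g
  have hg : Function.Surjective S.g.hom := (ModuleCat.epi_iff_surjective S.g).mp inferInstance
  have hmono : Mono (DS W S).f := by
    rw [ModuleCat.mono_iff_injective]
    intro φ ψ hφψ
    refine LinearMap.ext fun x => ?_
    obtain ⟨y, rfl⟩ := hg x
    exact LinearMap.congr_fun hφψ y
  have hepi : Epi (DS W S).g := by
    rw [ModuleCat.epi_iff_surjective]
    intro φ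
    have h0 : conn hS (ModuleCat.of A W) (ModuleCat.ofHom φ) = 0 := Subsingleton.elim _ _
    obtain ⟨ψ, hψ⟩ := (conn_eq_zero_iff hS (ModuleCat.of A W) (ModuleCat.ofHom φ)).mp h0
    refine ⟨ψ.hom, ?_⟩
    have := congrArg ModuleCat.Hom.hom hψ
    exact this
  refine ShortComplex.ShortExact.mk ?_
  rw [ShortComplex.moduleCat_exact_iff]
  intro ψ hψ
  have hfψ : S.f ≫ (ModuleCat.ofHom ψ : S.X₂ ⟶ ModuleCat.of A W) = 0 := by
    ext x
    exact LinearMap.congr_fun hψ x
  refine ⟨(hS.exact.desc (ModuleCat.ofHom ψ) hfψ).hom, ?_⟩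
  have := hS.exact.g_desc (ModuleCat.ofHom ψ) hfψ
  exact congrArg ModuleCat.Hom.hom this

end DualFunctor

end Groth.Agent.Lib.Helper73.CanonDual
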