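import Groth.Agent.Lib.Helper73.CanonDualExt2

set_option autoImplicit false
universe u

namespace Groth.Agent.Lib.Helper73.CanonDual

open CategoryTheory Abelian IsLocalRing

section Instances

variable {O : Type u} [CommRing O] [IsDomain O]
  {K : Type u} [Field K] [Algebra O K] [IsFractionRing O K]

/-- `Hom(M, I)` is torsion-free for `I ⊆ K` -/
lemma noZeroSMulDivisors_hom (I : Submodule O K) (M : Type u) [AddCommGroup M] [Module O M] :
    NoZeroSMulDivisors O (M →ₗ[O] ↥I) := by
  haveI := noZeroSMulDivisors_submodule I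
  refine ⟨fun {c φ} h => ?_⟩
  by_cases hc : c = 0
  · exact Or.inl hc
  · right
    ext m
    have := LinearMap.congr_fun h m
    rw [LinearMap.smul_apply, LinearMap.zero_apply] at this
    rcases smul_eq_zero.mp this with h1 | h1
    · exact absurd h1 hc
    · rw [h1]; rfl

lemma finite_hom [IsNoetherianRing O] {I : Submodule O K} (hI : I.FG) (M : Type u)
    [AddCommGroup M] [Module O M] [Module.Finite O M] : Module.Finite O (M →ₗ[O] ↥I) := by
  haveI : IsNoetherian O ↥I := isNoetherian_of_fg_of_noetherian I hI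
  infer_instance

/-- the dual separates points -/
lemma ev_injective {ω : Submodule O K} (hω0 : ω ≠ ⊥) (M : Type u) [AddCommGroup M] [Module O M]
    [Module.Finite O M] [NoZeroSMulDivisors O M] :
    Function.Injective (ev ↥ω (ModuleCat.of O M)).hom := by
  obtain ⟨f, hf⟩ := Groth.Agent.Lib.Helper98.exists_injective_to_pi O K M
    (Module.finrank K (TensorProduct O K M)) rfl
  obtain ⟨w, hwω, hw0⟩ := (Submodule.ne_bot_iff ω).mp hω0
  rw [injective_iff_map_eq_zero]
  intro m hm
  apply hf
  rw [map_zero]
  funext i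
  let φ : M →ₗ[O] ↥ω :=
    (LinearMap.toSpanSingleton O ↥ω ⟨w, hwω⟩) ∘ₗ (LinearMap.proj i) ∘ₗ f
  have h1 : φ m = 0 := by
    have := LinearMap.congr_fun hm φ
    exact this
  have h2 : (φ m : K) = algebraMap O K (f m i) * w := by
    change ((f m i) • (⟨w, hwω⟩ : ↥ω) : ↥ω).1 = _
    rw [Submodule.coe_smul, Algebra.smul_def]
  rw [h1, Submodule.coe_zero] at h2
  rcases mul_eq_zero.mp h2.symm with h3 | h3
  · exact (IsFractionRing.to_map_eq_zero_iff (K := K)).mp h3
  · exact absurd h3 hw0

end Instances

end Groth.Agent.Lib.Helper73.CanonDual
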