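import Groth.Agent.Lib.Helper73.CanonDualExt3

set_option autoImplicit false
universe u

namespace Groth.Agent.Lib.Helper73.CanonDual

open CategoryTheory Abelian IsLocalRing

section Reflexive

variable {O : Type u} [CommRing O] [IsDomain O] [IsNoetherianRing O] [IsLocalRing O]
  [Ring.KrullDimLE 1 O]
  {K : Type u} [Field K] [Algebra O K] [IsFractionRing O K]

/-- endomorphisms of a canonical ideal are homotheties -/
lemma endo_eq_smul (hO : ¬ IsField O) {ω : Submodule O K} (hω : IsCanon ω)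
    (ξ : ↥ω →ₗ[O] ↥ω) : ∃ a : O, ∀ b : ↥ω, ξ b = a • b := by
  obtain ⟨y, hy⟩ := mulHomₗ_surjective ω ω hω.ne_bot ξ
  have hy1 : y.1 ∈ (1 : Submodule O K) := by
    rw [← div_self hO hω]; exact y.2
  obtain ⟨a, ha⟩ := Submodule.mem_one.mp hy1
  refine ⟨a, fun b => ?_⟩
  apply Subtype.ext
  rw [← hy, Submodule.coe_smul, Algebra.smul_def, ha]
  rfl

/-- evaluation is surjective on finite free modules -/
lemma ev_surjective_free (hO : ¬ IsField O) {ω : Submodule O K} (hω : IsCanon ω) (n : ℕ) :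
    Function.Surjective (ev ↥ω (ModuleCat.of O (Fin n → O))).hom := by
  classical
  intro ξ
  let ξ' : ((Fin n → O) →ₗ[O] ↥ω) →ₗ[O] ↥ω := ξ
  let inc : Fin n → (↥ω →ₗ[O] ((Fin n → O) →ₗ[O] ↥ω)) := fun i =>
    LinearMap.smulRightₗ (LinearMap.proj i : (Fin n → O) →ₗ[O] O)
  have hinc : ∀ i (w : ↥ω) (x : Fin n → O), inc i w x = x i • w := fun i w x => rfl
  choose a ha using fun i => endo_eq_smul hO hω (ξ' ∘ₗ inc i)
  refine ⟨a, ?_⟩
  refine LinearMap.ext fun φ => ?_
  change φ a = ξ' φ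
  have hφ : φ = ∑ i, inc i (φ (Pi.single i 1)) := by
    refine LinearMap.ext fun x => ?_
    rw [LinearMap.sum_apply]
    simp only [hinc]
    rw [LinearMap.pi_apply_eq_sum_univ φ x]
    refine Finset.sum_congr rfl fun i _ => ?_
    congr 2
    funext j
    rw [Pi.single_apply]
    simp only [eq_comm]
  have h1 : ξ' φ = ∑ i, a i • φ (Pi.single i 1) := by
    conv_lhs => rw [hφ]
    rw [map_sum]
    refine Finset.sum_congr rfl fun i _ => ?_
    exact ha i _
  rw [h1, LinearMap.pi_apply_eq_sum_univ φ a]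
  refine Finset.sum_congr rfl fun i _ => ?_
  congr 2
  funext j
  rw [Pi.single_apply]
  simp only [eq_comm]

end Reflexive

end Groth.Agent.Lib.Helper73.CanonDual
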