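import Groth.Agent.Lib.Helper73.CanonDualExt4

set_option autoImplicit false
universe u

namespace Groth.Agent.Lib.Helper73.CanonDual

open CategoryTheory Abelian IsLocalRing

section Pres

variable {O : Type u} [CommRing O] {F M : Type u} [AddCommGroup F] [Module O F]
  [AddCommGroup M] [Module O M]

/-- the short complex `ker p → F → M` -/
noncomputable def presSC (p : F →ₗ[O] M) : ShortComplex (ModuleCat.{u} O) :=
  ShortComplex.mk (ModuleCat.ofHom (LinearMap.ker p).subtype) (ModuleCat.ofHom p) (by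
    ext x
    exact x.2)

lemma presSC_shortExact (p : F →ₗ[O] M) (hp : Function.Surjective p) :
    (presSC p).ShortExact := by
  have hmono : Mono (presSC p).f := by
    rw [ModuleCat.mono_iff_injective]
    exact Subtype.val_injective
  have hepi : Epi (presSC p).g := by
    rw [ModuleCat.epi_iff_surjective]
    exact hp
  refine ShortComplex.ShortExact.mk ?_
  rw [ShortComplex.moduleCat_exact_iff]
  intro a ha
  exact ⟨⟨a, ha⟩, rfl⟩

end Pres

section Reflexive

variable {O : Type u} [CommRing O] [IsDomain O] [IsNoetherianRing O] [IsLocalRing O]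
  [Ring.KrullDimLE 1 O]
  {K : Type u} [Field K] [Algebra O K] [IsFractionRing O K]

/-- finitely generated torsion-free modules are `ω`-reflexive -/
theorem ev_bijective (hO : ¬ IsField O) {ω : Submodule O K} (hω : IsCanon ω)
    (M : Type u) [AddCommGroup M] [Module O M] [Module.Finite O M] [NoZeroSMulDivisors O M] :
    Function.Bijective (ev ↥ω (ModuleCat.of O M)).hom := by
  refine ⟨ev_injective hω.ne_bot M, ?_⟩
  obtain ⟨n, p, hp⟩ := Module.Finite.exists_fin' O M
  have hS := presSC_shortExact p hp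
  have h1 : Subsingleton (Ext (presSC p).X₃ (ModuleCat.of O ↥ω) 1) :=
    ext_subsingleton_of_torsionFree O K (ModuleCat.of O ↥ω) hω.inj M 1 le_rfl
  have hDS := DS_shortExact ↥ω hS h1
  haveI : Module.Finite O (↥(LinearMap.ker p) →ₗ[O] ↥ω) := finite_hom hω.fg _
  haveI := noZeroSMulDivisors_hom ω ↥(LinearMap.ker p)
  have h2 : Subsingleton (Ext (DS ↥ω (presSC p)).X₃ (ModuleCat.of O ↥ω) 1) :=
    ext_subsingleton_of_torsionFree O K (ModuleCat.of O ↥ω) hω.inj
      (↥(LinearMap.ker p) →ₗ[O] ↥ω) 1 le_rfl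
  have hDDS := DS_shortExact ↥ω hDS h2
  have hsurj : Function.Surjective (Dmap ↥ω (Dmap ↥ω (presSC p).g)).hom :=
    (ModuleCat.epi_iff_surjective _).mp hDDS.epi_g
  intro ξ
  obtain ⟨η, hη⟩ := hsurj ξ
  obtain ⟨x, hx⟩ := ev_surjective_free hO hω n η
  refine ⟨p x, ?_⟩
  rw [← hη, ← hx]
  rfl

end Reflexive

end Groth.Agent.Lib.Helper73.CanonDual
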