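import Groth.Agent.Lib.Helper73.CanonDualExt5

set_option autoImplicit false
universe u

namespace Groth.Agent.Lib.Helper73.CanonDual

open CategoryTheory Abelian IsLocalRing Limits

section InjDimPi

variable {A : Type u} [CommRing A] (W : Type u) [AddCommGroup W] [Module A W]

lemma hasInjDimLT_pi (k : ℕ) (hk : 0 < k) [HasInjectiveDimensionLT (ModuleCat.of A W) k] (n : ℕ) :
    HasInjectiveDimensionLT (ModuleCat.of A (Fin n → W)) k := by
  induction n with
  | zero =>
    have hz : IsZero (ModuleCat.of A (Fin 0 → W)) := by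
      apply ModuleCat.isZero_of_subsingleton
    haveI := hz.hasInjectiveDimensionLT_zero
    exact hasInjectiveDimensionLT_of_ge _ 0 k (Nat.zero_le _)
  | succ n ih =>
    haveI := ih
    have e1 : (ModuleCat.of A W ⊞ ModuleCat.of A (Fin n → W)) ≅
        ModuleCat.of A (W × (Fin n → W)) := ModuleCat.biprodIsoProd _ _
    have e2 : ModuleCat.of A (W × (Fin n → W)) ≅ ModuleCat.of A (Fin (n + 1) → W) :=
      (Fin.consLinearEquiv A (fun _ : Fin (n + 1) => W)).toModuleIso
    exact hasInjectiveDimensionLT_of_iso (e1 ≪≫ e2) k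

lemma hasInjDimLT_hom_pi (k : ℕ) (hk : 0 < k) [HasInjectiveDimensionLT (ModuleCat.of A W) k]
    (n : ℕ) : HasInjectiveDimensionLT (ModuleCat.of A ((Fin n → A) →ₗ[A] W)) k := by
  haveI := hasInjDimLT_pi (A := A) W k hk n
  exact hasInjectiveDimensionLT_of_iso (Module.piEquiv (Fin n) A W).toModuleIso k

end InjDimPi

end Groth.Agent.Lib.Helper73.CanonDual
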