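import Groth.Agent.Lib.Helper73.CanonDualExt6

set_option autoImplicit false
universe u

namespace Groth.Agent.Lib.Helper73.CanonDual

open CategoryTheory Abelian IsLocalRing Limits

section Main

variable {O : Type u} [CommRing O] [IsDomain O] [IsNoetherianRing O] [IsLocalRing O]
  [Ring.KrullDimLE 1 O]
  {K : Type u} [Field K] [Algebra O K] [IsFractionRing O K]

lemma ext_free_subsingleton (n : ℕ) (N : ModuleCat.{u} O) (j : ℕ) (hj : 1 ≤ j) :
    Subsingleton (Ext (ModuleCat.of O (Fin n → O)) N j) := by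
  have : Projective (ModuleCat.of O (Fin n → O)) :=
    ModuleCat.projective_of_free (Module.Free.chooseBasis O (Fin n → O))
  obtain ⟨j', rfl⟩ : ∃ j', j = j' + 1 := ⟨j - 1, by omega⟩
  exact subsingleton_of_forall_eq 0 fun x => Ext.eq_zero_of_projective x

/-- **duality on Ext**: `Ext^i(M, N) ≃ Ext^i(N^*, M^*)` for finitely generated torsion-free
modules, `(-)^* = Hom(-, ω)`. -/
theorem ext_dual (hO : ¬ IsField O) {ω : Submodule O K} (hω : IsCanon ω) (i : ℕ) :
    ∀ (M N : Type u) [AddCommGroup M] [Module O M] [Module.Finite O M] [NoZeroSMulDivisors O M]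
      [AddCommGroup N] [Module O N] [Module.Finite O N] [NoZeroSMulDivisors O N],
      Nonempty (Ext (ModuleCat.of O M) (ModuleCat.of O N) i ≃+
        Ext (ModuleCat.of O (N →ₗ[O] ↥ω)) (ModuleCat.of O (M →ₗ[O] ↥ω)) i) := by
  haveI := hω.inj
  induction i using Nat.strong_induction_on with
  | _ i ih =>
  intro M N _ _ _ _ _ _ _ _
  have hN := ev_bijective hO hω N
  rcases Nat.eq_zero_or_pos i with rfl | hi
  · exact ⟨Ext.addEquiv₀.trans
      ((DmapEquiv ↥ω hN).toAddEquiv.trans Ext.addEquiv₀.symm)⟩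
  obtain ⟨n, p, hp⟩ := Module.Finite.exists_fin' O M
  have hS := presSC_shortExact p hp
  have h1 : Subsingleton (Ext (presSC p).X₃ (ModuleCat.of O ↥ω) 1) :=
    ext_subsingleton_of_torsionFree O K (ModuleCat.of O ↥ω) hω.inj M 1 le_rfl
  have hDS := DS_shortExact ↥ω hS h1
  haveI : Module.Finite O (N →ₗ[O] ↥ω) := finite_hom hω.fg _
  haveI := noZeroSMulDivisors_hom ω N
  haveI hDF : HasInjectiveDimensionLT (ModuleCat.of O ((Fin n → O) →ₗ[O] ↥ω)) 2 :=
    hasInjDimLT_hom_pi (A := O) ↥ω 2 (by norm_num) n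
  have hcov : ∀ j, 1 ≤ j → Subsingleton (Ext (ModuleCat.of O (N →ₗ[O] ↥ω))
      (DS ↥ω (presSC p)).X₂ j) := fun j hj =>
    ext_subsingleton_of_torsionFree O K (ModuleCat.of O ((Fin n → O) →ₗ[O] ↥ω)) hDF
      (N →ₗ[O] ↥ω) j hj
  have hcontra : ∀ j, 1 ≤ j → Subsingleton (Ext (presSC p).X₂ (ModuleCat.of O N) j) :=
    fun j hj => ext_free_subsingleton n (ModuleCat.of O N) j hj
  rcases Nat.eq_or_lt_of_le hi with rfl | hi2
  · -- `i = 1`
    let E1 := extOneEquiv hS (ModuleCat.of O N) (hcontra 1 le_rfl)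
    let E2 := extOneEquivCov hDS (ModuleCat.of O (N →ₗ[O] ↥ω)) (hcov 1 le_rfl)
    let e : ((presSC p).X₁ ⟶ ModuleCat.of O N) ≃ₗ[O]
        (D ↥ω (ModuleCat.of O N) ⟶ D ↥ω (presSC p).X₁) := DmapEquiv ↥ω hN
    have hmap : (resRange (S := presSC p) (ModuleCat.of O N)).map e.toLinearMap =
        coRange (S := DS ↥ω (presSC p)) (ModuleCat.of O (N →ₗ[O] ↥ω)) := by
      ext χ
      constructor
      · rintro ⟨_, ⟨ψ, rfl⟩, rfl⟩
        exact ⟨Dmap ↥ω ψ, rfl⟩
      · rintro ⟨χ', rfl⟩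
        obtain ⟨ψ, hψ⟩ := DmapL_surjective ↥ω hN χ'
        refine ⟨(presSC p).f ≫ ψ, ⟨ψ, rfl⟩, ?_⟩
        rw [← hψ]
        rfl
    let E := Submodule.Quotient.equiv _ _ e hmap
    exact ⟨E1.symm.toAddEquiv.trans (E.toAddEquiv.trans E2.toAddEquiv)⟩
  · -- `i ≥ 2`
    obtain ⟨j, rfl⟩ : ∃ j, i = j + 1 := ⟨i - 1, by omega⟩
    have hj : 1 ≤ j := by omega
    haveI : Module.Finite O ↥(LinearMap.ker p) := inferInstance
    haveI : NoZeroSMulDivisors O (Fin n → O) := inferInstance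
    haveI : NoZeroSMulDivisors O ↥(LinearMap.ker p) := ⟨fun {c x} h => by
      have h' : c • (x : Fin n → O) = 0 := congrArg Subtype.val h
      rcases smul_eq_zero.mp h' with h1 | h1
      · exact Or.inl h1
      · exact Or.inr (Subtype.ext h1)⟩
    obtain ⟨IH⟩ := ih j (by omega) ↥(LinearMap.ker p) N
    let E1 := shiftContra hS (ModuleCat.of O N) j (hcontra j hj) (hcontra (j + 1) (by omega))
    let E2 := shiftCov hDS (ModuleCat.of O (N →ₗ[O] ↥ω)) j (hcov j hj) (hcov (j + 1) (by omega))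
    exact ⟨E1.symm.trans (IH.trans E2)⟩

end Main

end Groth.Agent.Lib.Helper73.CanonDual
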