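import Mathlib
import Groth.Agent.Lib.Helper73.SyzLocFree
import Groth.Agent.Lib.Helper73.AmpleFamilyUFD
import Groth.Agent.Lib.Helper73.PointDim
import Groth.Agent.Lib.Helper98.AuslanderBuchsbaum
import Groth.Agent.S4270

/-!
helper73: dévissage of coherent modules on a regular Noetherian scheme of finite dimension with the
resolution property: a property of modules which holds for finite locally free modules and passes
to cokernels in short exact sequences holds for all coherent modules.
-/

set_option autoImplicit false
universe u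

open CategoryTheory CategoryTheory.Limits AlgebraicGeometry TopologicalSpace

namespace Groth.Agent.Lib.Helper73.CohInduction

open Groth.Agent.Lib.Helper16 Groth.Agent.Lib.Helper16.LFRes Groth.Agent.Lib.Helper73.SyzLocFree

theorem coh_induction {S : Scheme.{u}} [IsNoetherian S]
    (hreg : ∀ x : S, IsRegularLocalRing (S.presheaf.stalk x)) (m : ℕ)
    (hdim : topologicalKrullDim ↥S ≤ (m : WithBot ℕ∞))
    (hres : PerfAux.HasResolutionProperty S) (P : S.Modules → Prop)
    (hlf : ∀ E : S.Modules, FlatMod.IsFinLocFree E → P E)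
    (hstep : ∀ T : ShortComplex S.Modules, T.ShortExact → P T.X₁ → P T.X₂ → P T.X₃)
    (F : S.Modules) (hF : Coh.IsCoh F) : P F := by
  have key : ∀ n : ℕ, ∀ F : S.Modules, Coh.IsCoh F →
      (∀ V : S.Opens, IsAffineOpen V → PdLT F (n + 1) V) → P F := by
    intro n
    induction n with
    | zero =>
      intro F hF h
      apply hlf
      refine isFinLocFree_of_pdLT_one hF fun x => ?_
      obtain ⟨_, ⟨W, hW : IsAffineOpen W, rfl⟩, hxW, -⟩ :=
        S.isBasis_affineOpens.exists_subset_of_mem_open (Set.mem_univ x) isOpen_univ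
      exact ⟨W, hW, hxW, h W hW⟩
    | succ n ih =>
      intro F hF h
      obtain ⟨E, π, hE, hπ⟩ := hres F hF.1 hF.2
      have hT : (ShortComplex.mk (kernel.ι π) π (kernel.condition π)).ShortExact :=
        shortExact_kernel π
      have hses : ResK0.SES (kernel π) E F := ResK0.SES.of_shortExact hT
      have hK : Coh.IsCoh (kernel π) := isCoh_of_ses_ker hses (isCoh_of_isFinLocFree hE) hF
      have hKP : P (kernel π) := by
        refine ih (kernel π) hK fun V hV => ?_
        exact pdLT_X₁ hT hK.1 hV (n + 1)
          ((pdLT_one_of_isFinLocFree hE hV).mono (by omega)) (h V hV)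
      exact hstep _ hT hKP (hlf E hE)
  exact key m F hF fun V hV => pdLT_of_regular_of_dim_le hreg m hdim F hV

/-- a regular integral scheme, separated of finite type over a field: the hypotheses of
`coh_induction` hold. -/
theorem coh_induction_variety {k : Type u} [Field k] (S : Scheme.{u})
    [S.Over (Spec (CommRingCat.of k))] [IsSeparated (S ↘ (Spec (CommRingCat.of k)))]
    [LocallyOfFiniteType (S ↘ (Spec (CommRingCat.of k)))]
    [QuasiCompact (S ↘ (Spec (CommRingCat.of k)))]
    [IsIntegral S] (hreg : ∀ x : S, IsRegularLocalRing (S.presheaf.stalk x))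
    (P : S.Modules → Prop)
    (hlf : ∀ E : S.Modules, FlatMod.IsFinLocFree E → P E)
    (hstep : ∀ T : ShortComplex S.Modules, T.ShortExact → P T.X₁ → P T.X₂ → P T.X₃)
    (F : S.Modules) (hF : Coh.IsCoh F) : P F := by
  have hN : IsLocallyNoetherian S :=
    LocallyOfFiniteType.isLocallyNoetherian (S ↘ Spec (CommRingCat.of k))
  have hC : CompactSpace S :=
    QuasiCompact.compactSpace_of_compactSpace (S ↘ Spec (CommRingCat.of k))
  haveI : IsNoetherian S := {}
  haveI : S.IsSeparated := by
    have h1 : IsSeparated (S ↘ Spec (CommRingCat.of k)) := inferInstance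
    have h2 : IsSeparated (terminal.from (Spec (CommRingCat.of k))) := inferInstance
    have : IsSeparated (terminal.from S) := by
      rw [← terminal.comp_from (S ↘ Spec (CommRingCat.of k))]
      infer_instance
    exact ⟨this⟩
  have hfam : MoreMor.HasAmpleFamily S := by
    refine Groth.Agent.Lib.Helper73.AmpleFamilyUFD.hasAmpleFamily_of_ufd S
      (fun V W hV hW => hV.inf hW) (fun x => ?_)
    haveI := hreg x
    haveI : IsDomain (S.presheaf.stalk x) :=
      Groth.Agent.Lib.Helper85.isDomain_of_isRegularLocalRing _
    exact ⟨inferInstance, Groth.Agent.Lib.Helper98.ufm_of_isRegularLocalRing _⟩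
  have hres : PerfAux.HasResolutionProperty S := Groth.Agent.S4270.result S hfam
  -- finite dimension
  obtain ⟨m, hm⟩ : ∃ m : ℕ, topologicalKrullDim ↥S ≤ (m : WithBot ℕ∞) := by
    obtain ⟨x⟩ : Nonempty S := inferInstance
    obtain ⟨x', hx'c, -⟩ := Groth.Agent.Lib.Helper55.exists_isClosed_specializes
      (S ↘ Spec (CommRingCat.of k)) x
    have h1 := Groth.Agent.Lib.Helper73.ClosedPtDim.ringKrullDim_stalk_eq_of_isClosed S
      (S ↘ Spec (CommRingCat.of k)) x' hx'c
    haveI := hreg x'
    have hs : ((IsLocalRing.maximalIdeal (S.presheaf.stalk x')).spanFinrank : WithBot ℕ∞) =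
        ringKrullDim (S.presheaf.stalk x') := IsRegularLocalRing.spanFinrank_maximalIdeal
    exact ⟨_, by rw [← h1, ← hs]⟩
  exact coh_induction hreg m hm hres P hlf hstep F hF

end Groth.Agent.Lib.Helper73.CohInduction
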