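import Mathlib
import Groth.Agent.Lib.Helper18.CoprodFinite

/-!
# Sections of a coproduct of quasi-coherent modules over an affine open are finite sums (helper73)

* `mem_finSub_of_isAffineOpen`: if all `P k` are quasi-coherent and `U` is an affine open, then every
  section of `∐ P` over `U` is a finite sum of images of sections of the summands over `U`.
-/

set_option autoImplicit false
universe u
open AlgebraicGeometry CategoryTheory Limits TopologicalSpace Opposite

namespace Groth.Agent.Lib.Helper73.CoprodAffine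

open Groth.Agent.Lib.Helper18.LSubM Groth.Agent.Lib.Helper18.CoprodLocal
  Groth.Agent.Lib.Helper49 Groth.Agent.Lib.Helper45

variable {X : Scheme.{u}}

attribute [local instance] CategoryTheory.Abelian.hasFiniteBiproducts

/-- sections of a finite coproduct are sums of sections of the summands. -/
theorem app_mem_iSup_range_of_finite {T : Type u} [Finite T] (Q : T → X.Modules) {F : X.Modules}
    (g : ∐ Q ⟶ F) (U : X.Opens) (a : Γ(∐ Q, U)) :
    g.app U a ∈ ⨆ k : T, LinearMap.range (appL (Sigma.ι Q k ≫ g) U) := by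
  classical
  haveI := Fintype.ofFinite T
  let e := biproduct.isoCoproduct Q
  have hι : ∀ k, biproduct.ι Q k ≫ e.hom = Sigma.ι Q k := fun k => by
    simp [e]
  have hid : 𝟙 (∐ Q) = ∑ k : T, (e.inv ≫ biproduct.π Q k) ≫ Sigma.ι Q k := by
    have htot : ∑ k : T, biproduct.π Q k ≫ biproduct.ι Q k = 𝟙 (⨁ Q) := by
      apply biproduct.hom_ext
      intro j
      simp [Preadditive.sum_comp, biproduct.ι_π, comp_dite]
    have h1 : 𝟙 (∐ Q) = e.inv ≫ (∑ k : T, biproduct.π Q k ≫ biproduct.ι Q k) ≫ e.hom := by
      rw [htot, Category.id_comp, Iso.inv_hom_id]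
    rw [h1, Preadditive.sum_comp, Preadditive.comp_sum]
    refine Finset.sum_congr rfl (fun k _ => ?_)
    rw [Category.assoc, Category.assoc, hι]
  have hg : g = ∑ k : T, (e.inv ≫ biproduct.π Q k) ≫ (Sigma.ι Q k ≫ g) := by
    conv_lhs => rw [← Category.id_comp g, hid, Preadditive.sum_comp]
    refine Finset.sum_congr rfl (fun k _ => ?_)
    rw [Category.assoc]
  -- additivity of `app`
  have hsum : ∀ (s : Finset T) (φ : T → (∐ Q ⟶ F)),
      (∑ k ∈ s, φ k).app U a = ∑ k ∈ s, (φ k).app U a := by
    intro s φ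
    induction s using Finset.induction_on with
    | empty => simp
    | insert k s hk ih =>
      rw [Finset.sum_insert hk, Finset.sum_insert hk, Scheme.Modules.Hom.add_app]
      change (φ k).app U a + (∑ k ∈ s, φ k).app U a = _
      rw [ih]
  have hga : g.app U a =
      ∑ k : T, ((e.inv ≫ biproduct.π Q k) ≫ (Sigma.ι Q k ≫ g)).app U a := by
    rw [← hsum]
    exact congrArg (fun φ => φ.app U a) hg
  rw [hga]
  refine Submodule.sum_mem _ (fun k _ => ?_)
  refine Submodule.mem_iSup_of_mem k ⟨(e.inv ≫ biproduct.π Q k).app U a, ?_⟩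
  rfl

/-- **Sections of a coproduct of quasi-coherent modules over an affine open are finite sums of
sections of the summands.** -/
theorem mem_finSub_of_isAffineOpen {κ : Type u} (P : κ → X.Modules)
    [∀ k, (P k).IsQuasicoherent] {U : X.Opens} (hU : IsAffineOpen U) (t : Γ(∐ P, U)) :
    t ∈ finSub P U := by
  classical
  obtain ⟨T, hT⟩ := exists_finset_mem_ofImage P (𝟙 (∐ P)) hU.isCompact t
  have ht := hT T (Finset.Subset.refl T)
  set g : (∐ fun k : T => P k.1) ⟶ ∐ P := piT P (𝟙 (∐ P)) T with hg
  have ht' : t ∈ (LSub.ofImage g).obj U := ht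
  haveI hP : (∐ P).IsQuasicoherent := isQuasicoherent_sigma P
  haveI hA : (∐ fun k : T => P k.1).IsQuasicoherent :=
    isQuasicoherent_sigma (fun k : T => P k.1)
  haveI : (LSub.ofImage g).toModules.IsQuasicoherent := LSub.ofImage_isQuasicoherent g
  obtain ⟨e, he⟩ := LSub.exists_iso_image g
  let g' : (∐ fun k : T => P k.1) ⟶ (LSub.ofImage g).toModules :=
    Abelian.factorThruImage g ≫ e.inv
  haveI : Epi g' := by dsimp only [g']; infer_instance
  have hfac : g' ≫ (LSub.ofImage g).ι = g := by
    dsimp only [g']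
    rw [Category.assoc, ← he, Iso.inv_hom_id_assoc, Abelian.image.fac]
  obtain ⟨a, ha⟩ := Groth.Agent.Lib.Helper18.EpiAffine.app_surjective_of_epi g' hU
    ((LSub.ofImage g).sec U t ht')
  have hga : g.app U a = t := by
    have h1 : g.app U a = (LSub.ofImage g).ι.app U (g'.app U a) :=
      congrArg (fun φ => φ.app U a) hfac.symm
    rw [h1, ha]
    rfl
  have hmem := app_mem_iSup_range_of_finite (fun k : T => P k.1) g U a
  rw [hga] at hmem
  refine (iSup_le (fun k => ?_) : (⨆ k : T, LinearMap.range
    (appL (Sigma.ι (fun k : T => P k.1) k ≫ g) U)) ≤ finSub P U) hmem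
  have hk : Sigma.ι (fun k : T => P k.1) k ≫ g = Sigma.ι P k.1 := by
    rw [hg, ι_piT, Category.comp_id]
  rw [hk]
  exact le_iSup (fun k => LinearMap.range (appL (Sigma.ι P k) U)) k.1

end Groth.Agent.Lib.Helper73.CoprodAffine
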