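import Mathlib
import Groth.Agent.H46.CotangentSchanuel

/-!
# Localizing an extension and the naive cotangent complex

For an extension `P → S` of `R`-algebras and a localization `T = M⁻¹ S`, the localized
extension `P_{M'} → T` (with `M'` the preimage of `M`) has cotangent module `T ⊗[S] I/I²`
and cotangent space `T ⊗[S] (S ⊗ Ω_P)`.  Moreover elements of `P_{M'}` mapping to units in `T`
are units, so that localized polynomial presentations map to each other.
-/

set_option autoImplicit false
set_option linter.style.haveILetI false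
universe u

open Algebra Algebra.Extension TensorProduct

namespace Groth.Agent.Lib.Helper73.CotLoc

variable {R S : Type u} [CommRing R] [CommRing S] [Algebra R S]
variable (T : Type u) [CommRing T] [Algebra R T] [Algebra S T] [IsScalarTower R S T]

section Loc

variable (P : Extension.{u} R S) (M : Submonoid S) [IsLocalization M T]

/-- The canonical map `P_{M'} → T`. -/
noncomputable def fQ : Localization (M.comap (algebraMap P.Ring S)) →ₐ[R] T :=
  IsLocalization.liftAlgHom (M := M.comap (algebraMap P.Ring S))
    (f := (IsScalarTower.toAlgHom R S T).comp (IsScalarTower.toAlgHom R P.Ring S))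
    (fun ⟨y, hy⟩ ↦ by
      simpa using IsLocalization.map_units T ⟨algebraMap P.Ring S y, hy⟩)

lemma fQ_mk' (x : P.Ring) (s : M.comap (algebraMap P.Ring S)) :
    fQ T P M (IsLocalization.mk' _ x s) =
      IsLocalization.mk' T (algebraMap P.Ring S x) ⟨algebraMap P.Ring S s.1, s.2⟩ := by
  simp only [fQ, IsLocalization.coe_liftAlgHom, AlgHom.toRingHom_eq_coe]
  rw [IsLocalization.lift_mk'_spec]
  simp

lemma fQ_algebraMap (x : P.Ring) :
    fQ T P M (algebraMap P.Ring _ x) = algebraMap S T (algebraMap P.Ring S x) := by
  simp [fQ, IsLocalization.coe_liftAlgHom]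

lemma fQ_surjective : Function.Surjective (fQ T P M) := by
  intro x
  obtain ⟨x, ⟨s, hs⟩, rfl⟩ := IsLocalization.exists_mk'_eq M x
  obtain ⟨x, rfl⟩ := P.algebraMap_surjective x
  obtain ⟨s, rfl⟩ := P.algebraMap_surjective s
  exact ⟨IsLocalization.mk' _ x ⟨s, hs⟩, fQ_mk' T P M x ⟨s, hs⟩⟩

/-- The localized extension `P_{M'} → T`. -/
noncomputable def locExt : Extension.{u} R T :=
  .ofSurjective (fQ T P M) (fQ_surjective T P M)

/-- The canonical hom `P → P_{M'}` over `S → T`. -/
noncomputable def locHom : P.Hom (locExt T P M) where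
  toRingHom := algebraMap P.Ring (Localization (M.comap (algebraMap P.Ring S)))
  toRingHom_algebraMap x :=
    (IsScalarTower.algebraMap_apply R P.Ring
      (Localization (M.comap (algebraMap P.Ring S))) _).symm
  algebraMap_toRingHom x := fQ_algebraMap T P M x


@[instance_reducible]
noncomputable def algLoc : Algebra P.Ring (locExt T P M).Ring :=
  inferInstanceAs (Algebra P.Ring (Localization (M.comap (algebraMap P.Ring S))))

attribute [local instance] algLoc

lemma algLoc_eq : algebraMap P.Ring (locExt T P M).Ring = (locHom T P M).toRingHom := rfl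

lemma locHom_formallyEtale : (locHom T P M).toRingHom.FormallyEtale := by
  rw [← algLoc_eq]
  exact RingHom.formallyEtale_algebraMap.mpr
    (FormallyEtale.of_isLocalization (M := M.comap (algebraMap P.Ring S))
      (Rₘ := Localization (M.comap (algebraMap P.Ring S))))

set_option backward.isDefEq.respectTransparency false in
lemma locHom_mapKer_bijective :
    Function.Bijective (((locHom T P M).mapKer (algLoc_eq T P M)).liftBaseChange
      (locExt T P M).Ring) := by
  letI M' := M.comap (algebraMap P.Ring S)
  letI Q := locExt T P M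
  letI f := locHom T P M
  letI := ((algebraMap S T).comp (algebraMap P.Ring S)).toAlgebra
  letI := (fQ T P M).toRingHom.toAlgebra
  haveI : IsScalarTower P.Ring S T := .of_algebraMap_eq' rfl
  haveI : IsScalarTower P.Ring (Localization M') T :=
    .of_algebraMap_eq fun r ↦ (f.algebraMap_toRingHom r).symm
  haveI : IsLocalizedModule M' (IsScalarTower.toAlgHom P.Ring S T).toLinearMap := by
    rw [isLocalizedModule_iff_isLocalization]
    convert! ‹IsLocalization M T› using 1
    exact Submonoid.map_comap_eq_of_surjective P.algebraMap_surjective _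
  let F : P.ker →ₗ[P.Ring] RingHom.ker (fQ T P M) := f.mapKer rfl
  refine (isLocalizedModule_iff_isBaseChange M' (Localization M') F).mp ?_
  have : (LinearMap.ker <| Algebra.linearMap P.Ring S).localized' (Localization M') M'
      (Algebra.linearMap P.Ring (Localization M')) = RingHom.ker (fQ T P M) := by
    rw [LinearMap.localized'_ker_eq_ker_localizedMap (Localization M') M'
      (Algebra.linearMap P.Ring (Localization M'))
      (f' := (IsScalarTower.toAlgHom P.Ring S T).toLinearMap)]
    ext x
    obtain ⟨x, ⟨s, hs⟩, rfl⟩ := IsLocalization.exists_mk'_eq M' x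
    simp only [LinearMap.mem_ker, LinearMap.extendScalarsOfIsLocalization_apply', RingHom.mem_ker,
      IsLocalization.coe_liftAlgHom, AlgHom.toRingHom_eq_coe, IsLocalization.lift_mk'_spec,
      RingHom.coe_coe, AlgHom.coe_comp, IsScalarTower.coe_toAlgHom', Function.comp_apply,
      mul_zero, fQ]
    have : IsLocalization.mk' (Localization M') x ⟨s, hs⟩ =
        IsLocalizedModule.mk' (Algebra.linearMap P.Ring (Localization M')) x ⟨s, hs⟩ := by
      rw [IsLocalization.mk'_eq_iff_eq_mul, mul_comm, ← Algebra.smul_def, ← Submonoid.smul_def,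
        IsLocalizedModule.mk'_cancel']
      rfl
    simp [this, ← IsScalarTower.algebraMap_apply]
  have : F = ((LinearEquiv.ofEq _ _ this).restrictScalars P.Ring).toLinearMap ∘ₗ
    P.ker.toLocalized' (Localization M') M' (Algebra.linearMap P.Ring (Localization M')) := by
    ext; rfl
  rw [this]
  exact IsLocalizedModule.of_linearEquiv _ _ _

/-- `T ⊗[S] I/I² ≃ J/J²` for the localized extension. -/
noncomputable def tensorCotangentLoc :
    T ⊗[S] P.Cotangent ≃ₗ[T] (locExt T P M).Cotangent :=
  Extension.tensorCotangent (locHom T P M) (algLoc_eq T P M) (locHom_mapKer_bijective T P M)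

/-- `T ⊗[S] (S ⊗ Ω_P) ≃ T ⊗ Ω_{P_{M'}}` for the localized extension. -/
noncomputable def tensorCotangentSpaceLoc :
    T ⊗[S] P.CotangentSpace ≃ₗ[T] (locExt T P M).CotangentSpace :=
  Extension.tensorCotangentSpaceOfFormallyEtale (locHom T P M) (locHom_formallyEtale T P M)

end Loc

section Unit

variable (P : Extension.{u} R S) (M : Submonoid S) [IsLocalization M T]

/-- Elements of the localized extension ring mapping to units of `T` are units. -/
lemma isUnit_of_isUnit_fQ (u : Localization (M.comap (algebraMap P.Ring S)))
    (hu : IsUnit (fQ T P M u)) : IsUnit u := by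
  obtain ⟨a, s, rfl⟩ := IsLocalization.exists_mk'_eq (M.comap (algebraMap P.Ring S)) u
  rw [fQ_mk'] at hu
  have h1 : IsUnit (algebraMap S T (algebraMap P.Ring S a)) := by
    rw [← IsLocalization.mk'_spec T (algebraMap P.Ring S a) ⟨algebraMap P.Ring S s.1, s.2⟩]
    exact hu.mul (IsLocalization.map_units T ⟨algebraMap P.Ring S s.1, s.2⟩)
  obtain ⟨m, hm, c, rfl⟩ := (IsLocalization.algebraMap_isUnit_iff M).mp h1
  obtain ⟨c', rfl⟩ := P.algebraMap_surjective c
  have h2 : IsUnit (algebraMap P.Ring (Localization (M.comap (algebraMap P.Ring S))) a) := by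
    rw [IsLocalization.algebraMap_isUnit_iff (M.comap (algebraMap P.Ring S))]
    exact ⟨a * c', by simpa using hm, dvd_mul_right _ _⟩
  have h3 := IsLocalization.mk'_spec (Localization (M.comap (algebraMap P.Ring S))) a s
  have h4 : IsUnit (algebraMap P.Ring (Localization (M.comap (algebraMap P.Ring S))) s.1) :=
    IsLocalization.map_units _ s
  rw [← h3] at h2
  exact isUnit_of_mul_isUnit_left h2

lemma isUnit_of_isUnit_algebraMap_locExt (u : (locExt T P M).Ring)
    (hu : IsUnit (algebraMap (locExt T P M).Ring T u)) : IsUnit u :=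
  isUnit_of_isUnit_fQ T P M u hu

end Unit

section HomLoc

variable (P : Extension.{u} R S) (M : Submonoid S) [IsLocalization M T]
  (Q : Extension.{u} R T) (f : P.Hom Q)
  (hQ : ∀ u : Q.Ring, IsUnit (algebraMap Q.Ring T u) → IsUnit u)

include hQ in
omit [IsScalarTower R S T] in
lemma isUnit_hom_of_mem (y : M.comap (algebraMap P.Ring S)) : IsUnit (f.toRingHom y.1) := by
  apply hQ
  rw [f.algebraMap_toRingHom]
  exact IsLocalization.map_units T ⟨algebraMap P.Ring S y.1, y.2⟩

/-- A hom `P → Q` over `S → T = M⁻¹S` extends to the localized extension if `Q` reflects units. -/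
noncomputable def homOfLoc : (locExt T P M).Hom Q where
  toRingHom := IsLocalization.lift (M := M.comap (algebraMap P.Ring S))
    (S := Localization (M.comap (algebraMap P.Ring S))) (g := f.toRingHom)
    (isUnit_hom_of_mem T P M Q f hQ)
  toRingHom_algebraMap x := by
    have h1 : algebraMap R (locExt T P M).Ring x =
      algebraMap P.Ring (Localization (M.comap (algebraMap P.Ring S))) (algebraMap R P.Ring x) :=
      IsScalarTower.algebraMap_apply R P.Ring (Localization (M.comap (algebraMap P.Ring S))) x
    rw [h1]
    refine (IsLocalization.lift_eq (M := M.comap (algebraMap P.Ring S))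
      (S := Localization (M.comap (algebraMap P.Ring S)))
      (isUnit_hom_of_mem T P M Q f hQ) (algebraMap R P.Ring x)).trans ?_
    simp
  algebraMap_toRingHom x := by
    have h : ((algebraMap Q.Ring T).comp (IsLocalization.lift
        (M := M.comap (algebraMap P.Ring S))
        (S := Localization (M.comap (algebraMap P.Ring S))) (g := f.toRingHom)
        (isUnit_hom_of_mem T P M Q f hQ))) = (fQ T P M).toRingHom := by
      apply IsLocalization.ringHom_ext (M.comap (algebraMap P.Ring S))
      ext p
      simp [fQ_algebraMap]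
    exact congr($h x)

end HomLoc

section Poly

variable {n : ℕ} (α : MvPolynomial (Fin n) R →ₐ[R] S) (hα : Function.Surjective α)
  (Q : Extension.{u} R T)

/-- A hom of extensions out of a polynomial presentation, over `S → T`. -/
noncomputable def homOfMvPolynomial' : (Extension.ofSurjective α hα).Hom Q :=
  letI P := Extension.ofSurjective α hα
  Hom.ofAlgHom (P := P) (P' := Q)
    (MvPolynomial.aeval (fun i => Q.σ (algebraMap S T (α (MvPolynomial.X i))))) (by
      apply MvPolynomial.algHom_ext
      intro i
      have h1 : (IsScalarTower.toAlgHom R Q.Ring T)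
          (MvPolynomial.aeval (R := R) (fun i => Q.σ (algebraMap S T (α (MvPolynomial.X i))))
            (MvPolynomial.X i : MvPolynomial (Fin n) R)) =
          algebraMap S T (α (MvPolynomial.X i)) := by
        rw [MvPolynomial.aeval_X]
        exact Q.algebraMap_σ _
      exact h1)

end Poly

section Main

variable {n m : ℕ} (α : MvPolynomial (Fin n) R →ₐ[R] S) (hα : Function.Surjective α)
  (β : MvPolynomial (Fin m) R →ₐ[R] T) (hβ : Function.Surjective β)
  (M : Submonoid S) [IsLocalization M T]

/-- Schanuel for the two localized presentations. -/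
theorem nonempty_loc_schanuel :
    Nonempty (((locExt T (Extension.ofSurjective α hα) M).Cotangent ×
        (locExt T (Extension.ofSurjective β hβ) (IsUnit.submonoid T)).CotangentSpace) ≃ₗ[T]
      ((locExt T (Extension.ofSurjective β hβ) (IsUnit.submonoid T)).Cotangent ×
        (locExt T (Extension.ofSurjective α hα) M).CotangentSpace)) := by
  exact Groth.Agent.H46.nonempty_cotangent_prod_linearEquiv
    (homOfLoc T (Extension.ofSurjective α hα) M _
      (homOfMvPolynomial' T α hα (locExt T (Extension.ofSurjective β hβ) (IsUnit.submonoid T)))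
      (isUnit_of_isUnit_algebraMap_locExt T (Extension.ofSurjective β hβ) (IsUnit.submonoid T)))
    (homOfLoc T (Extension.ofSurjective β hβ) (IsUnit.submonoid T) _
      (homOfMvPolynomial' T β hβ (locExt T (Extension.ofSurjective α hα) M))
      (isUnit_of_isUnit_algebraMap_locExt T (Extension.ofSurjective α hα) M))

end Main

section Main2

variable {n m : ℕ} (α : MvPolynomial (Fin n) R →ₐ[R] S) (hα : Function.Surjective α)
  (β : MvPolynomial (Fin m) R →ₐ[R] T) (hβ : Function.Surjective β)
  (M : Submonoid S) [IsLocalization M T]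

/-- Cotangent space of the localized polynomial presentation is free. -/
noncomputable def cotangentSpaceLocEquiv :
    (locExt T (Extension.ofSurjective α hα) M).CotangentSpace ≃ₗ[T] (Fin n → T) :=
  (tensorCotangentSpaceLoc T (Extension.ofSurjective α hα) M).symm ≪≫ₗ
    (TensorProduct.AlgebraTensorModule.congr (LinearEquiv.refl T T)
      (Groth.Agent.H46.cotangentSpaceEquivOfMvPolynomial α hα)) ≪≫ₗ
    TensorProduct.piScalarRight S T T (Fin n)

/-- **Localized Schanuel for cotangent modules**: for presentations `α : R[x₁..xₙ] → S` and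
`β : R[y₁..yₘ] → T = M⁻¹S` one has `T ⊗ I/I² ⊕ Tᵐ ≃ J/J² ⊕ Tⁿ`. -/
theorem nonempty_tensor_cotangent_prod_free_linearEquiv (M : Submonoid S) [IsLocalization M T] :
    Nonempty (((T ⊗[S] (Extension.ofSurjective α hα).Cotangent) × (Fin m → T)) ≃ₗ[T]
      ((Extension.ofSurjective β hβ).Cotangent × (Fin n → T))) := by
  obtain ⟨e⟩ := nonempty_loc_schanuel T α hα β hβ M
  let e₁ := tensorCotangentLoc T (Extension.ofSurjective α hα) M
  let e₂ : (Extension.ofSurjective β hβ).Cotangent ≃ₗ[T]
      (locExt T (Extension.ofSurjective β hβ) (IsUnit.submonoid T)).Cotangent :=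
    (TensorProduct.lid T _).symm ≪≫ₗ
      tensorCotangentLoc T (Extension.ofSurjective β hβ) (IsUnit.submonoid T)
  let c₁ := cotangentSpaceLocEquiv T α hα M
  let c₂ := cotangentSpaceLocEquiv T β hβ (IsUnit.submonoid T)
  exact ⟨(e₁.prodCongr c₂.symm) ≪≫ₗ e ≪≫ₗ (e₂.symm.prodCongr c₁)⟩

end Main2

end Groth.Agent.Lib.Helper73.CotLoc
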