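import Mathlib
import Groth.Agent.Lib.Helper73.CotLoc
import Groth.Agent.Lib.Helper82.SyntLocal
import Groth.Agent.Lib.Helper82.RelGCIKoszul

/-!
# The conormal module of a syntomic algebra is finite projective (locally on `D(g)`)
-/

set_option autoImplicit false
set_option linter.style.haveILetI false
universe u

open TensorProduct Algebra Algebra.Extension

namespace Groth.Agent.Lib.Helper73.CotLoc2


/-- Local-global principle for finite projective modules on basic opens. -/
theorem finite_projective_of_local {T : Type u} [CommRing T] {N : Type u} [AddCommGroup N]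
    [Module T N]
    (H : ∀ q : Ideal T, q.IsPrime → ∃ h : T, h ∉ q ∧
      Module.Finite (Localization.Away h) (LocalizedModule.Away h N) ∧
      Module.Projective (Localization.Away h) (LocalizedModule.Away h N)) :
    Module.Finite T N ∧ Module.Projective T N := by
  let s : Set T := {h | Module.Finite (Localization.Away h) (LocalizedModule.Away h N) ∧
      Module.Projective (Localization.Away h) (LocalizedModule.Away h N)}
  have hs : Ideal.span s = ⊤ := by
    by_contra hne
    obtain ⟨m, hm, hle⟩ := Ideal.exists_le_maximal _ hne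
    obtain ⟨h, hh, hfp⟩ := H m hm.isPrime
    exact hh (hle (Ideal.subset_span hfp))
  have hfp : Module.FinitePresentation T N := by
    apply Module.FinitePresentation.of_localizationSpan s hs
    intro g
    haveI := g.2.1
    haveI := g.2.2
    exact Module.finitePresentation_of_projective _ _
  have hflat : Module.Flat T N := by
    apply Module.flat_of_localized_span T N s hs
    intro g
    haveI := g.2.1
    haveI := g.2.2
    have : Module.Flat (Localization.Away g.1) (LocalizedModule.Away g.1 N) := inferInstance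
    exact (Module.flat_iff_of_isLocalization (Localization.Away g.1)
      (Submonoid.powers g.1) _).mp this
  exact ⟨inferInstance, Module.Flat.projective_of_finitePresentation⟩


section Free

variable {R T : Type u} [CommRing R] [CommRing T] [Algebra R T]

/-- If the kernel of an extension is generated by `F` and the `F i` are independent modulo the
square of the kernel, then the cotangent module is finite free. -/
theorem free_finite_cotangent_of_indep (Q : Extension.{u} R T) {c : ℕ} (F : Fin c → Q.Ring)
    (hK : Ideal.span (Set.range F) = Q.ker)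
    (hind : ∀ p : Fin c → Q.Ring, ∑ i, p i * F i ∈ Q.ker ^ 2 → ∀ i, p i ∈ Q.ker) :
    Module.Free T Q.Cotangent ∧ Module.Finite T Q.Cotangent := by
  have hF : ∀ i, F i ∈ Q.ker := fun i => hK.le (Ideal.subset_span ⟨i, rfl⟩)
  let v : Fin c → Q.Cotangent := fun i => Cotangent.mk ⟨F i, hF i⟩
  have hspan : Submodule.span T (Set.range v) = ⊤ :=
    Cotangent.span_eq_top_of_span_eq_ker F hK
  have hli : LinearIndependent T v := by
    rw [Fintype.linearIndependent_iff]
    intro t ht i
    have h1 : ∀ j, t j • v j = Q.σ (t j) • v j := by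
      intro j
      rw [← algebraMap_smul T (Q.σ (t j)) (v j), Q.algebraMap_σ]
    have h2 : ∑ j, t j • v j =
        Cotangent.mk ⟨∑ j, Q.σ (t j) * F j,
          Ideal.sum_mem _ (fun j _ => Ideal.mul_mem_left _ _ (hF j))⟩ := by
      rw [Finset.sum_congr rfl (fun j _ => h1 j)]
      simp only [v, ← map_smul, ← map_sum]
      congr 1
      ext
      simp
    rw [h2, Cotangent.mk_eq_zero_iff] at ht
    have h3 := hind (fun j => Q.σ (t j)) ht i
    have h4 : algebraMap Q.Ring T (Q.σ (t i)) = 0 := h3
    rwa [Q.algebraMap_σ] at h4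
  let b := Module.Basis.mk hli hspan.ge
  exact ⟨Module.Free.of_basis b, Module.Finite.of_basis b⟩

end Free

section Indep

variable {A : Type u} [CommRing A]

theorem indep_of_linearIndependent (K : Ideal A) {c : ℕ} (F : Fin c → A) (hF : ∀ i, F i ∈ K)
    (hli : LinearIndependent (A ⧸ K) (fun i => K.toCotangent ⟨F i, hF i⟩)) :
    ∀ p : Fin c → A, ∑ i, p i * F i ∈ K ^ 2 → ∀ i, p i ∈ K := by
  intro p hp i
  rw [Fintype.linearIndependent_iff] at hli
  have h1 : ∑ j, (Ideal.Quotient.mk K (p j)) • K.toCotangent ⟨F j, hF j⟩ = 0 := by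
    have h2 : ∀ j, (Ideal.Quotient.mk K (p j)) • K.toCotangent ⟨F j, hF j⟩ =
        K.toCotangent (p j • ⟨F j, hF j⟩) := by
      intro j
      rw [map_smul]
      rfl
    rw [Finset.sum_congr rfl (fun j _ => h2 j), ← map_sum, Ideal.toCotangent_eq_zero]
    simpa using hp
  exact Ideal.Quotient.eq_zero_iff_mem.mp (hli _ h1 i)

end Indep


section Quot

variable {R A : Type u} [CommRing R] [CommRing A] [Algebra R A] (I : Ideal A)

/-- The cotangent module of the quotient presentation is the usual `I/I²`. -/
noncomputable def cotangentEquivQuotient :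
    (Extension.ofSurjective (Ideal.Quotient.mkₐ R I) Ideal.Quotient.mk_surjective).Cotangent
      ≃ₗ[A ⧸ I] I.Cotangent := by
  let P : Extension.{u} R (A ⧸ I) :=
    Extension.ofSurjective (Ideal.Quotient.mkₐ R I) Ideal.Quotient.mk_surjective
  let ι : P.Ring →ₐ[R] A := show A →ₐ[R] A from AlgHom.id R A
  let ι' : A →ₐ[R] P.Ring := show A →ₐ[R] A from AlgHom.id R A
  have hker : ∀ x : A, x ∈ P.ker ↔ x ∈ I := by
    intro x
    change Ideal.Quotient.mk I x = 0 ↔ _
    exact Ideal.Quotient.eq_zero_iff_mem
  let fwd : P.ker.Cotangent →ₗ[R] I.Cotangent :=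
    Ideal.mapCotangent P.ker I ι (fun x hx => (hker x).mp hx)
  let bwd : I.Cotangent →ₗ[R] P.ker.Cotangent :=
    Ideal.mapCotangent I P.ker ι' (fun x hx => (hker x).mpr hx)
  have h1 : ∀ x, bwd (fwd x) = x := by
    intro x
    obtain ⟨x, rfl⟩ := Ideal.toCotangent_surjective _ x
    rfl
  have h2 : ∀ x, fwd (bwd x) = x := by
    intro x
    obtain ⟨x, rfl⟩ := Ideal.toCotangent_surjective _ x
    rfl
  refine
    { toFun := fun x => fwd x.val
      invFun := fun y => Cotangent.of (bwd y)
      left_inv := fun x => by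
        apply Cotangent.ext
        simp [h1]
      right_inv := fun y => by simp [h2]
      map_add' := fun x y => by simp
      map_smul' := ?_ }
  intro s x
  obtain ⟨a, rfl⟩ := Ideal.Quotient.mk_surjective s
  obtain ⟨x, rfl⟩ := Cotangent.mk_surjective x
  have h3 : (Ideal.Quotient.mk I a) • Cotangent.mk x = (ι' a) • Cotangent.mk x := by
    exact algebraMap_smul (A ⧸ I) (ι' a) (Cotangent.mk x)
  simp only [RingHom.id_apply]
  rw [h3, ← map_smul]
  simp only [Cotangent.val_mk]
  have h4 : (Ideal.Quotient.mk I a) • fwd (P.ker.toCotangent x) =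
      a • fwd (P.ker.toCotangent x) := algebraMap_smul (A ⧸ I) a _
  rw [h4]
  have h5 : ∀ y : P.ker, fwd (P.ker.toCotangent y) =
      I.toCotangent ⟨ι y.1, (hker y.1).mp y.2⟩ := fun y =>
    Ideal.mapCotangent_toCotangent P.ker I ι _ y
  rw [h5, h5, ← map_smul]
  rfl

end Quot


section K

variable {R : Type u} [CommRing R] {n : ℕ} (I : Ideal (MvPolynomial (Fin n) R))
variable (T' : Type u) [CommRing T'] [Algebra R T'] [Algebra (MvPolynomial (Fin n) R ⧸ I) T']
  [IsScalarTower R (MvPolynomial (Fin n) R ⧸ I) T']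
  (M' : Submonoid (MvPolynomial (Fin n) R ⧸ I)) [IsLocalization M' T']
  {n' c : ℕ} (F : Fin c → MvPolynomial (Fin n') R) (hrel : Synt.IsRelGCI R n' c F)
  (e : T' ≃ₐ[R] Synt.RelGCIRing R n' c F)

include hrel e M' in
theorem finite_projective_tensor_cotangent :
    Module.Finite T' (T' ⊗[MvPolynomial (Fin n) R ⧸ I] I.Cotangent) ∧
      Module.Projective T' (T' ⊗[MvPolynomial (Fin n) R ⧸ I] I.Cotangent) := by
  let K : Ideal (MvPolynomial (Fin n') R) := Ideal.span (Set.range F)
  let β : MvPolynomial (Fin n') R →ₐ[R] T' :=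
    (e.symm : Synt.RelGCIRing R n' c F →ₐ[R] T').comp (Ideal.Quotient.mkₐ R K)
  have hβ : Function.Surjective β :=
    e.symm.surjective.comp Ideal.Quotient.mk_surjective
  obtain ⟨E⟩ := Groth.Agent.Lib.Helper73.CotLoc.nonempty_tensor_cotangent_prod_free_linearEquiv
    T' (Ideal.Quotient.mkₐ R I) Ideal.Quotient.mk_surjective β hβ M'
  let P₂ : Extension.{u} R T' := Extension.ofSurjective β hβ
  have hker : ∀ x : MvPolynomial (Fin n') R, x ∈ P₂.ker ↔ x ∈ K := by
    intro x
    change β x = 0 ↔ _
    simp only [β, AlgHom.comp_apply]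
    rw [show ((e.symm : Synt.RelGCIRing R n' c F →ₐ[R] T') (Ideal.Quotient.mkₐ R K x) = 0) ↔
      Ideal.Quotient.mkₐ R K x = 0 from map_eq_zero_iff _ e.symm.injective]
    exact Ideal.Quotient.eq_zero_iff_mem
  have hKeq : (K : Ideal P₂.Ring) = P₂.ker := by
    ext x
    exact (hker x).symm
  obtain ⟨hli, -⟩ := Groth.Agent.Lib.Helper82.RelGCIKoszul.cotangent_basis R n' c F hrel
  have hind := indep_of_linearIndependent K F
    (fun i => Ideal.subset_span (Set.mem_range_self i)) hli
  obtain ⟨hfree, hfin⟩ := free_finite_cotangent_of_indep P₂ (F : Fin c → P₂.Ring) hKeq (by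
    intro p hp i
    rw [← hKeq] at hp ⊢
    exact hind p hp i)
  haveI : Module.Free T' (Extension.ofSurjective β hβ).Cotangent := hfree
  haveI : Module.Finite T' (Extension.ofSurjective β hβ).Cotangent := hfin
  let Sq := MvPolynomial (Fin n) R ⧸ I
  let P₁ : Extension.{u} R Sq :=
    Extension.ofSurjective (Ideal.Quotient.mkₐ R I) Ideal.Quotient.mk_surjective
  let i : (T' ⊗[Sq] P₁.Cotangent) →ₗ[T']
      ((Extension.ofSurjective β hβ).Cotangent × (Fin n → T')) :=
    E.toLinearMap ∘ₗ LinearMap.inl T' _ _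
  let s : ((Extension.ofSurjective β hβ).Cotangent × (Fin n → T')) →ₗ[T']
      (T' ⊗[Sq] P₁.Cotangent) :=
    LinearMap.fst T' _ _ ∘ₗ E.symm.toLinearMap
  have hsi : ∀ x, s (i x) = x := by
    intro x
    simp [s, i]
  have hproj : Module.Projective T' (T' ⊗[Sq] P₁.Cotangent) :=
    Module.Projective.of_split i s (LinearMap.ext hsi)
  have hfinite : Module.Finite T' (T' ⊗[Sq] P₁.Cotangent) :=
    Module.Finite.of_surjective s (fun x => ⟨i x, hsi x⟩)
  let ε : (T' ⊗[Sq] P₁.Cotangent) ≃ₗ[T'] (T' ⊗[Sq] I.Cotangent) :=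
    TensorProduct.AlgebraTensorModule.congr (LinearEquiv.refl T' T')
      (cotangentEquivQuotient (R := R) I)
  exact ⟨Module.Finite.equiv ε, Module.Projective.of_equiv ε⟩

end K


theorem main (R : Type u) [CommRing R] (n : ℕ)
    (I : Ideal (MvPolynomial (Fin n) R)) (g : MvPolynomial (Fin n) R ⧸ I)
    (hg : Synt.IsSyntomic R (Localization.Away g)) :
    Module.Finite (Localization.Away g) (LocalizedModule (Submonoid.powers g) I.Cotangent) ∧
      Module.Projective (Localization.Away g)
        (LocalizedModule (Submonoid.powers g) I.Cotangent) := by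
  apply finite_projective_of_local
  intro q hq
  obtain ⟨h, hh, n', c, F, hrel, ⟨e⟩⟩ :=
    Groth.Agent.Lib.Helper82.SyntLocal.exists_relGCI_of_isSyntomic R (Localization.Away g) hg q
  refine ⟨h, hh, ?_⟩
  let Sq := MvPolynomial (Fin n) R ⧸ I
  let T := Localization.Away g
  let T' := Localization.Away h
  let X := I.Cotangent
  let N := LocalizedModule (Submonoid.powers g) X
  haveI : IsLocalization (IsLocalization.localizationLocalizationSubmodule
      (Submonoid.powers g) (Submonoid.powers h)) T' :=
    IsLocalization.localization_localization_isLocalization (Submonoid.powers g)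
      (Submonoid.powers h) T'
  obtain ⟨hfin, hproj⟩ := finite_projective_tensor_cotangent I T'
    (IsLocalization.localizationLocalizationSubmodule (Submonoid.powers g) (Submonoid.powers h))
    F hrel e
  let e1 : T' ⊗[T] N ≃ₗ[T'] LocalizedModule (Submonoid.powers h) N :=
    (IsLocalizedModule.isBaseChange (Submonoid.powers h) T'
      (LocalizedModule.mkLinearMap (Submonoid.powers h) N)).equiv
  let e2 : T ⊗[Sq] X ≃ₗ[T] N :=
    (IsLocalizedModule.isBaseChange (Submonoid.powers g) T
      (LocalizedModule.mkLinearMap (Submonoid.powers g) X)).equiv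
  let e3 : T' ⊗[T] (T ⊗[Sq] X) ≃ₗ[T'] T' ⊗[T] N :=
    TensorProduct.AlgebraTensorModule.congr (LinearEquiv.refl T' T') e2
  let e4 : T' ⊗[T] (T ⊗[Sq] X) ≃ₗ[T'] T' ⊗[Sq] X :=
    TensorProduct.AlgebraTensorModule.cancelBaseChange Sq T T' T' X
  let ε : T' ⊗[Sq] X ≃ₗ[T'] LocalizedModule (Submonoid.powers h) N :=
    e4.symm ≪≫ₗ e3 ≪≫ₗ e1
  exact ⟨Module.Finite.equiv ε, Module.Projective.of_equiv ε⟩

end Groth.Agent.Lib.Helper73.CotLoc2
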