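import Mathlib
import Groth.Agent.Lib.Helper73.RedFibre3
import Groth.Agent.Lib.Helper44.RigPoint
import Groth.Agent.Lib.Helper62.ChevalleySymbolic

set_option autoImplicit false
set_option linter.style.haveILetI false
set_option linter.unusedSectionVars false
set_option maxSynthPendingDepth 3
universe u
namespace Groth.Agent.Lib.Helper73.DVRNbhd
open IsLocalRing Groth.Agent.Lib.Helper73.RedFibre

section DimOne
variable (A : Type u) [CommRing A] [IsNoetherianRing A] [IsLocalRing A]
  [IsAdicComplete (maximalIdeal A) A]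

/-- A prime `P` of coheight one: `A ⧸ P` is a one-dimensional local domain. -/
def IsDimOnePrime (P : Ideal A) : Prop :=
  P.IsPrime ∧ P ≠ maximalIdeal A ∧ ∀ Q : Ideal A, Q.IsPrime → P < Q → Q = maximalIdeal A

/-- The normalization of `A ⧸ P` for a coheight-one prime is a DVR finite over `A`. -/
theorem exists_dvr_of_isDimOnePrime (P : Ideal A) (hP : IsDimOnePrime A P) :
    ∃ (V : Type u) (_ : CommRing V) (_ : IsDomain V) (_ : IsDiscreteValuationRing V)
      (φ : A →+* V), IsLocalHom φ ∧ φ.Finite ∧ RingHom.ker φ = P := by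
  classical
  obtain ⟨hPp, hPm, hPQ⟩ := hP
  haveI := hPp
  haveI hloc : IsLocalRing (A ⧸ P) := isLocalRing_quotient A P hPp.ne_top
  haveI hcomp : IsAdicComplete (maximalIdeal (A ⧸ P)) (A ⧸ P) := isAdicComplete_quotient A P
  have hmaxq := maximalIdeal_quotient A P
  -- primes of the quotient
  have h1 : ∀ q : Ideal (A ⧸ P), q.IsPrime → q ≠ ⊥ → q = maximalIdeal (A ⧸ P) := by
    intro q hq hq0
    haveI := hq
    have hlt : P < q.comap (Ideal.Quotient.mk P) := by
      refine lt_of_le_of_ne ?_ ?_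
      · intro x hx
        rw [Ideal.mem_comap, Ideal.Quotient.eq_zero_iff_mem.mpr hx]
        exact q.zero_mem
      · intro h
        apply hq0
        rw [eq_bot_iff]
        intro y hy
        obtain ⟨x, rfl⟩ := Ideal.Quotient.mk_surjective y
        have : x ∈ P := by rw [h]; exact hy
        rw [Ideal.mem_bot, Ideal.Quotient.eq_zero_iff_mem]
        exact this
    have h2 := hPQ _ (Ideal.comap_isPrime _ _) hlt
    rw [hmaxq, ← h2, Ideal.map_comap_of_surjective _ Ideal.Quotient.mk_surjective]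
  have hm : maximalIdeal (A ⧸ P) ≠ ⊥ := by
    intro h
    apply hPm
    have h3 : (maximalIdeal A).map (Ideal.Quotient.mk P) = ⊥ := by rw [← hmaxq, h]
    apply le_antisymm (le_maximalIdeal hPp.ne_top)
    intro x hx
    have : Ideal.Quotient.mk P x ∈ (maximalIdeal A).map (Ideal.Quotient.mk P) :=
      Ideal.mem_map_of_mem _ hx
    rw [h3, Ideal.mem_bot, Ideal.Quotient.eq_zero_iff_mem] at this
    exact this
  haveI hfin : Module.Finite (A ⧸ P) (integralClosure (A ⧸ P) (FractionRing (A ⧸ P))) :=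
    finite_integralClosure (A ⧸ P) h1 hm
  haveI : IsNoetherianRing (integralClosure (A ⧸ P) (FractionRing (A ⧸ P))) :=
    IsNoetherianRing.of_finite (A ⧸ P) _
  haveI : Ring.DimensionLEOne (A ⧸ P) := ⟨fun {p} hp0 hpp => by
    rw [h1 p hpp hp0]; infer_instance⟩
  haveI : Ring.DimensionLEOne (integralClosure (A ⧸ P) (FractionRing (A ⧸ P))) :=
    Ring.DimensionLEOne.integralClosure (A ⧸ P) (FractionRing (A ⧸ P))
  haveI : IsIntegrallyClosed (integralClosure (A ⧸ P) (FractionRing (A ⧸ P))) :=
    integralClosure.isIntegrallyClosedOfFiniteExtension (FractionRing (A ⧸ P))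
  haveI : IsDedekindRing (integralClosure (A ⧸ P) (FractionRing (A ⧸ P))) := {}
  haveI : IsDedekindDomain (integralClosure (A ⧸ P) (FractionRing (A ⧸ P))) := {}
  haveI hlocV : IsLocalRing (integralClosure (A ⧸ P) (FractionRing (A ⧸ P))) :=
    isLocalRing_of_finite_domain (A ⧸ P) _
  have hinj : Function.Injective (algebraMap (A ⧸ P)
      (integralClosure (A ⧸ P) (FractionRing (A ⧸ P)))) := by
    intro a b hab
    apply IsFractionRing.injective (A ⧸ P) (FractionRing (A ⧸ P))
    exact congrArg (Subtype.val) hab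
  have hnf : ¬ IsField (integralClosure (A ⧸ P) (FractionRing (A ⧸ P))) := by
    intro hf
    have h4 : IsField (A ⧸ P) :=
      isField_of_isIntegral_of_isField (R := A ⧸ P)
        (S := integralClosure (A ⧸ P) (FractionRing (A ⧸ P))) hinj hf
    exact hm (IsLocalRing.isField_iff_maximalIdeal_eq.mp h4)
  haveI hdvr : IsDiscreteValuationRing (integralClosure (A ⧸ P) (FractionRing (A ⧸ P))) :=
    ((IsDiscreteValuationRing.TFAE _ hnf).out 0 2).mpr
      (inferInstance : IsDedekindDomain (integralClosure (A ⧸ P) (FractionRing (A ⧸ P))))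
  refine ⟨integralClosure (A ⧸ P) (FractionRing (A ⧸ P)), inferInstance, inferInstance, hdvr,
    (algebraMap (A ⧸ P) (integralClosure (A ⧸ P) (FractionRing (A ⧸ P)))).comp
      (Ideal.Quotient.mk P), ?_, ?_, ?_⟩
  · refine ⟨fun a ha => ?_⟩
    by_contra hnu
    have ham : a ∈ maximalIdeal A := (IsLocalRing.mem_maximalIdeal a).mpr hnu
    haveI hmax : ((maximalIdeal (integralClosure (A ⧸ P) (FractionRing (A ⧸ P)))).comap
        (algebraMap (A ⧸ P) (integralClosure (A ⧸ P) (FractionRing (A ⧸ P))))).IsMaximal :=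
      Ideal.isMaximal_comap_of_isIntegral_of_isMaximal (R := A ⧸ P) _
    have h5 := IsLocalRing.eq_maximalIdeal hmax
    have h6 : Ideal.Quotient.mk P a ∈ maximalIdeal (A ⧸ P) := by
      rw [hmaxq]; exact Ideal.mem_map_of_mem _ ham
    rw [← h5, Ideal.mem_comap] at h6
    exact (IsLocalRing.mem_maximalIdeal _).mp h6 ha
  · exact RingHom.Finite.comp (RingHom.finite_algebraMap.mpr hfin)
      (RingHom.Finite.of_surjective _ Ideal.Quotient.mk_surjective)
  · ext x
    rw [RingHom.mem_ker, RingHom.comp_apply, map_eq_zero_iff _ hinj,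
      Ideal.Quotient.eq_zero_iff_mem]

end DimOne
section Inter
variable (A : Type u) [CommRing A] [IsNoetherianRing A] [IsLocalRing A]

/-- For a nonzero element of the maximal ideal, not nilpotent, there is a coheight-one prime
avoiding it. -/
theorem exists_isDimOnePrime_notMem_of_mem (x : A) (hxm : x ∈ maximalIdeal A)
    (hx : ¬ IsNilpotent x) : ∃ P : Ideal A, IsDimOnePrime A P ∧ x ∉ P := by
  classical
  have hne : {P : Ideal A | P.IsPrime ∧ x ∉ P}.Nonempty := by
    have h1 : x ∉ nilradical A := fun h => hx (mem_nilradical.mp h)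
    rw [nilradical_eq_sInf, Ideal.mem_sInf] at h1
    push Not at h1
    obtain ⟨p, hp, hxp⟩ := h1
    exact ⟨p, hp, hxp⟩
  obtain ⟨P, ⟨hPp, hxP⟩, hPmax⟩ := wellFounded_gt.has_min _ hne
  haveI := hPp
  refine ⟨P, ⟨hPp, ?_, ?_⟩, hxP⟩
  · rintro rfl
    exact hxP hxm
  · intro Q hQ hPQ
    haveI := hQ
    haveI hloc : IsLocalRing (A ⧸ P) := isLocalRing_quotient A P hPp.ne_top
    have hmaxq := maximalIdeal_quotient A P
    have hxbar : Ideal.Quotient.mk P x ≠ 0 := by
      rw [Ne, Ideal.Quotient.eq_zero_iff_mem]; exact hxP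
    have hall : ∀ q : Ideal (A ⧸ P), q.IsPrime → q ≠ ⊥ → Ideal.Quotient.mk P x ∈ q := by
      intro q hq hq0
      haveI := hq
      have hlt : P < q.comap (Ideal.Quotient.mk P) := by
        refine lt_of_le_of_ne ?_ ?_
        · intro y hy
          rw [Ideal.mem_comap, Ideal.Quotient.eq_zero_iff_mem.mpr hy]
          exact q.zero_mem
        · intro h
          apply hq0
          rw [eq_bot_iff]
          intro y hy
          obtain ⟨z, rfl⟩ := Ideal.Quotient.mk_surjective y
          have : z ∈ P := by rw [h]; exact hy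
          rw [Ideal.mem_bot, Ideal.Quotient.eq_zero_iff_mem]
          exact this
      by_contra hcon
      exact hPmax (q.comap (Ideal.Quotient.mk P)) ⟨Ideal.comap_isPrime _ _, hcon⟩ hlt
    haveI hdim : Ring.KrullDimLE 1 (A ⧸ P) :=
      Groth.Agent.Lib.Helper44.krullDimLE_one_of_forall_mem _ hxbar hall
    -- `Q / P` is a nonzero prime, hence maximal
    have hQ' : (Q.map (Ideal.Quotient.mk P)).IsPrime :=
      Ideal.map_isPrime_of_surjective Ideal.Quotient.mk_surjective
        (by rw [Ideal.mk_ker]; exact hPQ.le)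
    haveI := hQ'
    have hQ0 : Q.map (Ideal.Quotient.mk P) ≠ ⊥ := by
      intro h
      obtain ⟨y, hyQ, hyP⟩ := Set.exists_of_ssubset hPQ
      have : Ideal.Quotient.mk P y ∈ Q.map (Ideal.Quotient.mk P) := Ideal.mem_map_of_mem _ hyQ
      rw [h, Ideal.mem_bot, Ideal.Quotient.eq_zero_iff_mem] at this
      exact hyP this
    have hQmax : (Q.map (Ideal.Quotient.mk P)).IsMaximal :=
      Ideal.isMaximal_of_isPrime_of_ne_bot _ hQ0
    have h3 : Q.map (Ideal.Quotient.mk P) = maximalIdeal (A ⧸ P) :=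
      IsLocalRing.eq_maximalIdeal hQmax
    have h4 : (Q.map (Ideal.Quotient.mk P)).comap (Ideal.Quotient.mk P) = Q := by
      rw [Ideal.comap_map_of_surjective _ Ideal.Quotient.mk_surjective, ← RingHom.ker_eq_comap_bot,
        Ideal.mk_ker]
      exact sup_eq_left.mpr hPQ.le
    have h5 : ((maximalIdeal A).map (Ideal.Quotient.mk P)).comap (Ideal.Quotient.mk P) =
        maximalIdeal A := by
      rw [Ideal.comap_map_of_surjective _ Ideal.Quotient.mk_surjective, ← RingHom.ker_eq_comap_bot,
        Ideal.mk_ker]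
      exact sup_eq_left.mpr (le_maximalIdeal hPp.ne_top)
    rw [← h4, h3, hmaxq, h5]

/-- In a reduced Noetherian local ring which is not a field, the coheight-one primes have zero
intersection. -/
theorem exists_isDimOnePrime_notMem [IsReduced A] (hA : ¬ IsField A) (x : A) (hx : x ≠ 0) :
    ∃ P : Ideal A, IsDimOnePrime A P ∧ x ∉ P := by
  by_cases hxm : x ∈ maximalIdeal A
  · exact exists_isDimOnePrime_notMem_of_mem A x hxm (fun h => hx (h.eq_zero))
  · have hm : maximalIdeal A ≠ ⊥ := fun h => hA (IsLocalRing.isField_iff_maximalIdeal_eq.mpr h)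
    obtain ⟨t, htm, ht0⟩ : ∃ t ∈ maximalIdeal A, t ≠ 0 := by
      by_contra hcon
      push Not at hcon
      exact hm (eq_bot_iff.mpr fun y hy => by simpa using hcon y hy)
    obtain ⟨P, hP, -⟩ := exists_isDimOnePrime_notMem_of_mem A t htm (fun h => ht0 (h.eq_zero))
    refine ⟨P, hP, fun hxP => ?_⟩
    have hu : IsUnit x := by
      by_contra hnu
      exact hxm ((IsLocalRing.mem_maximalIdeal x).mpr hnu)
    exact hP.1.ne_top (Ideal.eq_top_of_isUnit_mem _ hxP hu)

end Inter

section Chev
variable (A : Type u) [CommRing A] [IsNoetherianRing A] [IsLocalRing A]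
  [IsAdicComplete (maximalIdeal A) A]

open Groth.Agent.Lib.Helper62.ChevalleySymbolic in
/-- A family of ideals with zero intersection in a complete Noetherian local ring has finite
subfamilies with intersection inside any given power of the maximal ideal. -/
theorem exists_finset_inf_le (D : Set (Ideal A)) (hbot : ∀ x : A, x ≠ 0 → ∃ P ∈ D, x ∉ P)
    (n : ℕ) : ∃ F : Finset (Ideal A), (∀ P ∈ F, P ∈ D) ∧ F.inf id ≤ maximalIdeal A ^ n := by
  classical
  have key : ∀ N : ℕ, ∃ F : Finset (Ideal A), (∀ P ∈ F, P ∈ D) ∧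
      ∀ P ∈ D, F.inf id ≤ P ⊔ maximalIdeal A ^ (N + 1) := by
    intro N
    haveI : IsArtinianRing (A ⧸ maximalIdeal A ^ (N + 1)) :=
      isArtinianRing_quot_pow (S := A) (N + 1) (by omega)
    let a : Set (Ideal (A ⧸ maximalIdeal A ^ (N + 1))) :=
      {I | ∃ F : Finset (Ideal A), (∀ P ∈ F, P ∈ D) ∧
        I = (F.inf id).map (Ideal.Quotient.mk (maximalIdeal A ^ (N + 1)))}
    have hne : a.Nonempty := ⟨_, ∅, by simp, rfl⟩
    obtain ⟨I, ⟨F, hFD, rfl⟩, hmin⟩ := IsArtinian.set_has_minimal a hne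
    refine ⟨F, hFD, fun P hP => ?_⟩
    have hmem : ((insert P F).inf id).map (Ideal.Quotient.mk (maximalIdeal A ^ (N + 1))) ∈ a :=
      ⟨insert P F, by
        intro Q hQ
        rcases Finset.mem_insert.mp hQ with rfl | hQ
        · exact hP
        · exact hFD Q hQ, rfl⟩
    have hle : ((insert P F).inf id).map (Ideal.Quotient.mk (maximalIdeal A ^ (N + 1))) ≤
        (F.inf id).map (Ideal.Quotient.mk (maximalIdeal A ^ (N + 1))) :=
      Ideal.map_mono (Finset.inf_mono (Finset.subset_insert P F))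
    have heq : ((insert P F).inf id).map (Ideal.Quotient.mk (maximalIdeal A ^ (N + 1))) =
        (F.inf id).map (Ideal.Quotient.mk (maximalIdeal A ^ (N + 1))) := by
      by_contra hne'
      exact hmin _ hmem (lt_of_le_of_ne hle hne')
    have h1 : (F.inf id).map (Ideal.Quotient.mk (maximalIdeal A ^ (N + 1))) ≤
        P.map (Ideal.Quotient.mk (maximalIdeal A ^ (N + 1))) := by
      rw [← heq]
      apply Ideal.map_mono
      rw [Finset.inf_insert]
      exact inf_le_left
    calc F.inf id ≤ ((F.inf id).map (Ideal.Quotient.mk (maximalIdeal A ^ (N + 1)))).comap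
          (Ideal.Quotient.mk (maximalIdeal A ^ (N + 1))) := Ideal.le_comap_map
      _ ≤ (P.map (Ideal.Quotient.mk (maximalIdeal A ^ (N + 1)))).comap
          (Ideal.Quotient.mk (maximalIdeal A ^ (N + 1))) := Ideal.comap_mono h1
      _ = P ⊔ maximalIdeal A ^ (N + 1) := by
        rw [Ideal.comap_map_of_surjective _ Ideal.Quotient.mk_surjective,
          ← RingHom.ker_eq_comap_bot, Ideal.mk_ker]
  choose F hFD hFP using key
  let G : ℕ → Finset (Ideal A) := fun k => (Finset.range (k + 1)).biUnion F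
  have hanti : Antitone (fun k => (G k).inf id) := by
    intro k l hkl
    apply Finset.inf_mono
    apply Finset.biUnion_subset_biUnion_of_subset_left
    intro i hi
    rw [Finset.mem_range] at hi ⊢
    omega
  have hbot' : ⨅ k, (G k).inf id = ⊥ := by
    rw [eq_bot_iff]
    intro x hx
    rw [Ideal.mem_bot]
    by_contra hx0
    obtain ⟨P, hPD, hxP⟩ := hbot x hx0
    apply hxP
    rw [← iInf_sup_pow_eq P, Ideal.mem_iInf]
    intro k
    rcases Nat.eq_zero_or_pos k with rfl | hk
    · rw [pow_zero, Ideal.one_eq_top, sup_top_eq]; trivial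
    · obtain ⟨N, rfl⟩ : ∃ N, k = N + 1 := ⟨k - 1, by omega⟩
      rw [Ideal.mem_iInf] at hx
      have h2 : (G N).inf id ≤ (F N).inf id := by
        apply Finset.inf_mono
        intro Q hQ
        exact Finset.mem_biUnion.mpr ⟨N, Finset.mem_range.mpr (by omega), hQ⟩
      exact hFP N P hPD (h2 (hx N))
  obtain ⟨q, hq⟩ := chevalley_general (fun k => (G k).inf id) hanti hbot' n
  refine ⟨G q, fun P hP => ?_, hq⟩
  obtain ⟨i, -, hPi⟩ := Finset.mem_biUnion.mp hP
  exact hFD i P hPi

/-- EGA 0_IV 23.? : in a complete reduced Noetherian local ring that is not a field, finite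
intersections of kernels of finite local homomorphisms to DVRs form a base of neighbourhoods. -/
theorem exists_dvr_family [IsReduced A] (hA : ¬ IsField A) (n : ℕ) :
    ∃ (k : ℕ) (V : Fin k → Type u) (_ : ∀ i, CommRing (V i)) (_ : ∀ i, IsDomain (V i))
      (_ : ∀ i, IsDiscreteValuationRing (V i)) (φ : ∀ i, A →+* V i),
      (∀ i, IsLocalHom (φ i) ∧ (φ i).Finite) ∧
        ⨅ i, RingHom.ker (φ i) ≤ IsLocalRing.maximalIdeal A ^ n := by
  classical
  obtain ⟨F, hFD, hF⟩ := exists_finset_inf_le A {P | IsDimOnePrime A P}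
    (fun x hx => exists_isDimOnePrime_notMem A hA x hx) n
  choose V i1 i2 i3 φ hφ using fun P : {P : Ideal A // IsDimOnePrime A P} =>
    exists_dvr_of_isDimOnePrime A P.1 P.2
  let e := F.equivFin
  let g : Fin F.card → {P : Ideal A // IsDimOnePrime A P} :=
    fun i => ⟨(e.symm i).1, hFD _ (e.symm i).2⟩
  refine ⟨F.card, fun i => V (g i), fun i => i1 (g i), fun i => i2 (g i), fun i => i3 (g i),
    fun i => φ (g i), fun i => ⟨(hφ (g i)).1, (hφ (g i)).2.1⟩, ?_⟩
  refine le_trans ?_ hF
  refine Finset.le_inf ?_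
  intro P hP
  have : g (e ⟨P, hP⟩) = ⟨P, hFD P hP⟩ := by
    simp [g]
  refine (iInf_le _ (e ⟨P, hP⟩)).trans ?_
  show RingHom.ker (φ (g (e ⟨P, hP⟩))) ≤ P
  rw [this, (hφ _).2.2]

end Chev

end Groth.Agent.Lib.Helper73.DVRNbhd
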