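import Mathlib

/-!
# Reflexive modules with `End = S` over one-dimensional rings (helper73)
-/

universe u

set_option autoImplicit false

namespace Groth.Agent.Lib.Helper73.EndRankOne

variable {S : Type u} [CommRing S] {M : Type u} [AddCommGroup M] [Module S M]

/-- The trace ideal of a module. -/
def traceIdeal (S : Type u) [CommRing S] (M : Type u) [AddCommGroup M] [Module S M] : Ideal S :=
  Ideal.span (Set.range fun p : Module.Dual S M × M => p.1 p.2)

theorem apply_mem_traceIdeal (φ : Module.Dual S M) (m : M) : φ m ∈ traceIdeal S M :=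
  Ideal.subset_span ⟨(φ, m), rfl⟩

section Global

variable (hsurj : Function.Surjective (algebraMap S (Module.End S M)))

include hsurj in
/-- Every endomorphism is a homothety. -/
theorem exists_smul_eq (f : Module.End S M) : ∃ s : S, ∀ n : M, f n = s • n := by
  obtain ⟨s, hs⟩ := hsurj f
  exact ⟨s, fun n => by rw [← hs, Module.algebraMap_end_apply]⟩

include hsurj in
/-- `Hom(J, S) = S` for the trace ideal `J` of a reflexive module with `End M = S`. -/
theorem exists_mul_eq_of_linearMap_traceIdeal [Module.IsReflexive S M]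
    (ψ : traceIdeal S M →ₗ[S] S) :
    ∃ r : S, ∀ j : traceIdeal S M, ψ j = r * (j : S) := by
  -- the induced endomorphism of the dual
  let Ψ : Module.Dual S M →ₗ[S] Module.Dual S M :=
    { toFun := fun φ =>
        { toFun := fun m => ψ ⟨φ m, apply_mem_traceIdeal φ m⟩
          map_add' := fun m m' => by
            rw [← map_add]; congr 1; ext; simp
          map_smul' := fun a m => by
            rw [RingHom.id_apply, ← map_smul]; congr 1; ext; simp }
      map_add' := fun φ φ' => by
        ext m
        change ψ _ = ψ _ + ψ _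
        rw [← map_add]; congr 1
      map_smul' := fun a φ => by
        ext m
        change ψ _ = a • ψ _
        rw [← map_smul]; congr 1 }
  have hΨ : ∀ (φ : Module.Dual S M) (m : M), Ψ φ m = ψ ⟨φ m, apply_mem_traceIdeal φ m⟩ :=
    fun _ _ => rfl
  -- the corresponding endomorphism of `M`
  let e : M ≃ₗ[S] Module.Dual S (Module.Dual S M) := Module.evalEquiv S M
  let g : Module.End S M := e.symm.toLinearMap ∘ₗ Ψ.dualMap ∘ₗ e.toLinearMap
  have hg : ∀ (φ : Module.Dual S M) (m : M), φ (g m) = Ψ φ m := by
    intro φ m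
    have h1 : e (g m) = Ψ.dualMap (e m) := by
      change e (e.symm (Ψ.dualMap (e m))) = _
      rw [LinearEquiv.apply_symm_apply]
    have h2 := congrArg (fun ξ : Module.Dual S (Module.Dual S M) => ξ φ) h1
    simpa [e, Module.evalEquiv_apply, Module.Dual.eval_apply, LinearMap.dualMap_apply] using h2
  obtain ⟨r, hr⟩ := exists_smul_eq hsurj g
  refine ⟨r, fun j => ?_⟩
  -- check on generators
  have key : ∀ j : S, ∀ hj : j ∈ traceIdeal S M, ψ ⟨j, hj⟩ = r * j := by
    intro j hj
    induction hj using Submodule.span_induction with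
    | mem x hx =>
      obtain ⟨⟨φ, m⟩, rfl⟩ := hx
      change ψ ⟨φ m, _⟩ = r * φ m
      rw [← hΨ, ← hg, hr, map_smul, smul_eq_mul]
    | zero =>
      have : (⟨0, Submodule.zero_mem _⟩ : traceIdeal S M) = 0 := rfl
      rw [this, map_zero, mul_zero]
    | add x y hx hy ihx ihy =>
      have : (⟨x + y, Submodule.add_mem _ hx hy⟩ : traceIdeal S M) = ⟨x, hx⟩ + ⟨y, hy⟩ := rfl
      rw [this, map_add, ihx, ihy, mul_add]
    | smul a x hx ihx =>
      have : (⟨a • x, Submodule.smul_mem _ a hx⟩ : traceIdeal S M) = a • ⟨x, hx⟩ := rfl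
      rw [this, map_smul, ihx, smul_eq_mul, smul_eq_mul]
      ring
  exact key j.1 j.2

end Global

section NZD

variable [IsNoetherianRing S] [Module.IsReflexive S M]

/-- The trace ideal of a faithful reflexive module over a Noetherian ring contains a
nonzerodivisor. -/
theorem exists_nonZeroDivisor_mem_traceIdeal
    (hinj : Function.Injective (algebraMap S (Module.End S M))) :
    ∃ x ∈ traceIdeal S M, x ∈ nonZeroDivisors S := by
  classical
  by_contra hcon
  push Not at hcon
  have hfin := associatedPrimes.finite S S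
  have hsub : ((traceIdeal S M : Ideal S) : Set S) ⊆
      ⋃ p ∈ ((hfin.toFinset : Finset (Ideal S)) : Set (Ideal S)), ((id p : Ideal S) : Set S) := by
    rw [hfin.coe_toFinset]
    simp only [id]
    rw [biUnion_associatedPrimes_eq_compl_nonZeroDivisors]
    exact fun x hx => hcon x hx
  obtain ⟨p, hp, hJp⟩ := (Ideal.subset_union_prime (s := hfin.toFinset) (f := id) ⊥ ⊥
    (fun i hi _ _ => by
      rw [Set.Finite.mem_toFinset] at hi
      exact hi.isPrime)).mp hsub
  rw [Set.Finite.mem_toFinset] at hp
  obtain ⟨hpprime, a, ha⟩ := isAssociatedPrime_iff.mp hp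
  have hmem : ∀ r : S, r ∈ p ↔ r * a = 0 := by
    intro r
    rw [ha, Submodule.mem_colon_singleton, Submodule.mem_bot, smul_eq_mul]
  have haM : ∀ m : M, a • m = 0 := by
    intro m
    apply (Module.bijective_dual_eval S M).1
    ext φ
    rw [Module.Dual.eval_apply, map_zero, LinearMap.zero_apply, map_smul, smul_eq_mul, mul_comm]
    exact (hmem _).mp (hJp (apply_mem_traceIdeal φ m))
  have ha0 : a = 0 := by
    apply hinj
    ext m
    rw [Module.algebraMap_end_apply, map_zero, LinearMap.zero_apply]
    exact haM m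
  apply hpprime.ne_top
  rw [Ideal.eq_top_iff_one, hmem, ha0, mul_zero]

end NZD

section Top

variable [IsNoetherianRing S] [Module.IsReflexive S M]

/-- Over a Noetherian ring of dimension at most one, a reflexive module with `End M = S` has unit
trace ideal. -/
theorem traceIdeal_eq_top (hdim : ringKrullDim S ≤ 1)
    (hbij : Function.Bijective (algebraMap S (Module.End S M))) : traceIdeal S M = ⊤ := by
  classical
  by_contra hne
  obtain ⟨P, hPmax, hJP⟩ := Ideal.exists_le_maximal _ hne
  have hPprime : P.IsPrime := hPmax.isPrime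
  obtain ⟨x, hxJ, hx⟩ := exists_nonZeroDivisor_mem_traceIdeal (M := M) hbij.1
  have hxP : x ∈ P := hJP hxJ
  -- `P` is minimal over `(x)`
  have hmin : P ∈ (Ideal.span {x}).minimalPrimes := by
    refine ⟨⟨hPprime, (Ideal.span_singleton_le_iff_mem _).mpr hxP⟩, ?_⟩
    rintro Q ⟨hQprime, hxQ⟩ hQP
    by_contra hPQ
    have hQP' : Q < P := lt_of_le_of_ne hQP (fun h => hPQ h.ge)
    obtain ⟨Q', hQ'min, hQ'Q⟩ := Ideal.exists_minimalPrimes_le (bot_le : (⊥ : Ideal S) ≤ Q)
    have hQ'prime : Q'.IsPrime := hQ'min.1.1
    have hxQ' : x ∉ Q' := fun h =>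
      notMem_nonZeroDivisors_of_mem_mem_minimalPrimes h hQ'min hx
    have hQ'lt : Q' < Q := lt_of_le_of_ne hQ'Q (fun h =>
      hxQ' (h ▸ (Ideal.span_singleton_le_iff_mem _).mp hxQ))
    have h1 : Q'.height < Q.height := Ideal.height_strict_mono_of_isPrime_of_isPrime hQ'lt
    have h2 : Q.height < P.height := Ideal.height_strict_mono_of_isPrime_of_isPrime hQP'
    have h3 : (P.height : WithBot ℕ∞) ≤ 1 :=
      (Ideal.height_le_ringKrullDim_of_ne_top hPprime.ne_top).trans hdim
    have h3' : P.height ≤ 1 := by exact_mod_cast h3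
    have h4 : Q.height < 1 := lt_of_lt_of_le h2 h3'
    rw [Order.lt_one_iff] at h4
    rw [h4] at h1
    exact not_lt_zero h1
  -- hence associated to `S/(x)`
  have hass : P ∈ associatedPrimes S (S ⧸ Ideal.span {x}) := by
    apply Module.associatedPrimes.minimalPrimes_annihilator_subset_associatedPrimes S
      (S ⧸ Ideal.span {x})
    rwa [Ideal.annihilator_quotient]
  obtain ⟨-, ybar, hy⟩ := isAssociatedPrime_iff.mp hass
  obtain ⟨y, rfl⟩ := Ideal.Quotient.mk_surjective ybar
  have hmem : ∀ r : S, r ∈ P ↔ x ∣ r * y := by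
    intro r
    rw [hy, Submodule.mem_colon_singleton, Submodule.mem_bot]
    change r • Submodule.Quotient.mk y = 0 ↔ _
    rw [← Submodule.Quotient.mk_smul, Submodule.Quotient.mk_eq_zero, smul_eq_mul,
      Ideal.mem_span_singleton]
  have hynot : ¬ x ∣ y := by
    intro h
    apply hPprime.ne_top
    rw [Ideal.eq_top_iff_one, hmem, one_mul]
    exact h
  -- the homomorphism `j ↦ y j / x`
  have hex : ∀ j : traceIdeal S M, ∃ r : S, (j : S) * y = x * r := fun j =>
    (hmem _).mp (hJP j.2)
  choose ψ₀ hψ₀ using hex
  have hcancel : ∀ {a b : S}, x * a = x * b → a = b := fun h =>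
    (mul_cancel_left_mem_nonZeroDivisors hx).mp h
  let ψ : traceIdeal S M →ₗ[S] S :=
    { toFun := ψ₀
      map_add' := fun j j' => by
        apply hcancel
        rw [← hψ₀, mul_add, ← hψ₀, ← hψ₀, Submodule.coe_add, add_mul]
      map_smul' := fun a j => by
        apply hcancel
        rw [← hψ₀, RingHom.id_apply, smul_eq_mul, mul_left_comm, ← hψ₀, Submodule.coe_smul,
          smul_eq_mul, mul_assoc] }
  obtain ⟨r₀, hr₀⟩ := exists_mul_eq_of_linearMap_traceIdeal hbij.2 ψ
  apply hynot
  have h5 := hψ₀ ⟨x, hxJ⟩
  have h6 : ψ₀ ⟨x, hxJ⟩ = r₀ * x := hr₀ ⟨x, hxJ⟩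
  rw [h6] at h5
  have h7 : y = r₀ * x := hcancel h5
  exact ⟨r₀, by rw [h7, mul_comm]⟩

end Top

section Local

/-- A module with `End M = S` and unit trace ideal is locally free of rank one. -/
theorem nonempty_linearEquiv_of_traceIdeal_eq_top
    (hsurj : Function.Surjective (algebraMap S (Module.End S M)))
    (htop : traceIdeal S M = ⊤) (P : Ideal S) [hP : P.IsPrime] :
    Nonempty (LocalizedModule P.primeCompl M ≃ₗ[Localization.AtPrime P]
      Localization.AtPrime P) := by
  -- a pair `φ, m` with `φ m ∉ P`
  obtain ⟨φ, m, hu⟩ : ∃ (φ : Module.Dual S M) (m : M), φ m ∉ P := by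
    by_contra hcon
    push Not at hcon
    apply hP.ne_top
    rw [eq_top_iff, ← htop]
    unfold traceIdeal
    rw [Ideal.span_le]
    rintro _ ⟨⟨φ, m⟩, rfl⟩
    exact hcon φ m
  obtain ⟨s, hs⟩ := exists_smul_eq hsurj (φ.smulRight m)
  have hs' : ∀ n : M, φ n • m = s • n := fun n => by rw [← hs, LinearMap.smulRight_apply]
  have hsP : s ∉ P := by
    intro hsP
    have h1 := congrArg φ (hs' m)
    rw [map_smul, map_smul, smul_eq_mul, smul_eq_mul] at h1
    have h2 : φ m * φ m ∈ P := by rw [h1]; exact P.mul_mem_right _ hsP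
    exact hu ((hP.mem_or_mem h2).elim id id)
  -- the localized functional
  let g : M →ₗ[S] Localization.AtPrime P := (Algebra.linearMap S (Localization.AtPrime P)) ∘ₗ φ
  have hunit : ∀ x : P.primeCompl,
      IsUnit (algebraMap S (Module.End S (Localization.AtPrime P)) x) := by
    intro x
    rw [Module.End.isUnit_iff]
    have hx : IsUnit (algebraMap S (Localization.AtPrime P) x) := IsLocalization.map_units _ x
    constructor
    · intro a b hab
      rw [Module.algebraMap_end_apply, Module.algebraMap_end_apply, Algebra.smul_def,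
        Algebra.smul_def] at hab
      exact hx.mul_left_cancel hab
    · intro b
      obtain ⟨c, hc⟩ := hx.exists_right_inv
      refine ⟨c * b, ?_⟩
      rw [Module.algebraMap_end_apply, Algebra.smul_def, ← mul_assoc, hc, one_mul]
  let α₀ : LocalizedModule P.primeCompl M →ₗ[S] Localization.AtPrime P :=
    LocalizedModule.lift P.primeCompl g hunit
  have hα₀ : ∀ n : M, α₀ (LocalizedModule.mk n 1) = algebraMap S (Localization.AtPrime P) (φ n) :=
    fun n => LocalizedModule.lift_mk_one (S := P.primeCompl) (g := g) hunit n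
  let α : LocalizedModule P.primeCompl M →ₗ[Localization.AtPrime P] Localization.AtPrime P :=
    α₀.extendScalarsOfIsLocalization P.primeCompl (Localization.AtPrime P)
  have hα : ∀ z, α z = α₀ z := fun _ => rfl
  have hinj : Function.Injective α := by
    rw [injective_iff_map_eq_zero]
    intro z hz
    induction z using LocalizedModule.induction_on with
    | h n t =>
      have h1 : (t : S) • (LocalizedModule.mk n t : LocalizedModule P.primeCompl M) =
          LocalizedModule.mk n 1 := by
        rw [LocalizedModule.smul'_mk]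
        exact LocalizedModule.mk_cancel t n
      have h2 : α₀ (LocalizedModule.mk n 1) = 0 := by
        rw [← h1, map_smul, ← hα, hz, smul_zero]
      rw [hα₀, IsLocalization.map_eq_zero_iff P.primeCompl] at h2
      obtain ⟨v, hv⟩ := h2
      have h3 : ((v : S) * s) • n = 0 := by
        rw [mul_smul, ← hs', smul_smul, hv, zero_smul]
      have hvs : (v : S) * s ∈ P.primeCompl := mul_mem v.2 hsP
      rw [← LocalizedModule.zero_mk (1 : P.primeCompl), LocalizedModule.mk_eq]
      refine ⟨⟨_, hvs⟩, ?_⟩
      rw [smul_zero, one_smul]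
      exact h3.trans (smul_zero _).symm
  have hsurj' : Function.Surjective α := by
    have hunit' : IsUnit (algebraMap S (Localization.AtPrime P) (φ m)) :=
      IsLocalization.map_units _ (⟨φ m, hu⟩ : P.primeCompl)
    obtain ⟨c, hc⟩ := hunit'.exists_left_inv
    intro b
    refine ⟨(b * c) • LocalizedModule.mk m 1, ?_⟩
    rw [map_smul, hα, hα₀, smul_eq_mul, mul_assoc, hc, mul_one]
  exact ⟨LinearEquiv.ofBijective α ⟨hinj, hsurj'⟩⟩

end Local

section Converse

variable (hloc : ∀ (P : Ideal S) (_ : P.IsPrime),
  Nonempty (LocalizedModule P.primeCompl M ≃ₗ[Localization.AtPrime P] Localization.AtPrime P))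

include hloc in
theorem injective_algebraMap_end_of_locallyFree :
    Function.Injective (algebraMap S (Module.End S M)) := by
  rw [injective_iff_map_eq_zero]
  intro s hs
  apply eq_zero_of_localization
  intro P hP
  have hPp : P.IsPrime := hP.isPrime
  obtain ⟨e⟩ := hloc P hPp
  have h1 : ∀ z : LocalizedModule P.primeCompl M, s • z = 0 := by
    intro z
    induction z using LocalizedModule.induction_on with
    | h n t =>
      rw [LocalizedModule.smul'_mk]
      have : s • n = 0 := by
        have := congrArg (fun f : Module.End S M => f n) hs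
        simpa [Module.algebraMap_end_apply] using this
      rw [this, LocalizedModule.zero_mk]
  have h2 := congrArg e (h1 (e.symm 1))
  rw [map_zero, ← algebraMap_smul (Localization.AtPrime P) s, map_smul,
    LinearEquiv.apply_symm_apply, smul_eq_mul, mul_one] at h2
  exact h2

include hloc in
theorem surjective_algebraMap_end_of_locallyFree [Module.Finite S M] :
    Function.Surjective (algebraMap S (Module.End S M)) := by
  classical
  intro f
  -- the conductor ideal of `f`
  let I : Ideal S := (LinearMap.range (Algebra.linearMap S (Module.End S M))).colon {f}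
  suffices hI : I = ⊤ by
    have h1 : (1 : S) ∈ I := by rw [hI]; exact Submodule.mem_top
    rw [Submodule.mem_colon_singleton, one_smul] at h1
    obtain ⟨a, ha⟩ := h1
    exact ⟨a, ha⟩
  by_contra hne
  obtain ⟨P, hPmax, hIP⟩ := Ideal.exists_le_maximal _ hne
  have hPp : P.IsPrime := hPmax.isPrime
  obtain ⟨e⟩ := hloc P hPp
  -- the localization of `f` is a homothety
  let fP : LocalizedModule P.primeCompl M →ₗ[Localization.AtPrime P]
      LocalizedModule P.primeCompl M := LocalizedModule.map P.primeCompl f
  let c : Localization.AtPrime P := e (fP (e.symm 1))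
  have hc : ∀ z, fP z = c • z := by
    intro z
    have hz : z = e z • e.symm 1 := by
      rw [← map_smul, smul_eq_mul, mul_one, LinearEquiv.symm_apply_apply]
    have h1 : c • e.symm 1 = fP (e.symm 1) := by
      rw [← map_smul, smul_eq_mul, mul_one, LinearEquiv.symm_apply_apply]
    conv_lhs => rw [hz]
    rw [map_smul, ← h1, smul_comm, ← hz]
  obtain ⟨a, t, hat⟩ := IsLocalization.exists_mk'_eq P.primeCompl c
  -- `t f - a` is killed by some `u ∉ P` on each element
  have hkey : ∀ n : M, ∃ u : P.primeCompl, (u : S) • ((t : S) • f n - a • n) = 0 := by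
    intro n
    have h1 : fP (LocalizedModule.mk n 1) = LocalizedModule.mk (f n) 1 :=
      LocalizedModule.map_mk _ _ _ _
    have h2 : (t : S) • fP (LocalizedModule.mk n 1) = a • LocalizedModule.mk n 1 := by
      rw [hc, ← algebraMap_smul (Localization.AtPrime P) (t : S),
        ← algebraMap_smul (Localization.AtPrime P) a, smul_smul, ← hat, mul_comm,
        IsLocalization.mk'_spec]
    rw [h1, LocalizedModule.smul'_mk, LocalizedModule.smul'_mk, LocalizedModule.mk_eq] at h2
    obtain ⟨u, hu⟩ := h2
    refine ⟨u, ?_⟩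
    rw [smul_sub]
    rw [one_smul, one_smul] at hu
    exact sub_eq_zero.mpr hu
  choose u hu using hkey
  obtain ⟨G, hG⟩ := (Module.Finite.fg_top (R := S) (M := M))
  let w : S := ∏ n ∈ G, (u n : S)
  have hwP : w ∉ P := by
    intro hw
    obtain ⟨n, -, hn⟩ := (hPp.prod_mem_iff).mp hw
    exact (u n).2 hn
  have hw : ∀ n ∈ G, w • ((t : S) • f n - a • n) = 0 := by
    intro n hn
    have : w = (∏ n' ∈ G.erase n, (u n' : S)) * (u n : S) := by
      rw [Finset.prod_erase_mul G _ hn]
    rw [this, mul_smul, hu, smul_zero]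
  have hall : (w * (t : S)) • f = (w * a) • (1 : Module.End S M) := by
    apply LinearMap.ext_on_range (v := fun n : G => (n : M))
    · rw [Subtype.range_coe_subtype]
      exact hG
    · intro n
      have := hw n n.2
      rw [smul_sub, sub_eq_zero] at this
      rw [LinearMap.smul_apply, LinearMap.smul_apply, Module.End.one_apply, mul_smul, mul_smul]
      exact this
  have hmem : w * (t : S) ∈ I := by
    rw [Submodule.mem_colon_singleton]
    refine ⟨w * a, ?_⟩
    rw [Algebra.linearMap_apply, hall, Algebra.algebraMap_eq_smul_one]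
  exact (hPp.mem_or_mem (hIP hmem)).elim hwP t.2

end Converse

end Groth.Agent.Lib.Helper73.EndRankOne
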