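import Groth.Agent.Lib.Helper73.BE3
import Groth.Prelude.Def_W4c1famcyclesFFR

/-!
# Determinant of an endomorphism of a module with a finite free resolution (helper73)

* `charpoly_prod_triangular`, `charpoly_of_exact`: multiplicativity of characteristic polynomials
  in short exact sequences of finite free modules.
* `charpoly_map`: characteristic polynomials commute with localisation.
* `free_of_exact_of_depth_zero`: over a local ring of depth zero, the cokernel of an injective
  map of finite free modules is free.
* `free_localization_of_ffr`: modules with a finite free resolution are free at the associated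
  primes of a Noetherian ring.
* `exists_charpoly`: the characteristic polynomial of an endomorphism of a module with a finite
  free resolution.
-/

set_option autoImplicit false
universe u

open Module Polynomial

namespace Groth.Agent.Lib.Helper73.FFRDet

section LinAlg

variable {R : Type*} [CommRing R]
variable {K F M : Type*} [AddCommGroup K] [Module R K] [Module.Free R K] [Module.Finite R K]
  [AddCommGroup M] [Module R M] [Module.Free R M] [Module.Finite R M]
  [AddCommGroup F] [Module R F] [Module.Free R F] [Module.Finite R F]

/-- Characteristic polynomial of a block-triangular endomorphism of a product. -/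
theorem charpoly_prod_triangular (Ψ : K × M →ₗ[R] K × M) (α : K →ₗ[R] K) (φ : M →ₗ[R] M)
    (h1 : ∀ k, Ψ (k, 0) = (α k, 0)) (h2 : ∀ m, (Ψ (0, m)).2 = φ m) :
    Ψ.charpoly = α.charpoly * φ.charpoly := by
  classical
  let b₁ := Module.Free.chooseBasis R K
  let b₂ := Module.Free.chooseBasis R M
  let b := b₁.prod b₂
  rw [← LinearMap.charpoly_toMatrix α b₁, ← LinearMap.charpoly_toMatrix φ b₂,
    ← LinearMap.charpoly_toMatrix Ψ b]
  have hM : LinearMap.toMatrix b b Ψ =
      Matrix.fromBlocks (LinearMap.toMatrix b₁ b₁ α) (LinearMap.toMatrix b b Ψ).toBlocks₁₂ 0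
        (LinearMap.toMatrix b₂ b₂ φ) := by
    conv_lhs => rw [← Matrix.fromBlocks_toBlocks (LinearMap.toMatrix b b Ψ)]
    congr 1
    · ext i j
      simp only [Matrix.toBlocks₁₁, Matrix.of_apply, LinearMap.toMatrix_apply, b,
        Basis.prod_apply, Basis.prod_repr_inl]
      simp [h1]
    · ext i j
      simp only [Matrix.toBlocks₂₁, Matrix.of_apply, LinearMap.toMatrix_apply, b,
        Basis.prod_apply, Basis.prod_repr_inr]
      simp [h1]
    · ext i j
      simp only [Matrix.toBlocks₂₂, Matrix.of_apply, LinearMap.toMatrix_apply, b,
        Basis.prod_apply, Basis.prod_repr_inr]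
      simp [h2]
  rw [hM, Matrix.charpoly_fromBlocks_zero₂₁]

/-- Characteristic polynomials are multiplicative in short exact sequences of finite free
modules. -/
theorem charpoly_of_exact (i : K →ₗ[R] F) (f : F →ₗ[R] M) (hi : Function.Injective i)
    (hf : Function.Surjective f) (hex : Function.Exact i f)
    (α : K →ₗ[R] K) (ψ : F →ₗ[R] F) (φ : M →ₗ[R] M)
    (h1 : ∀ k, ψ (i k) = i (α k)) (h2 : ∀ x, f (ψ x) = φ (f x)) :
    ψ.charpoly = α.charpoly * φ.charpoly := by
  obtain ⟨l, hl⟩ := Module.projective_lifting_property f LinearMap.id hf
  obtain ⟨e, he1, he2⟩ := hex.splitSurjectiveEquiv hi ⟨l, hl⟩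
  rw [← LinearEquiv.charpoly_conj e ψ]
  have h3 : ∀ k, e.symm (k, 0) = i k := by
    intro k
    rw [he1]; rfl
  have h4 : ∀ x, (e x).2 = f x := by
    intro x
    rw [he2]; rfl
  refine charpoly_prod_triangular _ α φ ?_ ?_
  · intro k
    rw [LinearEquiv.conj_apply_apply, h3, h1, ← h3, LinearEquiv.apply_symm_apply]
  · intro m
    rw [LinearEquiv.conj_apply_apply, h4, h2, ← h4, LinearEquiv.apply_symm_apply]

end LinAlg

section Loc

variable {A : Type*} [CommRing A] (S : Submonoid A)
variable {F G H : Type*} [AddCommGroup F] [Module A F] [AddCommGroup G] [Module A G]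
  [AddCommGroup H] [Module A H]

theorem map_comp (g : F →ₗ[A] G) (h : G →ₗ[A] H) :
    LocalizedModule.map S (h ∘ₗ g) = LocalizedModule.map S h ∘ₗ LocalizedModule.map S g := by
  refine LinearMap.ext fun x => ?_
  induction x using LocalizedModule.induction_on with
  | h m s => simp [LocalizedModule.map_mk]

theorem map_exact (g : F →ₗ[A] G) (h : G →ₗ[A] H) (ex : Function.Exact g h) :
    Function.Exact (LocalizedModule.map S g) (LocalizedModule.map S h) :=
  LocalizedModule.map_exact S g h ex

theorem charpoly_map [Module.Free A F] [Module.Finite A F]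
    [Module.Free (Localization S) (LocalizedModule S F)] (ψ : F →ₗ[A] F) :
    (LocalizedModule.map S ψ).charpoly = ψ.charpoly.map (algebraMap A (Localization S)) := by
  classical
  let b := Module.Free.chooseBasis A F
  let b' := b.ofIsLocalizedModule (Localization S) S (LocalizedModule.mkLinearMap S F)
  rw [← LinearMap.charpoly_toMatrix ψ b, ← LinearMap.charpoly_toMatrix (LocalizedModule.map S ψ) b',
    ← Matrix.charpoly_map]
  congr 1
  ext i j
  rw [LinearMap.toMatrix_apply, Matrix.map_apply, LinearMap.toMatrix_apply,
    Basis.ofIsLocalizedModule_apply, LocalizedModule.mkLinearMap_apply, LocalizedModule.map_mk,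
    ← LocalizedModule.mkLinearMap_apply, Basis.ofIsLocalizedModule_repr_apply]

end Loc

section DepthZero

variable {R : Type u} [CommRing R] [IsLocalRing R]
variable {K F M : Type u} [AddCommGroup K] [Module R K] [Module.Free R K] [Module.Finite R K]
  [AddCommGroup F] [Module R F] [Module.Free R F] [Module.Finite R F]
  [AddCommGroup M] [Module R M]

/-- Over a local ring of depth zero, an injective map of finite free modules has a complemented
range. -/
theorem exists_isCompl_range_of_depth_zero (y : R) (hy : y ≠ 0)
    (hmy : ∀ a ∈ IsLocalRing.maximalIdeal R, a * y = 0)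
    (j : K →ₗ[R] F) (hj : Function.Injective j) :
    ∃ N' : Submodule R F, IsCompl (LinearMap.range j) N' := by
  classical
  let eK := (Module.finBasis R K).equivFun
  let eF := (Module.finBasis R F).equivFun
  set r := Module.finrank R K with hr
  set k := Module.finrank R F with hk
  let j' : (Fin r → R) →ₗ[R] (Fin k → R) := eF.toLinearMap ∘ₗ j ∘ₗ eK.symm.toLinearMap
  have hj' : Function.Injective j' := by
    intro a b hab
    exact eK.symm.injective (hj (eF.injective hab))
  let D : Matrix (Fin k) (Fin r) R := LinearMap.toMatrix' j'
  have hD : D.mulVecLin = j' := by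
    rw [← Matrix.toLin'_apply', Matrix.toLin'_toMatrix']
  have hex : LinearMap.ker D.mulVecLin =
      LinearMap.range (0 : Matrix (Fin r) (Fin 0) R).mulVecLin := by
    rw [BE.mulVecLin_zero', LinearMap.range_zero, hD, LinearMap.ker_eq_bot]
    exact hj'
  obtain ⟨r', -, N'', hc, -⟩ := BE.splitRk_of_exact_of_depth_zero y hy hmy D
    (0 : Matrix (Fin r) (Fin 0) R) hex BE.splitRk_zero_matrix
  rw [hD] at hc
  refine ⟨(Submodule.orderIsoMapComap eF).symm N'', ?_⟩
  have h1 := (Submodule.orderIsoMapComap eF).symm.isCompl hc
  have h2 : (Submodule.orderIsoMapComap eF).symm (LinearMap.range j') = LinearMap.range j := by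
    rw [Submodule.orderIsoMapComap_symm_apply']
    ext x
    simp only [Submodule.mem_map, LinearMap.mem_range]
    constructor
    · rintro ⟨_, ⟨v, rfl⟩, rfl⟩
      exact ⟨eK.symm v, by simp [j']⟩
    · rintro ⟨v, rfl⟩
      exact ⟨_, ⟨eK v, rfl⟩, by simp [j']⟩
  rw [h2] at h1
  exact h1

/-- Over a local ring of depth zero, the cokernel of an injective map of finite free modules is
free. -/
theorem free_of_exact_of_depth_zero (y : R) (hy : y ≠ 0)
    (hmy : ∀ a ∈ IsLocalRing.maximalIdeal R, a * y = 0)
    (i : K →ₗ[R] F) (f : F →ₗ[R] M) (hi : Function.Injective i)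
    (hf : Function.Surjective f) (hex : Function.Exact i f) : Module.Free R M := by
  obtain ⟨N', hc⟩ := exists_isCompl_range_of_depth_zero y hy hmy i hi
  haveI := BE.free_of_isCompl hc.symm
  have hker : LinearMap.ker f = LinearMap.range i := hex.linearMap_ker_eq
  let e1 : (F ⧸ LinearMap.ker f) ≃ₗ[R] M := f.quotKerEquivOfSurjective hf
  let e2 : (F ⧸ LinearMap.ker f) ≃ₗ[R] (F ⧸ LinearMap.range i) := Submodule.quotEquivOfEq _ _ hker
  let e3 : (F ⧸ LinearMap.range i) ≃ₗ[R] N' := Submodule.quotientEquivOfIsCompl _ _ hc
  exact Module.Free.of_equiv (e3.symm.trans (e2.symm.trans e1))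

omit [Module.Free R K] in
/-- In a split short exact sequence over a local ring with free middle term, the kernel is
free. -/
theorem free_of_exact_of_projective [Module.Projective R M]
    (i : K →ₗ[R] F) (f : F →ₗ[R] M) (hi : Function.Injective i)
    (hf : Function.Surjective f) (hex : Function.Exact i f) : Module.Free R K := by
  obtain ⟨l, hl⟩ := Module.projective_lifting_property f LinearMap.id hf
  obtain ⟨e, he1, he2⟩ := hex.splitSurjectiveEquiv hi ⟨l, hl⟩
  haveI : Module.Projective R K := by
    refine Module.Projective.of_split i ((LinearMap.fst R K M) ∘ₗ e.toLinearMap) ?_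
    refine LinearMap.ext fun k => ?_
    have : i k = e.symm (k, 0) := by rw [he1]; rfl
    simp [this]
  exact Module.free_of_flat_of_isLocalRing

end DepthZero

variable {A : Type u} [CommRing A]

theorem finite_of_ffr (n : ℕ) (M : Type u) [AddCommGroup M] [Module A M]
    (hM : FamCyc.HasFiniteFreeResolutionLE A n M) : Module.Finite A M := by
  cases n with
  | zero => exact hM.2
  | succ n =>
    obtain ⟨k, f, hf, -⟩ := hM
    exact Module.Finite.of_surjective f hf

theorem free_localizedModule (S : Submonoid A) (F : Type u) [AddCommGroup F] [Module A F]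
    [Module.Free A F] : Module.Free (Localization S) (LocalizedModule S F) :=
  Module.free_of_isLocalizedModule S (LocalizedModule.mkLinearMap S F)

variable [IsNoetherianRing A]

/-- A module with a finite free resolution is free at every associated prime of the ring. -/
theorem free_localization_of_ffr (n : ℕ) : ∀ (M : Type u) [AddCommGroup M] [Module A M],
    FamCyc.HasFiniteFreeResolutionLE A n M → ∀ (P : Ideal A) [P.IsPrime],
      P ∈ associatedPrimes A A →
      Module.Free (Localization.AtPrime P) (LocalizedModule P.primeCompl M) := by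
  induction n with
  | zero =>
    intro M _ _ hM P _ _
    haveI := hM.1
    exact free_localizedModule _ _
  | succ n ih =>
    intro M _ _ hM P _ hP
    obtain ⟨k, f, hf, hK⟩ := hM
    haveI := ih _ hK P hP
    haveI := free_localizedModule P.primeCompl (Fin k → A)
    obtain ⟨y, hy, hmy⟩ := BE.exists_depth_zero_witness P hP
    have hex := map_exact P.primeCompl _ _ (LinearMap.exact_subtype_ker_map f)
    have hinj := LocalizedModule.map_injective P.primeCompl _
      (Submodule.subtype_injective (LinearMap.ker f))
    have hsurj := LocalizedModule.map_surjective P.primeCompl _ hf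
    exact free_of_exact_of_depth_zero y hy hmy _ _ hinj hsurj hex

variable {A : Type u} [CommRing A] [IsNoetherianRing A]

section Step

variable {M : Type u} [AddCommGroup M] [Module A M] [Module.Finite A M]
  {k : ℕ} (f : (Fin k → A) →ₗ[A] M) (hf : Function.Surjective f)
  (p : Ideal A) [p.IsPrime]
  [Module.Free (Localization.AtPrime p) (LocalizedModule p.primeCompl M)]

include hf in
theorem free_ker_localization :
    Module.Free (Localization.AtPrime p) (LocalizedModule p.primeCompl (LinearMap.ker f)) := by
  haveI := free_localizedModule p.primeCompl (Fin k → A)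
  have hex := map_exact p.primeCompl _ _ (LinearMap.exact_subtype_ker_map f)
  have hinj := LocalizedModule.map_injective p.primeCompl _
    (Submodule.subtype_injective (LinearMap.ker f))
  have hsurj := LocalizedModule.map_surjective p.primeCompl _ hf
  exact free_of_exact_of_projective _ _ hinj hsurj hex

include hf in
theorem charpoly_factor
    [Module.Free (Localization.AtPrime p) (LocalizedModule p.primeCompl (LinearMap.ker f))]
    (φ : M →ₗ[A] M) (ψ : (Fin k → A) →ₗ[A] (Fin k → A)) (hψ : f ∘ₗ ψ = φ ∘ₗ f)
    (α : LinearMap.ker f →ₗ[A] LinearMap.ker f)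
    (hα : (LinearMap.ker f).subtype ∘ₗ α = ψ ∘ₗ (LinearMap.ker f).subtype) :
    ψ.charpoly.map (algebraMap A (Localization.AtPrime p)) =
      LinearMap.charpoly (R := Localization.AtPrime p)
          (M := LocalizedModule p.primeCompl (LinearMap.ker f))
          (LocalizedModule.map p.primeCompl α) *
        (LocalizedModule.map p.primeCompl φ).charpoly := by
  haveI := free_localizedModule p.primeCompl (Fin k → A)
  have hex := map_exact p.primeCompl _ _ (LinearMap.exact_subtype_ker_map f)
  have hinj := LocalizedModule.map_injective p.primeCompl _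
    (Submodule.subtype_injective (LinearMap.ker f))
  have hsurj := LocalizedModule.map_surjective p.primeCompl _ hf
  rw [← charpoly_map]
  refine charpoly_of_exact _ _ hinj hsurj hex _ _ _ ?_ ?_
  · intro x
    have := LinearMap.congr_fun ((map_comp p.primeCompl _ _).symm.trans
      ((congrArg (LocalizedModule.map p.primeCompl) hα).trans (map_comp p.primeCompl _ _))) x
    exact this.symm
  · intro x
    have := LinearMap.congr_fun ((map_comp p.primeCompl _ _).symm.trans
      ((congrArg (LocalizedModule.map p.primeCompl) hψ).trans (map_comp p.primeCompl _ _))) x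
    exact this

end Step

variable {A : Type u} [CommRing A] [IsNoetherianRing A]

/-- A polynomial vanishing at all associated primes is zero. -/
theorem poly_eq_zero_of_forall_associatedPrimes (r : A[X])
    (h : ∀ (P : Ideal A) [P.IsPrime], P ∈ associatedPrimes A A →
      r.map (algebraMap A (Localization.AtPrime P)) = 0) : r = 0 := by
  ext n
  rw [coeff_zero]
  refine BE.eq_zero_of_forall_associatedPrimes _ fun P hP => ?_
  haveI := hP.isPrime
  have := congrArg (fun q => q.coeff n) (h P hP)
  simpa [coeff_map] using this

theorem exists_charpoly (n : ℕ) : ∀ (M : Type u) [AddCommGroup M] [Module A M]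
    [Module.Finite A M], FamCyc.HasFiniteFreeResolutionLE A n M → ∀ φ : M →ₗ[A] M,
      ∃ χ : A[X], χ.Monic ∧ ∀ (p : Ideal A) [p.IsPrime]
        [Module.Free (Localization.AtPrime p) (LocalizedModule p.primeCompl M)],
        χ.map (algebraMap A (Localization.AtPrime p)) =
          LinearMap.charpoly (R := Localization.AtPrime p)
            (M := LocalizedModule p.primeCompl M) (LocalizedModule.map p.primeCompl φ) := by
  induction n with
  | zero =>
    intro M _ _ _ hM φ
    haveI := hM.1
    refine ⟨φ.charpoly, LinearMap.charpoly_monic φ, ?_⟩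
    intro p _ _
    rw [charpoly_map]
  | succ n ih =>
    intro M _ _ _ hM φ
    have hM' := hM
    obtain ⟨k, f, hf, hK⟩ := hM
    obtain ⟨ψ, hψ⟩ := Module.projective_lifting_property f (φ ∘ₗ f) hf
    have hmem : ∀ x ∈ LinearMap.ker f, ψ x ∈ LinearMap.ker f := by
      intro x hx
      rw [LinearMap.mem_ker] at hx ⊢
      have := LinearMap.congr_fun hψ x
      simp only [LinearMap.comp_apply] at this
      rw [this, hx, map_zero]
    let α : LinearMap.ker f →ₗ[A] LinearMap.ker f := ψ.restrict hmem
    have hα : (LinearMap.ker f).subtype ∘ₗ α = ψ ∘ₗ (LinearMap.ker f).subtype := by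
      refine LinearMap.ext fun x => ?_
      rfl
    obtain ⟨χK, hχKm, hχK⟩ := ih (LinearMap.ker f) hK α
    have key : ∀ (p : Ideal A) [p.IsPrime]
        [Module.Free (Localization.AtPrime p) (LocalizedModule p.primeCompl M)],
        ψ.charpoly.map (algebraMap A (Localization.AtPrime p)) =
          χK.map (algebraMap A (Localization.AtPrime p)) *
            LinearMap.charpoly (R := Localization.AtPrime p)
              (M := LocalizedModule p.primeCompl M) (LocalizedModule.map p.primeCompl φ) := by
      intro p _ _
      haveI := free_ker_localization f hf p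
      rw [hχK p]
      exact charpoly_factor f hf p φ ψ hψ α hα
    have hdvd : χK ∣ ψ.charpoly := by
      rw [← Polynomial.modByMonic_eq_zero_iff_dvd hχKm]
      refine poly_eq_zero_of_forall_associatedPrimes _ fun P _ hP => ?_
      haveI := free_localization_of_ffr (n + 1) M hM' P hP
      rw [Polynomial.map_modByMonic _ hχKm, Polynomial.modByMonic_eq_zero_iff_dvd (hχKm.map _),
        key P]
      exact dvd_mul_right _ _
    obtain ⟨χ, hχ⟩ := hdvd
    have hχm : χ.Monic := by
      refine Polynomial.Monic.of_mul_monic_left hχKm ?_
      rw [← hχ]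
      exact LinearMap.charpoly_monic ψ
    refine ⟨χ, hχm, ?_⟩
    intro p _ _
    have h1 := key p
    rw [hχ, Polynomial.map_mul] at h1
    exact (hχKm.map _).isRegular.left h1

end Groth.Agent.Lib.Helper73.FFRDet
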