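import Mathlib
import Groth.Agent.Lib.Helper93.DepthFlat

universe u

set_option maxSynthPendingDepth 3

open RingTheory.Sequence IsLocalRing

namespace Groth.Agent.Lib.Helper73.FibreRegular

open Groth.Agent.Lib.Helper93.DepthFlat

variable {R S : Type u} [CommRing R] [CommRing S] [Algebra R S] [IsLocalRing R] [IsLocalRing S]
  [IsNoetherianRing S] [IsLocalHom (algebraMap R S)]

/-- A sequence that is regular on the closed fibre `N/𝔪_R N` of a finite `S`-module `N` flat
over `R` is regular on `N`. -/
theorem isWeaklyRegular_of_fibre (rs : List S) :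
    ∀ (N : Type u) [AddCommGroup N] [Module S N] [Module R N] [IsScalarTower R S N]
      [Module.Finite S N] [Module.Flat R N],
      IsWeaklyRegular (N ⧸ ((maximalIdeal R).map (algebraMap R S)) • (⊤ : Submodule S N)) rs →
      IsWeaklyRegular N rs := by
  induction rs with
  | nil => intro N _ _ _ _ _ _ _; exact IsWeaklyRegular.nil S N
  | cons y rs ih =>
    intro N _ _ _ _ _ _ h
    rw [isWeaklyRegular_cons_iff] at h ⊢
    obtain ⟨hy, hrs⟩ := h
    obtain ⟨hyN, hflat⟩ := isSMulRegular_and_flat_of_regular_fibre (R := R) N hy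
    refine ⟨hyN, ?_⟩
    apply ih (QuotSMulTop y N)
    exact ((fibreQuotSMulTopEquiv N ((maximalIdeal R).map (algebraMap R S)) y).isWeaklyRegular_congr
      rs).mpr hrs

end Groth.Agent.Lib.Helper73.FibreRegular
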