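import Mathlib
import Groth.Agent.Lib.Helper49.FibreRank
import Groth.Agent.Lib.Helper49.FiniteTypeAffine
import Groth.Agent.Lib.Helper49.QcqsModules
import Groth.Agent.Lib.Helper12.QuasiFlat
import Groth.Agent.Lib.Helper61.FlatClosed
import Groth.Agent.Lib.Helper1.PushSupport

/-!
# Finite type flat quasi-coherent modules vs. closed subsets stable under generalization
(helper73; Stacks 05P1-type statement, S9352)

* `isFinLocFree_of_forall_isOpen`: if every closed generization-stable subset of `X` is open then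
  finite type flat quasi-coherent modules are finite locally free.
* `quotMod I = ι_* O_Y` for the closed subscheme of an ideal sheaf, its sections on affines
  (`toQuot`, `ker_toQuot`), `isFT_quotMod`, `isFlat_quotMod`, `isOpen_support_of_isFinLocFree_quotMod`.
* `isOpen_of_forall_isFinLocFree`: the converse.
-/

set_option autoImplicit false
universe u
open AlgebraicGeometry CategoryTheory TopologicalSpace

namespace Groth.Agent.Lib.Helper73.FinFlatLocFree

open Groth.Agent.Lib.Helper45 Groth.Agent.Lib.Helper49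

attribute [local instance] stalkModuleSections

variable {X : Scheme.{u}}


/-- stalks of a finite type flat quasi-coherent module are free -/
theorem free_stalk (F : X.Modules) (hF : Coh.IsCoh F) (hfl : FlatMod.IsFlat F) (x : X) :
    Module.Free (X.presheaf.stalk x) ↑(F.presheaf.stalk x) := by
  haveI := Groth.Agent.Lib.Helper12.QuasiFlat.finite_stalk_of_isCoh F hF x
  haveI : Module.Flat (X.presheaf.stalk x) ↑(F.presheaf.stalk x) := hfl x
  exact Module.free_of_flat_of_isLocalRing

/-- sections over an affine open of a stalkwise flat quasi-coherent module are flat -/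
theorem flat_sections_of_isFlat (A : X.Modules) [A.IsQuasicoherent] (hfl : FlatMod.IsFlat A)
    {W : X.Opens} (hW : IsAffineOpen W) : Module.Flat Γ(X, W) Γ(A, W) := by
  apply Module.flat_of_localized_maximal
  intro P hP
  obtain ⟨x, hx⟩ := exists_primeIdealOf_eq hW ⟨P, hP.isPrime⟩
  have hxP : (hW.primeIdealOf x).asIdeal = P := congrArg PrimeSpectrum.asIdeal hx
  subst hxP
  have := hW.isLocalization_stalk x
  have := isLocalizedModule_germₗ hW A x
  have h1 : Module.Flat (X.presheaf.stalk (x : X)) (A.presheaf.stalk (x : X)) := hfl x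
  have h2 : Module.Flat Γ(X, W) (X.presheaf.stalk (x : X)) :=
    IsLocalization.flat _ (hW.primeIdealOf x).asIdeal.primeCompl
  have h3 : Module.Flat Γ(X, W) (A.presheaf.stalk (x : X)) :=
    Module.Flat.trans Γ(X, W) (X.presheaf.stalk (x : X)) _
  exact Module.Flat.of_linearEquiv
    (IsLocalizedModule.iso (hW.primeIdealOf x).asIdeal.primeCompl (germₗ A x))

theorem fibreRank_eq_rankAtStalk (F : X.Modules) (hF : Coh.IsCoh F) (hfl : FlatMod.IsFlat F)
    {U : X.Opens} (hU : IsAffineOpen U) (z : U) :
    fibreRank F (z : X) = Module.rankAtStalk Γ(F, U) (hU.primeIdealOf z) := by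
  haveI : F.IsQuasicoherent := hF.1
  haveI := free_stalk F hF hfl (z : X)
  haveI : Module.Finite Γ(X, U) Γ(F, U) := finite_sections_of_isFiniteType F hF.2 hU
  haveI : Module.Flat Γ(X, U) Γ(F, U) := flat_sections_of_isFlat F hfl hU
  haveI := hU.isLocalization_stalk z
  haveI := isLocalizedModule_germₗ hU F z
  have hbc : IsBaseChange (X.presheaf.stalk (z : X)) (germₗ F z) :=
    IsLocalizedModule.isBaseChange (hU.primeIdealOf z).asIdeal.primeCompl _ _
  rw [fibreRank_eq_finrank_of_free]
  have h1 := Module.rankAtStalk_isBaseChange hbc (IsLocalRing.closedPoint _)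
  rw [Module.rankAtStalk_eq_finrank_of_free] at h1
  have h2 : (IsLocalRing.closedPoint (X.presheaf.stalk (z : X))).comap
      (algebraMap Γ(X, U) (X.presheaf.stalk (z : X))) = hU.primeIdealOf z := by
    ext1
    exact IsLocalization.AtPrime.under_maximalIdeal _ (hU.primeIdealOf z).asIdeal
  rw [h2] at h1
  exact h1

/-- the fibre rank of a finite type flat quasi-coherent module is constant along
specializations -/
theorem fibreRank_eq_of_specializes (F : X.Modules) (hF : Coh.IsCoh F) (hfl : FlatMod.IsFlat F)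
    {x y : X} (h : y ⤳ x) : fibreRank F y = fibreRank F x := by
  haveI : F.IsQuasicoherent := hF.1
  obtain ⟨_, ⟨U, hU : IsAffineOpen U, rfl⟩, hxU, -⟩ :=
    X.isBasis_affineOpens.exists_subset_of_mem_open (Set.mem_univ x) isOpen_univ
  have hyU : y ∈ U := h.mem_open U.2 hxU
  haveI : Module.Finite Γ(X, U) Γ(F, U) := finite_sections_of_isFiniteType F hF.2 hU
  haveI : Module.Flat Γ(X, U) Γ(F, U) := flat_sections_of_isFlat F hfl hU
  rw [fibreRank_eq_rankAtStalk F hF hfl hU ⟨y, hyU⟩, fibreRank_eq_rankAtStalk F hF hfl hU ⟨x, hxU⟩]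
  apply Module.rankAtStalk_eq_of_le_of_finite_of_flat
  rw [PrimeSpectrum.le_iff_specializes]
  have h' : (⟨y, hyU⟩ : U) ⤳ ⟨x, hxU⟩ := (subtype_specializes_iff _ _).mpr h
  exact h'.map hU.isoSpec.hom.continuous

/-- upper semicontinuity of the fibre rank of a finite type quasi-coherent module -/
theorem isClosed_setOf_le_fibreRank (F : X.Modules) [F.IsQuasicoherent]
    (hF : SheafOfModules.IsFiniteType (R := X.ringCatSheaf) F) (r : ℕ) :
    IsClosed {x : X | r ≤ fibreRank F x} := by
  rw [← isOpen_compl_iff, isOpen_iff_forall_mem_open]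
  intro x hx
  have hx' : fibreRank F x < r := not_le.mp hx
  obtain ⟨U, hU, hxU, -, t, ht⟩ := exists_affine_generators F hF x ⊤ trivial
  refine ⟨U, fun y hy => ?_, U.2, hxU⟩
  have hspan := span_germ_eq_top hU F t ht ⟨y, hy⟩
  have hle := finrank_fibre_le_card (R := X.presheaf.stalk y)
    (fun i => germₗ F (⟨y, hy⟩ : U) (t i)) hspan
  rw [Fintype.card_fin] at hle
  change ¬ (r ≤ fibreRank F y)
  have : fibreRank F y ≤ fibreRank F x := hle
  omega

/-- If every closed subset stable under generalization is open, then finite type flat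
quasi-coherent modules are finite locally free. -/
theorem isFinLocFree_of_forall_isOpen
    (H : ∀ Z : Set X, IsClosed Z → StableUnderGeneralization Z → IsOpen Z)
    (F : X.Modules) (hF : Coh.IsCoh F) (hfl : FlatMod.IsFlat F) : FlatMod.IsFinLocFree F := by
  haveI : F.IsQuasicoherent := hF.1
  have hopen : ∀ r : ℕ, IsOpen {x : X | r ≤ fibreRank F x} := fun r =>
    H _ (isClosed_setOf_le_fibreRank F hF.2 r) (by
      intro x y hyx hx
      change r ≤ fibreRank F y
      rw [fibreRank_eq_of_specializes F hF hfl hyx]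
      exact hx)
  refine isFinLocFree_of_free_stalks_of_isLocallyConstant_fibreRank F hF.2
    (fun x => free_stalk F hF hfl x) ?_
  refine (IsLocallyConstant.iff_exists_open _).mpr fun x => ?_
  refine ⟨{y | fibreRank F x ≤ fibreRank F y} ∩ {y | fibreRank F x + 1 ≤ fibreRank F y}ᶜ,
    (hopen _).inter (isClosed_setOf_le_fibreRank F hF.2 _).isOpen_compl, ⟨le_refl (fibreRank F x), ?_⟩, ?_⟩
  · change ¬ (fibreRank F x + 1 ≤ fibreRank F x)
    omega
  · rintro y ⟨h1, h2⟩
    have h1' : fibreRank F x ≤ fibreRank F y := h1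
    have h2' : ¬ (fibreRank F x + 1 ≤ fibreRank F y) := h2
    omega



/-- flat sections over affine opens imply stalkwise flatness -/
theorem isFlat_of_flat_sections (F : X.Modules) [F.IsQuasicoherent]
    (h : ∀ U : X.affineOpens, Module.Flat Γ(X, U.1) Γ(F, U.1)) : FlatMod.IsFlat F := by
  intro x
  obtain ⟨_, ⟨U, hU : IsAffineOpen U, rfl⟩, hxU, -⟩ :=
    X.isBasis_affineOpens.exists_subset_of_mem_open (Set.mem_univ x) isOpen_univ
  obtain ⟨x, rfl⟩ : ∃ x' : U, (x' : X) = x := ⟨⟨x, hxU⟩, rfl⟩
  haveI := h ⟨U, hU⟩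
  haveI := hU.isLocalization_stalk x
  haveI := isLocalizedModule_germₗ hU F x
  exact Module.Flat.of_isLocalizedModule (X.presheaf.stalk (x : X))
    (hU.primeIdealOf x).asIdeal.primeCompl (germₗ F x)

variable (I : X.IdealSheafData)

/-- `ι_* O_Y` for the closed subscheme `Y` defined by `I`. -/
noncomputable abbrev quotMod : X.Modules :=
  (Scheme.Modules.pushforward I.subschemeι).obj (Coh.structureModule I.subscheme)

instance : (quotMod I).IsQuasicoherent := by
  haveI := Groth.Agent.Lib.Helper1.isQuasicoherent_structureModule I.subscheme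
  exact Groth.Agent.Lib.Helper49.isQuasicoherent_pushforward _ I.subschemeι

theorem smul_quotMod (U : X.Opens) (a : Γ(X, U)) (s : Γ(I.subscheme, I.subschemeι ⁻¹ᵁ U)) :
    (a • (show Γ(quotMod I, U) from s) : Γ(quotMod I, U)) =
      (show Γ(quotMod I, U) from ((I.subschemeι.app U).hom a * s)) := rfl

/-- the quotient map `Γ(X, U) → Γ(ι_* O_Y, U)` -/
noncomputable def toQuot (U : X.Opens) : Γ(X, U) →ₗ[Γ(X, U)] Γ(quotMod I, U) where
  toFun a := show Γ(quotMod I, U) from (I.subschemeι.app U).hom a
  map_add' a b := map_add (I.subschemeι.app U).hom a b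
  map_smul' a b := by
    rw [smul_eq_mul, map_mul]
    exact (smul_quotMod I U a _).symm

theorem toQuot_surjective (U : X.affineOpens) : Function.Surjective (toQuot I U.1) :=
  I.subschemeι_app_surjective U

theorem ker_toQuot (U : X.affineOpens) : LinearMap.ker (toQuot I U.1) = I.ideal U := by
  rw [← I.ker_subschemeι_app U]
  rfl

theorem smul_eq_zero_of_mem_ideal (U : X.affineOpens) {a : Γ(X, U.1)} (ha : a ∈ I.ideal U)
    (s : Γ(quotMod I, U.1)) : a • s = 0 := by
  obtain ⟨b, rfl⟩ := toQuot_surjective I U s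
  rw [← map_smul, smul_eq_mul, mul_comm, ← smul_eq_mul, map_smul]
  have : toQuot I U.1 a = 0 := by
    rw [← LinearMap.mem_ker, ker_toQuot]
    exact ha
  rw [this, smul_zero]

instance finite_quotMod (U : X.affineOpens) : Module.Finite Γ(X, U.1) Γ(quotMod I, U.1) :=
  Module.Finite.of_surjective (toQuot I U.1) (toQuot_surjective I U)

theorem flat_quotMod (U : X.affineOpens) (h : (I.ideal U).Pure) :
    Module.Flat Γ(X, U.1) Γ(quotMod I, U.1) := by
  have e := (toQuot I U.1).quotKerEquivOfSurjective (toQuot_surjective I U)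
  rw [ker_toQuot] at e
  haveI : Module.Flat Γ(X, U.1) (Γ(X, U.1) ⧸ I.ideal U) := h
  exact Module.Flat.of_linearEquiv e.symm

theorem isFT_quotMod : SheafOfModules.IsFiniteType (R := X.ringCatSheaf) (quotMod I) :=
  isFiniteType_of_finite_sections (quotMod I) fun U => finite_quotMod I U

theorem isFlat_quotMod (h : ∀ U : X.affineOpens, (I.ideal U).Pure) : FlatMod.IsFlat (quotMod I) :=
  isFlat_of_flat_sections (quotMod I) fun U => flat_quotMod I U (h U)

/-- if `ι_* O_Y` is finite locally free, the support of `Y` is open -/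
theorem isOpen_support_of_isFinLocFree_quotMod (h : FlatMod.IsFinLocFree (quotMod I)) :
    IsOpen (I.support : Set X) := by
  rw [isOpen_iff_forall_mem_open]
  intro x hx
  obtain ⟨U, n, hU, hxU, ⟨e⟩⟩ := (isFinLocFree_iff_affine (quotMod I)).mp h x
  refine ⟨U, ?_, U.2, hxU⟩
  -- `n ≠ 0`
  have hn : 0 < n := by
    rcases Nat.eq_zero_or_pos n with rfl | hn
    · exfalso
      have hsub : Subsingleton Γ(quotMod I, U) := e.toEquiv.subsingleton
      obtain ⟨y, rfl⟩ : x ∈ Set.range I.subschemeι := by rw [I.range_subschemeι]; exact hx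
      have hy : y ∈ I.subschemeι ⁻¹ᵁ U := hxU
      haveI : Nontrivial Γ(I.subscheme, I.subschemeι ⁻¹ᵁ U) :=
        (I.subscheme.presheaf.germ (I.subschemeι ⁻¹ᵁ U) y hy).hom.domain_nontrivial
      have h01 : (show Γ(quotMod I, U) from (1 : Γ(I.subscheme, I.subschemeι ⁻¹ᵁ U))) =
          (show Γ(quotMod I, U) from (0 : Γ(I.subscheme, I.subschemeι ⁻¹ᵁ U))) :=
        Subsingleton.elim _ _
      exact one_ne_zero (α := Γ(I.subscheme, I.subschemeι ⁻¹ᵁ U)) h01
    · exact hn
  -- the ideal vanishes
  have hbot : I.ideal ⟨U, hU⟩ = ⊥ := by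
    rw [eq_bot_iff]
    intro a ha
    have h1 : a • (Pi.single (⟨0, hn⟩ : Fin n) (1 : Γ(X, U)) : Fin n → Γ(X, U)) = 0 := by
      obtain ⟨s, hs⟩ := e.surjective (Pi.single (⟨0, hn⟩ : Fin n) (1 : Γ(X, U)))
      rw [← hs, ← map_smul, smul_eq_zero_of_mem_ideal I ⟨U, hU⟩ ha s, map_zero]
    have h2 := congrFun h1 ⟨0, hn⟩
    simpa using h2
  have hz := Groth.Agent.Lib.Helper61.FlatClosed.zeroLocus_ideal_eq I ⟨U, hU⟩
  rw [hbot] at hz
  intro u hu
  obtain ⟨p, rfl⟩ : u ∈ Set.range hU.fromSpec := by rw [hU.range_fromSpec]; exact hu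
  have hp : p ∈ PrimeSpectrum.zeroLocus ((⊥ : Ideal Γ(X, U)) : Set Γ(X, U)) := by
    simp only [Submodule.bot_coe, PrimeSpectrum.zeroLocus_singleton_zero]
    exact Set.mem_univ _
  rw [hz] at hp
  exact hp

/-- If every finite type flat quasi-coherent module is finite locally free, then every closed
subset stable under generalization is open. -/
theorem isOpen_of_forall_isFinLocFree
    (H : ∀ F : X.Modules, Coh.IsQCoh F → CohB1.IsFT F → FlatMod.IsFlat F → FlatMod.IsFinLocFree F)
    (Z : Set X) (hZ : IsClosed Z) (hgen : StableUnderGeneralization Z) : IsOpen Z := by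
  haveI := Groth.Agent.Lib.Helper61.FlatClosed.flat_idealSheaf Z hZ hgen
  have h := H (quotMod (Groth.Agent.Lib.Helper61.FlatClosed.idealSheaf Z hZ hgen)) inferInstance
    (isFT_quotMod _) (isFlat_quotMod _ fun U =>
      Groth.Agent.Lib.Helper61.FlatClosed.pure_ideal_of_flat _ U)
  have h2 := isOpen_support_of_isFinLocFree_quotMod _ h
  rwa [Groth.Agent.Lib.Helper61.FlatClosed.coe_support_idealSheaf] at h2

end Groth.Agent.Lib.Helper73.FinFlatLocFree
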