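import Mathlib
import Groth.Agent.Lib.Helper73.RegularCompletion
import Groth.Agent.Lib.Helper47.DVRRegular

universe u

set_option maxSynthPendingDepth 3

open IsLocalRing

namespace Groth.Agent.Lib.Helper73.FlatDVR

/-- regularity and dimension ascend along a flat map at a prime `P` with `P B_P = p B_P`. -/
theorem isRegularLocalRing_atPrime_of_flat_of_map_eq_local {A B : Type u} [CommRing A] [CommRing B]
    [IsNoetherianRing A] [IsNoetherianRing B] [Algebra A B] [Module.Flat A B]
    (p : Ideal A) [p.IsPrime] (P : Ideal B) [P.IsPrime] [P.LiesOver p]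
    (hP : P.map (algebraMap B (Localization.AtPrime P)) =
      (p.map (algebraMap A B)).map (algebraMap B (Localization.AtPrime P)))
    [IsRegularLocalRing (Localization.AtPrime p)] :
    IsRegularLocalRing (Localization.AtPrime P) ∧
      ringKrullDim (Localization.AtPrime P) = ringKrullDim (Localization.AtPrime p) := by
  let := Localization.AtPrime.algebraOfLiesOver p P
  have hloc : IsLocalHom (algebraMap (Localization.AtPrime p) (Localization.AtPrime P)) := by
    rw [RingHom.algebraMap_toAlgebra]
    exact Localization.isLocalHom_localRingHom p P (algebraMap A B) Ideal.LiesOver.over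
  have hmax : maximalIdeal (Localization.AtPrime P) =
      (maximalIdeal (Localization.AtPrime p)).map
        (algebraMap (Localization.AtPrime p) (Localization.AtPrime P)) := by
    rw [← Localization.AtPrime.map_eq_maximalIdeal, ← Localization.AtPrime.map_eq_maximalIdeal,
      Ideal.map_map, hP, Ideal.map_map,
      ← IsScalarTower.algebraMap_eq, ← IsScalarTower.algebraMap_eq]
  exact ⟨(Groth.Agent.Lib.Helper29.isRegularLocalRing_iff_of_flat_of_map_maximalIdeal_eq
    (Localization.AtPrime p) (Localization.AtPrime P) hmax).mp inferInstance,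
    Groth.Agent.Lib.Helper29.ringKrullDim_eq_of_flat_of_map_maximalIdeal_eq
    (Localization.AtPrime p) (Localization.AtPrime P) hmax⟩

theorem exists_isDVR_of_flat_of_mem_associatedPrimes {A B : Type u} [CommRing A] [CommRing B]
    [IsNoetherianRing A] [IsNoetherianRing B] [Algebra A B] [Module.Flat A B]
    (p : Ideal A) [p.IsPrime] [IsDomain (Localization.AtPrime p)]
    [IsDiscreteValuationRing (Localization.AtPrime p)]
    (hred : IsReduced (B ⧸ p.map (algebraMap A B))) (q : Ideal B) [q.IsPrime]
    (hq : q ∈ associatedPrimes B (B ⧸ p.map (algebraMap A B))) :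
    ∃ _ : IsDomain (Localization.AtPrime q), IsDiscreteValuationRing (Localization.AtPrime q) := by
  obtain ⟨-, xbar, hx⟩ := isAssociatedPrime_iff.mp hq
  obtain ⟨x, rfl⟩ := Ideal.Quotient.mk_surjective xbar
  have hmem : ∀ b : B, b ∈ q ↔ b * x ∈ p.map (algebraMap A B) := by
    intro b
    rw [hx, Submodule.mem_colon_singleton, Submodule.mem_bot, ← Ideal.Quotient.eq_zero_iff_mem]
    rfl
  have hxq : x ∉ q := by
    intro hxq
    have h1 := (hmem x).mp hxq
    have h2 : (Ideal.Quotient.mk (p.map (algebraMap A B)) x) ^ 2 = 0 := by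
      rw [← map_pow, pow_two]; exact Ideal.Quotient.eq_zero_iff_mem.mpr h1
    have h3 : Ideal.Quotient.mk (p.map (algebraMap A B)) x = 0 :=
      (IsReduced.eq_zero _ ⟨2, h2⟩)
    have h4 : (1 : B) ∈ q := by
      rw [hmem, one_mul]; exact Ideal.Quotient.eq_zero_iff_mem.mp h3
    exact (inferInstance : q.IsPrime).ne_top ((Ideal.eq_top_iff_one q).mpr h4)
  have hpq : p.map (algebraMap A B) ≤ q := by
    intro b hb
    rw [hmem]
    exact Ideal.mul_mem_right _ _ hb
  have hflat : Module.Flat (A ⧸ p) (B ⧸ p.map (algebraMap A B)) :=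
    Module.Flat.of_linearEquiv
      (Algebra.TensorProduct.quotIdealMapEquivQuotTensor B p).toLinearEquiv
  have hlies : q.LiesOver p := by
    refine ⟨le_antisymm ?_ ?_⟩
    · intro a ha
      exact hpq (Ideal.mem_map_of_mem _ ha)
    · intro a ha
      rw [Ideal.mem_comap] at ha
      by_contra hap
      have hne : Ideal.Quotient.mk p a ≠ 0 := fun h => hap (Ideal.Quotient.eq_zero_iff_mem.mp h)
      have hreg : IsSMulRegular (B ⧸ p.map (algebraMap A B)) (Ideal.Quotient.mk p a) :=
        Module.Flat.isSMulRegular_of_nonZeroDivisors (mem_nonZeroDivisors_of_ne_zero hne)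
      have h1 := (hmem _).mp ha
      have h2 : (Ideal.Quotient.mk p a) • (Ideal.Quotient.mk (p.map (algebraMap A B)) x) = 0 := by
        rw [← Ideal.Quotient.eq_zero_iff_mem, map_mul] at h1
        rw [← h1, Algebra.smul_def]
        rfl
      have h3 : Ideal.Quotient.mk (p.map (algebraMap A B)) x = 0 := by
        apply hreg
        show (Ideal.Quotient.mk p a) • (Ideal.Quotient.mk (p.map (algebraMap A B)) x) =
          (Ideal.Quotient.mk p a) • 0
        rw [h2, smul_zero]
      apply hxq
      rw [hmem]
      rw [Ideal.Quotient.eq_zero_iff_mem] at h3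
      exact Ideal.mul_mem_left _ _ h3
  have hmap : q.map (algebraMap B (Localization.AtPrime q)) =
      (p.map (algebraMap A B)).map (algebraMap B (Localization.AtPrime q)) := by
    apply le_antisymm
    · rw [Ideal.map_le_iff_le_comap]
      intro b hb
      rw [Ideal.mem_comap]
      have hu : IsUnit (algebraMap B (Localization.AtPrime q) x) :=
        IsLocalization.map_units _ (⟨x, hxq⟩ : q.primeCompl)
      have h1 : algebraMap B (Localization.AtPrime q) (b * x) ∈
          (p.map (algebraMap A B)).map (algebraMap B (Localization.AtPrime q)) :=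
        Ideal.mem_map_of_mem _ ((hmem b).mp hb)
      rw [map_mul] at h1
      exact (Ideal.mul_unit_mem_iff_mem _ hu).mp h1
    · exact Ideal.map_mono hpq
  have hreg : IsRegularLocalRing (Localization.AtPrime p) := inferInstance
  obtain ⟨h1, h2⟩ := isRegularLocalRing_atPrime_of_flat_of_map_eq_local p q hmap
  rw [IsDiscreteValuationRing.ringKrullDim_eq_one (Localization.AtPrime p)] at h2
  exact (Groth.Agent.Lib.Helper47.exists_isDiscreteValuationRing_iff _).mpr ⟨h1, h2⟩

end Groth.Agent.Lib.Helper73.FlatDVR
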