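import Mathlib

/-!
# Glueing along a flat map `R → S` with `R/I ≅ S/IS` (helper73)

For a flat ring map `R → S` and an ideal `I` with `R/I → S/IS` bijective:
* `bijective_mk_of_pow_le_annihilator`: a module `T` killed by a power of `I` satisfies `T ≅ S ⊗ T`;
* `eq_zero_of_tmul_eq_zero`, `glueing_exact`: exactness of the glueing complex
  `0 → M → S ⊗ M × ∏ M_{f_i} → ∏ (S ⊗ M)_{f_i} × ∏ M_{f_i f_j}` for `I = (f_1, …, f_t)`.
-/

set_option autoImplicit false
set_option maxSynthPendingDepth 3

universe u v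

namespace Groth.Agent.Lib.Helper73.FlatGlue

open TensorProduct

variable {R : Type u} {S : Type u} [CommRing R] [CommRing S] [Algebra R S]

section base

variable (I : Ideal R)
  (hq : Function.Bijective
    (Ideal.quotientMap (Ideal.map (algebraMap R S) I) (algebraMap R S) Ideal.le_comap_map))

/-- The `R`-linear map `S → S/IS ≅ R/I`. -/
noncomputable def rho : S →ₗ[R] R ⧸ I where
  toFun s := (RingEquiv.ofBijective _ hq).symm (Ideal.Quotient.mk _ s)
  map_add' a b := by simp
  map_smul' r s := by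
    have h1 : (RingEquiv.ofBijective _ hq).symm
        (Ideal.Quotient.mk (Ideal.map (algebraMap R S) I) (algebraMap R S r)) =
        Ideal.Quotient.mk I r := by
      rw [RingEquiv.symm_apply_eq]
      simp
    simp only [Algebra.smul_def, map_mul, h1, RingHom.id_apply]
    rfl

include hq in
theorem rho_one : rho I hq (1 : S) = 1 := by
  simp [rho]

theorem sub_mem_of_rho (s : S) (r : R) (h : rho I hq s = Ideal.Quotient.mk I r) :
    s - algebraMap R S r ∈ Ideal.map (algebraMap R S) I := by
  rw [← Ideal.Quotient.eq]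
  have := congrArg (RingEquiv.ofBijective _ hq) h
  simp only [rho, LinearMap.coe_mk, AddHom.coe_mk, RingEquiv.apply_symm_apply] at this
  rw [this]
  simp

variable {T : Type v} [AddCommGroup T] [Module R T]

/-- The action of `R/I` on a module killed by `I`. -/
noncomputable def act (hT : ∀ a ∈ I, ∀ t : T, a • t = 0) : (R ⧸ I) →ₗ[R] (T →ₗ[R] T) :=
  Submodule.liftQ I (LinearMap.lsmul R T) (by
    intro a ha
    rw [LinearMap.mem_ker]
    ext t
    simpa using hT a ha t)

theorem act_mk (hT : ∀ a ∈ I, ∀ t : T, a • t = 0) (r : R) (t : T) :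
    act I hT (Ideal.Quotient.mk I r) t = r • t := by
  show (Submodule.liftQ I (LinearMap.lsmul R T) _) (Submodule.Quotient.mk r) t = _
  rw [Submodule.liftQ_apply]
  simp

include hq in
theorem injective_mk_of_killed (hT : ∀ a ∈ I, ∀ t : T, a • t = 0) :
    Function.Injective (TensorProduct.mk R S T 1) := by
  have hl : ∀ t : T, TensorProduct.lift ((act I hT).comp (rho I hq)) ((1 : S) ⊗ₜ[R] t) = t := by
    intro t
    rw [TensorProduct.lift.tmul, LinearMap.comp_apply, rho_one I hq]
    have : (1 : R ⧸ I) = Ideal.Quotient.mk I 1 := rfl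
    rw [this, act_mk, one_smul]
  intro t t' h
  have := congrArg (TensorProduct.lift ((act I hT).comp (rho I hq))) h
  simpa [hl] using this

theorem tmul_eq_zero_of_mem_map (hT : ∀ a ∈ I, ∀ t : T, a • t = 0) (w : S)
    (hw : w ∈ Ideal.map (algebraMap R S) I) (t : T) : w ⊗ₜ[R] t = 0 := by
  unfold Ideal.map at hw
  induction hw using Submodule.span_induction with
  | mem x hx =>
    obtain ⟨a, ha, rfl⟩ := hx
    rw [Algebra.algebraMap_eq_smul_one, TensorProduct.smul_tmul, hT a ha t, tmul_zero]
  | zero => simp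
  | add x y _ _ hx hy => rw [add_tmul, hx, hy, add_zero]
  | smul s x _ hx =>
    have : (s • x) ⊗ₜ[R] t = s • (x ⊗ₜ[R] t) := by
      rw [TensorProduct.smul_tmul']
    rw [this, hx, smul_zero]

include hq in
theorem surjective_mk_of_killed (hT : ∀ a ∈ I, ∀ t : T, a • t = 0) :
    Function.Surjective (TensorProduct.mk R S T 1) := by
  intro z
  induction z using TensorProduct.induction_on with
  | zero => exact ⟨0, by simp⟩
  | add x y hx hy =>
    obtain ⟨a, ha⟩ := hx
    obtain ⟨b, hb⟩ := hy
    exact ⟨a + b, by rw [map_add, ha, hb]⟩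
  | tmul s t =>
    obtain ⟨r, hr⟩ := Ideal.Quotient.mk_surjective (rho I hq s)
    have h1 := sub_mem_of_rho I hq s r hr.symm
    have h2 := tmul_eq_zero_of_mem_map I hT _ h1 t
    refine ⟨r • t, ?_⟩
    rw [sub_tmul, sub_eq_zero] at h2
    rw [h2, TensorProduct.mk_apply, Algebra.algebraMap_eq_smul_one, TensorProduct.smul_tmul]

end base


section devissage

variable {T : Type v} [AddCommGroup T] [Module R T] (T' : Submodule R T)

theorem injective_mk_of_sub_quot [Module.Flat R S]
    (h1 : Function.Injective (TensorProduct.mk R S T' 1))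
    (h2 : Function.Injective (TensorProduct.mk R S (T ⧸ T') 1)) :
    Function.Injective (TensorProduct.mk R S T 1) := by
  rw [injective_iff_map_eq_zero] at h1 h2 ⊢
  intro t ht
  have h3 : TensorProduct.mk R S (T ⧸ T') 1 (T'.mkQ t) = 0 := by
    have := congrArg (LinearMap.lTensor S T'.mkQ) ht
    simpa using this
  have h4 := h2 _ h3
  rw [Submodule.mkQ_apply, Submodule.Quotient.mk_eq_zero] at h4
  have h5 : TensorProduct.mk R S T' 1 ⟨t, h4⟩ = 0 := by
    apply Module.Flat.lTensor_preserves_injective_linearMap (M := S) T'.subtype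
      T'.injective_subtype
    simpa using ht
  have := h1 _ h5
  simpa using congrArg Subtype.val this

theorem surjective_mk_of_sub_quot
    (h1 : Function.Surjective (TensorProduct.mk R S T' 1))
    (h2 : Function.Surjective (TensorProduct.mk R S (T ⧸ T') 1)) :
    Function.Surjective (TensorProduct.mk R S T 1) := by
  intro z
  obtain ⟨q, hq⟩ := h2 (LinearMap.lTensor S T'.mkQ z)
  obtain ⟨t, rfl⟩ := T'.mkQ_surjective q
  have hex : Function.Exact (LinearMap.lTensor S T'.subtype) (LinearMap.lTensor S T'.mkQ) :=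
    lTensor_exact S (LinearMap.exact_subtype_mkQ T') T'.mkQ_surjective
  have h3 : LinearMap.lTensor S T'.mkQ (z - (1 : S) ⊗ₜ[R] t) = 0 := by
    rw [map_sub, ← hq]
    simp
  obtain ⟨z', hz'⟩ := (hex _).1 h3
  obtain ⟨t', rfl⟩ := h1 z'
  refine ⟨t + t', ?_⟩
  have : LinearMap.lTensor S T'.subtype (TensorProduct.mk R S T' 1 t') = (1 : S) ⊗ₜ[R] (t' : T) := by
    simp
  rw [this] at hz'
  rw [map_add, TensorProduct.mk_apply, TensorProduct.mk_apply, hz']
  abel

end devissage

section main

variable (I : Ideal R)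
  (hq : Function.Bijective
    (Ideal.quotientMap (Ideal.map (algebraMap R S) I) (algebraMap R S) Ideal.le_comap_map))

include hq in
theorem bijective_mk_of_pow_le_annihilator [Module.Flat R S] (n : ℕ) :
    ∀ (T : Type v) [AddCommGroup T] [Module R T], I ^ n ≤ Module.annihilator R T →
      Function.Bijective (TensorProduct.mk R S T 1) := by
  induction n with
  | zero =>
    intro T _ _ hT
    have h1 : (1 : R) ∈ Module.annihilator R T := hT (by simp)
    have : Subsingleton T := ⟨fun a b => by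
      have ha := Module.mem_annihilator.1 h1 a
      have hb := Module.mem_annihilator.1 h1 b
      rw [one_smul] at ha hb
      rw [ha, hb]⟩
    have : Subsingleton (S ⊗[R] T) := inferInstance
    exact ⟨fun a b _ => Subsingleton.elim _ _, fun z => ⟨0, Subsingleton.elim _ _⟩⟩
  | succ n ih =>
    intro T _ _ hT
    let T' : Submodule R T := I • (⊤ : Submodule R T)
    have hT' : I ^ n ≤ Module.annihilator R T' := by
      intro a ha
      rw [Module.mem_annihilator]
      rintro ⟨t, ht⟩
      apply Subtype.ext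
      show a • t = 0
      refine Submodule.smul_induction_on ht ?_ ?_
      · intro b hb t _
        rw [← mul_smul]
        exact Module.mem_annihilator.1 (hT (by rw [pow_succ]; exact Ideal.mul_mem_mul ha hb)) t
      · intro x y hx hy
        rw [smul_add, hx, hy, add_zero]
    have hQ : ∀ a ∈ I, ∀ q : T ⧸ T', a • q = 0 := by
      intro a ha q
      obtain ⟨t, rfl⟩ := T'.mkQ_surjective q
      rw [← map_smul, Submodule.mkQ_apply, Submodule.Quotient.mk_eq_zero]
      exact Submodule.smul_mem_smul ha Submodule.mem_top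
    have b1 := ih T' hT'
    exact ⟨injective_mk_of_sub_quot T' b1.1 (injective_mk_of_killed I hq hQ),
      surjective_mk_of_sub_quot T' b1.2 (surjective_mk_of_killed I hq hQ)⟩

end main


namespace Pushout

variable {t : ℕ} {M : Type u} [AddCommGroup M] [Module R M] (μ : Fin t → M) (g : Fin t → R)

/-- relations `(μ i, - g i)`. -/
def rel : Submodule R (M × R) := Submodule.span R (Set.range fun i => (μ i, - g i))

/-- The pushout module `M + R ε` with `g i • ε = μ i`. -/
abbrev E : Type u := (M × R) ⧸ rel μ g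

/-- `M → E`. -/
def iota : M →ₗ[R] E μ g := (rel μ g).mkQ ∘ₗ LinearMap.inl R M R

/-- the new element. -/
def eps : E μ g := (rel μ g).mkQ (0, 1)

theorem smul_eps (i : Fin t) : g i • eps μ g = iota μ g (μ i) := by
  unfold eps iota
  rw [← map_smul, LinearMap.comp_apply, eq_comm, ← sub_eq_zero, ← map_sub, Submodule.mkQ_apply,
    Submodule.Quotient.mk_eq_zero]
  apply Submodule.subset_span
  refine ⟨i, ?_⟩
  simp

theorem smul_eq_zero_of_iota_eq_zero (h1 : ∀ i j, g j • μ i = g i • μ j) (m : M)
    (h : iota μ g m = 0) (j : Fin t) : g j • m = 0 := by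
  unfold iota at h
  rw [LinearMap.comp_apply, Submodule.mkQ_apply, Submodule.Quotient.mk_eq_zero, rel,
    Submodule.mem_span_range_iff_exists_fun] at h
  obtain ⟨a, ha⟩ := h
  have e1 : ∑ i, a i • μ i = m := by
    have := congrArg Prod.fst ha
    simpa [Prod.fst_sum] using this
  have e2 : ∑ i, a i * g i = 0 := by
    have := congrArg Prod.snd ha
    simpa [Prod.snd_sum] using this
  rw [← e1, Finset.smul_sum]
  have : ∀ i, g j • a i • μ i = (a i * g i) • μ j := by
    intro i
    rw [smul_comm, h1 i j, mul_smul]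
  simp_rw [this]
  rw [← Finset.sum_smul, e2, zero_smul]

/-- `E → R/(g)`. -/
def pi : E μ g →ₗ[R] R ⧸ Ideal.span (Set.range g) :=
  (rel μ g).liftQ ((Submodule.mkQ (Ideal.span (Set.range g))) ∘ₗ LinearMap.snd R M R) (by
    unfold rel
    rw [Submodule.span_le]
    rintro _ ⟨i, rfl⟩
    simp only [SetLike.mem_coe, LinearMap.mem_ker, LinearMap.comp_apply, LinearMap.snd_apply,
      Submodule.mkQ_apply, Submodule.Quotient.mk_eq_zero]
    exact neg_mem (Ideal.subset_span ⟨i, rfl⟩))

theorem pi_iota (m : M) : pi μ g (iota μ g m) = 0 := by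
  unfold pi iota
  simp

theorem exists_of_pi_eq (τ : E μ g) (h : pi μ g τ = pi μ g (eps μ g)) :
    ∃ m : M, τ = eps μ g - iota μ g m := by
  obtain ⟨⟨m₀, r₀⟩, rfl⟩ := (rel μ g).mkQ_surjective τ
  unfold pi eps at h
  simp only [Submodule.mkQ_apply, Submodule.liftQ_apply, LinearMap.comp_apply,
    LinearMap.snd_apply] at h
  rw [eq_comm, ← sub_eq_zero, ← Submodule.Quotient.mk_sub, Submodule.Quotient.mk_eq_zero,
    Ideal.mem_span_range_iff_exists_fun] at h
  obtain ⟨a, ha⟩ := h
  refine ⟨- m₀ + ∑ i, a i • μ i, ?_⟩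
  unfold eps iota
  rw [LinearMap.comp_apply, ← map_sub, eq_comm, ← sub_eq_zero, ← map_sub, Submodule.mkQ_apply,
    Submodule.Quotient.mk_eq_zero]
  have : ((0, 1) - (LinearMap.inl R M R) (-m₀ + ∑ i, a i • μ i) - (m₀, r₀) : M × R) =
      - ∑ i, a i • (μ i, - g i) := by
    ext
    · simp [Prod.fst_sum]
    · simp [Prod.snd_sum, ← ha]
  rw [this]
  apply neg_mem
  apply Submodule.sum_mem
  intro i _
  exact Submodule.smul_mem _ _ (Submodule.subset_span ⟨i, rfl⟩)

variable (x : S ⊗[R] M) (h2 : ∀ i, g i • x = (1 : S) ⊗ₜ[R] μ i)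

/-- `E → S ⊗ M`. -/
noncomputable def sigma : E μ g →ₗ[R] S ⊗[R] M :=
  (rel μ g).liftQ ((TensorProduct.mk R S M 1).coprod (LinearMap.toSpanSingleton R _ x)) (by
    unfold rel
    rw [Submodule.span_le]
    rintro _ ⟨i, rfl⟩
    simp only [SetLike.mem_coe, LinearMap.mem_ker, LinearMap.coprod_apply,
      LinearMap.toSpanSingleton_apply, TensorProduct.mk_apply, neg_smul, h2 i]
    simp)

theorem sigma_iota (m : M) : sigma μ g x h2 (iota μ g m) = (1 : S) ⊗ₜ[R] m := by
  unfold sigma iota
  simp

theorem sigma_eps : sigma μ g x h2 (eps μ g) = x := by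
  unfold sigma eps
  simp

end Pushout


theorem exists_pow_le_of_pow_mem {t : ℕ} (f : Fin t → R) (J : Ideal R)
    (h : ∀ i, ∃ e : ℕ, f i ^ e ∈ J) : ∃ n : ℕ, Ideal.span (Set.range f) ^ n ≤ J := by
  apply Ideal.exists_pow_le_of_le_radical_of_fg
  · rw [Ideal.span_le]
    rintro _ ⟨i, rfl⟩
    exact h i
  · classical
    exact ⟨Finset.univ.image f, by simp⟩

section flat

variable {t : ℕ} {E : Type v} [AddCommGroup E] [Module R E] (g : Fin t → R)

/-- the map `e ↦ (g i • e)_i`. -/
def Psi : E →ₗ[R] (Fin t → E) := LinearMap.pi (fun i => g i • LinearMap.id)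

theorem mem_range_lTensor_of_smul_eq_zero [Module.Flat R S] (ω : S ⊗[R] E)
    (h : ∀ i, g i • ω = 0) :
    ω ∈ LinearMap.range (LinearMap.lTensor S (LinearMap.ker (Psi (E := E) g)).subtype) := by
  have hex : Function.Exact (LinearMap.lTensor S (LinearMap.ker (Psi (E := E) g)).subtype)
      (LinearMap.lTensor S (Psi (E := E) g)) :=
    Module.Flat.lTensor_exact S (LinearMap.exact_subtype_ker_map _)
  rw [← LinearMap.exact_iff.1 hex, LinearMap.mem_ker]
  apply (TensorProduct.piRight R R S (fun _ : Fin t => E)).injective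
  rw [map_zero]
  ext i
  have key : ∀ z : S ⊗[R] E,
      (TensorProduct.piRight R R S (fun _ : Fin t => E)) (LinearMap.lTensor S (Psi g) z) i
        = g i • z := by
    intro z
    induction z using TensorProduct.induction_on with
    | zero => simp
    | add x y hx hy => simp only [map_add, Pi.add_apply, hx, hy, smul_add]
    | tmul s e =>
      simp [Psi, TensorProduct.piRightHom_tmul]
  rw [key, h i]
  rfl

end flat


section core

variable (I : Ideal R)
  (hq : Function.Bijective
    (Ideal.quotientMap (Ideal.map (algebraMap R S) I) (algebraMap R S) Ideal.le_comap_map))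

include hq in
theorem exists_glue [Module.Flat R S] {t : ℕ} (g : Fin t → R) (n : ℕ)
    (hn : I ^ n ≤ Ideal.span (Set.range g))
    {M : Type u} [AddCommGroup M] [Module R M] (μ : Fin t → M) (x : S ⊗[R] M)
    (h1 : ∀ i j, g j • μ i = g i • μ j) (h2 : ∀ i, g i • x = (1 : S) ⊗ₜ[R] μ i) :
    ∃ m : M, (1 : S) ⊗ₜ[R] m = x ∧ ∀ i, g i • (g i • m - μ i) = 0 := by
  -- notation
  let ι := Pushout.iota μ g
  let ε := Pushout.eps μ g
  let σ := Pushout.sigma μ g x h2
  let π := Pushout.pi μ g
  let ω : S ⊗[R] Pushout.E μ g := (1 : S) ⊗ₜ[R] ε - LinearMap.lTensor S ι x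
  have hω : ∀ i, g i • ω = 0 := by
    intro i
    show g i • ((1 : S) ⊗ₜ[R] ε - LinearMap.lTensor S ι x) = 0
    rw [smul_sub, ← map_smul, h2 i, LinearMap.lTensor_tmul, TensorProduct.smul_tmul',
      TensorProduct.smul_tmul, Pushout.smul_eps, sub_self]
  -- ω comes from the torsion part
  obtain ⟨z, hz⟩ := mem_range_lTensor_of_smul_eq_zero (S := S) g ω hω
  have hker : I ^ n ≤ Module.annihilator R (LinearMap.ker (Psi (E := Pushout.E μ g) g)) := by
    refine hn.trans ?_
    rw [Ideal.span_le]
    rintro _ ⟨i, rfl⟩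
    rw [SetLike.mem_coe, Module.mem_annihilator]
    rintro ⟨e, he⟩
    apply Subtype.ext
    show g i • e = 0
    have := congrFun (LinearMap.mem_ker.1 he) i
    simpa [Psi] using this
  obtain ⟨τ', rfl⟩ := (bijective_mk_of_pow_le_annihilator I hq n _ hker).2 z
  obtain ⟨τ, hτ⟩ := τ'
  have hτg : ∀ i, g i • τ = 0 := by
    intro i
    have := congrFun (LinearMap.mem_ker.1 hτ) i
    simpa [Psi] using this
  have hz' : (1 : S) ⊗ₜ[R] τ = ω := by
    rw [← hz]
    simp
  -- π τ = π ε
  have hquot : I ^ n ≤ Module.annihilator R (R ⧸ Ideal.span (Set.range g)) := by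
    rw [Ideal.annihilator_quotient]
    exact hn
  have hπ : π τ = π ε := by
    apply (bijective_mk_of_pow_le_annihilator I hq n _ hquot).1
    have e1 := congrArg (LinearMap.lTensor S π) hz'
    have e2 : LinearMap.lTensor S π (LinearMap.lTensor S ι x) = 0 := by
      rw [← LinearMap.comp_apply, ← LinearMap.lTensor_comp]
      have : π ∘ₗ ι = 0 := by
        ext m
        exact Pushout.pi_iota μ g m
      rw [this, LinearMap.lTensor_zero, LinearMap.zero_apply]
    simp only [ω, map_sub, e2, sub_zero, LinearMap.lTensor_tmul] at e1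
    simpa using e1
  obtain ⟨m, hm⟩ := Pushout.exists_of_pi_eq μ g τ hπ
  refine ⟨m, ?_, ?_⟩
  · -- apply σ_S
    have e1 := congrArg (σ.liftBaseChange S) hz'
    have e3 : ∀ y : S ⊗[R] M, σ.liftBaseChange S (LinearMap.lTensor S ι y) = y := by
      intro y
      induction y using TensorProduct.induction_on with
      | zero => simp
      | add a b ha hb => simp only [map_add, ha, hb]
      | tmul s m =>
        rw [LinearMap.lTensor_tmul, LinearMap.liftBaseChange_tmul]
        show s • Pushout.sigma μ g x h2 (Pushout.iota μ g m) = _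
        rw [Pushout.sigma_iota, TensorProduct.smul_tmul', smul_eq_mul, mul_one]
    simp only [ω, map_sub, e3, LinearMap.liftBaseChange_tmul, one_smul] at e1
    have e4 : σ τ = x - (1 : S) ⊗ₜ[R] m := by
      rw [hm, map_sub]
      show Pushout.sigma μ g x h2 (Pushout.eps μ g) - Pushout.sigma μ g x h2 (Pushout.iota μ g m) = _
      rw [Pushout.sigma_eps, Pushout.sigma_iota]
    have e5 : σ ε = x := Pushout.sigma_eps μ g x h2
    rw [e4, e5, sub_self, sub_eq_zero] at e1
    exact e1.symm
  · intro i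
    apply Pushout.smul_eq_zero_of_iota_eq_zero μ g h1
    have e1 := hτg i
    rw [hm, smul_sub, Pushout.smul_eps, ← map_smul, ← map_sub] at e1
    rw [← neg_sub, map_neg, e1, neg_zero]

end core


theorem pow_smul_eq_zero_of_le {M : Type v} [AddCommGroup M] [Module R M] {r : R} {a b : ℕ}
    (h : a ≤ b) {z : M} (hz : r ^ a • z = 0) : r ^ b • z = 0 := by
  obtain ⟨c, rfl⟩ := Nat.exists_eq_add_of_le h
  rw [pow_add, mul_comm, mul_smul, hz, smul_zero]

section final

variable {t : ℕ} (f : Fin t → R)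
  (hq : Function.Bijective
    (Ideal.quotientMap (Ideal.map (algebraMap R S) (Ideal.span (Set.range f))) (algebraMap R S)
      Ideal.le_comap_map))

include hq in
theorem eq_zero_of_tmul_eq_zero [Module.Flat R S] {M : Type v} [AddCommGroup M] [Module R M]
    (m : M) (h1 : (1 : S) ⊗ₜ[R] m = 0) (h2 : ∀ i, ∃ e : ℕ, f i ^ e • m = 0) : m = 0 := by
  let T : Submodule R M := Submodule.span R {m}
  obtain ⟨n, hn⟩ := exists_pow_le_of_pow_mem f (Module.annihilator R T) (by
    intro i
    obtain ⟨e, he⟩ := h2 i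
    refine ⟨e, ?_⟩
    rw [Module.mem_annihilator]
    rintro ⟨y, hy⟩
    apply Subtype.ext
    show f i ^ e • y = 0
    obtain ⟨r, rfl⟩ := Submodule.mem_span_singleton.1 hy
    rw [smul_comm, he, smul_zero])
  have hb := bijective_mk_of_pow_le_annihilator _ hq n T hn
  have hm : m ∈ T := Submodule.mem_span_singleton_self m
  have h3 : TensorProduct.mk R S T 1 ⟨m, hm⟩ = 0 := by
    apply Module.Flat.lTensor_preserves_injective_linearMap (M := S) T.subtype
      T.injective_subtype
    simpa using h1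
  have := hb.1 (h3.trans (map_zero _).symm)
  simpa using congrArg Subtype.val this

include hq in
theorem glueing_exact [Module.Flat R S] {M : Type u} [AddCommGroup M] [Module R M]
    (x : S ⊗[R] M) (N : ℕ) (m : Fin t → M)
    (hx : ∀ i, ∃ e : ℕ, f i ^ e • (f i ^ N • x - (1 : S) ⊗ₜ[R] m i) = 0)
    (hm : ∀ i j, ∃ e : ℕ, (f i * f j) ^ e • (f j ^ N • m i - f i ^ N • m j) = 0) :
    ∃ μ : M, (1 : S) ⊗ₜ[R] μ = x ∧ ∀ i, ∃ e : ℕ, f i ^ e • (f i ^ N • μ - m i) = 0 := by
  choose e₁ he₁ using hx
  choose e₂ he₂ using hm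
  let e : ℕ := (∑ i, e₁ i) + ∑ i, ∑ j, e₂ i j
  have le₁ : ∀ i, e₁ i ≤ e := fun i =>
    (Finset.single_le_sum (f := e₁) (fun _ _ => Nat.zero_le _) (Finset.mem_univ i)).trans
      (Nat.le_add_right _ _)
  have le₂ : ∀ i j, e₂ i j ≤ e := fun i j =>
    ((Finset.single_le_sum (f := e₂ i) (fun _ _ => Nat.zero_le _) (Finset.mem_univ j)).trans
      (Finset.single_le_sum (f := fun i => ∑ j, e₂ i j) (fun _ _ => Nat.zero_le _)
        (Finset.mem_univ i))).trans (Nat.le_add_left _ _)
  have hx' : ∀ i, f i ^ e • (f i ^ N • x - (1 : S) ⊗ₜ[R] m i) = 0 := fun i =>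
    pow_smul_eq_zero_of_le (le₁ i) (he₁ i)
  have hm' : ∀ i j, (f i * f j) ^ e • (f j ^ N • m i - f i ^ N • m j) = 0 := fun i j =>
    pow_smul_eq_zero_of_le (le₂ i j) (he₂ i j)
  let g : Fin t → R := fun i => f i ^ (N + e)
  let μ : Fin t → M := fun i => f i ^ e • m i
  have h1 : ∀ i j, g j • μ i = g i • μ j := by
    intro i j
    rw [← sub_eq_zero, ← hm' i j]
    simp only [g, μ, smul_sub, ← mul_smul]
    congr 2 <;> ring
  have h2 : ∀ i, g i • x = (1 : S) ⊗ₜ[R] μ i := by
    intro i
    have := hx' i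
    rw [smul_sub, sub_eq_zero, ← mul_smul, ← pow_add, add_comm e N] at this
    rw [this, TensorProduct.tmul_smul]
  obtain ⟨n, hn⟩ := exists_pow_le_of_pow_mem f (Ideal.span (Set.range g))
    (fun i => ⟨N + e, Ideal.subset_span ⟨i, rfl⟩⟩)
  obtain ⟨μ', h3, h4⟩ := exists_glue _ hq g n hn μ x h1 h2
  refine ⟨μ', h3, fun i => ⟨N + e + e, ?_⟩⟩
  rw [← h4 i]
  simp only [g, μ, smul_sub, ← mul_smul, ← pow_add]
  rw [show N + e + e + N = N + e + (N + e) by omega]

end final

end Groth.Agent.Lib.Helper73.FlatGlue
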