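import Groth.Agent.Lib.Helper73.FlatGlue

/-!
# Flat glueing, part 2 (helper73): unbounded `I`-power torsion and formal glueing of maps
-/

set_option autoImplicit false
set_option maxSynthPendingDepth 3

universe u v

namespace Groth.Agent.Lib.Helper73.FlatGlue

open TensorProduct

variable {R : Type u} {S : Type u} [CommRing R] [CommRing S] [Algebra R S]

section unbounded

variable (I : Ideal R)
  (hq : Function.Bijective
    (Ideal.quotientMap (Ideal.map (algebraMap R S) I) (algebraMap R S) Ideal.le_comap_map))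

/-- the submodule of elements killed by `I ^ n`. -/
def killedBy (T : Type v) [AddCommGroup T] [Module R T] (n : ℕ) : Submodule R T where
  carrier := {t | ∀ a ∈ I ^ n, a • t = 0}
  add_mem' := by
    intro x y hx hy a ha
    rw [smul_add, hx a ha, hy a ha, add_zero]
  zero_mem' := by
    intro a _
    exact smul_zero a
  smul_mem' := by
    intro r x hx a ha
    rw [smul_comm, hx a ha, smul_zero]

theorem pow_le_annihilator_killedBy (T : Type v) [AddCommGroup T] [Module R T] (n : ℕ) :
    I ^ n ≤ Module.annihilator R (killedBy I T n) := by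
  intro a ha
  rw [Module.mem_annihilator]
  rintro ⟨t, ht⟩
  apply Subtype.ext
  exact ht a ha

include hq in
theorem bijective_mk_of_powerTorsion [Module.Flat R S] (T : Type v) [AddCommGroup T] [Module R T]
    (hT : ∀ t : T, ∃ n : ℕ, ∀ a ∈ I ^ n, a • t = 0) :
    Function.Bijective (TensorProduct.mk R S T 1) := by
  constructor
  · rw [injective_iff_map_eq_zero]
    intro t ht
    obtain ⟨n, hn⟩ := hT t
    have hb := bijective_mk_of_pow_le_annihilator I hq n _ (pow_le_annihilator_killedBy I T n)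
    have hm : t ∈ killedBy I T n := hn
    have h3 : TensorProduct.mk R S (killedBy I T n) 1 ⟨t, hm⟩ = 0 := by
      apply Module.Flat.lTensor_preserves_injective_linearMap (M := S) (killedBy I T n).subtype
        (killedBy I T n).injective_subtype
      simpa using ht
    have := hb.1 (h3.trans (map_zero _).symm)
    simpa using congrArg Subtype.val this
  · intro z
    induction z using TensorProduct.induction_on with
    | zero => exact ⟨0, by simp⟩
    | add x y hx hy =>
      obtain ⟨a, ha⟩ := hx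
      obtain ⟨b, hb⟩ := hy
      exact ⟨a + b, by rw [map_add, ha, hb]⟩
    | tmul s t =>
      obtain ⟨n, hn⟩ := hT t
      have hb := bijective_mk_of_pow_le_annihilator I hq n _ (pow_le_annihilator_killedBy I T n)
      have hm : t ∈ killedBy I T n := hn
      obtain ⟨t', ht'⟩ := hb.2 (s ⊗ₜ[R] (⟨t, hm⟩ : killedBy I T n))
      refine ⟨(t' : T), ?_⟩
      have := congrArg (LinearMap.lTensor S (killedBy I T n).subtype) ht'
      simpa using this

end unbounded

section maps

variable (I : Ideal R)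
  (hq : Function.Bijective
    (Ideal.quotientMap (Ideal.map (algebraMap R S) I) (algebraMap R S) Ideal.le_comap_map))

include hq in
theorem formal_glueing_of_maps [Module.Flat R S]
    (N : Type u) [AddCommGroup N] [Module R N] (M' : Type u) [AddCommGroup M'] [Module S M']
    [Module R M'] [IsScalarTower R S M']
    (φ : M' →ₗ[S] S ⊗[R] N)
    (hker : ∀ x : M', φ x = 0 → ∃ n : ℕ, ∀ a ∈ I ^ n, a • x = 0)
    (hcoker : ∀ y : S ⊗[R] N, ∃ n : ℕ, ∀ a ∈ I ^ n, a • y ∈ LinearMap.range φ) :
    ∃ (M : Submodule R (N × M')) (e : S ⊗[R] M ≃ₗ[S] M'),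
      φ ∘ₗ e.toLinearMap = ((LinearMap.fst R N M') ∘ₗ M.subtype).baseChange S := by
  let φR : M' →ₗ[R] S ⊗[R] N := φ.restrictScalars R
  let M : Submodule R (N × M') :=
    LinearMap.ker ((TensorProduct.mk R S N 1) ∘ₗ (LinearMap.fst R N M') - φR ∘ₗ (LinearMap.snd R N M'))
  have hM : ∀ x : M, (1 : S) ⊗ₜ[R] (x : N × M').1 = φ (x : N × M').2 := by
    intro x
    have := x.2
    simp only [M, LinearMap.mem_ker, LinearMap.sub_apply, LinearMap.comp_apply, sub_eq_zero] at this
    exact this
  have hM' : ∀ (n : N) (m' : M'), (1 : S) ⊗ₜ[R] n = φ m' → (n, m') ∈ M := by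
    intro n m' h
    simp only [M, LinearMap.mem_ker, LinearMap.sub_apply, LinearMap.comp_apply, sub_eq_zero]
    exact h
  let ψ : M →ₗ[R] N := (LinearMap.fst R N M') ∘ₗ M.subtype
  let pr2 : M →ₗ[R] M' := (LinearMap.snd R N M') ∘ₗ M.subtype
  let e₀ : S ⊗[R] M →ₗ[S] M' := pr2.liftBaseChange S
  have hφe : φ ∘ₗ e₀ = ψ.baseChange S := by
    apply TensorProduct.AlgebraTensorModule.ext
    intro s x
    simp only [LinearMap.comp_apply, e₀, LinearMap.liftBaseChange_tmul, map_smul,
      LinearMap.baseChange_tmul]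
    show s • φ (x : N × M').2 = s ⊗ₜ[R] (x : N × M').1
    rw [← hM x, TensorProduct.smul_tmul', smul_eq_mul, mul_one]
  have hφe' : ∀ z, φ (e₀ z) = LinearMap.lTensor S ψ z := by
    intro z
    have := LinearMap.congr_fun hφe z
    rw [LinearMap.comp_apply] at this
    rw [this]
    exact congrFun (LinearMap.baseChange_eq_ltensor (A := S) ψ) z
  -- injectivity
  have hinj : Function.Injective e₀ := by
    rw [injective_iff_map_eq_zero]
    intro z hz
    have h1 : LinearMap.lTensor S ψ z = 0 := by rw [← hφe', hz, map_zero]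
    have hex := Module.Flat.lTensor_exact S (LinearMap.exact_subtype_ker_map ψ)
    obtain ⟨z', rfl⟩ := (hex z).1 h1
    have htors : ∀ κ : LinearMap.ker ψ, ∃ n : ℕ, ∀ a ∈ I ^ n, a • κ = 0 := by
      intro κ
      have h0 : ((κ : M) : N × M').1 = 0 := LinearMap.mem_ker.1 κ.2
      have h2 : φ ((κ : M) : N × M').2 = 0 := by rw [← hM, h0, tmul_zero]
      obtain ⟨n, hn⟩ := hker _ h2
      refine ⟨n, fun a ha => ?_⟩
      apply Subtype.ext
      apply Subtype.ext
      apply Prod.ext
      · show a • ((κ : M) : N × M').1 = 0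
        rw [h0, smul_zero]
      · exact hn a ha
    obtain ⟨κ, rfl⟩ := (bijective_mk_of_powerTorsion I hq _ htors).2 z'
    have h3 : e₀ (LinearMap.lTensor S (LinearMap.ker ψ).subtype (TensorProduct.mk R S _ 1 κ)) =
        ((κ : M) : N × M').2 := by
      simp [e₀, pr2]
    have h0 : ((κ : M) : N × M').1 = 0 := LinearMap.mem_ker.1 κ.2
    rw [h3] at hz
    have : κ = 0 := by
      apply Subtype.ext
      apply Subtype.ext
      exact Prod.ext h0 hz
    rw [this, map_zero, map_zero]
  -- surjectivity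
  have hsurj : Function.Surjective e₀ := by
    let c : S ⊗[R] N →ₗ[S] (S ⊗[R] N) ⧸ LinearMap.range φ := (LinearMap.range φ).mkQ
    let cR : S ⊗[R] N →ₗ[R] (S ⊗[R] N) ⧸ LinearMap.range φ := c.restrictScalars R
    have hcφ : ∀ m' : M', c (φ m') = 0 := by
      intro m'
      show (LinearMap.range φ).mkQ (φ m') = 0
      rw [Submodule.mkQ_apply, Submodule.Quotient.mk_eq_zero]
      exact ⟨m', rfl⟩
    let β : (N ⧸ LinearMap.range ψ) →ₗ[R] (S ⊗[R] N) ⧸ LinearMap.range φ :=
      (LinearMap.range ψ).liftQ (cR ∘ₗ TensorProduct.mk R S N 1) (by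
        rintro _ ⟨x, rfl⟩
        rw [LinearMap.mem_ker, LinearMap.comp_apply]
        show c ((1 : S) ⊗ₜ[R] (x : N × M').1) = 0
        rw [hM x, hcφ])
    have hβ : ∀ n : N, β ((LinearMap.range ψ).mkQ n) = c ((1 : S) ⊗ₜ[R] n) := by
      intro n
      rfl
    have hβinj : Function.Injective β := by
      rw [injective_iff_map_eq_zero]
      intro q hq0
      obtain ⟨n, rfl⟩ := (LinearMap.range ψ).mkQ_surjective q
      rw [hβ] at hq0
      have h1 : (1 : S) ⊗ₜ[R] n ∈ LinearMap.range φ := by
        have : (LinearMap.range φ).mkQ ((1 : S) ⊗ₜ[R] n) = 0 := hq0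
        rwa [Submodule.mkQ_apply, Submodule.Quotient.mk_eq_zero] at this
      obtain ⟨m'', hm''⟩ := h1
      rw [Submodule.mkQ_apply, Submodule.Quotient.mk_eq_zero]
      exact ⟨⟨(n, m''), hM' n m'' hm''.symm⟩, rfl⟩
    have htors : ∀ q : N ⧸ LinearMap.range ψ, ∃ k : ℕ, ∀ a ∈ I ^ k, a • q = 0 := by
      intro q
      obtain ⟨n, rfl⟩ := (LinearMap.range ψ).mkQ_surjective q
      obtain ⟨k, hk⟩ := hcoker ((1 : S) ⊗ₜ[R] n)
      refine ⟨k, fun a ha => ?_⟩
      apply hβinj
      rw [map_zero, ← map_smul, hβ, TensorProduct.tmul_smul]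
      have h1 := hk a ha
      show (LinearMap.range φ).mkQ _ = 0
      rw [Submodule.mkQ_apply, Submodule.Quotient.mk_eq_zero]
      exact h1
    let α : S ⊗[R] ((S ⊗[R] N) ⧸ LinearMap.range φ) →ₗ[S] (S ⊗[R] N) ⧸ LinearMap.range φ :=
      (LinearMap.id : ((S ⊗[R] N) ⧸ LinearMap.range φ) →ₗ[R] _).liftBaseChange S
    let γ : S ⊗[R] (N ⧸ LinearMap.range ψ) →ₗ[R] (S ⊗[R] N) ⧸ LinearMap.range φ :=
      α.restrictScalars R ∘ₗ LinearMap.lTensor S β
    have hγ : ∀ y : S ⊗[R] N, γ (LinearMap.lTensor S (LinearMap.range ψ).mkQ y) = c y := by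
      intro y
      induction y using TensorProduct.induction_on with
      | zero => simp
      | add a b ha hb => simp only [map_add, ha, hb]
      | tmul s n =>
        show α (LinearMap.lTensor S β (LinearMap.lTensor S (LinearMap.range ψ).mkQ (s ⊗ₜ[R] n))) = _
        rw [LinearMap.lTensor_tmul, LinearMap.lTensor_tmul, hβ, LinearMap.liftBaseChange_tmul,
          LinearMap.id_apply, ← map_smul, TensorProduct.smul_tmul', smul_eq_mul, mul_one]
    have hγinj : Function.Injective γ := by
      rw [injective_iff_map_eq_zero]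
      intro w hw
      obtain ⟨q, rfl⟩ := (bijective_mk_of_powerTorsion I hq _ htors).2 w
      have : γ (TensorProduct.mk R S _ 1 q) = β q := by
        show α (LinearMap.lTensor S β ((1 : S) ⊗ₜ[R] q)) = _
        rw [LinearMap.lTensor_tmul, LinearMap.liftBaseChange_tmul, one_smul, LinearMap.id_apply]
      rw [this] at hw
      rw [hβinj (hw.trans (map_zero _).symm), map_zero]
    intro m'
    have h1 : LinearMap.lTensor S (LinearMap.range ψ).mkQ (φ m') = 0 := by
      apply hγinj
      rw [hγ, hcφ, map_zero]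
    have hex : Function.Exact (LinearMap.lTensor S ψ) (LinearMap.lTensor S (LinearMap.range ψ).mkQ) :=
      lTensor_exact S (LinearMap.exact_map_mkQ_range ψ) (LinearMap.range ψ).mkQ_surjective
    obtain ⟨z, hz⟩ := (hex _).1 h1
    rw [← hφe'] at hz
    have h2 : φ (m' - e₀ z) = 0 := by rw [map_sub, hz, sub_self]
    have h3 : ((0 : N), m' - e₀ z) ∈ M := hM' 0 _ (by rw [h2, tmul_zero])
    refine ⟨z + (1 : S) ⊗ₜ[R] ⟨(0, m' - e₀ z), h3⟩, ?_⟩
    rw [map_add]
    have : e₀ ((1 : S) ⊗ₜ[R] (⟨(0, m' - e₀ z), h3⟩ : M)) = m' - e₀ z := by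
      simp [e₀, pr2]
    rw [this]
    abel
  refine ⟨M, LinearEquiv.ofBijective e₀ ⟨hinj, hsurj⟩, ?_⟩
  rw [← hφe]
  rfl

end maps

end Groth.Agent.Lib.Helper73.FlatGlue
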