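import Mathlib
import Groth.Agent.Lib.Helper73.FinFlatLocFree
import Groth.Agent.Lib.Helper30.FlatRestrict
import Groth.Agent.Lib.Helper30.TildeStalk
import Groth.Agent.Lib.Helper74.FlatKer
import Groth.Agent.Lib.Helper71.FlatKer
import Groth.Agent.Lib.Helper18.EpiAffine
import Groth.Agent.Lib.Helper18.FPQuot
import Groth.Agent.Lib.Helper18.FPPullEpi
import Groth.Agent.Lib.Helper45.NowhereDense
import Groth.Agent.Lib.Helper11.ResPropFinite

/-!
# Flat quotients on quasi-compact schemes with affine diagonal (helper73; S13534)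

* local flatness lemmas: `flat_sections_of_isFlatAt`, `isFlatAt_of_flat_sections`,
  `isFlatAt_restrict`, `flat_sections_pushforward`.
* the step: for an affine open `U` with `j : Spec Γ(X, U) ⟶ X`, `F1 = M ×_{j_* j^* M} j_* P` with
  `P` the tilde of a free module surjecting onto `Γ(M, U)`; sections of `F1` (`condition`,
  `exists_section`, `section_ext`), `epi_pi1`, `isFlatAt_F1_of_mem`, `isFlatAt_F1_of_isFlatAt`,
  `exists_step`.
* `exists_flat_epi`: on a quasi-compact scheme with affine diagonal every quasi-coherent module is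
  a quotient of a flat quasi-coherent module.
-/

set_option autoImplicit false
universe u
open AlgebraicGeometry CategoryTheory CategoryTheory.Limits TopologicalSpace

namespace Groth.Agent.Lib.Helper73.FlatQuot

open Groth.Agent.Lib.Helper45 Groth.Agent.Lib.Helper49

attribute [local instance] stalkModuleSections

variable {X : Scheme.{u}}

/-- sections over an affine open `W` of a quasi-coherent module flat at all points of `W`
are flat. -/
theorem flat_sections_of_isFlatAt (A : X.Modules) [A.IsQuasicoherent]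
    {W : X.Opens} (hW : IsAffineOpen W) (hfl : ∀ x ∈ W, FlatMod.IsFlatAt A x) :
    Module.Flat Γ(X, W) Γ(A, W) := by
  apply Module.flat_of_localized_maximal
  intro P hP
  obtain ⟨x, hx⟩ := exists_primeIdealOf_eq hW ⟨P, hP.isPrime⟩
  have hxP : (hW.primeIdealOf x).asIdeal = P := congrArg PrimeSpectrum.asIdeal hx
  subst hxP
  have := hW.isLocalization_stalk x
  have := isLocalizedModule_germₗ hW A x
  have h1 : Module.Flat (X.presheaf.stalk (x : X)) (A.presheaf.stalk (x : X)) := hfl x x.2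
  have h2 : Module.Flat Γ(X, W) (X.presheaf.stalk (x : X)) :=
    IsLocalization.flat _ (hW.primeIdealOf x).asIdeal.primeCompl
  have h3 : Module.Flat Γ(X, W) (A.presheaf.stalk (x : X)) :=
    Module.Flat.trans Γ(X, W) (X.presheaf.stalk (x : X)) _
  exact Module.Flat.of_linearEquiv
    (IsLocalizedModule.iso (hW.primeIdealOf x).asIdeal.primeCompl (germₗ A x))

/-- flat sections over an affine open imply flatness at its points. -/
theorem isFlatAt_of_flat_sections (F : X.Modules) [F.IsQuasicoherent] {U : X.Opens}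
    (hU : IsAffineOpen U) (h : Module.Flat Γ(X, U) Γ(F, U)) (x : X) (hxU : x ∈ U) :
    FlatMod.IsFlatAt F x := by
  obtain ⟨x, rfl⟩ : ∃ x' : U, (x' : X) = x := ⟨⟨x, hxU⟩, rfl⟩
  haveI := h
  haveI := hU.isLocalization_stalk x
  haveI := isLocalizedModule_germₗ hU F x
  exact Module.Flat.of_isLocalizedModule (X.presheaf.stalk (x : X))
    (hU.primeIdealOf x).asIdeal.primeCompl (germₗ F x)

/-- flatness at a point is preserved by restriction along open immersions. -/
theorem isFlatAt_restrict {U : Scheme.{u}} (j : U ⟶ X) [IsOpenImmersion j] (M : X.Modules) (y : U)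
    (hM : FlatMod.IsFlatAt M (j y)) :
    FlatMod.IsFlatAt ((Scheme.Modules.restrictFunctor j).obj M) y := by
  let N := (Scheme.Modules.restrictFunctor j).obj M
  have hM : Module.Flat (X.presheaf.stalk (j y)) ↑(M.presheaf.stalk (j y)) := hM
  let _ : Algebra (X.presheaf.stalk (j y)) (U.presheaf.stalk y) := (j.stalkMap y).hom.toAlgebra
  let _ : Module (X.presheaf.stalk (j y)) ↑(N.presheaf.stalk y) :=
    Module.compHom _ (j.stalkMap y).hom
  have : IsScalarTower (X.presheaf.stalk (j y)) (U.presheaf.stalk y) ↑(N.presheaf.stalk y) :=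
    IsScalarTower.of_compHom _ _ _
  have hbij : Function.Bijective (algebraMap (X.presheaf.stalk (j y)) (U.presheaf.stalk y)) :=
    (ConcreteCategory.isIso_iff_bijective (j.stalkMap y)).mp inferInstance
  let l : ↑(N.presheaf.stalk y) ≃ₗ[X.presheaf.stalk (j y)] ↑(M.presheaf.stalk (j y)) :=
    LinearEquiv.ofBijective
      { toFun := (restrictStalkIso j M y).hom.hom
        map_add' := map_add _
        map_smul' := fun r a =>
          Groth.Agent.Lib.Helper30.FlatRestrict.restrictStalk_semilinear j M y r a }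
      (restrictStalkIso_hom_bijective j M y)
  have h1 : Module.Flat (X.presheaf.stalk (j y)) ↑(N.presheaf.stalk y) :=
    Module.Flat.of_linearEquiv l
  exact (Groth.Agent.Lib.Helper12.FlatOver.flat_iff_of_bijective hbij _).mpr h1

/-- sections over an affine open of the pushforward along a flat morphism of a module which is
flat at the points of the (affine) preimage are flat. -/
theorem flat_sections_pushforward {Y : Scheme.{u}} (j : Y ⟶ X) [Flat j] (Q : Y.Modules)
    [Q.IsQuasicoherent] {W : X.Opens} (hW : IsAffineOpen W) (hW' : IsAffineOpen (j ⁻¹ᵁ W))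
    (hfl : ∀ y ∈ j ⁻¹ᵁ W, FlatMod.IsFlatAt Q y) :
    Module.Flat Γ(X, W) Γ((Scheme.Modules.pushforward j).obj Q, W) := by
  letI : Algebra Γ(X, W) Γ(Y, j ⁻¹ᵁ W) := (j.app W).hom.toAlgebra
  have h1 : Module.Flat Γ(Y, j ⁻¹ᵁ W) Γ(Q, j ⁻¹ᵁ W) := flat_sections_of_isFlatAt Q hW' hfl
  have h2 : Module.Flat Γ(X, W) Γ(Y, j ⁻¹ᵁ W) := by
    have := HasRingHomProperty.appLE (P := @Flat) j inferInstance ⟨W, hW⟩ ⟨j ⁻¹ᵁ W, hW'⟩ le_rfl
    rw [Scheme.Hom.appLE_eq_app] at this  -- may need adjusting
    exact this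
  letI : Module Γ(Y, j ⁻¹ᵁ W) Γ((Scheme.Modules.pushforward j).obj Q, W) :=
    inferInstanceAs (Module Γ(Y, j ⁻¹ᵁ W) Γ(Q, j ⁻¹ᵁ W))
  haveI : IsScalarTower Γ(X, W) Γ(Y, j ⁻¹ᵁ W) Γ((Scheme.Modules.pushforward j).obj Q, W) := by
    refine ⟨fun a b m => ?_⟩
    rw [pushforward_smul, Algebra.smul_def, mul_smul]
    rfl
  have h3 : Module.Flat Γ(Y, j ⁻¹ᵁ W) Γ((Scheme.Modules.pushforward j).obj Q, W) := h1
  exact Module.Flat.trans Γ(X, W) Γ(Y, j ⁻¹ᵁ W) _

section Step

variable {U : X.Opens} (hU : IsAffineOpen U) (M : X.Modules)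

/-- the restriction of `M` to `Spec Γ(X, U)`. -/
noncomputable abbrev G0 : (Spec Γ(X, U)).Modules :=
  (Scheme.Modules.restrictFunctor hU.fromSpec).obj M

/-- the module of global sections of `G0`. -/
noncomputable def Nmod : ModuleCat.{u} Γ(X, U) := moduleSpecΓFunctor.obj (G0 hU M)

/-- a free module surjecting onto the sections of `M` over `U`. -/
noncomputable abbrev N0 : ModuleCat.{u} Γ(X, U) :=
  ModuleCat.of Γ(X, U) (↑(Nmod hU M) →₀ Γ(X, U))

noncomputable def q0 : N0 hU M ⟶ Nmod hU M :=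
  ModuleCat.ofHom (X := ↑(Nmod hU M) →₀ Γ(X, U)) (Y := ↑(Nmod hU M))
    (Finsupp.linearCombination Γ(X, U) (id : ↑(Nmod hU M) → ↑(Nmod hU M)))

instance epi_q0 : Epi (q0 hU M) := by
  rw [ModuleCat.epi_iff_surjective]
  exact Finsupp.linearCombination_id_surjective _ _

noncomputable abbrev P0 : (Spec Γ(X, U)).Modules := (tilde.functor Γ(X, U)).obj (N0 hU M)

instance isQuasicoherent_P0 : (P0 hU M).IsQuasicoherent :=
  inferInstanceAs (tilde (N0 hU M)).IsQuasicoherent

theorem isFlat_P0 : FlatMod.IsFlat (P0 hU M) :=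
  Groth.Agent.Lib.Helper30.TildeStalk.isFlat_tilde (N0 hU M)

variable [M.IsQuasicoherent]

noncomputable def rho : P0 hU M ⟶ G0 hU M :=
  (tilde.functor Γ(X, U)).map (q0 hU M) ≫
    (show (tilde.functor Γ(X, U)).obj (Nmod hU M) ⟶ G0 hU M from
      tilde.adjunction.counit.app (G0 hU M))

instance isIso_counit : IsIso (tilde.adjunction.counit.app (G0 hU M)) :=
  inferInstanceAs (IsIso (G0 hU M).fromTildeΓ)

instance epi_rho : Epi (rho hU M) := by
  unfold rho
  haveI : Epi ((tilde.functor Γ(X, U)).map (q0 hU M)) := inferInstance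
  haveI : IsIso (show (tilde.functor Γ(X, U)).obj (Nmod hU M) ⟶ G0 hU M from
      tilde.adjunction.counit.app (G0 hU M)) := isIso_counit hU M
  exact epi_comp _ _

end Step

section Step2

open Groth.Agent.Lib.Helper18.FPM

variable {U : X.Opens} (hU : IsAffineOpen U) (M : X.Modules) [M.IsQuasicoherent]

noncomputable abbrev jP : X.Modules := (Scheme.Modules.pushforward hU.fromSpec).obj (P0 hU M)
noncomputable abbrev jG : X.Modules := (Scheme.Modules.pushforward hU.fromSpec).obj (G0 hU M)
noncomputable abbrev eta : M ⟶ jG hU M :=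
  (Scheme.Modules.restrictAdjunction hU.fromSpec).unit.app M
noncomputable abbrev rho' : jP hU M ⟶ jG hU M :=
  (Scheme.Modules.pushforward hU.fromSpec).map (rho hU M)
noncomputable abbrev phi : M ⊞ jP hU M ⟶ jG hU M := biprod.desc (eta hU M) (rho' hU M)
noncomputable abbrev F1 : X.Modules := kernel (phi hU M)
noncomputable abbrev pi1 : F1 hU M ⟶ M := kernel.ι (phi hU M) ≫ biprod.fst
noncomputable abbrev pi2 : F1 hU M ⟶ jP hU M := kernel.ι (phi hU M) ≫ biprod.snd

theorem phi_app (W : X.Opens) (b : Γ(M ⊞ jP hU M, W)) :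
    (phi hU M).app W b =
      (eta hU M).app W ((biprod.fst : M ⊞ jP hU M ⟶ M).app W b) +
        (rho' hU M).app W ((biprod.snd : M ⊞ jP hU M ⟶ jP hU M).app W b) := by
  have h : phi hU M = biprod.fst ≫ eta hU M + biprod.snd ≫ rho' hU M := by
    apply biprod.hom_ext' <;> simp
  rw [h]
  rfl

theorem condition (W : X.Opens) (s : Γ(F1 hU M, W)) :
    (eta hU M).app W ((pi1 hU M).app W s) + (rho' hU M).app W ((pi2 hU M).app W s) = 0 := by
  have h := phi_app hU M W ((kernel.ι (phi hU M)).app W s)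
  have h0 : (phi hU M).app W ((kernel.ι (phi hU M)).app W s) = 0 := by
    change ((kernel.ι (phi hU M) ≫ phi hU M).app W) s = 0
    rw [kernel.condition]
    rfl
  rw [h0] at h
  exact h.symm

theorem exists_section (W : X.Opens) (m : Γ(M, W)) (p : Γ(jP hU M, W))
    (h : (eta hU M).app W m + (rho' hU M).app W p = 0) :
    ∃ s : Γ(F1 hU M, W), (pi1 hU M).app W s = m ∧ (pi2 hU M).app W s = p := by
  let b : Γ(M ⊞ jP hU M, W) := (biprodSectionsEquiv M (jP hU M) W).symm (m, p)
  have hb1 : (biprod.fst : M ⊞ jP hU M ⟶ M).app W b = m :=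
    congrArg Prod.fst ((biprodSectionsEquiv M (jP hU M) W).apply_symm_apply (m, p))
  have hb2 : (biprod.snd : M ⊞ jP hU M ⟶ jP hU M).app W b = p :=
    congrArg Prod.snd ((biprodSectionsEquiv M (jP hU M) W).apply_symm_apply (m, p))
  have hb : (phi hU M).app W b = 0 := by rw [phi_app, hb1, hb2, h]
  obtain ⟨s, hs⟩ := (Groth.Agent.Lib.Helper45.NowhereDense.app_exact_kernel (phi hU M) W b).mp hb
  refine ⟨s, ?_, ?_⟩
  · change (biprod.fst : M ⊞ jP hU M ⟶ M).app W ((kernel.ι (phi hU M)).app W s) = m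
    rw [hs, hb1]
  · change (biprod.snd : M ⊞ jP hU M ⟶ jP hU M).app W ((kernel.ι (phi hU M)).app W s) = p
    rw [hs, hb2]

theorem section_ext (W : X.Opens) (s : Γ(F1 hU M, W)) (h1 : (pi1 hU M).app W s = 0)
    (h2 : (pi2 hU M).app W s = 0) : s = 0 := by
  apply Groth.Agent.Lib.Helper45.app_injective_of_mono (kernel.ι (phi hU M)) W
  rw [map_zero]
  apply (biprodSectionsEquiv M (jP hU M) W).injective
  rw [map_zero]
  exact Prod.ext h1 h2

end Step2

section Step3

open Groth.Agent.Lib.Helper18.FPM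

variable (hd : ∀ V W : X.Opens, IsAffineOpen V → IsAffineOpen W → IsAffineOpen (V ⊓ W))
variable {U : X.Opens} (hU : IsAffineOpen U) (M : X.Modules) [M.IsQuasicoherent]

include hd in
theorem isAffineOpen_preimage {W : X.Opens} (hW : IsAffineOpen W) :
    IsAffineOpen (hU.fromSpec ⁻¹ᵁ W) := by
  rw [← hU.fromSpec.isAffineOpen_iff_of_isOpenImmersion,
    Scheme.Hom.image_preimage_eq_opensRange_inf, hU.opensRange_fromSpec]
  exact hd U W hU hW

include hd in
theorem isAffineHom_fromSpec : IsAffineHom hU.fromSpec :=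
  ⟨fun _ hW => isAffineOpen_preimage hd hU hW⟩

include hd in
theorem isQuasicoherent_jP : (jP hU M).IsQuasicoherent := by
  haveI := isAffineHom_fromSpec hd hU
  exact isQuasicoherent_pushforward (P0 hU M) hU.fromSpec

include hd in
theorem isQuasicoherent_jG : (jG hU M).IsQuasicoherent := by
  haveI := isAffineHom_fromSpec hd hU
  exact isQuasicoherent_pushforward (G0 hU M) hU.fromSpec

include hd in
theorem isQuasicoherent_F1 : (F1 hU M).IsQuasicoherent := by
  haveI := isQuasicoherent_jP hd hU M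
  haveI := isQuasicoherent_jG hd hU M
  exact isQuasicoherent_kernel _
    (Groth.Agent.Lib.Helper18.LSubM.isQuasicoherent_biprod M (jP hU M)) inferInstance

theorem rho'_app (W : X.Opens) (p : Γ(jP hU M, W)) :
    (rho' hU M).app W p = (rho hU M).app (hU.fromSpec ⁻¹ᵁ W) p := rfl

include hd in
theorem epi_pi1 : Epi (pi1 hU M) := by
  haveI := isQuasicoherent_F1 hd hU M
  refine Groth.Agent.Lib.Helper18.FPPullEpi.epi_of_app_surjective_affine (pi1 hU M) fun x => ?_
  obtain ⟨_, ⟨W, hW : IsAffineOpen W, rfl⟩, hxW, -⟩ :=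
    X.isBasis_affineOpens.exists_subset_of_mem_open (Set.mem_univ x) isOpen_univ
  refine ⟨W, hW, hxW, fun m => ?_⟩
  have hW' := isAffineOpen_preimage hd hU hW
  obtain ⟨p, hp⟩ := Groth.Agent.Lib.Helper18.EpiAffine.app_surjective_of_epi (rho hU M) hW'
    (show Γ(G0 hU M, hU.fromSpec ⁻¹ᵁ W) from (eta hU M).app W m)
  obtain ⟨s, hs1, -⟩ := exists_section hU M W m (show Γ(jP hU M, W) from -p) (by
    rw [rho'_app, map_neg, hp]
    exact add_neg_cancel _)
  exact ⟨s, hs1⟩

end Step3

section Step4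

open Groth.Agent.Lib.Helper18.FPM

variable (hd : ∀ V W : X.Opens, IsAffineOpen V → IsAffineOpen W → IsAffineOpen (V ⊓ W))
variable {U : X.Opens} (hU : IsAffineOpen U) (M : X.Modules) [M.IsQuasicoherent]

theorem bijective_presheaf_map_of_eq (F : X.Modules) {V W : X.Opens} (h : V ≤ W) (e : V = W) :
    Function.Bijective (F.presheaf.map (homOfLE h).op) := by
  subst e
  have : (homOfLE h).op = 𝟙 _ := Subsingleton.elim _ _
  rw [this, F.presheaf.map_id]
  exact Function.bijective_id

theorem eta_app_bijective : Function.Bijective ((eta hU M).app U) := by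
  change Function.Bijective (M.presheaf.map (homOfLE (hU.fromSpec.image_preimage_le U)).op)
  refine bijective_presheaf_map_of_eq M _ ?_
  rw [Scheme.Hom.image_preimage_eq_opensRange_inf, hU.opensRange_fromSpec, inf_idem]

theorem pi2_app_bijective : Function.Bijective ((pi2 hU M).app U) := by
  constructor
  · rw [injective_iff_map_eq_zero]
    intro s hs
    have hc := condition hU M U s
    rw [hs, map_zero, add_zero] at hc
    have h1 : (pi1 hU M).app U s = 0 := by
      apply (eta_app_bijective hU M).1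
      rw [hc, map_zero]
    exact section_ext hU M U s h1 hs
  · intro p
    obtain ⟨m, hm⟩ := (eta_app_bijective hU M).2 (-((rho' hU M).app U p))
    obtain ⟨s, -, hs2⟩ := exists_section hU M U m p (by rw [hm]; exact neg_add_cancel _)
    exact ⟨s, hs2⟩

include hd in
theorem flat_sections_jP {W : X.Opens} (hW : IsAffineOpen W) :
    Module.Flat Γ(X, W) Γ(jP hU M, W) :=
  flat_sections_pushforward hU.fromSpec (P0 hU M) hW (isAffineOpen_preimage hd hU hW)
    (fun y _ => isFlat_P0 hU M y)

include hd in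
theorem isFlatAt_F1_of_mem (x : X) (hx : x ∈ U) : FlatMod.IsFlatAt (F1 hU M) x := by
  haveI := isQuasicoherent_F1 hd hU M
  refine isFlatAt_of_flat_sections (F1 hU M) hU ?_ x hx
  haveI := flat_sections_jP hd hU M hU
  let e : Γ(F1 hU M, U) ≃ₗ[Γ(X, U)] Γ(jP hU M, U) :=
    LinearEquiv.ofBijective (Groth.Agent.Lib.Helper45.appₗ (pi2 hU M) U) (pi2_app_bijective hU M)
  exact Module.Flat.of_linearEquiv e

include hd in
theorem isFlatAt_F1_of_isFlatAt (V : X.Opens) (hV : ∀ x ∈ V, FlatMod.IsFlatAt M x) (x : X)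
    (hx : x ∈ V) : FlatMod.IsFlatAt (F1 hU M) x := by
  haveI := isQuasicoherent_F1 hd hU M
  haveI := isQuasicoherent_jP hd hU M
  haveI := isQuasicoherent_jG hd hU M
  haveI := isAffineHom_fromSpec hd hU
  obtain ⟨_, ⟨W, hW : IsAffineOpen W, rfl⟩, hxW, hWV⟩ :=
    X.isBasis_affineOpens.exists_subset_of_mem_open hx V.2
  refine isFlatAt_of_flat_sections (F1 hU M) hW ?_ x hxW
  have hW' := isAffineOpen_preimage hd hU hW
  haveI h1 : Module.Flat Γ(X, W) Γ(M, W) :=
    flat_sections_of_isFlatAt M hW fun y hy => hV y (hWV hy)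
  haveI h2 := flat_sections_jP hd hU M hW
  haveI h3 : Module.Flat Γ(X, W) Γ(jG hU M, W) :=
    flat_sections_pushforward hU.fromSpec (G0 hU M) hW hW' fun y hy =>
      isFlatAt_restrict hU.fromSpec M y (hV _ (hWV hy))
  haveI h4 : Module.Flat Γ(X, W) (Γ(M, W) × Γ(jP hU M, W)) := Groth.Agent.Lib.Helper71.flat_prod
  haveI h5 : Module.Flat Γ(X, W) Γ(M ⊞ jP hU M, W) :=
    Module.Flat.of_linearEquiv (biprodSectionsEquiv M (jP hU M) W)
  haveI : (M ⊞ jP hU M).IsQuasicoherent :=
    Groth.Agent.Lib.Helper18.LSubM.isQuasicoherent_biprod M (jP hU M)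
  haveI : Epi (rho' hU M) := Groth.Agent.Lib.Helper11.ResPropFinite.epi_pushforward hU.fromSpec (rho hU M)
  haveI : Epi (phi hU M) := epi_of_epi_fac (biprod.inr_desc (eta hU M) (rho' hU M))
  exact Groth.Agent.Lib.Helper74.flat_of_exact_of_flat_of_flat
    (Groth.Agent.Lib.Helper45.appₗ (kernel.ι (phi hU M)) W)
    (Groth.Agent.Lib.Helper45.appₗ (phi hU M) W)
    (Groth.Agent.Lib.Helper45.app_injective_of_mono (kernel.ι (phi hU M)) W)
    (Groth.Agent.Lib.Helper18.EpiAffine.app_surjective_of_epi (phi hU M) hW)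
    (Groth.Agent.Lib.Helper45.NowhereDense.app_exact_kernel (phi hU M) W)

include hd hU in
/-- **The step**: over an affine open `U` of a scheme with affine diagonal, a quasi-coherent module
is a quotient of a quasi-coherent module which is flat along `U` and stays flat wherever `M` is. -/
theorem exists_step :
    ∃ (F : X.Modules) (π : F ⟶ M), F.IsQuasicoherent ∧ Epi π ∧
      (∀ x ∈ U, FlatMod.IsFlatAt F x) ∧
      ∀ V : X.Opens, (∀ x ∈ V, FlatMod.IsFlatAt M x) → ∀ x ∈ V, FlatMod.IsFlatAt F x :=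
  ⟨F1 hU M, pi1 hU M, isQuasicoherent_F1 hd hU M, epi_pi1 hd hU M,
    isFlatAt_F1_of_mem hd hU M, isFlatAt_F1_of_isFlatAt hd hU M⟩

end Step4

section Main

variable (hd : ∀ V W : X.Opens, IsAffineOpen V → IsAffineOpen W → IsAffineOpen (V ⊓ W))

include hd in
theorem exists_flat_of_list (M : X.Modules) [M.IsQuasicoherent] (L : List X.Opens)
    (hL : ∀ U ∈ L, IsAffineOpen U) :
    ∃ (F : X.Modules) (π : F ⟶ M), F.IsQuasicoherent ∧ Epi π ∧
      ∀ U ∈ L, ∀ x ∈ U, FlatMod.IsFlatAt F x := by
  induction L with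
  | nil => exact ⟨M, 𝟙 M, inferInstance, inferInstance, by simp⟩
  | cons U L ih =>
    obtain ⟨F', π', hq, he, hfl⟩ := ih (fun V hV => hL V (List.mem_cons_of_mem _ hV))
    haveI := hq
    obtain ⟨F, π, hq2, he2, h1, h2⟩ := exists_step hd (hL U List.mem_cons_self) F'
    refine ⟨F, π ≫ π', hq2, epi_comp _ _, ?_⟩
    intro V hV x hx
    rcases List.mem_cons.mp hV with rfl | hV'
    · exact h1 x hx
    · exact h2 V (hfl V hV') x hx

include hd in
/-- on a quasi-compact scheme with affine diagonal every quasi-coherent module is a quotient of a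
flat quasi-coherent module. -/
theorem exists_flat_epi [CompactSpace X] (M : X.Modules) [M.IsQuasicoherent] :
    ∃ (F : X.Modules) (π : F ⟶ M), F.IsQuasicoherent ∧ FlatMod.IsFlat F ∧ Epi π := by
  obtain ⟨T, hT⟩ := Groth.Agent.Lib.Helper18.FTApprox.exists_finite_affine_cover X
  obtain ⟨F, π, hq, he, hfl⟩ := exists_flat_of_list hd M (T.toList.map (fun U => U.1))
    (by
      intro U hU
      obtain ⟨V, -, rfl⟩ := List.mem_map.mp hU
      exact V.2)
  refine ⟨F, π, hq, fun x => ?_, he⟩
  have hx : x ∈ (⨆ U : ↥T, (U.1 : X.affineOpens).1) := by rw [hT]; trivial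
  obtain ⟨U, hxU⟩ := Opens.mem_iSup.mp hx
  exact hfl U.1.1 (List.mem_map.mpr ⟨U.1, Finset.mem_toList.mpr U.2, rfl⟩) x hxU

end Main

end Groth.Agent.Lib.Helper73.FlatQuot
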