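import Groth.Agent.Lib.Helper16.GenFlat.Alg
import Groth.Agent.Lib.Helper89.GrFlat

/-!
# Flatness after inverting an element (helper73)
-/

set_option autoImplicit false
universe u

open TensorProduct

namespace Groth.Agent.Lib.Helper73.GenFlatClosed

variable {A : Type u} [CommRing A]

/-- `X` becomes flat after inverting `f`. -/
def FlatAway (f : A) (X : Type u) [AddCommGroup X] [Module A X] : Prop :=
  Module.Flat (Localization.Away f) (Localization.Away f ⊗[A] X)

variable {f : A}

theorem FlatAway.of_retract {X Y : Type u} [AddCommGroup X] [Module A X] [AddCommGroup Y]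
    [Module A Y] (hY : FlatAway f Y) (i : X →ₗ[A] Y) (r : Y →ₗ[A] X)
    (h : r.comp i = LinearMap.id) : FlatAway f X := by
  haveI : Module.Flat (Localization.Away f) (Localization.Away f ⊗[A] Y) := hY
  refine Module.Flat.of_retract (i.baseChange (Localization.Away f))
    (r.baseChange (Localization.Away f)) ?_
  rw [← LinearMap.baseChange_comp, h, LinearMap.baseChange_id]

theorem FlatAway.of_free {X : Type u} [AddCommGroup X] [Module A X]
    (h : Module.Free (Localization.Away f) (Localization.Away f ⊗[A] X)) : FlatAway f X := by
  haveI := h
  exact (inferInstance : Module.Flat (Localization.Away f) (Localization.Away f ⊗[A] X))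

theorem FlatAway.of_subsingleton {X : Type u} [AddCommGroup X] [Module A X] [Subsingleton X] :
    FlatAway f X := by
  haveI : Subsingleton (Localization.Away f ⊗[A] X) := inferInstance
  exact (inferInstance : Module.Flat (Localization.Away f) (Localization.Away f ⊗[A] X))

theorem FlatAway.of_exact {K F P : Type u} [AddCommGroup K] [Module A K] [AddCommGroup F]
    [Module A F] [AddCommGroup P] [Module A P] (hK : FlatAway f K) (hP : FlatAway f P)
    (i : K →ₗ[A] F) (p : F →ₗ[A] P) (hi : Function.Injective i) (hp : Function.Surjective p)
    (hex : Function.Exact i p) : FlatAway f F := by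
  haveI : Module.Flat (Localization.Away f) (Localization.Away f ⊗[A] K) := hK
  haveI : Module.Flat (Localization.Away f) (Localization.Away f ⊗[A] P) := hP
  refine Groth.Agent.Lib.Helper89.flat_of_exact_of_flat_flat (Localization.Away f) _ _ _
    (i.baseChange (Localization.Away f)) (p.baseChange (Localization.Away f)) ?_ ?_ ?_
  · rw [LinearMap.baseChange_eq_ltensor]
    exact Module.Flat.lTensor_preserves_injective_linearMap i hi
  · rw [LinearMap.baseChange_eq_ltensor]
    exact LinearMap.lTensor_surjective _ hp
  · rw [LinearMap.baseChange_eq_ltensor, LinearMap.baseChange_eq_ltensor]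
    exact lTensor_exact _ hex hp

/-- If the `A`-module underlying a `B`-module `M` becomes flat after inverting `f : A`, then
every localization of `M` at a submonoid of `B` containing the image of `f` is flat over `A`. -/
theorem FlatAway.flat_localization {B M N : Type u} [CommRing B] [Algebra A B]
    [AddCommGroup M] [Module A M] [Module B M] [IsScalarTower A B M]
    [AddCommGroup N] [Module A N] [Module B N] [IsScalarTower A B N]
    (hflat : FlatAway f M)
    (T : Submonoid B) (hf : algebraMap A B f ∈ T) (g : M →ₗ[B] N) [IsLocalizedModule T g] :
    Module.Flat A N := by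
  haveI h1 : Module.Flat (Localization.Away f) (Localization.Away f ⊗[A] M) := hflat
  haveI h2 : Module.Flat A (Localization.Away f ⊗[A] M) :=
    Module.Flat.trans A (Localization.Away f) _
  haveI h3 : Module.Flat A (M ⊗[A] Localization.Away f) :=
    Module.Flat.of_linearEquiv (TensorProduct.comm A M (Localization.Away f))
  haveI h4 : Module.Flat A (N ⊗[A] Localization.Away f) :=
    Groth.Agent.Lib.Helper16.GenFlat.flat_of_isLocalizedModule_algebra T
      (AlgebraTensorModule.rTensor A (Localization.Away f) g)
  haveI hid : IsLocalizedModule (Submonoid.powers f) (LinearMap.id : N →ₗ[A] N) := by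
    refine ⟨?_, fun y => ⟨⟨y, 1⟩, by simp⟩, fun {x₁ x₂} h => ⟨1, by simpa using h⟩⟩
    rintro ⟨_, n, rfl⟩
    have hu := IsLocalizedModule.map_units g
      ⟨algebraMap A B f ^ n, Submonoid.pow_mem T hf n⟩
    rw [Module.End.isUnit_iff] at hu ⊢
    convert hu using 1
    ext y
    simp only [Module.algebraMap_end_apply]
    rw [← map_pow, algebraMap_smul]
  haveI hmk : IsLocalizedModule (Submonoid.powers f)
      (TensorProduct.mk A (Localization.Away f) N 1) :=
    (isLocalizedModule_iff_isBaseChange (Submonoid.powers f) (Localization.Away f) _).mpr
      (TensorProduct.isBaseChange A N (Localization.Away f))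
  have e : N ≃ₗ[A] N ⊗[A] Localization.Away f :=
    (IsLocalizedModule.linearEquiv (Submonoid.powers f) (LinearMap.id : N →ₗ[A] N)
      (TensorProduct.mk A (Localization.Away f) N 1)).trans
      (TensorProduct.comm A (Localization.Away f) N)
  exact Module.Flat.of_linearEquiv e

end Groth.Agent.Lib.Helper73.GenFlatClosed
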