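import Groth.Agent.Lib.Helper73.GenFlatClosed1

/-!
# Flatness away from `f` of the adic quotients from the graded pieces (helper73)
-/

set_option autoImplicit false
universe u

open TensorProduct

namespace Groth.Agent.Lib.Helper73.GenFlatClosed

variable (A : Type u) [CommRing A] (B : Type u) [CommRing B] [Algebra A B]
    (N : Type u) [AddCommGroup N] [Module B N] [Module A N] [IsScalarTower A B N]
    (I : Ideal B) (f : A)

/-- The quotients `N / I^n N` are flat away from `f` over `A` when the graded pieces are. -/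
theorem flatAway_quotient_pow_of_gr
    (hgr : ∀ n : ℕ, FlatAway f
      (↥(I ^ n • (⊤ : Submodule B N)) ⧸ (I • (⊤ : Submodule B ↥(I ^ n • (⊤ : Submodule B N))))))
    (n : ℕ) : FlatAway f (N ⧸ (I ^ n • (⊤ : Submodule B N))) := by
  induction n with
  | zero =>
    have : Subsingleton (N ⧸ (I ^ 0 • (⊤ : Submodule B N))) := by
      rw [pow_zero, Ideal.one_eq_top, Submodule.top_smul]
      exact Submodule.Quotient.subsingleton_iff.mpr rfl
    exact FlatAway.of_subsingleton
  | succ n ih =>
    have hle : (I ^ (n + 1) • (⊤ : Submodule B N)) ≤ (I ^ n • (⊤ : Submodule B N)) :=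
      Submodule.smul_mono_left (Ideal.pow_le_pow_right (Nat.le_succ n))
    have hmap : Submodule.map (I ^ n • (⊤ : Submodule B N)).subtype
        (I • (⊤ : Submodule B ↥(I ^ n • (⊤ : Submodule B N)))) = I ^ (n + 1) • (⊤ : Submodule B N) := by
      rw [Submodule.map_smul'', Submodule.map_subtype_top, ← Submodule.mul_smul, ← pow_succ']
    let iB : (↥(I ^ n • (⊤ : Submodule B N)) ⧸ (I • (⊤ : Submodule B ↥(I ^ n • (⊤ : Submodule B N)))))
        →ₗ[B] (N ⧸ (I ^ (n + 1) • (⊤ : Submodule B N))) :=
      Submodule.liftQ _ ((I ^ (n + 1) • (⊤ : Submodule B N)).mkQ ∘ₗ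
        (I ^ n • (⊤ : Submodule B N)).subtype) (by
          intro z hz
          rw [LinearMap.mem_ker, LinearMap.comp_apply, Submodule.mkQ_apply,
            Submodule.Quotient.mk_eq_zero, ← hmap]
          exact Submodule.mem_map_of_mem hz)
    let pB : (N ⧸ (I ^ (n + 1) • (⊤ : Submodule B N))) →ₗ[B] (N ⧸ (I ^ n • (⊤ : Submodule B N))) :=
      Submodule.mapQ _ _ LinearMap.id (by simpa using hle)
    have hiB : ∀ (y : N) (hy : y ∈ I ^ n • (⊤ : Submodule B N)),
        iB (Submodule.Quotient.mk ⟨y, hy⟩) = Submodule.Quotient.mk y := fun y hy => rfl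
    have hpB : ∀ y : N, pB (Submodule.Quotient.mk y) = Submodule.Quotient.mk y := fun y => rfl
    have hinj : Function.Injective iB := by
      rw [injective_iff_map_eq_zero]
      intro g hg
      obtain ⟨⟨y, hy⟩, rfl⟩ := Submodule.Quotient.mk_surjective _ g
      rw [hiB, Submodule.Quotient.mk_eq_zero, ← hmap] at hg
      obtain ⟨z, hz, hzy⟩ := hg
      rw [Submodule.Quotient.mk_eq_zero]
      have : z = ⟨y, hy⟩ := Subtype.ext hzy
      rwa [← this]
    have hsurj : Function.Surjective pB := by
      intro q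
      obtain ⟨y, rfl⟩ := Submodule.Quotient.mk_surjective _ q
      exact ⟨Submodule.Quotient.mk y, rfl⟩
    have hex : Function.Exact iB pB := by
      intro q
      obtain ⟨x, rfl⟩ := Submodule.Quotient.mk_surjective _ q
      rw [hpB, Submodule.Quotient.mk_eq_zero]
      constructor
      · intro hx
        exact ⟨Submodule.Quotient.mk ⟨x, hx⟩, rfl⟩
      · rintro ⟨g, hg⟩
        obtain ⟨⟨y, hy⟩, rfl⟩ := Submodule.Quotient.mk_surjective _ g
        rw [hiB] at hg
        have h2 : x - y ∈ I ^ (n + 1) • (⊤ : Submodule B N) := by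
          rw [← Submodule.Quotient.mk_eq_zero, Submodule.Quotient.mk_sub, hg, sub_self]
        have : x = (x - y) + y := by abel
        rw [this]
        exact Submodule.add_mem _ (hle h2) hy
    exact FlatAway.of_exact (hgr n) ih (iB.restrictScalars A) (pB.restrictScalars A)
      hinj hsurj hex

end Groth.Agent.Lib.Helper73.GenFlatClosed
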