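import Groth.Agent.Lib.Helper73.GenFlatClosed2
import Groth.Agent.Lib.Helper91.GenericFreeness

/-!
# Uniform generic flatness of graded pieces from a finite module over a finite type algebra
(helper73)
-/

set_option autoImplicit false
universe u

open TensorProduct

namespace Groth.Agent.Lib.Helper73.GenFlatClosed

section Retract

theorem exists_retract_quot {B : Type u} [CommRing B] (J : Ideal B) (X : Type u) [AddCommGroup X]
    [Module B X] (R' : Type u) [CommRing R'] [Algebra B R'] (P : Type u) [AddCommGroup P]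
    [Module R' P] [Module B P] [IsScalarTower B R' P]
    (ι : X →ₗ[B] P) (π : P →ₗ[B] X) (h : π.comp ι = LinearMap.id) :
    ∃ (ιbar : (X ⧸ (J • (⊤ : Submodule B X))) →ₗ[B]
        (P ⧸ ((J.map (algebraMap B R')) • (⊤ : Submodule R' P))))
      (πbar : (P ⧸ ((J.map (algebraMap B R')) • (⊤ : Submodule R' P))) →ₗ[B]
        (X ⧸ (J • (⊤ : Submodule B X)))),
      πbar.comp ιbar = LinearMap.id := by
  have hJR : ((J.map (algebraMap B R')) • (⊤ : Submodule R' P)).restrictScalars B =
      J • (⊤ : Submodule B P) := by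
    rw [Ideal.smul_restrictScalars, Submodule.restrictScalars_top]
  have hι : ∀ x ∈ J • (⊤ : Submodule B X), ι x ∈ J • (⊤ : Submodule B P) := by
    intro x hx
    have h1 : x ∈ Submodule.comap ι (J • (⊤ : Submodule B P)) := by
      refine (Submodule.smul_le.mpr fun b hb y _ => ?_) hx
      rw [Submodule.mem_comap, map_smul]
      exact Submodule.smul_mem_smul hb Submodule.mem_top
    exact h1
  have hπ : ∀ p ∈ J • (⊤ : Submodule B P), π p ∈ J • (⊤ : Submodule B X) := by
    intro p hp
    have h1 : p ∈ Submodule.comap π (J • (⊤ : Submodule B X)) := by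
      refine (Submodule.smul_le.mpr fun b hb y _ => ?_) hp
      rw [Submodule.mem_comap, map_smul]
      exact Submodule.smul_mem_smul hb Submodule.mem_top
    exact h1
  refine ⟨Submodule.liftQ _
    ((((J.map (algebraMap B R')) • (⊤ : Submodule R' P)).mkQ.restrictScalars B).comp ι) ?_,
    Submodule.liftQ (((J.map (algebraMap B R')) • (⊤ : Submodule R' P)).restrictScalars B)
      ((J • (⊤ : Submodule B X)).mkQ.comp π) ?_, ?_⟩
  · intro x hx
    rw [LinearMap.mem_ker, LinearMap.comp_apply]
    change ((J.map (algebraMap B R')) • (⊤ : Submodule R' P)).mkQ (ι x) = 0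
    rw [Submodule.mkQ_apply, Submodule.Quotient.mk_eq_zero]
    have := hι x hx
    rw [← hJR] at this
    exact this
  · rw [hJR]
    intro p hp
    rw [LinearMap.mem_ker, LinearMap.comp_apply, Submodule.mkQ_apply,
      Submodule.Quotient.mk_eq_zero]
    exact hπ p hp
  · refine LinearMap.ext fun y => ?_
    obtain ⟨x, rfl⟩ := Submodule.Quotient.mk_surjective _ y
    have := LinearMap.congr_fun h x
    rw [LinearMap.comp_apply, LinearMap.id_apply] at this
    rw [LinearMap.comp_apply, LinearMap.id_apply, Submodule.liftQ_apply, LinearMap.comp_apply]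
    change Submodule.liftQ _ _ _ (Submodule.Quotient.mk (ι x)) = _
    rw [Submodule.liftQ_apply, LinearMap.comp_apply, this, Submodule.mkQ_apply]

end Retract

section Abstract

set_option maxHeartbeats 800000 in
theorem exists_flatAway_gr_of_retract
    {A : Type u} [CommRing A] [IsDomain A] {B : Type u} [CommRing B] [Algebra A B]
    (J : Ideal B) [Algebra.FiniteType A (B ⧸ J)]
    (N : Type u) [AddCommGroup N] [Module B N] [Module A N] [IsScalarTower A B N]
    (R' : Type u) [CommRing R'] [Algebra B R'] [Algebra.FiniteType B R']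
    (P : Type u) [AddCommGroup P] [Module R' P] [Module.Finite R' P] [Module B P]
    [IsScalarTower B R' P]
    (ι : ∀ n : ℕ, ↥(J ^ n • (⊤ : Submodule B N)) →ₗ[B] P)
    (π : ∀ n : ℕ, P →ₗ[B] ↥(J ^ n • (⊤ : Submodule B N)))
    (hπι : ∀ n, (π n).comp (ι n) = LinearMap.id) :
    ∃ f : A, f ≠ 0 ∧ ∀ n : ℕ, FlatAway f
      (↥(J ^ n • (⊤ : Submodule B N)) ⧸
        (J • (⊤ : Submodule B ↥(J ^ n • (⊤ : Submodule B N))))) := by
  classical
  letI algAR : Algebra A R' := ((algebraMap B R').comp (algebraMap A B)).toAlgebra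
  haveI towABR : IsScalarTower A B R' := IsScalarTower.of_algebraMap_eq (fun _ => rfl)
  letI modAP : Module A P := Module.compHom P (algebraMap A B)
  haveI towABP : IsScalarTower A B P := IsScalarTower.of_compHom A B P
  haveI towARP : IsScalarTower A R' P := by
    refine ⟨fun a r p => ?_⟩
    change (a • r) • p = (algebraMap A B a) • (r • p)
    rw [Algebra.smul_def a r, mul_smul, ← algebraMap_smul R' (algebraMap A B a) (r • p)]
    rfl
  letI algQ : Algebra (B ⧸ J) (R' ⧸ J.map (algebraMap B R')) :=
    Ideal.Quotient.algebraQuotientOfLEComap (Ideal.le_comap_map)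
  haveI towBQ : IsScalarTower B (B ⧸ J) (R' ⧸ J.map (algebraMap B R')) :=
    IsScalarTower.of_algebraMap_eq (fun _ => rfl)
  haveI towAQ : IsScalarTower A (B ⧸ J) (R' ⧸ J.map (algebraMap B R')) :=
    IsScalarTower.of_algebraMap_eq (fun _ => rfl)
  haveI ftB : Algebra.FiniteType B (R' ⧸ J.map (algebraMap B R')) :=
    Algebra.FiniteType.of_surjective (Ideal.Quotient.mkₐ B (J.map (algebraMap B R')))
      (Ideal.Quotient.mkₐ_surjective B _)
  haveI ftQ : Algebra.FiniteType (B ⧸ J) (R' ⧸ J.map (algebraMap B R')) :=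
    Algebra.FiniteType.of_restrictScalars_finiteType B (B ⧸ J) (R' ⧸ J.map (algebraMap B R'))
  haveI ftA : Algebra.FiniteType A (R' ⧸ J.map (algebraMap B R')) :=
    Algebra.FiniteType.trans (inferInstance : Algebra.FiniteType A (B ⧸ J)) ftQ
  haveI towG : IsScalarTower A (R' ⧸ J.map (algebraMap B R'))
      (P ⧸ ((J.map (algebraMap B R')) • (⊤ : Submodule R' P))) := by
    refine ⟨fun a s g => ?_⟩
    obtain ⟨r, rfl⟩ := Ideal.Quotient.mk_surjective s
    obtain ⟨p, rfl⟩ := Submodule.Quotient.mk_surjective _ g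
    change (Ideal.Quotient.mk (J.map (algebraMap B R')) (a • r)) • Submodule.Quotient.mk p =
      a • (Ideal.Quotient.mk (J.map (algebraMap B R')) r • Submodule.Quotient.mk p)
    rw [Module.Quotient.mk_smul_mk, Module.Quotient.mk_smul_mk, ← Submodule.Quotient.mk_smul,
      smul_assoc]
  obtain ⟨f, hf0, hfree, -, -, -⟩ := Groth.Agent.Lib.Helper91.generic_freeness
    (R := A) (S := R' ⧸ J.map (algebraMap B R'))
    (M := P ⧸ ((J.map (algebraMap B R')) • (⊤ : Submodule R' P)))
  refine ⟨f, hf0, fun n => ?_⟩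
  obtain ⟨ιbar, πbar, hc⟩ := exists_retract_quot J ↥(J ^ n • (⊤ : Submodule B N)) R' P
    (ι n) (π n) (hπι n)
  have hcomp : (πbar.restrictScalars A).comp (ιbar.restrictScalars A) = LinearMap.id :=
    LinearMap.ext fun x => LinearMap.congr_fun hc x
  exact FlatAway.of_retract (FlatAway.of_free hfree) (ιbar.restrictScalars A)
    (πbar.restrictScalars A) hcomp

end Abstract

end Groth.Agent.Lib.Helper73.GenFlatClosed
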