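import Groth.Agent.Lib.Helper73.GenFlatClosed3

/-!
# Uniform generic flatness of the graded pieces of an adic filtration (helper73)
-/

set_option autoImplicit false
universe u

open TensorProduct

namespace Groth.Agent.Lib.Helper73.GenFlatClosed

theorem exists_flatAway_gr
    {A : Type u} [CommRing A] [IsDomain A] {B : Type u} [CommRing B] [IsNoetherianRing B]
    [Algebra A B] (J : Ideal B) [Algebra.FiniteType A (B ⧸ J)]
    (N : Type u) [AddCommGroup N] [Module B N] [Module A N] [IsScalarTower A B N]
    [Module.Finite B N] :
    ∃ f : A, f ≠ 0 ∧ ∀ n : ℕ, FlatAway f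
      (↥(J ^ n • (⊤ : Submodule B N)) ⧸
        (J • (⊤ : Submodule B ↥(J ^ n • (⊤ : Submodule B N))))) := by
  classical
  have hfg : ((J.stableFiltration (⊤ : Submodule B N)).submodule).FG := by
    rw [Ideal.Filtration.submodule_fg_iff_stable]
    · exact Ideal.stableFiltration_stable J ⊤
    · intro i
      exact IsNoetherian.noetherian _
  haveI : Module.Finite ↥(reesAlgebra J) ↥((J.stableFiltration (⊤ : Submodule B N)).submodule) :=
    Module.Finite.iff_fg.mpr hfg
  let ι : ∀ n : ℕ, ↥(J ^ n • (⊤ : Submodule B N)) →ₗ[B]
      ↥((J.stableFiltration (⊤ : Submodule B N)).submodule) := fun n =>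
    { toFun := fun x => ⟨PolynomialModule.single B n x.1, fun i => by
        rw [PolynomialModule.coeff_single, Finsupp.single_apply]
        split_ifs with h
        · subst h
          rw [Ideal.stableFiltration_N]
          exact x.2
        · exact Submodule.zero_mem _⟩
      map_add' := fun x y => Subtype.ext (PolynomialModule.single_add n x.1 y.1)
      map_smul' := fun b x => Subtype.ext (PolynomialModule.single_smul n b x.1) }
  let π : ∀ n : ℕ, ↥((J.stableFiltration (⊤ : Submodule B N)).submodule) →ₗ[B]
      ↥(J ^ n • (⊤ : Submodule B N)) := fun n =>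
    { toFun := fun p => ⟨p.1.coeff n, by
        have := p.2 n
        rwa [Ideal.stableFiltration_N] at this⟩
      map_add' := fun p q => Subtype.ext rfl
      map_smul' := fun b p => Subtype.ext rfl }
  refine exists_flatAway_gr_of_retract J N ↥(reesAlgebra J)
    ↥((J.stableFiltration (⊤ : Submodule B N)).submodule) ι π fun n => ?_
  refine LinearMap.ext fun x => Subtype.ext ?_
  change (PolynomialModule.single B n x.1).coeff n = x.1
  rw [PolynomialModule.coeff_single, Finsupp.single_eq_same]

end Groth.Agent.Lib.Helper73.GenFlatClosed
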