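import Groth.Agent.Lib.Helper73.GenFlatClosed4
import Groth.Agent.H76.AdicFlat

/-!
# Generic flatness along a closed subscheme of finite type: algebraic form (helper73)
-/

set_option autoImplicit false
universe u

open TensorProduct

namespace Groth.Agent.Lib.Helper73.GenFlatClosed

/-- flatness of a localization at a prime containing `J` from flatness away from `f` of the
`J`-adic quotients. -/
theorem flat_of_flatAway_quotients
    {A : Type u} [CommRing A] [IsNoetherianRing A] {B : Type u} [CommRing B]
    [IsNoetherianRing B] [Algebra A B] (J : Ideal B)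
    (N : Type u) [AddCommGroup N] [Module B N] [Module A N] [IsScalarTower A B N]
    [Module.Finite B N] (f : A)
    (hq : ∀ n : ℕ, FlatAway f (N ⧸ (J ^ n • (⊤ : Submodule B N))))
    (q : Ideal B) [q.IsPrime] (hJq : J ≤ q) (hfq : algebraMap A B f ∉ q)
    (B' : Type u) [CommRing B'] [Algebra B B'] [IsLocalization.AtPrime B' q] [Algebra A B']
    [IsScalarTower A B B']
    (N' : Type u) [AddCommGroup N'] [Module B N'] [Module B' N'] [IsScalarTower B B' N']
    [Module A N'] [IsScalarTower A B N'] [IsScalarTower A B' N']
    (g : N →ₗ[B] N') [IsLocalizedModule q.primeCompl g] : Module.Flat A N' := by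
  haveI : IsLocalRing B' := IsLocalization.AtPrime.isLocalRing B' q
  haveI : IsNoetherianRing B' := IsLocalization.isNoetherianRing q.primeCompl B' inferInstance
  haveI : Module.Finite B' N' := Module.Finite.of_isLocalizedModule q.primeCompl g
  have hI : J.map (algebraMap B B') ≠ ⊤ := by
    rw [IsLocalization.map_algebraMap_ne_top_iff_disjoint q.primeCompl]
    rw [Set.disjoint_left]
    intro x hx hxJ
    exact hx (hJq hxJ)
  refine Groth.Agent.H76.AdicFlat.flat_of_flat_quotients (A := A) (B := B')
    (J.map (algebraMap B B')) hI N' fun n => ?_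
  have hIloc : (J.map (algebraMap B B')) ^ (n + 1) • (⊤ : Submodule B' N') =
      (J ^ (n + 1) • (⊤ : Submodule B N)).localized' B' q.primeCompl g := by
    rw [Submodule.localized'_smul, Submodule.localized'_top, Ideal.localized'_eq_map,
      Ideal.map_pow]
  haveI hflat : Module.Flat A
      (N' ⧸ (J ^ (n + 1) • (⊤ : Submodule B N)).localized' B' q.primeCompl g) :=
    FlatAway.flat_localization (hq (n + 1)) q.primeCompl hfq
      (Submodule.toLocalizedQuotient' B' q.primeCompl g (J ^ (n + 1) • (⊤ : Submodule B N)))
  exact Module.Flat.of_linearEquiv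
    ((Submodule.quotEquivOfEq _ _ hIloc).restrictScalars A)

/-- **Generic flatness along a closed subscheme of finite type**, algebraic form. -/
theorem exists_flat_localization
    {A : Type u} [CommRing A] [IsDomain A] [IsNoetherianRing A] {B : Type u} [CommRing B]
    [IsNoetherianRing B] [Algebra A B] (J : Ideal B) [Algebra.FiniteType A (B ⧸ J)]
    (N : Type u) [AddCommGroup N] [Module B N] [Module A N] [IsScalarTower A B N]
    [Module.Finite B N] :
    ∃ f : A, f ≠ 0 ∧ ∀ (q : Ideal B) [q.IsPrime], J ≤ q → algebraMap A B f ∉ q →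
      ∀ (B' : Type u) [CommRing B'] [Algebra B B'] [IsLocalization.AtPrime B' q] [Algebra A B']
        [IsScalarTower A B B']
        (N' : Type u) [AddCommGroup N'] [Module B N'] [Module B' N'] [IsScalarTower B B' N']
        [Module A N'] [IsScalarTower A B N'] [IsScalarTower A B' N']
        (g : N →ₗ[B] N') [IsLocalizedModule q.primeCompl g], Module.Flat A N' := by
  obtain ⟨f, hf0, hgr⟩ := exists_flatAway_gr (A := A) J N
  refine ⟨f, hf0, fun q _ hJq hfq B' _ _ _ _ _ N' _ _ _ _ _ _ _ g _ => ?_⟩
  exact flat_of_flatAway_quotients J N f (flatAway_quotient_pow_of_gr A B N J f hgr) q hJq hfq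
    B' N' g

end Groth.Agent.Lib.Helper73.GenFlatClosed
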