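import Groth.Agent.Lib.Helper73.GenFlatClosed5
import Groth.Agent.Lib.Helper16.GenFlat.Sheaf
import Groth.Agent.Lib.Helper49.FiniteTypeAffine

/-!
# Generic flatness along a closed subscheme of finite type: scheme form (helper73)
-/

set_option autoImplicit false
set_option linter.style.haveILetI false
universe u

open TensorProduct AlgebraicGeometry CategoryTheory

namespace Groth.Agent.Lib.Helper73.GenFlatClosed

variable {X Y : Scheme.{u}}

/-- flatness of the stalk `F_x` over `O_{Y,u x}` from flatness over the sections of an affine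
open of the base. -/
theorem isFlatOverAt_of_flat_sections (u : X ⟶ Y) (F : X.Modules)
    {V : Y.Opens} (hV : IsAffineOpen V) {W : X.Opens} (e : W ≤ u ⁻¹ᵁ V) (x : W)
    (hflat : letI := (u.appLE V W e).hom.toAlgebra
      letI := Groth.Agent.Lib.Helper45.stalkModuleSections F x
      letI : Module Γ(Y, V) (F.presheaf.stalk (x : X)) :=
        Module.compHom _ ((algebraMap Γ(X, W) (X.presheaf.stalk (x : X))).comp
          (algebraMap Γ(Y, V) Γ(X, W)))
      Module.Flat Γ(Y, V) (F.presheaf.stalk (x : X))) :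
    FlatMod.IsFlatOverAt u F (x : X) := by
  have hxV : u.base (x : X) ∈ V := e x.2
  letI algRS : Algebra Γ(Y, V) Γ(X, W) := (u.appLE V W e).hom.toAlgebra
  letI modSN : Module Γ(X, W) (F.presheaf.stalk (x : X)) :=
    Groth.Agent.Lib.Helper45.stalkModuleSections F x
  letI modRN : Module Γ(Y, V) (F.presheaf.stalk (x : X)) :=
    Module.compHom _ ((algebraMap Γ(X, W) (X.presheaf.stalk (x : X))).comp
      (algebraMap Γ(Y, V) Γ(X, W)))
  unfold FlatMod.IsFlatOverAt
  letI modR'N : Module (Y.presheaf.stalk (u.base (x : X))) (F.presheaf.stalk (x : X)) :=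
    FlatMod.moduleStalkOver u F (x : X)
  letI algRR' : Algebra Γ(Y, V) (Y.presheaf.stalk (u.base (x : X))) :=
    TopCat.Presheaf.algebra_section_stalk Y.presheaf (⟨u.base (x : X), hxV⟩ : V)
  haveI hlocY : IsLocalization.AtPrime (Y.presheaf.stalk (u.base (x : X)))
      (hV.primeIdealOf (⟨u.base (x : X), hxV⟩ : V)).asIdeal :=
    hV.isLocalization_stalk (⟨u.base (x : X), hxV⟩ : V)
  haveI : IsScalarTower Γ(Y, V) (Y.presheaf.stalk (u.base (x : X)))
      (F.presheaf.stalk (x : X)) := by
    refine IsScalarTower.of_algebraMap_smul fun r n => ?_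
    change (u.stalkMap (x : X)).hom
        (algebraMap Γ(Y, V) (Y.presheaf.stalk (u.base (x : X))) r) • n =
      ((algebraMap Γ(X, W) (X.presheaf.stalk (x : X))).comp
        (algebraMap Γ(Y, V) Γ(X, W))) r • n
    congr 1
    change (u.stalkMap (x : X)).hom (Y.presheaf.germ V (u.base (x : X)) hxV r) = _
    rw [Scheme.Hom.germ_stalkMap_apply]
    simp only [RingHom.algebraMap_toAlgebra, Scheme.Hom.appLE, homOfLE_leOfHom,
      CommRingCat.hom_comp, RingHom.coe_comp, Function.comp_apply, X.presheaf.germ_res_apply]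
  exact (Module.flat_iff_of_isLocalization (Y.presheaf.stalk (u.base (x : X)))
    (hV.primeIdealOf (⟨u.base (x : X), hxV⟩ : V)).asIdeal.primeCompl
    (F.presheaf.stalk (x : X))).mpr hflat

end Groth.Agent.Lib.Helper73.GenFlatClosed
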