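import Groth.Agent.Lib.Helper73.GenFlatClosed6

/-!
# Generic flatness along a closed subscheme of finite type: one affine chart (helper73)
-/

set_option autoImplicit false
set_option linter.style.haveILetI false
universe u

open TensorProduct AlgebraicGeometry CategoryTheory

namespace Groth.Agent.Lib.Helper73.GenFlatClosed

variable {S Y Z : Scheme.{u}}

set_option maxHeartbeats 1000000 in
theorem exists_flatOverAt_affine (g : Y ⟶ S) (M : Y.Modules) [M.IsQuasicoherent]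
    (i : Z ⟶ Y) [IsClosedImmersion i] [LocallyOfFiniteType (i ≫ g)]
    {V : S.Opens} (hV : IsAffineOpen V) [IsDomain Γ(S, V)] [IsNoetherianRing Γ(S, V)]
    {W : Y.Opens} (hW : IsAffineOpen W) (e : W ≤ g ⁻¹ᵁ V)
    [IsNoetherianRing Γ(Y, W)] [Module.Finite Γ(Y, W) Γ(M, W)] :
    ∃ f : Γ(S, V), f ≠ 0 ∧ ∀ x : W, (x : Y) ∈ Set.range i.base →
      g.base (x : Y) ∈ S.basicOpen f → FlatMod.IsFlatOverAt g M (x : Y) := by
  letI algAB : Algebra Γ(S, V) Γ(Y, W) := (g.appLE V W e).hom.toAlgebra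
  letI modAN : Module Γ(S, V) Γ(M, W) := Module.compHom _ (g.appLE V W e).hom
  haveI : IsScalarTower Γ(S, V) Γ(Y, W) Γ(M, W) := IsScalarTower.of_compHom _ _ _
  -- the coordinate ring of the closed subscheme
  have hWZ : IsAffineOpen (i ⁻¹ᵁ W) := hW.preimage i
  have e' : i ⁻¹ᵁ W ≤ (i ≫ g) ⁻¹ᵁ V := fun z hz => e hz
  have hcomp : (i ≫ g).appLE V (i ⁻¹ᵁ W) e' = g.appLE V W e ≫ i.app W := by
    rw [Scheme.Hom.app_eq_appLE, Scheme.Hom.appLE_comp_appLE]
  letI algAC : Algebra Γ(S, V) Γ(Z, i ⁻¹ᵁ W) := ((i ≫ g).appLE V (i ⁻¹ᵁ W) e').hom.toAlgebra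
  haveI ftC : Algebra.FiniteType Γ(S, V) Γ(Z, i ⁻¹ᵁ W) :=
    HasRingHomProperty.appLE (P := @LocallyOfFiniteType) (i ≫ g) inferInstance ⟨V, hV⟩
      ⟨i ⁻¹ᵁ W, hWZ⟩ e'
  let φ : Γ(Y, W) →ₐ[Γ(S, V)] Γ(Z, i ⁻¹ᵁ W) :=
    { (i.app W).hom with
      commutes' := fun a => by
        change (i.app W).hom ((g.appLE V W e).hom a) = ((i ≫ g).appLE V (i ⁻¹ᵁ W) e').hom a
        rw [hcomp]
        rfl }
  have hφ : Function.Surjective φ := i.app_surjective W hW
  haveI ftQ : Algebra.FiniteType Γ(S, V) (Γ(Y, W) ⧸ RingHom.ker φ) :=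
    Algebra.FiniteType.equiv ftC (Ideal.quotientKerAlgEquivOfSurjective hφ).symm
  obtain ⟨f, hf0, hmain⟩ := exists_flat_localization (A := Γ(S, V)) (RingHom.ker φ) Γ(M, W)
  refine ⟨f, hf0, fun x hxr hzf => ?_⟩
  obtain ⟨z, hz⟩ := hxr
  have hxV : g.base (x : Y) ∈ V := e x.2
  refine isFlatOverAt_of_flat_sections g M hV e x ?_
  letI modSN : Module Γ(Y, W) (M.presheaf.stalk (x : Y)) :=
    Groth.Agent.Lib.Helper45.stalkModuleSections M x
  letI modRN : Module Γ(S, V) (M.presheaf.stalk (x : Y)) :=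
    Module.compHom _ ((algebraMap Γ(Y, W) (Y.presheaf.stalk (x : Y))).comp
      (algebraMap Γ(S, V) Γ(Y, W)))
  haveI tow1 : IsScalarTower Γ(S, V) Γ(Y, W) (M.presheaf.stalk (x : Y)) := by
    refine ⟨fun r s n => ?_⟩
    change algebraMap Γ(Y, W) (Y.presheaf.stalk (x : Y)) (r • s) • n =
      ((algebraMap Γ(Y, W) (Y.presheaf.stalk (x : Y))).comp (algebraMap Γ(S, V) Γ(Y, W))) r •
        (algebraMap Γ(Y, W) (Y.presheaf.stalk (x : Y)) s • n)
    rw [Algebra.smul_def, map_mul, mul_smul]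
    rfl
  letI algAB' : Algebra Γ(S, V) (Y.presheaf.stalk (x : Y)) :=
    ((algebraMap Γ(Y, W) (Y.presheaf.stalk (x : Y))).comp
      (algebraMap Γ(S, V) Γ(Y, W))).toAlgebra
  haveI tow2 : IsScalarTower Γ(S, V) Γ(Y, W) (Y.presheaf.stalk (x : Y)) :=
    IsScalarTower.of_algebraMap_eq (fun _ => rfl)
  haveI tow3 : IsScalarTower Γ(S, V) (Y.presheaf.stalk (x : Y))
      (M.presheaf.stalk (x : Y)) :=
    IsScalarTower.of_algebraMap_smul fun r n => rfl
  haveI hloc := Groth.Agent.Lib.Helper45.isLocalizedModule_germₗ hW M x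
  haveI hlocB := hW.isLocalization_stalk x
  have hJq : RingHom.ker φ ≤ (hW.primeIdealOf x).asIdeal := by
    intro b hb
    by_contra hbq
    have h1 : (x : Y) ∈ Y.basicOpen b :=
      (Groth.Agent.Lib.Helper45.mem_basicOpen_iff_not_mem_primeIdealOf hW
        x b).mpr hbq
    have h2 : z ∈ i ⁻¹ᵁ Y.basicOpen b := by
      change i.base z ∈ Y.basicOpen b
      rw [hz]
      exact h1
    rw [Scheme.Hom.preimage_basicOpen] at h2
    have h3 : (i.app W).hom b = 0 := hb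
    rw [show (i.app W) b = 0 from h3, Scheme.basicOpen_zero] at h2
    exact h2
  have hfq : algebraMap Γ(S, V) Γ(Y, W) f ∉ (hW.primeIdealOf x).asIdeal := by
    refine (Groth.Agent.Lib.Helper45.mem_basicOpen_iff_not_mem_primeIdealOf hW
      x _).mp ?_
    rw [Scheme.mem_basicOpen _ _ (x : Y) x.2]
    have h1 : IsUnit (S.presheaf.germ V (g.base (x : Y)) hxV f) :=
      (Scheme.mem_basicOpen _ _ (g.base (x : Y)) hxV).mp hzf
    have h2 := h1.map (g.stalkMap (x : Y)).hom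
    rw [Scheme.Hom.germ_stalkMap_apply] at h2
    convert h2 using 1
    simp only [RingHom.algebraMap_toAlgebra, Scheme.Hom.appLE, homOfLE_leOfHom,
      CommRingCat.hom_comp, RingHom.coe_comp, Function.comp_apply, Y.presheaf.germ_res_apply]
  exact hmain (hW.primeIdealOf x).asIdeal hJq hfq
    (Y.presheaf.stalk (x : Y)) (M.presheaf.stalk (x : Y))
    (Groth.Agent.Lib.Helper45.germₗ M x)

end Groth.Agent.Lib.Helper73.GenFlatClosed
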