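import Groth.Agent.S11450
import Groth.Agent.Lib.Helper41.EtGlueTorsion
import Groth.Prelude.Def_DRing3

/-!
# `Tor_1` vanishing for glueing pairs (helper73)

For a glueing pair `(R → R', f)` and a quotient `Q = R/T` of `R` by an `f`-power torsion
submodule `T`, `Tor_1^R(R', Q) = 0`.
-/

set_option autoImplicit false
set_option maxSynthPendingDepth 3
universe u

namespace Groth.Agent.Lib.Helper73.GlueTor

open CategoryTheory CategoryTheory.Limits TensorProduct MonoidalCategory
open Groth.Agent.S11450

variable {A : Type u} [CommRing A]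

/-- In a short exact sequence `0 → X₁ → X₂ → X₃ → 0` with `Tor_1(M, X₂) = 0` and
`M ⊗ X₁ → M ⊗ X₂` injective, `Tor_1(M, X₃) = 0`. -/
lemma isZero_tor_one_of_mono (M : ModuleCat.{u} A) {S : ShortComplex (ModuleCat.{u} A)}
    (hS : S.ShortExact) (h2 : IsZero (((TF M).leftDerived 1).obj S.X₂))
    (hm : Mono ((TF M).map S.f)) :
    IsZero (((TF M).leftDerived 1).obj S.X₃) := by
  obtain ⟨-, δ, w₁, w₂, hex3, hex1⟩ := Groth.Agent.Lib.Helper73.leftDerived_les (TF M) hS 0
  have hF : PreservesFiniteColimits (TF M) := by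
    change PreservesFiniteColimits (tensorLeft M)
    infer_instance
  let e := (TF M).leftDerivedZeroIsoSelf
  have hnat := e.hom.naturality S.f
  have i1 : IsIso (e.hom.app S.X₁) := ⟨⟨e.inv.app S.X₁, by simp, by simp⟩⟩
  have i2 : IsIso (e.inv.app S.X₂) := ⟨⟨e.hom.app S.X₂, by simp, by simp⟩⟩
  have h3 : ((TF M).leftDerived 0).map S.f =
      e.hom.app S.X₁ ≫ (TF M).map S.f ≫ e.inv.app S.X₂ := by
    rw [← Category.assoc, ← hnat, Category.assoc, Iso.hom_inv_id_app, Category.comp_id]
  have m1 : Mono (e.hom.app S.X₁) := IsIso.mono_of_iso _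
  have m2 : Mono (e.inv.app S.X₂) := IsIso.mono_of_iso _
  have hmono0 : Mono (((TF M).leftDerived 0).map S.f) := by
    rw [h3]
    have h4 : Mono ((TF M).map S.f ≫ e.inv.app S.X₂) := @mono_comp _ _ _ _ _ _ hm _ m2
    exact @mono_comp _ _ _ _ _ _ m1 _ h4
  have hδ : δ = 0 := by
    rw [← cancel_mono (((TF M).leftDerived 0).map S.f), w₂, zero_comp]
  have hepi : Epi (((TF M).leftDerived 1).map S.g) := hex3.epi_f hδ
  exact IsZero.of_epi (((TF M).leftDerived 1).map S.g) h2


/-- For a glueing pair `(R → R', f)` and a quotient `g : R ↠ Q` whose kernel is `f`-power torsion,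
`Tor_1^R(R', Q) = 0`. -/
theorem tor_one_subsingleton {R R' : Type u} [CommRing R] [CommRing R'] [Algebra R R'] (f : R)
    (h : EtGlue.IsGlueingPair R R' f) (Q : Type u) [AddCommGroup Q] [Module R Q]
    (g : R →ₗ[R] Q) (hg : Function.Surjective g)
    (hT : ∀ t ∈ LinearMap.ker g, ∃ n : ℕ, f ^ n * t = 0) :
    Subsingleton (DRing.Tor R 1 R' Q) := by
  have hS := shortExact_of_linear (LinearMap.ker g).subtype g (Submodule.injective_subtype _) hg
    (LinearMap.exact_subtype_ker_map g)
  have h2 : IsZero (((TF (ModuleCat.of R R')).leftDerived 1).obj (ModuleCat.of R R)) := by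
    have : Projective (ModuleCat.of R R) := by
      rw [← IsProjective.iff_projective]
      infer_instance
    exact (TF _).isZero_leftDerived_obj_projective_succ 0 _
  have hm : Mono ((TF (ModuleCat.of R R')).map
      (ModuleCat.ofHom (LinearMap.ker g).subtype)) := by
    rw [ModuleCat.mono_iff_injective]
    change Function.Injective (LinearMap.lTensor R' (LinearMap.ker g).subtype)
    rw [injective_iff_map_eq_zero]
    intro x hx
    have hbij := Groth.Agent.Lib.Helper41.EtGlueTorsion.bijective_mk_of_fPowTorsion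
      (M := LinearMap.ker g) h.1 (fun t => by
        obtain ⟨n, hn⟩ := hT t t.2
        exact ⟨n, Subtype.ext (by simpa using hn)⟩)
    obtain ⟨t, rfl⟩ := hbij.2 x
    have h1 : (1 : R') ⊗ₜ[R] (t : R) = 0 := by simpa using hx
    have h2 : algebraMap R R' (t : R) = 0 := by
      have := congrArg (TensorProduct.rid R R') h1
      simpa [Algebra.smul_def] using this
    obtain ⟨n, hn⟩ := hT t t.2
    have h3 : algebraMap R (Localization.Away f) (t : R) = 0 := by
      rw [IsLocalization.map_eq_zero_iff (Submonoid.powers f)]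
      exact ⟨⟨f ^ n, n, rfl⟩, hn⟩
    have h4 : (t : R) = 0 := h.2.1 (by simp [h2, h3])
    have h5 : t = 0 := Subtype.ext h4
    rw [h5, map_zero]
  have := isZero_tor_one_of_mono (ModuleCat.of R R') hS h2 hm
  exact ModuleCat.subsingleton_of_isZero this

end Groth.Agent.Lib.Helper73.GlueTor
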