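import Groth.Agent.Lib.Helper73.GorOverring2
import Groth.Agent.Lib.Helper98.TorsionFreeNormalForm

set_option autoImplicit false
universe u

namespace Groth.Agent.Lib.Helper73.CanonDual

open CategoryTheory Abelian IsLocalRing Limits

section DualLattice

variable {O : Type u} [CommRing O] [IsDomain O]
  {K : Type u} [Field K] [Algebra O K] [IsFractionRing O K] {n : ℕ}

omit [IsDomain O] [IsFractionRing O K] in
lemma one_mem_one' : (1 : K) ∈ (1 : Submodule O K) := Submodule.one_le.mp le_rfl

omit [IsDomain O] [IsFractionRing O K] in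
lemma mul_mem_one' {x y : K} (hx : x ∈ (1 : Submodule O K)) (hy : y ∈ (1 : Submodule O K)) :
    x * y ∈ (1 : Submodule O K) := by
  have := Submodule.mul_mem_mul hx hy
  rwa [one_mul] at this

omit [IsDomain O] [IsFractionRing O K] in
lemma single_mem_On (i : Fin n) : (Pi.single i (1 : K) : Fin n → K) ∈
    Submodule.pi Set.univ (fun _ : Fin n => (1 : Submodule O K)) := by
  rw [Submodule.mem_pi]
  intro j _
  by_cases h : j = i
  · subst h; rw [Pi.single_eq_same]; exact one_mem_one'
  · rw [Pi.single_eq_of_ne h]; exact Submodule.zero_mem _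

/-- evaluation of functionals on a lattice `L ⊇ O^n` at the standard basis -/
noncomputable def dualEmb (L : Submodule O (Fin n → K))
    (hL : Submodule.pi Set.univ (fun _ : Fin n => (1 : Submodule O K)) ≤ L) :
    (↥L →ₗ[O] ↥(1 : Submodule O K)) →ₗ[O] (Fin n → K) where
  toFun φ i := ((φ ⟨Pi.single i 1, hL (single_mem_On i)⟩ : ↥(1 : Submodule O K)) : K)
  map_add' φ ψ := by
    funext i
    simp only [LinearMap.add_apply, Submodule.coe_add, Pi.add_apply]
  map_smul' a φ := by
    funext i
    simp only [LinearMap.smul_apply, Submodule.coe_smul, Pi.smul_apply, RingHom.id_apply]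

omit [IsDomain O] [IsFractionRing O K] in
lemma dualEmb_apply (L : Submodule O (Fin n → K))
    (hL : Submodule.pi Set.univ (fun _ : Fin n => (1 : Submodule O K)) ≤ L)
    (φ : ↥L →ₗ[O] ↥(1 : Submodule O K)) (i : Fin n) :
    dualEmb L hL φ i = ((φ ⟨Pi.single i 1, hL (single_mem_On i)⟩ : ↥(1 : Submodule O K)) : K) :=
  rfl

/-- the dot product formula -/
lemma dualEmb_dot (L : Submodule O (Fin n → K))
    (hL : Submodule.pi Set.univ (fun _ : Fin n => (1 : Submodule O K)) ≤ L)
    (d : O) (hd : d ≠ 0) (hdL : ∀ x ∈ L, ∀ i, algebraMap O K d * x i ∈ (1 : Submodule O K))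
    (φ : ↥L →ₗ[O] ↥(1 : Submodule O K)) (x : ↥L) :
    ((φ x : ↥(1 : Submodule O K)) : K) = ∑ i, x.1 i * dualEmb L hL φ i := by
  classical
  choose a ha using fun i => Submodule.mem_one.mp (hdL x.1 x.2 i)
  have key : d • x = ∑ i, a i • (⟨Pi.single i 1, hL (single_mem_On i)⟩ : ↥L) := by
    apply Subtype.ext
    funext j
    rw [Submodule.coe_smul, Pi.smul_apply, Submodule.coe_sum, Finset.sum_apply,
      Algebra.smul_def, ← ha j]
    rw [Finset.sum_eq_single j]
    · rw [Submodule.coe_smul, Pi.smul_apply]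
      change algebraMap O K (a j) = a j • (Pi.single j (1 : K) : Fin n → K) j
      rw [Pi.single_eq_same, Algebra.smul_def, mul_one]
    · intro i _ hij
      rw [Submodule.coe_smul, Pi.smul_apply]
      change a i • (Pi.single i (1 : K) : Fin n → K) j = 0
      rw [Pi.single_eq_of_ne (Ne.symm hij), smul_zero]
    · intro h; exact absurd (Finset.mem_univ j) h
  have h1 := congrArg (fun y => ((φ y : ↥(1 : Submodule O K)) : K)) key
  simp only [map_smul, map_sum, Submodule.coe_smul, Submodule.coe_sum, Algebra.smul_def] at h1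
  have hdK : algebraMap O K d ≠ 0 := by
    rwa [Ne, IsFractionRing.to_map_eq_zero_iff]
  apply mul_left_cancel₀ hdK
  rw [h1, Finset.mul_sum]
  refine Finset.sum_congr rfl fun i _ => ?_
  rw [ha i, dualEmb_apply, mul_assoc]

end DualLattice

end Groth.Agent.Lib.Helper73.CanonDual
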