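import Groth.Agent.Lib.Helper73.GorLattice1

set_option autoImplicit false
universe u

namespace Groth.Agent.Lib.Helper73.CanonDual

open CategoryTheory Abelian IsLocalRing Limits

section DualLattice

variable {O : Type u} [CommRing O] [IsDomain O]
  {K : Type u} [Field K] [Algebra O K] [IsFractionRing O K] {n : ℕ}

lemma dualEmb_injective (L : Submodule O (Fin n → K))
    (hL : Submodule.pi Set.univ (fun _ : Fin n => (1 : Submodule O K)) ≤ L)
    (d : O) (hd : d ≠ 0) (hdL : ∀ x ∈ L, ∀ i, algebraMap O K d * x i ∈ (1 : Submodule O K)) :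
    Function.Injective (dualEmb L hL) := by
  rw [injective_iff_map_eq_zero]
  intro φ hφ
  ext x
  rw [dualEmb_dot L hL d hd hdL φ x, hφ]
  simp

omit [IsDomain O] [IsFractionRing O K] in
lemma range_dualEmb_le (L : Submodule O (Fin n → K))
    (hL : Submodule.pi Set.univ (fun _ : Fin n => (1 : Submodule O K)) ≤ L) :
    LinearMap.range (dualEmb L hL) ≤
      Submodule.pi Set.univ (fun _ : Fin n => (1 : Submodule O K)) := by
  rintro _ ⟨φ, rfl⟩
  rw [Submodule.mem_pi]
  intro i _
  rw [dualEmb_apply]
  exact Subtype.property _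

omit [IsDomain O] [IsFractionRing O K] in
/-- elements of `C • 1` multiply `Õ` into `O` -/
lemma mul_mem_one_of_mem_colon_smul (Ot : Submodule O K) {y : K}
    (hy : y ∈ ((1 : Submodule O K).colon Ot) • (1 : Submodule O K)) {z : K} (hz : z ∈ Ot) :
    z * y ∈ (1 : Submodule O K) := by
  refine Submodule.smul_induction_on hy (fun a ha w hw => ?_) (fun y₁ y₂ h₁ h₂ => ?_)
  · have h1 : a • z ∈ (1 : Submodule O K) := Submodule.mem_colon.mp ha z hz
    have : z * (a • w) = (a • z) * w := by
      rw [Algebra.smul_def, Algebra.smul_def]; ring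
    rw [this]
    exact mul_mem_one' h1 hw
  · rw [mul_add]
    exact Submodule.add_mem _ h₁ h₂

omit [IsDomain O] [IsFractionRing O K] in
lemma le_range_dualEmb (L : Submodule O (Fin n → K))
    (hL : Submodule.pi Set.univ (fun _ : Fin n => (1 : Submodule O K)) ≤ L)
    (Ot : Submodule O K) (hLO : L ≤ Submodule.pi Set.univ (fun _ : Fin n => Ot)) :
    Submodule.pi Set.univ
      (fun _ : Fin n => ((1 : Submodule O K).colon Ot) • (1 : Submodule O K)) ≤
      LinearMap.range (dualEmb L hL) := by
  classical
  intro c hc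
  rw [Submodule.mem_pi] at hc
  have hmem : ∀ x : ↥L, ∑ i, x.1 i * c i ∈ (1 : Submodule O K) := fun x =>
    Submodule.sum_mem _ fun i _ =>
      mul_mem_one_of_mem_colon_smul Ot (hc i (Set.mem_univ i))
        ((Submodule.mem_pi.mp (hLO x.2)) i (Set.mem_univ i))
  let φ : ↥L →ₗ[O] ↥(1 : Submodule O K) :=
    { toFun := fun x => ⟨∑ i, x.1 i * c i, hmem x⟩
      map_add' := fun x y => by
        apply Subtype.ext
        simp only [Submodule.coe_add, Pi.add_apply, add_mul, Finset.sum_add_distrib]
      map_smul' := fun a x => by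
        apply Subtype.ext
        simp only [Submodule.coe_smul, Pi.smul_apply, RingHom.id_apply, Finset.smul_sum,
          smul_mul_assoc] }
  refine ⟨φ, ?_⟩
  funext i
  rw [dualEmb_apply]
  change ∑ j, (Pi.single i (1 : K) : Fin n → K) j * c j = c i
  rw [Finset.sum_eq_single i]
  · rw [Pi.single_eq_same, one_mul]
  · intro j _ hji
    rw [Pi.single_eq_of_ne hji, zero_mul]
  · intro h; exact absurd (Finset.mem_univ i) h

/-- a lattice in `K^n` has rank `n` -/
lemma finrank_tensor_of_lattice (L : Submodule O (Fin n → K)) (d : O) (hd : d ≠ 0)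
    (hdL : ∀ y ∈ Submodule.pi Set.univ (fun _ : Fin n => (1 : Submodule O K)), d • y ∈ L) :
    Module.finrank K (TensorProduct O K ↥L) = n := by
  classical
  haveI : IsLocalizedModule (nonZeroDivisors O) L.subtype := by
    refine ⟨?_, ?_, ?_⟩
    · intro s
      rw [Module.End.isUnit_iff]
      have hs : algebraMap O K s.1 ≠ 0 := by
        rw [Ne, IsFractionRing.to_map_eq_zero_iff]
        exact nonZeroDivisors.ne_zero s.2
      constructor
      · intro x y hxy
        have h' : s.1 • x = s.1 • y := hxy
        funext i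
        have := congrFun h' i
        rw [Pi.smul_apply, Pi.smul_apply, Algebra.smul_def, Algebra.smul_def] at this
        exact mul_left_cancel₀ hs this
      · intro y
        refine ⟨fun i => (algebraMap O K s.1)⁻¹ * y i, ?_⟩
        funext i
        change s.1 • ((algebraMap O K s.1)⁻¹ * y i) = y i
        rw [Algebra.smul_def, mul_inv_cancel_left₀ hs]
    · intro y
      obtain ⟨b, hb⟩ := IsLocalization.exist_integer_multiples_of_finset (nonZeroDivisors O)
        (Finset.univ.image y)
      have hmem : b.1 • y ∈ Submodule.pi Set.univ (fun _ : Fin n => (1 : Submodule O K)) := by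
        rw [Submodule.mem_pi]
        intro i _
        obtain ⟨r, hr⟩ := hb (y i) (Finset.mem_image_of_mem y (Finset.mem_univ i))
        rw [Pi.smul_apply]
        exact Submodule.mem_one.mpr ⟨r, hr⟩
      have hdne : d ∈ nonZeroDivisors O := mem_nonZeroDivisors_of_ne_zero hd
      refine ⟨⟨⟨d • (b.1 • y), hdL _ hmem⟩, ⟨d, hdne⟩ * b⟩, ?_⟩
      change (d * b.1) • y = d • (b.1 • y)
      rw [mul_smul]
    · intro x y hxy
      exact ⟨1, by rw [Subtype.val_injective hxy]⟩
  have hbc : IsBaseChange K L.subtype :=
    IsLocalizedModule.isBaseChange (nonZeroDivisors O) K L.subtype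
  rw [LinearEquiv.finrank_eq hbc.equiv, Module.finrank_fin_fun]

end DualLattice

end Groth.Agent.Lib.Helper73.CanonDual
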