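import Groth.Agent.Lib.Helper73.GorLattice2

set_option autoImplicit false
universe u

namespace Groth.Agent.Lib.Helper73.CanonDual

open CategoryTheory Abelian IsLocalRing Limits TensorProduct

section Main

variable {O : Type u} [CommRing O] [IsDomain O] [IsNoetherianRing O] [IsLocalRing O]
  [Ring.KrullDimLE 1 O]
  {K : Type u} [Field K] [Algebra O K] [IsFractionRing O K]

/-- when `O` is its own canonical ideal (the Gorenstein case), every finitely generated
torsion-free module of rank `n` is isomorphic to a lattice between `C^n` and `O^n`. -/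
theorem exists_submodule_conductor [Infinite (ResidueField O)] (hdim : ringKrullDim O = 1)
    [Module.Finite O (integralClosure O K)] (hO : ¬ IsField O)
    (hcan : IsCanon (1 : Submodule O K))
    (M : Type u) [AddCommGroup M] [Module O M] [Module.Finite O M] [NoZeroSMulDivisors O M]
    (n : ℕ) (hn : Module.finrank K (K ⊗[O] M) = n) :
    ∃ M'' : Submodule O (Fin n → K),
      Submodule.pi Set.univ (fun _ : Fin n =>
        (((1 : Submodule O K).colon (Subalgebra.toSubmodule (integralClosure O K))) •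
          (1 : Submodule O K))) ≤ M'' ∧
      M'' ≤ Submodule.pi Set.univ (fun _ : Fin n => (1 : Submodule O K)) ∧
      Nonempty (M ≃ₗ[O] ↥M'') := by
  classical
  set Ot : Submodule O K := Subalgebra.toSubmodule (integralClosure O K) with hOt
  have hOtfg : Ot.FG := Module.Finite.iff_fg.mp (inferInstance : Module.Finite O (integralClosure O K))
  obtain ⟨d, hd0, hd⟩ := Groth.Agent.Lib.Helper74.exists_ne_zero_smul_le_of_fg_of_span_eq_top K Ot
    (1 : Submodule O K) hOtfg (span_eq_top_of_ne_bot one_ne_bot)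
  have hdC : d ∈ (1 : Submodule O K).colon Ot := Submodule.mem_colon.mpr hd
  have hdle : ∀ (L : Submodule O (Fin n → K)), L ≤ Submodule.pi Set.univ (fun _ : Fin n => Ot) →
      ∀ x ∈ L, ∀ i, algebraMap O K d * x i ∈ (1 : Submodule O K) := fun L hL x hx i => by
    rw [← Algebra.smul_def]
    exact hd _ ((Submodule.mem_pi.mp (hL hx)) i (Set.mem_univ i))
  -- step 1: normal form of `M`
  obtain ⟨M₁, h1M₁, hM₁O, ⟨e₁⟩⟩ := Groth.Agent.Lib.Helper98.exists_submodule_between O K hdim M n hn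
  let M₂ := LinearMap.range (dualEmb M₁ h1M₁)
  let e₂ : (↥M₁ →ₗ[O] ↥(1 : Submodule O K)) ≃ₗ[O] ↥M₂ :=
    LinearEquiv.ofInjective _ (dualEmb_injective M₁ h1M₁ d hd0 (hdle M₁ hM₁O))
  let e₃ : (M →ₗ[O] ↥(1 : Submodule O K)) ≃ₗ[O] (↥M₁ →ₗ[O] ↥(1 : Submodule O K)) :=
    LinearEquiv.arrowCongr e₁ (LinearEquiv.refl O _)
  have hrank : Module.finrank K (K ⊗[O] (M →ₗ[O] ↥(1 : Submodule O K))) = n := by
    rw [LinearEquiv.finrank_eq
      (TensorProduct.AlgebraTensorModule.congr (LinearEquiv.refl K K) (e₃.trans e₂))]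
    refine finrank_tensor_of_lattice M₂ d hd0 fun y hy => ?_
    apply le_range_dualEmb M₁ h1M₁ Ot hM₁O
    rw [Submodule.mem_pi] at hy ⊢
    intro i _
    rw [Pi.smul_apply]
    exact Submodule.smul_mem_smul hdC (hy i (Set.mem_univ i))
  -- step 2: normal form of `M^*`
  haveI : Module.Finite O (M →ₗ[O] ↥(1 : Submodule O K)) := finite_hom one_fg M
  haveI := noZeroSMulDivisors_hom (1 : Submodule O K) M
  obtain ⟨L, h1L, hLO, ⟨e₄⟩⟩ := Groth.Agent.Lib.Helper98.exists_submodule_between O K hdim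
    (M →ₗ[O] ↥(1 : Submodule O K)) n hrank
  let e₅ : M ≃ₗ[O] ((M →ₗ[O] ↥(1 : Submodule O K)) →ₗ[O] ↥(1 : Submodule O K)) :=
    LinearEquiv.ofBijective (ev ↥(1 : Submodule O K) (ModuleCat.of O M)).hom
      (ev_bijective hO hcan M)
  let e₆ : ((M →ₗ[O] ↥(1 : Submodule O K)) →ₗ[O] ↥(1 : Submodule O K)) ≃ₗ[O]
      (↥L →ₗ[O] ↥(1 : Submodule O K)) := LinearEquiv.arrowCongr e₄ (LinearEquiv.refl O _)
  let e₇ : (↥L →ₗ[O] ↥(1 : Submodule O K)) ≃ₗ[O] ↥(LinearMap.range (dualEmb L h1L)) :=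
    LinearEquiv.ofInjective _ (dualEmb_injective L h1L d hd0 (hdle L hLO))
  exact ⟨LinearMap.range (dualEmb L h1L), le_range_dualEmb L h1L Ot hLO, range_dualEmb_le L h1L,
    ⟨e₅.trans (e₆.trans e₇)⟩⟩

end Main

end Groth.Agent.Lib.Helper73.CanonDual
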