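import Groth.Agent.Lib.Helper73.GorLattice3

/-!
# Colengths of powers and the conductor (helper73)
-/

set_option autoImplicit false
universe u

namespace Groth.Agent.Lib.Helper73.CanonDual

open IsLocalRing

section Generic

variable {O : Type u} [CommRing O] {X : Type u} [AddCommGroup X] [Module O X]

/-- colength of powers -/
theorem length_pi_quotient (n : ℕ) {I J : Submodule O X} (hJI : J ≤ I) :
    Module.length O (↥(Submodule.pi Set.univ (fun _ : Fin n => I)) ⧸
      (Submodule.pi Set.univ (fun _ : Fin n => J)).submoduleOf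
        (Submodule.pi Set.univ (fun _ : Fin n => I))) =
      (n : ℕ∞) * Module.length O (↥I ⧸ J.submoduleOf I) := by
  let f : ↥(Submodule.pi Set.univ (fun _ : Fin n => I)) →ₗ[O]
      (Fin n → ↥I ⧸ J.submoduleOf I) :=
    { toFun := fun x i => (J.submoduleOf I).mkQ
        ⟨x.1 i, (Submodule.mem_pi.mp x.2) i (Set.mem_univ i)⟩
      map_add' := fun x y => by
        funext i
        rw [Pi.add_apply, ← map_add]
        rfl
      map_smul' := fun a x => by
        funext i
        rw [Pi.smul_apply, ← map_smul]
        rfl }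
  have hf : Function.Surjective f := by
    intro y
    choose z hz using fun i => Submodule.mkQ_surjective (J.submoduleOf I) (y i)
    refine ⟨⟨fun i => (z i).1, ?_⟩, ?_⟩
    · rw [Submodule.mem_pi]
      intro i _
      exact (z i).2
    · funext i
      exact hz i
  have hker : LinearMap.ker f = (Submodule.pi Set.univ (fun _ : Fin n => J)).submoduleOf
      (Submodule.pi Set.univ (fun _ : Fin n => I)) := by
    ext x
    rw [LinearMap.mem_ker]
    constructor
    · intro hx
      change x.1 ∈ Submodule.pi Set.univ (fun _ : Fin n => J)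
      rw [Submodule.mem_pi]
      intro i _
      have := congrFun hx i
      change (J.submoduleOf I).mkQ _ = 0 at this
      rw [Submodule.mkQ_apply, Submodule.Quotient.mk_eq_zero] at this
      exact this
    · intro hx
      have hx' : x.1 ∈ Submodule.pi Set.univ (fun _ : Fin n => J) := hx
      rw [Submodule.mem_pi] at hx'
      funext i
      change (J.submoduleOf I).mkQ _ = 0
      rw [Submodule.mkQ_apply, Submodule.Quotient.mk_eq_zero]
      exact hx' i (Set.mem_univ i)
  have e := (Submodule.quotEquivOfEq _ _ hker.symm).trans (f.quotKerEquivOfSurjective hf)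
  rw [e.length_eq, Module.length_pi]
  simp

end Generic

section Cond

variable {O : Type u} [CommRing O] {K : Type u} [CommRing K] [Algebra O K]

theorem mem_smul_one_iff (I : Ideal O) (x : K) :
    x ∈ I • (1 : Submodule O K) ↔ ∃ c ∈ I, algebraMap O K c = x := by
  constructor
  · intro hx
    refine Submodule.smul_induction_on hx (fun a ha w hw => ?_) (fun x y hx hy => ?_)
    · obtain ⟨b, rfl⟩ := Submodule.mem_one.mp hw
      refine ⟨a * b, I.mul_mem_right b ha, ?_⟩
      rw [map_mul, Algebra.smul_def]
    · obtain ⟨c, hc, rfl⟩ := hx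
      obtain ⟨c', hc', rfl⟩ := hy
      exact ⟨c + c', I.add_mem hc hc', map_add _ _ _⟩
  · rintro ⟨c, hc, rfl⟩
    have : algebraMap O K c = c • (1 : K) := by rw [Algebra.smul_def, mul_one]
    rw [this]
    exact Submodule.smul_mem_smul hc (Submodule.one_le.mp le_rfl)

theorem smul_one_le_one (I : Ideal O) : I • (1 : Submodule O K) ≤ 1 := by
  intro x hx
  obtain ⟨c, -, rfl⟩ := (mem_smul_one_iff I x).mp hx
  exact Submodule.mem_one.mpr ⟨c, rfl⟩

/-- `1 / I•1 ≃ O / I`. -/
theorem length_one_quot_smul_one (hinj : Function.Injective (algebraMap O K)) (I : Ideal O) :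
    Module.length O (↥(1 : Submodule O K) ⧸
      (I • (1 : Submodule O K)).submoduleOf (1 : Submodule O K)) = Module.length O (O ⧸ I) := by
  let f : O →ₗ[O] (↥(1 : Submodule O K) ⧸
      (I • (1 : Submodule O K)).submoduleOf (1 : Submodule O K)) :=
    ((I • (1 : Submodule O K)).submoduleOf (1 : Submodule O K)).mkQ.comp
      (LinearMap.codRestrict (1 : Submodule O K) (Algebra.linearMap O K)
        (fun a => Submodule.mem_one.mpr ⟨a, rfl⟩))
  have hf : Function.Surjective f := by
    intro y
    obtain ⟨z, rfl⟩ := Submodule.mkQ_surjective _ y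
    obtain ⟨a, ha⟩ := Submodule.mem_one.mp z.2
    refine ⟨a, ?_⟩
    change Submodule.mkQ _ _ = Submodule.mkQ _ _
    congr 1
    exact Subtype.ext ha
  have hker : LinearMap.ker f = I := by
    ext a
    rw [LinearMap.mem_ker]
    change Submodule.mkQ _ _ = 0 ↔ _
    rw [Submodule.mkQ_apply, Submodule.Quotient.mk_eq_zero]
    change algebraMap O K a ∈ I • (1 : Submodule O K) ↔ _
    rw [mem_smul_one_iff]
    constructor
    · rintro ⟨c, hc, hca⟩
      rw [← hinj hca]
      exact hc
    · intro ha
      exact ⟨a, ha, rfl⟩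
  have e := (Submodule.quotEquivOfEq _ _ hker.symm).trans (f.quotKerEquivOfSurjective hf)
  exact e.length_eq.symm

/-- the conductor (inside `K`) is stable under multiplication by elements of the overring. -/
theorem mul_mem_conductor_smul_one (A : Subalgebra O K) {a x : K} (ha : a ∈ A)
    (hx : x ∈ ((1 : Submodule O K).colon (Subalgebra.toSubmodule A)) • (1 : Submodule O K)) :
    a * x ∈ ((1 : Submodule O K).colon (Subalgebra.toSubmodule A)) • (1 : Submodule O K) := by
  obtain ⟨c, hc, rfl⟩ := (mem_smul_one_iff _ x).mp hx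
  have hc' : ∀ y ∈ Subalgebra.toSubmodule A, c • y ∈ (1 : Submodule O K) :=
    fun y hy => Submodule.mem_colon.mp hc y hy
  obtain ⟨c', hc'a⟩ := Submodule.mem_one.mp (hc' a ha)
  rw [mem_smul_one_iff]
  refine ⟨c', Submodule.mem_colon.mpr fun y hy => ?_, ?_⟩
  · have hay : a * y ∈ Subalgebra.toSubmodule A := A.mul_mem ha hy
    have := hc' (a * y) hay
    rw [Algebra.smul_def] at this ⊢
    rw [hc'a, Algebra.smul_def, mul_assoc]
    exact this
  · rw [hc'a, Algebra.smul_def, mul_comm]

end Cond

end Groth.Agent.Lib.Helper73.CanonDual
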