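import Groth.Agent.Lib.Helper73.GorLatticeLen9

/-!
# Lattices over the conductor of prescribed colength (helper73)
-/

set_option autoImplicit false
universe u v

namespace Groth.Agent.Lib.Helper73.CanonDual

open IsLocalRing Groth.Agent.Lib.Helper74

section Main

variable {O : Type u} [CommRing O] [IsDomain O] [IsNoetherianRing O] [IsLocalRing O]
  [Ring.KrullDimLE 1 O] [IsAlgClosed (ResidueField O)]
  {K : Type u} [Field K] [Algebra O K] [IsFractionRing O K]
  {B : Type u} [CommRing B] [IsDomain B] [IsPrincipalIdealRing B] [Algebra O B] [Algebra B K]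
  [IsScalarTower O B K] [IsFractionRing B K] [Algebra.IsIntegral O B]

theorem exists_lattice_colength {n : ℕ} (A : Subalgebra O K)
    (hA : ∀ x : K, x ∈ A ↔ x ∈ Set.range (algebraMap B K))
    (hAfg : (Subalgebra.toSubmodule A).FG)
    (M₁ M'' : Submodule O (Fin n → K)) (hM₁fg : M₁.FG)
    (h1M₁ : Submodule.pi Set.univ (fun _ : Fin n => (1 : Submodule O K)) ≤ M₁)
    (hM₁A : M₁ ≤ Submodule.pi Set.univ (fun _ : Fin n => Subalgebra.toSubmodule A))
    (hCM'' : Submodule.pi Set.univ (fun _ : Fin n =>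
      ((1 : Submodule O K).colon (Subalgebra.toSubmodule A)) • (1 : Submodule O K)) ≤ M'')
    (hM''1 : M'' ≤ Submodule.pi Set.univ (fun _ : Fin n => (1 : Submodule O K)))
    (σ : ↥M₁ ≃ₗ[O] ↥M'') :
    ∃ M' : Submodule O (Fin n → K),
      Submodule.pi Set.univ (fun _ : Fin n =>
        ((1 : Submodule O K).colon (Subalgebra.toSubmodule A)) • (1 : Submodule O K)) ≤ M' ∧
      M' ≤ Submodule.pi Set.univ (fun _ : Fin n => Subalgebra.toSubmodule A) ∧
      Nonempty (↥M₁ ≃ₗ[O] ↥M') ∧
      Module.length O (↥M' ⧸ Submodule.comap M'.subtype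
        (Submodule.pi Set.univ (fun _ : Fin n =>
          ((1 : Submodule O K).colon (Subalgebra.toSubmodule A)) • (1 : Submodule O K)))) =
        (n : ℕ∞) * Module.length O (O ⧸ ((1 : Submodule O K).colon (Subalgebra.toSubmodule A))) := by
  classical
  obtain ⟨d, hd0, hd⟩ := exists_ne_zero_smul_le_of_fg_of_span_eq_top K (Subalgebra.toSubmodule A)
    (1 : Submodule O K) hAfg (span_eq_top_of_ne_bot one_ne_bot)
  have hdC : d ∈ (1 : Submodule O K).colon (Subalgebra.toSubmodule A) := Submodule.mem_colon.mpr hd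
  have hdK : algebraMap O K d ≠ 0 := by
    rwa [Ne, map_eq_zero_iff _ (IsFractionRing.injective O K)]
  have hdC1 : algebraMap O K d ∈
      ((1 : Submodule O K).colon (Subalgebra.toSubmodule A)) • (1 : Submodule O K) :=
    (mem_smul_one_iff _ _).mpr ⟨d, hdC, rfl⟩
  have hC1ne : ((1 : Submodule O K).colon (Subalgebra.toSubmodule A)) • (1 : Submodule O K) ≠ ⊥ :=
    (Submodule.ne_bot_iff _).mpr ⟨_, hdC1, hdK⟩
  have hCnR := condB_restrictScalars A hA n
  rw [← hCnR] at hCM'' ⊢
  obtain ⟨P₀, hCP₀, hP₀M, hlen0⟩ :=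
    exists_pullback_conductor A hA d hd0 hd M₁ M'' h1M₁ hM₁A hCM'' hM''1 σ
  haveI : IsNoetherian B ↥(ovB A hA n) := isNoetherian_of_fg_of_noetherian _ (ovB_fg A hA n)
  have hP₀ov : P₀ ≤ ovB A hA n := fun x hx => by
    have := hM₁A (hP₀M hx)
    rw [← ovB_restrictScalars A hA n] at this
    exact this
  have hP₀fg : P₀.FG := isNoetherian_submodule.mp inferInstance P₀ hP₀ov
  have hCO : (condB A hA n).restrictScalars O ≤
      Submodule.pi Set.univ (fun _ : Fin n => (1 : Submodule O K)) := by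
    rw [hCnR]
    exact Submodule.pi_mono fun i _ => smul_one_le_one _
  have hspanCn : Submodule.span K (((condB A hA n).restrictScalars O :
      Submodule O (Fin n → K)) : Set (Fin n → K)) = ⊤ := by
    rw [hCnR]
    exact span_pi_eq_top hC1ne
  have hfin : Module.length O (↥M₁ ⧸ ((condB A hA n).restrictScalars O).submoduleOf M₁) < ⊤ :=
    length_quotient_submoduleOf_lt_top K _ M₁ hM₁fg hspanCn
  have hle : Module.length O (↥M₁ ⧸ (P₀.restrictScalars O).submoduleOf M₁) ≤
      Module.length O (↥(Submodule.pi Set.univ (fun _ : Fin n => (1 : Submodule O K))) ⧸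
        ((condB A hA n).restrictScalars O).submoduleOf
          (Submodule.pi Set.univ (fun _ : Fin n => (1 : Submodule O K)))) := by
    rw [hlen0, length_quotient_submoduleOf_add hCM'' hM''1]
    exact le_self_add
  obtain ⟨P, hCP, hPP₀, hlenP⟩ := exists_between_colength_eq (O := O) hCP₀ hP₀fg M₁
    (Submodule.pi Set.univ (fun _ : Fin n => (1 : Submodule O K))) hCO h1M₁ hP₀M hfin hle
  have hPM : P.restrictScalars O ≤ M₁ := fun x hx => hP₀M (hPP₀ hx)
  obtain ⟨M', h1, h2, h3, h4⟩ := exists_moved_lattice A hA hC1ne M₁ hM₁A P hCP hPM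
  refine ⟨M', h1, h2, h3, ?_⟩
  show Module.length O (↥M' ⧸ ((condB A hA n).restrictScalars O).submoduleOf M') = _
  rw [h4, hlenP, hCnR, length_pi_quotient n (smul_one_le_one _),
    length_one_quot_smul_one (IsFractionRing.injective O K)]

end Main

end Groth.Agent.Lib.Helper73.CanonDual
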