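import Groth.Agent.Lib.Helper73.GorLatticeLen1

/-!
# Simple modules over an integral extension of a local ring with algebraically closed
residue field (helper73)
-/

set_option autoImplicit false
universe u v

namespace Groth.Agent.Lib.Helper73.CanonDual

open IsLocalRing

section Simple

variable {O : Type u} [CommRing O] [IsLocalRing O] [IsAlgClosed (ResidueField O)]
  {B : Type u} [CommRing B] [Algebra O B] [Algebra.IsIntegral O B]

/-- every residue field of `B` is `k`. -/
theorem exists_sub_algebraMap_mem (m : Ideal B) [m.IsMaximal] (b : B) :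
    ∃ a : O, b - algebraMap O B a ∈ m := by
  have h1 : (m.comap (algebraMap O B)).IsMaximal :=
    Ideal.isMaximal_comap_of_isIntegral_of_isMaximal m
  have h2 : m.comap (algebraMap O B) = maximalIdeal O := IsLocalRing.eq_maximalIdeal h1
  have hle : maximalIdeal O ≤ m.comap (algebraMap O B) := h2.ge
  let g : ResidueField O →+* B ⧸ m := Ideal.quotientMap m (algebraMap O B) hle
  have hcomp : g.comp (IsLocalRing.residue O) =
      (Ideal.Quotient.mk m).comp (algebraMap O B) := Ideal.quotientMap_comp_mk hle
  have hint : g.IsIntegral := by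
    apply RingHom.IsIntegral.tower_top (IsLocalRing.residue O) g
    rw [hcomp]
    exact RingHom.IsIntegral.trans _ _ (algebraMap_isIntegral_iff.mpr inferInstance)
      (RingHom.isIntegral_of_surjective _ Ideal.Quotient.mk_surjective)
  obtain ⟨abar, ha⟩ := (IsAlgClosed.ringHom_bijective_of_isIntegral g hint).2
    (Ideal.Quotient.mk m b)
  obtain ⟨a, rfl⟩ := IsLocalRing.residue_surjective abar
  refine ⟨a, ?_⟩
  have : g (IsLocalRing.residue O a) = Ideal.Quotient.mk m (algebraMap O B a) :=
    RingHom.congr_fun hcomp a
  rw [this] at ha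
  exact Ideal.Quotient.eq.mp ha.symm

variable {S : Type v} [AddCommGroup S] [Module O S] [Module B S] [IsScalarTower O B S]

theorem exists_smul_eq_smul [IsSimpleModule B S] (b : B) (x : S) : ∃ a : O, b • x = a • x := by
  by_cases hx : x = 0
  · exact ⟨0, by rw [hx, smul_zero, smul_zero]⟩
  · haveI := IsSimpleModule.ker_toSpanSingleton_isMaximal B hx
    obtain ⟨a, ha⟩ := exists_sub_algebraMap_mem (O := O)
      (LinearMap.ker (LinearMap.toSpanSingleton B S x)) b
    refine ⟨a, ?_⟩
    rw [LinearMap.mem_ker, LinearMap.toSpanSingleton_apply, sub_smul, sub_eq_zero,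
      algebraMap_smul] at ha
    exact ha

theorem isSimpleModule_of_isIntegral [IsSimpleModule B S] : IsSimpleModule O S := by
  rw [isSimpleModule_iff_toSpanSingleton_surjective]
  refine ⟨IsSimpleModule.nontrivial B S, fun x hx y => ?_⟩
  obtain ⟨b, hb⟩ := IsSimpleModule.toSpanSingleton_surjective B hx y
  obtain ⟨a, ha⟩ := exists_smul_eq_smul (O := O) b x
  refine ⟨a, ?_⟩
  rw [LinearMap.toSpanSingleton_apply] at hb ⊢
  rw [← ha, hb]

end Simple

end Groth.Agent.Lib.Helper73.CanonDual
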