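import Groth.Agent.Lib.Helper73.GorLatticeLen2

/-!
# Chains of submodules over an integral extension with colength one steps (helper73)
-/

set_option autoImplicit false
universe u v

namespace Groth.Agent.Lib.Helper73.CanonDual

open IsLocalRing

section Bridge

variable {O : Type u} [CommRing O] {B : Type u} [CommRing B] [Algebra O B]
  {V : Type v} [AddCommGroup V] [Module O V] [Module B V] [IsScalarTower O B V]

/-- the quotient of `B`-submodules as an `O`-module agrees with the quotient of the
underlying `O`-submodules. -/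
noncomputable def quotBridge (P' P : Submodule B V) :
    (↥P ⧸ P'.submoduleOf P) ≃ₗ[O]
      (↥(P.restrictScalars O) ⧸
        (P'.restrictScalars O).submoduleOf (P.restrictScalars O)) :=
  (Submodule.Quotient.restrictScalarsEquiv O (P'.submoduleOf P)).symm.trans
    (Submodule.Quotient.equiv ((P'.submoduleOf P).restrictScalars O)
      ((P'.restrictScalars O).submoduleOf (P.restrictScalars O))
      (LinearEquiv.refl O ↥P) (by
        ext x
        constructor
        · rintro ⟨y, hy, rfl⟩
          exact hy
        · intro hx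
          exact ⟨x, hx, rfl⟩))

end Bridge

section Chain

variable {O : Type u} [CommRing O] [IsLocalRing O] [IsAlgClosed (ResidueField O)]
  {B : Type u} [CommRing B] [Algebra O B] [Algebra.IsIntegral O B]
  {V : Type v} [AddCommGroup V] [Module O V] [Module B V] [IsScalarTower O B V]

theorem exists_lt_length_eq_one {A P : Submodule B V} (hAP : A < P) (hP : P.FG) :
    ∃ P' : Submodule B V, A ≤ P' ∧ P' ≤ P ∧
      Module.length O (↥(P.restrictScalars O) ⧸
        (P'.restrictScalars O).submoduleOf (P.restrictScalars O)) = 1 := by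
  haveI : Module.Finite B ↥P := Module.Finite.iff_fg.mpr hP
  have hne : A.submoduleOf P ≠ ⊤ := by
    rw [Ne, Submodule.submoduleOf_eq_top]
    exact not_le_of_gt hAP
  obtain ⟨Q, hQ, hAQ⟩ := (eq_top_or_exists_le_coatom (A.submoduleOf P)).resolve_left hne
  haveI : IsSimpleModule B (↥P ⧸ Q) := isSimpleModule_iff_isCoatom.mpr hQ
  haveI : IsSimpleModule O (↥P ⧸ Q) := isSimpleModule_of_isIntegral (B := B)
  have hmap : (Q.map P.subtype).submoduleOf P = Q := by
    ext x
    constructor
    · rintro ⟨y, hy, hyx⟩
      have : y = x := Subtype.ext hyx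
      rw [← this]
      exact hy
    · intro hx
      exact ⟨x, hx, rfl⟩
  refine ⟨Q.map P.subtype, ?_, Submodule.map_subtype_le P Q, ?_⟩
  · intro x hx
    exact ⟨⟨x, hAP.le hx⟩, hAQ hx, rfl⟩
  · rw [← (quotBridge (O := O) (Q.map P.subtype) P).length_eq,
      ((Submodule.quotEquivOfEq _ _ hmap).restrictScalars O).length_eq]
    exact Module.length_eq_one_iff.mpr inferInstance

/-- intermediate value property for colengths of `B`-submodules. -/
theorem exists_between_length_eq [IsNoetherianRing B] {A P₀ : Submodule B V} (hA : A ≤ P₀)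
    (hP₀ : P₀.FG) (t : ℕ)
    (ht : (t : ℕ∞) ≤ Module.length O (↥(P₀.restrictScalars O) ⧸
        (A.restrictScalars O).submoduleOf (P₀.restrictScalars O))) :
    ∃ P : Submodule B V, A ≤ P ∧ P ≤ P₀ ∧
      Module.length O (↥(P₀.restrictScalars O) ⧸
        (P.restrictScalars O).submoduleOf (P₀.restrictScalars O)) = t := by
  induction t with
  | zero =>
    refine ⟨P₀, hA, le_rfl, ?_⟩
    rw [Nat.cast_zero, Module.length_eq_zero_iff]
    refine ⟨fun x y => ?_⟩
    obtain ⟨x, rfl⟩ := Submodule.mkQ_surjective _ x
    obtain ⟨y, rfl⟩ := Submodule.mkQ_surjective _ y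
    rw [Submodule.mkQ_apply, Submodule.mkQ_apply, Submodule.Quotient.eq]
    exact (x - y).2
  | succ t ih =>
    obtain ⟨P, hAP, hPP₀, hlen⟩ := ih (le_trans (by exact_mod_cast Nat.le_succ t) ht)
    have hne : A ≠ P := by
      rintro rfl
      rw [hlen] at ht
      exact absurd ht (by exact_mod_cast Nat.not_succ_le_self t)
    haveI : IsNoetherian B ↥P₀ := isNoetherian_of_fg_of_noetherian P₀ hP₀
    have hPfg : P.FG := isNoetherian_submodule.mp inferInstance P hPP₀
    obtain ⟨P', hAP', hP'P, hlen'⟩ := exists_lt_length_eq_one (O := O) (lt_of_le_of_ne hAP hne) hPfg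
    refine ⟨P', hAP', hP'P.trans hPP₀, ?_⟩
    have hadd := Groth.Agent.Lib.Helper74.length_quotient_submoduleOf_add (A := O)
      (L := P'.restrictScalars O) (P := P.restrictScalars O) (M := P₀.restrictScalars O)
      hP'P hPP₀
    rw [hadd, hlen, hlen']
    push_cast
    rw [add_comm]

end Chain

end Groth.Agent.Lib.Helper73.CanonDual
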