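import Groth.Agent.Lib.Helper73.GorLatticeLen3

/-!
# Lattices over a PID are related by an automorphism (helper73)
-/

set_option autoImplicit false
universe u v

namespace Groth.Agent.Lib.Helper73.CanonDual

section Lat

variable {B : Type u} [CommRing B] [IsDomain B] [IsPrincipalIdealRing B]
  {K : Type u} [Field K] [Algebra B K] [IsFractionRing B K]
  {ι : Type} [Fintype ι] [DecidableEq ι]

theorem mem_lattice_iff_repr (P : Submodule B (ι → K)) [Submodule.IsLattice K P]
    (β : Module.Basis ι B P) (x : ι → K) :
    x ∈ P ↔ ∀ i, (β.extendOfIsLattice K).repr x i ∈ Set.range (algebraMap B K) := by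
  constructor
  · intro hx i
    refine ⟨β.repr ⟨x, hx⟩ i, ?_⟩
    have h1 : x = ∑ j, algebraMap B K (β.repr ⟨x, hx⟩ j) • (β.extendOfIsLattice K) j := by
      have := congrArg Subtype.val (β.sum_repr ⟨x, hx⟩)
      simp only [Submodule.coe_sum, Submodule.coe_smul] at this
      conv_lhs => rw [← this]
      refine Finset.sum_congr rfl fun j _ => ?_
      rw [Module.Basis.extendOfIsLattice_apply, algebraMap_smul]
    conv_rhs => rw [h1]
    rw [Module.Basis.repr_sum_self]
  · intro h
    choose c hc using h
    rw [← (β.extendOfIsLattice K).sum_repr x]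
    refine Submodule.sum_mem _ fun j _ => ?_
    rw [← hc j, Module.Basis.extendOfIsLattice_apply, algebraMap_smul]
    exact P.smul_mem _ (β j).2

theorem exists_equiv_of_isLattice (P Q : Submodule B (ι → K)) [Submodule.IsLattice K P]
    [Submodule.IsLattice K Q] :
    ∃ h : (ι → K) ≃ₗ[K] (ι → K), ∀ x, x ∈ Q ↔ h x ∈ P := by
  haveI : Module.Free B P := inferInstance
  haveI : Module.Free B Q := inferInstance
  have hP : Module.finrank B P = Fintype.card ι := Submodule.IsLattice.finrank_of_pi K P
  have hQ : Module.finrank B Q = Fintype.card ι := Submodule.IsLattice.finrank_of_pi K Q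
  let β : Module.Basis ι B P :=
    (Module.finBasisOfFinrankEq B P hP).reindex (Fintype.equivFin ι).symm
  let γ : Module.Basis ι B Q :=
    (Module.finBasisOfFinrankEq B Q hQ).reindex (Fintype.equivFin ι).symm
  refine ⟨(γ.extendOfIsLattice K).repr.trans (β.extendOfIsLattice K).repr.symm, fun x => ?_⟩
  rw [mem_lattice_iff_repr Q γ, mem_lattice_iff_repr P β, LinearEquiv.trans_apply,
    LinearEquiv.apply_symm_apply]

end Lat

end Groth.Agent.Lib.Helper73.CanonDual
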