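import Groth.Agent.Lib.Helper73.GorLatticeLen4

/-!
# Extending linear maps from lattices to the ambient vector space (helper73)
-/

set_option autoImplicit false
universe u v

namespace Groth.Agent.Lib.Helper73.CanonDual

section Ext

variable {O : Type u} [CommRing O] [IsDomain O] {K : Type u} [Field K] [Algebra O K]
  [IsFractionRing O K] {n : ℕ}

/-- an `O`-linear map from a lattice containing `O^n` to `K^n` extends to a `K`-linear
endomorphism. -/
theorem exists_extend_linearMap (M₁ : Submodule O (Fin n → K))
    (h1 : Submodule.pi Set.univ (fun _ : Fin n => (1 : Submodule O K)) ≤ M₁)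
    (d : O) (hd0 : d ≠ 0)
    (hd : ∀ x ∈ M₁, ∀ i, algebraMap O K d * x i ∈ (1 : Submodule O K))
    (σ : ↥M₁ →ₗ[O] (Fin n → K)) :
    ∃ g : (Fin n → K) →ₗ[K] (Fin n → K), ∀ x : ↥M₁, g x.1 = σ x := by
  classical
  let e : Fin n → ↥M₁ := fun i => ⟨Pi.single i 1, h1 (single_mem_On i)⟩
  let g : (Fin n → K) →ₗ[K] (Fin n → K) :=
    (Pi.basisFun K (Fin n)).constr K (fun i => σ (e i))
  have hg : ∀ i, g (Pi.single i 1) = σ (e i) := by
    intro i
    have := (Pi.basisFun K (Fin n)).constr_basis K (fun i => σ (e i)) i
    rwa [Pi.basisFun_apply] at this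
  refine ⟨g, fun x => ?_⟩
  choose a ha using fun i => Submodule.mem_one.mp (hd x.1 x.2 i)
  have hx : d • x = ∑ i, a i • e i := by
    apply Subtype.ext
    funext j
    rw [Submodule.coe_smul, Pi.smul_apply, Submodule.coe_sum, Finset.sum_apply,
      Finset.sum_eq_single j]
    · rw [Submodule.coe_smul, Pi.smul_apply]
      change _ = a j • (Pi.single j (1 : K) : Fin n → K) j
      rw [Pi.single_eq_same, Algebra.smul_def, Algebra.smul_def, mul_one, ha]
    · intro i _ hij
      rw [Submodule.coe_smul, Pi.smul_apply]
      change a i • (Pi.single i (1 : K) : Fin n → K) j = 0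
      rw [Pi.single_eq_of_ne' hij, smul_zero]
    · intro h
      exact absurd (Finset.mem_univ j) h
  have h2 : d • σ x = ∑ i, a i • σ (e i) := by
    rw [← map_smul, hx, map_sum]
    simp only [map_smul]
  have h3 : d • g x.1 = ∑ i, a i • σ (e i) := by
    have : d • x.1 = ∑ i, a i • (Pi.single i (1 : K) : Fin n → K) := by
      have := congrArg Subtype.val hx
      rw [Submodule.coe_smul, Submodule.coe_sum] at this
      rw [this]
      refine Finset.sum_congr rfl fun i _ => ?_
      rw [Submodule.coe_smul]
    rw [← LinearMap.map_smul_of_tower, this, map_sum]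
    refine Finset.sum_congr rfl fun i _ => ?_
    rw [LinearMap.map_smul_of_tower, hg]
  have hdK : algebraMap O K d ≠ 0 := by
    rwa [Ne, map_eq_zero_iff _ (IsFractionRing.injective O K)]
  have h4 : algebraMap O K d • g x.1 = algebraMap O K d • σ x := by
    rw [algebraMap_smul, algebraMap_smul, h2, h3]
  exact smul_right_injective _ hdK h4

end Ext

end Groth.Agent.Lib.Helper73.CanonDual
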