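import Groth.Agent.Lib.Helper73.GorLatticeLen5

/-!
# Conductor lattices: pulling back the conductor along an extension (helper73)
-/

set_option autoImplicit false
universe u v

namespace Groth.Agent.Lib.Helper73.CanonDual

open IsLocalRing Groth.Agent.Lib.Helper74

section PiB

variable {O : Type u} [CommRing O] {K : Type u} [Field K] [Algebra O K]
  (B : Type u) [CommRing B] [Algebra O B] [Algebra B K] [IsScalarTower O B K]

/-- `I^n` as a `B`-submodule, for a `B`-stable `O`-submodule `I` of `K`. -/
def piB (I : Submodule O K) (hI : ∀ (b : B) (x : K), x ∈ I → algebraMap B K b * x ∈ I) (n : ℕ) :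
    Submodule B (Fin n → K) where
  carrier := {x | ∀ i, x i ∈ I}
  add_mem' := fun hx hy i => I.add_mem (hx i) (hy i)
  zero_mem' := fun _ => I.zero_mem
  smul_mem' := fun b x hx i => by
    rw [Pi.smul_apply, Algebra.smul_def]
    exact hI b _ (hx i)

variable {B}

theorem mem_piB {I : Submodule O K} {hI : ∀ (b : B) (x : K), x ∈ I → algebraMap B K b * x ∈ I}
    {n : ℕ} {x : Fin n → K} : x ∈ piB B I hI n ↔ ∀ i, x i ∈ I := Iff.rfl

theorem piB_restrictScalars (I : Submodule O K)
    (hI : ∀ (b : B) (x : K), x ∈ I → algebraMap B K b * x ∈ I) (n : ℕ) :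
    (piB B I hI n).restrictScalars O = Submodule.pi Set.univ (fun _ : Fin n => I) := by
  ext x
  rw [Submodule.restrictScalars_mem, mem_piB, Submodule.mem_pi]
  exact ⟨fun h i _ => h i, fun h i => h i (Set.mem_univ i)⟩

end PiB

section Span

variable {O : Type u} [CommRing O] {K : Type u} [Field K] [Algebra O K]

/-- `I^n` spans `K^n`. -/
lemma span_pi_eq_top {n : ℕ} {I : Submodule O K} (hI : I ≠ ⊥) :
    Submodule.span K ((Submodule.pi Set.univ (fun _ : Fin n => I) :
      Submodule O (Fin n → K)) : Set (Fin n → K)) = ⊤ := by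
  classical
  obtain ⟨c, hc, hc0⟩ := (Submodule.ne_bot_iff I).mp hI
  rw [eq_top_iff]
  intro v _
  have hv : v = ∑ i, (v i / c) • (Pi.single i c : Fin n → K) := by
    funext j
    rw [Finset.sum_apply, Finset.sum_eq_single j]
    · rw [Pi.smul_apply, Pi.single_eq_same, smul_eq_mul, div_mul_cancel₀ _ hc0]
    · intro i _ hij
      rw [Pi.smul_apply, Pi.single_eq_of_ne' hij, smul_zero]
    · intro h
      exact absurd (Finset.mem_univ j) h
  rw [hv]
  refine Submodule.sum_mem _ fun i _ => Submodule.smul_mem _ _ (Submodule.subset_span ?_)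
  show (Pi.single i c : Fin n → K) ∈ Submodule.pi Set.univ (fun _ : Fin n => I)
  rw [Submodule.mem_pi]
  intro j _
  by_cases h : j = i
  · subst h
    rw [Pi.single_eq_same]
    exact hc
  · rw [Pi.single_eq_of_ne h]
    exact Submodule.zero_mem _

end Span

end Groth.Agent.Lib.Helper73.CanonDual
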