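import Groth.Agent.Lib.Helper73.GorLatticeLen6

/-!
# Intermediate colengths between a lattice and the conductor (helper73)
-/

set_option autoImplicit false
universe u v

namespace Groth.Agent.Lib.Helper73.CanonDual

open IsLocalRing Groth.Agent.Lib.Helper74

section IV

variable {O : Type u} [CommRing O] [IsLocalRing O] [IsAlgClosed (ResidueField O)]
  {B : Type u} [CommRing B] [Algebra O B] [Algebra.IsIntegral O B] [IsNoetherianRing B]
  {V : Type v} [AddCommGroup V] [Module O V] [Module B V] [IsScalarTower O B V]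

theorem exists_between_colength_eq {Cb P₀ : Submodule B V} (hCP : Cb ≤ P₀) (hP₀ : P₀.FG)
    (M₁ On : Submodule O V) (hCO : Cb.restrictScalars O ≤ On) (hOM : On ≤ M₁)
    (hPM : P₀.restrictScalars O ≤ M₁)
    (hfin : Module.length O (↥M₁ ⧸ (Cb.restrictScalars O).submoduleOf M₁) < ⊤)
    (hle : Module.length O (↥M₁ ⧸ (P₀.restrictScalars O).submoduleOf M₁) ≤
      Module.length O (↥On ⧸ (Cb.restrictScalars O).submoduleOf On)) :
    ∃ P : Submodule B V, Cb ≤ P ∧ P ≤ P₀ ∧
      Module.length O (↥M₁ ⧸ (P.restrictScalars O).submoduleOf M₁) =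
        Module.length O (↥On ⧸ (Cb.restrictScalars O).submoduleOf On) := by
  have hb := length_quotient_submoduleOf_add hCO hOM
  have hc := length_quotient_submoduleOf_add (L := Cb.restrictScalars O)
    (P := P₀.restrictScalars O) (M := M₁) hCP hPM
  have hD : Module.length O (↥On ⧸ (Cb.restrictScalars O).submoduleOf On) ≤
      Module.length O (↥M₁ ⧸ (Cb.restrictScalars O).submoduleOf M₁) := by
    rw [hb]
    exact le_self_add
  have hb2 : Module.length O (↥(P₀.restrictScalars O) ⧸
      (Cb.restrictScalars O).submoduleOf (P₀.restrictScalars O)) ≤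
      Module.length O (↥M₁ ⧸ (Cb.restrictScalars O).submoduleOf M₁) := by
    rw [hc]
    exact le_self_add
  have ha2 : Module.length O (↥M₁ ⧸ (P₀.restrictScalars O).submoduleOf M₁) ≤
      Module.length O (↥M₁ ⧸ (Cb.restrictScalars O).submoduleOf M₁) := by
    rw [hc]
    exact le_add_self
  obtain ⟨T', hT'⟩ := ENat.ne_top_iff_exists.mp hfin.ne
  obtain ⟨D', hD'⟩ := ENat.ne_top_iff_exists.mp (ne_top_of_le_ne_top hfin.ne hD)
  obtain ⟨a', ha'⟩ := ENat.ne_top_iff_exists.mp (ne_top_of_le_ne_top hfin.ne ha2)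
  obtain ⟨b', hb'⟩ := ENat.ne_top_iff_exists.mp (ne_top_of_le_ne_top hfin.ne hb2)
  rw [← hD', ← ha'] at hle
  rw [← hT', ← hb', ← ha'] at hc
  rw [← hT', ← hD'] at hD
  have hle' : a' ≤ D' := by exact_mod_cast hle
  have hc' : T' = b' + a' := by exact_mod_cast hc
  have hD'' : D' ≤ T' := by exact_mod_cast hD
  have ht : ((D' - a' : ℕ) : ℕ∞) ≤ Module.length O (↥(P₀.restrictScalars O) ⧸
      (Cb.restrictScalars O).submoduleOf (P₀.restrictScalars O)) := by
    rw [← hb']
    have : D' - a' ≤ b' := by omega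
    exact_mod_cast this
  obtain ⟨P, hCP', hPP₀, hlen⟩ := exists_between_length_eq (O := O) hCP hP₀ (D' - a') ht
  refine ⟨P, hCP', hPP₀, ?_⟩
  have hf := length_quotient_submoduleOf_add (L := P.restrictScalars O)
    (P := P₀.restrictScalars O) (M := M₁) hPP₀ hPM
  rw [hf, hlen, ← ha', ← hD']
  have : D' - a' + a' = D' := by omega
  exact_mod_cast this

end IV

end Groth.Agent.Lib.Helper73.CanonDual
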