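import Groth.Agent.Lib.Helper73.GorLatticeLen7

/-!
# Pulling back the conductor along an isomorphism of lattices (helper73)
-/

set_option autoImplicit false
universe u v

namespace Groth.Agent.Lib.Helper73.CanonDual

open IsLocalRing Groth.Agent.Lib.Helper74

section Defs

variable {O : Type u} [CommRing O] {K : Type u} [Field K] [Algebra O K]
  {B : Type u} [CommRing B] [Algebra O B] [Algebra B K] [IsScalarTower O B K]

/-- `C^n` as a `B`-module, `C` the conductor of `O` in the overring `A = B`. -/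
def condB (A : Subalgebra O K) (hA : ∀ x : K, x ∈ A ↔ x ∈ Set.range (algebraMap B K)) (n : ℕ) :
    Submodule B (Fin n → K) :=
  piB B (((1 : Submodule O K).colon (Subalgebra.toSubmodule A)) • (1 : Submodule O K))
    (fun b _ hx => mul_mem_conductor_smul_one A ((hA _).mpr ⟨b, rfl⟩) hx) n

/-- `A^n` as a `B`-module. -/
def ovB (A : Subalgebra O K) (hA : ∀ x : K, x ∈ A ↔ x ∈ Set.range (algebraMap B K)) (n : ℕ) :
    Submodule B (Fin n → K) :=
  piB B (Subalgebra.toSubmodule A)
    (fun b _ hx => A.mul_mem ((hA _).mpr ⟨b, rfl⟩) hx) n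

variable (A : Subalgebra O K) (hA : ∀ x : K, x ∈ A ↔ x ∈ Set.range (algebraMap B K)) (n : ℕ)

theorem condB_restrictScalars : (condB A hA n).restrictScalars O =
    Submodule.pi Set.univ (fun _ : Fin n =>
      ((1 : Submodule O K).colon (Subalgebra.toSubmodule A)) • (1 : Submodule O K)) :=
  piB_restrictScalars _ _ n

theorem ovB_restrictScalars : (ovB A hA n).restrictScalars O =
    Submodule.pi Set.univ (fun _ : Fin n => Subalgebra.toSubmodule A) :=
  piB_restrictScalars _ _ n

theorem mem_condB {x : Fin n → K} : x ∈ condB A hA n ↔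
    ∀ i, x i ∈ ((1 : Submodule O K).colon (Subalgebra.toSubmodule A)) • (1 : Submodule O K) :=
  Iff.rfl

theorem mem_ovB {x : Fin n → K} : x ∈ ovB A hA n ↔ ∀ i, x i ∈ A := Iff.rfl

theorem ovB_fg : (ovB A hA n).FG := by
  classical
  refine ⟨Finset.univ.image (fun i : Fin n => (Pi.single i (1 : K) : Fin n → K)), ?_⟩
  apply le_antisymm
  · rw [Submodule.span_le]
    intro x hx
    obtain ⟨i, -, rfl⟩ := Finset.mem_image.mp hx
    show _ ∈ ovB A hA n
    rw [mem_ovB]
    intro j
    by_cases h : j = i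
    · subst h
      rw [Pi.single_eq_same]
      exact A.one_mem
    · rw [Pi.single_eq_of_ne h]
      exact A.zero_mem
  · intro x hx
    rw [mem_ovB] at hx
    choose b hb using fun i => (hA _).mp (hx i)
    have hxs : x = ∑ i, b i • (Pi.single i (1 : K) : Fin n → K) := by
      funext j
      rw [Finset.sum_apply, Finset.sum_eq_single j]
      · rw [Pi.smul_apply, Pi.single_eq_same, Algebra.smul_def, mul_one, hb]
      · intro i _ hij
        rw [Pi.smul_apply, Pi.single_eq_of_ne' hij, smul_zero]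
      · intro h
        exact absurd (Finset.mem_univ j) h
    rw [hxs]
    refine Submodule.sum_mem _ fun i _ => Submodule.smul_mem _ _ (Submodule.subset_span ?_)
    exact Finset.mem_coe.mpr (Finset.mem_image.mpr ⟨i, Finset.mem_univ i, rfl⟩)

end Defs

section PullBack

variable {O : Type u} [CommRing O] [IsDomain O] {K : Type u} [Field K] [Algebra O K]
  [IsFractionRing O K]
  {B : Type u} [CommRing B] [Algebra O B] [Algebra B K] [IsScalarTower O B K]

theorem exists_pullback_conductor {n : ℕ} (A : Subalgebra O K)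
    (hA : ∀ x : K, x ∈ A ↔ x ∈ Set.range (algebraMap B K))
    (d : O) (hd0 : d ≠ 0) (hd : ∀ y ∈ Subalgebra.toSubmodule A, d • y ∈ (1 : Submodule O K))
    (M₁ M'' : Submodule O (Fin n → K))
    (h1M₁ : Submodule.pi Set.univ (fun _ : Fin n => (1 : Submodule O K)) ≤ M₁)
    (hM₁A : M₁ ≤ Submodule.pi Set.univ (fun _ : Fin n => Subalgebra.toSubmodule A))
    (hCM'' : (condB A hA n).restrictScalars O ≤ M'')
    (hM''1 : M'' ≤ Submodule.pi Set.univ (fun _ : Fin n => (1 : Submodule O K)))
    (σ : ↥M₁ ≃ₗ[O] ↥M'') :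
    ∃ P₀ : Submodule B (Fin n → K), condB A hA n ≤ P₀ ∧ P₀.restrictScalars O ≤ M₁ ∧
      Module.length O (↥M₁ ⧸ (P₀.restrictScalars O).submoduleOf M₁) =
        Module.length O (↥M'' ⧸ ((condB A hA n).restrictScalars O).submoduleOf M'') := by
  classical
  have hdC : d ∈ (1 : Submodule O K).colon (Subalgebra.toSubmodule A) := Submodule.mem_colon.mpr hd
  have hdK : algebraMap O K d ≠ 0 := by
    rwa [Ne, map_eq_zero_iff _ (IsFractionRing.injective O K)]
  have hdC1 : algebraMap O K d ∈
      ((1 : Submodule O K).colon (Subalgebra.toSubmodule A)) • (1 : Submodule O K) :=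
    (mem_smul_one_iff _ _).mpr ⟨d, hdC, rfl⟩
  have hC1ne : ((1 : Submodule O K).colon (Subalgebra.toSubmodule A)) • (1 : Submodule O K) ≠ ⊥ :=
    (Submodule.ne_bot_iff _).mpr ⟨_, hdC1, hdK⟩
  have hdle : ∀ x ∈ M₁, ∀ i, algebraMap O K d * x i ∈ (1 : Submodule O K) := fun x hx i => by
    rw [← Algebra.smul_def]
    exact hd _ ((Submodule.mem_pi.mp (hM₁A hx)) i (Set.mem_univ i))
  obtain ⟨g, hg⟩ := exists_extend_linearMap M₁ h1M₁ d hd0 hdle (M''.subtype.comp σ.toLinearMap)
  have hg' : ∀ x : ↥M₁, g x.1 = (σ x).1 := hg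
  have hspanCn : Submodule.span K (((condB A hA n).restrictScalars O : Submodule O (Fin n → K)) :
      Set (Fin n → K)) = ⊤ := by
    rw [condB_restrictScalars]
    exact span_pi_eq_top hC1ne
  have hgsurj : Function.Surjective g := by
    rw [← LinearMap.range_eq_top, eq_top_iff, ← hspanCn, Submodule.span_le]
    intro x hx
    obtain ⟨y, hy⟩ := σ.surjective ⟨x, hCM'' hx⟩
    exact ⟨y.1, by rw [hg' y, hy]⟩
  have hginj : Function.Injective g := LinearMap.injective_iff_surjective.mpr hgsurj
  -- `g` preserves the conductor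
  have hsmulCn : ∀ c ∈ ((1 : Submodule O K).colon (Subalgebra.toSubmodule A)) • (1 : Submodule O K),
      ∀ y ∈ Submodule.pi Set.univ (fun _ : Fin n => (1 : Submodule O K)),
      c • y ∈ condB A hA n := fun c hc y hy => by
    rw [mem_condB]
    intro j
    obtain ⟨b, hb⟩ := Submodule.mem_one.mp ((Submodule.mem_pi.mp hy) j (Set.mem_univ j))
    rw [Pi.smul_apply, smul_eq_mul, ← hb, mul_comm, ← Algebra.smul_def]
    exact Submodule.smul_mem _ b hc
  have hgCn : ∀ x ∈ condB A hA n, g x ∈ condB A hA n := fun x hx => by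
    have hxsum : x = ∑ i, x i • (Pi.single i (1 : K) : Fin n → K) := by
      funext j
      rw [Finset.sum_apply, Finset.sum_eq_single j]
      · rw [Pi.smul_apply, Pi.single_eq_same, smul_eq_mul, mul_one]
      · intro i _ hij
        rw [Pi.smul_apply, Pi.single_eq_of_ne' hij, smul_zero]
      · intro h
        exact absurd (Finset.mem_univ j) h
    rw [hxsum, map_sum]
    refine Submodule.sum_mem _ fun i _ => ?_
    rw [map_smul]
    have : g (Pi.single i 1) = (σ ⟨Pi.single i 1, h1M₁ (single_mem_On i)⟩).1 := hg' ⟨_, _⟩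
    rw [this]
    exact hsmulCn _ ((mem_condB A hA n).mp hx i) _ (hM''1 (σ _).2)
  refine ⟨(condB A hA n).comap (g.restrictScalars B), fun x hx => hgCn x hx, ?_, ?_⟩
  · intro x hx
    have hx' : g x ∈ condB A hA n := hx
    obtain ⟨y, hy⟩ := σ.surjective ⟨g x, hCM'' hx'⟩
    have : g y.1 = g x := by rw [hg' y, hy]
    rw [← hginj this]
    exact y.2
  · refine LinearEquiv.length_eq (Submodule.Quotient.equiv _ _ σ ?_)
    ext y
    constructor
    · rintro ⟨x, hx, rfl⟩
      have hx' : g x.1 ∈ condB A hA n := hx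
      show (σ x).1 ∈ condB A hA n
      rw [← hg' x]
      exact hx'
    · intro hy
      have hy' : y.1 ∈ condB A hA n := hy
      refine ⟨σ.symm y, ?_, σ.apply_symm_apply y⟩
      show g (σ.symm y).1 ∈ condB A hA n
      rw [hg', σ.apply_symm_apply]
      exact hy'

end PullBack

end Groth.Agent.Lib.Helper73.CanonDual
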