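import Groth.Agent.Lib.Helper73.GorLatticeLen8

/-!
# Moving a lattice so that a given sublattice becomes the conductor (helper73)
-/

set_option autoImplicit false
universe u v

namespace Groth.Agent.Lib.Helper73.CanonDual

open IsLocalRing Groth.Agent.Lib.Helper74

section Move

variable {O : Type u} [CommRing O] [IsDomain O] [IsNoetherianRing O]
  {K : Type u} [Field K] [Algebra O K] [IsFractionRing O K]
  {B : Type u} [CommRing B] [IsDomain B] [IsPrincipalIdealRing B] [Algebra O B] [Algebra B K]
  [IsScalarTower O B K] [IsFractionRing B K] [Algebra.IsIntegral O B]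

theorem exists_moved_lattice {n : ℕ} (A : Subalgebra O K)
    (hA : ∀ x : K, x ∈ A ↔ x ∈ Set.range (algebraMap B K))
    (hC1ne : ((1 : Submodule O K).colon (Subalgebra.toSubmodule A)) • (1 : Submodule O K) ≠ ⊥)
    (M₁ : Submodule O (Fin n → K))
    (hM₁A : M₁ ≤ Submodule.pi Set.univ (fun _ : Fin n => Subalgebra.toSubmodule A))
    (P : Submodule B (Fin n → K)) (hCP : condB A hA n ≤ P) (hPM : P.restrictScalars O ≤ M₁) :
    ∃ M' : Submodule O (Fin n → K), (condB A hA n).restrictScalars O ≤ M' ∧
      M' ≤ Submodule.pi Set.univ (fun _ : Fin n => Subalgebra.toSubmodule A) ∧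
      Nonempty (↥M₁ ≃ₗ[O] ↥M') ∧
      Module.length O (↥M' ⧸ ((condB A hA n).restrictScalars O).submoduleOf M') =
        Module.length O (↥M₁ ⧸ (P.restrictScalars O).submoduleOf M₁) := by
  classical
  have hspanCn : Submodule.span K ((condB A hA n : Submodule B (Fin n → K)) :
      Set (Fin n → K)) = ⊤ := by
    have := span_pi_eq_top (n := n) hC1ne
    rw [← condB_restrictScalars A hA n] at this
    exact this
  haveI : IsNoetherian B ↥(ovB A hA n) := isNoetherian_of_fg_of_noetherian _ (ovB_fg A hA n)
  have hPov : P ≤ ovB A hA n := fun x hx => by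
    have := hM₁A (hPM hx)
    rw [← ovB_restrictScalars A hA n] at this
    exact this
  haveI hlatP : Submodule.IsLattice K P :=
    ⟨isNoetherian_submodule.mp inferInstance P hPov, by
      rw [eq_top_iff, ← hspanCn]
      exact Submodule.span_mono hCP⟩
  haveI hlatC : Submodule.IsLattice K (condB A hA n) :=
    ⟨isNoetherian_submodule.mp inferInstance _ (hCP.trans hPov), hspanCn⟩
  obtain ⟨h, hh⟩ := exists_equiv_of_isLattice P (condB A hA n)
  let ψ : (Fin n → K) ≃ₗ[O] (Fin n → K) := (h.restrictScalars O).symm
  have hψ : ∀ x, ψ x = h.symm x := fun x => rfl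
  have hCmap : (condB A hA n).restrictScalars O = (P.restrictScalars O).map ψ.toLinearMap := by
    ext y
    rw [Submodule.restrictScalars_mem, hh y]
    constructor
    · intro hy
      exact ⟨h y, hy, h.symm_apply_apply y⟩
    · rintro ⟨x, hx, rfl⟩
      show h (h.symm x) ∈ P
      rw [h.apply_symm_apply]
      exact hx
  have h1N : IsNoetherian O ↥(1 : Submodule O K) :=
    isNoetherian_of_fg_of_noetherian _ (by
      rw [Submodule.one_eq_span]
      exact Submodule.fg_span_singleton 1)
  have hC1fg : (((1 : Submodule O K).colon (Subalgebra.toSubmodule A)) •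
      (1 : Submodule O K)).FG := isNoetherian_submodule.mp h1N _ (smul_one_le_one _)
  refine ⟨M₁.map ψ.toLinearMap, ?_, ?_, ⟨ψ.submoduleMap M₁⟩, ?_⟩
  · rw [hCmap]
    exact Submodule.map_mono hPM
  · rintro _ ⟨z, hz, rfl⟩
    rw [Submodule.mem_pi]
    intro j _
    have hzA : z ∈ ovB A hA n := by
      have := hM₁A hz
      rwa [← ovB_restrictScalars A hA n] at this
    have hkey : ∀ c ∈ ((1 : Submodule O K).colon (Subalgebra.toSubmodule A)) •
        (1 : Submodule O K), c • h.symm z ∈ condB A hA n := fun c hc => by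
      rw [hh, map_smul, h.apply_symm_apply]
      apply hCP
      rw [mem_condB]
      intro i
      rw [Pi.smul_apply, smul_eq_mul, mul_comm]
      exact mul_mem_conductor_smul_one A ((mem_ovB A hA n).mp hzA i) hc
    have hint : IsIntegral O (h.symm z j) := by
      refine isIntegral_of_smul_mem_submodule _ hC1ne hC1fg (h.symm z j) fun c hc => ?_
      have := (mem_condB A hA n).mp (hkey c hc) j
      rw [Pi.smul_apply, smul_eq_mul, mul_comm] at this
      exact this
    have hintB : IsIntegral B (h.symm z j) := hint.tower_top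
    obtain ⟨b, hb⟩ := IsIntegrallyClosed.isIntegral_iff.mp hintB
    exact (hA _).mpr ⟨b, hb⟩
  · rw [hCmap]
    exact length_quotient_submoduleOf_map ψ (P.restrictScalars O) M₁

end Move

end Groth.Agent.Lib.Helper73.CanonDual
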