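import Groth.Agent.Lib.Helper73.CanonDualExt7
import Groth.Agent.Lib.Helper60.BC

set_option autoImplicit false
universe u

namespace Groth.Agent.Lib.Helper73.CanonDual

open CategoryTheory Abelian IsLocalRing Limits

section extCongr

variable {A : Type u} [CommRing A]

/-- `Ext` is invariant under isomorphisms in both variables (linearly). -/
noncomputable def extCongr' {X X' Y Y' : ModuleCat.{u} A} (eX : X ≅ X') (eY : Y ≅ Y') (n : ℕ) :
    Ext X Y n ≃ₗ[A] Ext X' Y' n where
  toFun e := (Ext.mk₀ eX.inv).comp (e.comp (Ext.mk₀ eY.hom) (add_zero n)) (zero_add n)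
  invFun e := (Ext.mk₀ eX.hom).comp (e.comp (Ext.mk₀ eY.inv) (add_zero n)) (zero_add n)
  map_add' x y := by rw [Ext.add_comp, Ext.comp_add]
  map_smul' a x := by rw [Ext.smul_comp, Ext.comp_smul, RingHom.id_apply]
  left_inv e := by
    simp only [Ext.comp_assoc_of_third_deg_zero, Ext.mk₀_comp_mk₀, Iso.hom_inv_id,
      Ext.comp_mk₀_id]
    rw [← Ext.comp_assoc_of_second_deg_zero]
    simp
  right_inv e := by
    simp only [Ext.comp_assoc_of_third_deg_zero, Ext.mk₀_comp_mk₀, Iso.inv_hom_id,
      Ext.comp_mk₀_id]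
    rw [← Ext.comp_assoc_of_second_deg_zero]
    simp

/-- the short complex `P → X → X ⧸ P` -/
noncomputable def subQuotSC {X : Type u} [AddCommGroup X] [Module A X] (P : Submodule A X) :
    ShortComplex (ModuleCat.{u} A) :=
  ShortComplex.mk (ModuleCat.ofHom P.subtype) (ModuleCat.ofHom P.mkQ) (by
    ext x
    exact (Submodule.Quotient.mk_eq_zero P).mpr x.2)

lemma subQuotSC_shortExact {X : Type u} [AddCommGroup X] [Module A X] (P : Submodule A X) :
    (subQuotSC P).ShortExact := by
  have hmono : Mono (subQuotSC P).f := by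
    rw [ModuleCat.mono_iff_injective]
    exact Subtype.val_injective
  have hepi : Epi (subQuotSC P).g := by
    rw [ModuleCat.epi_iff_surjective]
    exact Submodule.mkQ_surjective P
  refine ShortComplex.ShortExact.mk ?_
  rw [ShortComplex.moduleCat_exact_iff]
  intro a ha
  exact ⟨⟨a, (Submodule.Quotient.mk_eq_zero P).mp ha⟩, rfl⟩

end extCongr

section Gor

variable {O : Type u} [CommRing O] [IsDomain O] [hG : LocCoh.IsGorensteinLocalRing O]
  {K : Type u} [Field K] [Algebra O K] [IsFractionRing O K]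

omit [IsDomain O] in
lemma injdim_self_lt_two (hdim : ringKrullDim O = 1) :
    HasInjectiveDimensionLT (ModuleCat.of O O) 2 := by
  obtain ⟨t, ht, hsd, hinj⟩ :=
    Groth.Agent.Lib.Helper60.gorenstein_data (A := O) hG.exists_hasInjectiveDimensionLT
  have htn : t = 1 := by
    rw [Module.supportDim_self_eq_ringKrullDim, hdim] at hsd
    have h1 : (((1 : ℕ) : ℕ∞) : WithBot ℕ∞) = ((t : ℕ∞) : WithBot ℕ∞) := hsd
    have h2 : ((1 : ℕ) : ℕ∞) = (t : ℕ∞) := WithBot.coe_injective h1
    exact_mod_cast h2.symm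
  subst htn
  exact hinj

lemma isCanon_one [Ring.KrullDimLE 1 O] (hdim : ringKrullDim O = 1) :
    IsCanon (1 : Submodule O K) where
  ne_bot := one_ne_bot
  fg := one_fg
  inj := by
    haveI := injdim_self_lt_two (O := O) hdim
    let e1 : O ≃ₗ[O] ↥(LinearMap.range (Algebra.linearMap O K)) :=
      LinearEquiv.ofInjective (Algebra.linearMap O K) (IsFractionRing.injective O K)
    let e2 : ↥(LinearMap.range (Algebra.linearMap O K)) ≃ₗ[O] ↥(1 : Submodule O K) :=
      LinearEquiv.ofEq _ _ Submodule.one_eq_range.symm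
    exact hasInjectiveDimensionLT_of_iso (e1.trans e2).toModuleIso 2

end Gor

end Groth.Agent.Lib.Helper73.CanonDual
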