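import Groth.Agent.Lib.Helper73.GorOverring1

set_option autoImplicit false
universe u

namespace Groth.Agent.Lib.Helper73.CanonDual

open CategoryTheory Abelian IsLocalRing Limits

section Gor

variable {O : Type u} [CommRing O] [IsDomain O] [hG : LocCoh.IsGorensteinLocalRing O]
  {K : Type u} [Field K] [Algebra O K] [IsFractionRing O K]

/-- `Ext¹(M, M) ≃ Hom(M⁻¹, O/M⁻¹)` for an overring `M` of a one-dimensional Gorenstein local
domain. -/
theorem ext_one_overring (hdim : ringKrullDim O = 1) (Ms : Submodule O K) (hMsfg : Ms.FG)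
    (h1 : (1 : K) ∈ Ms) (hmul : ∀ y ∈ Ms, ∀ z ∈ Ms, y * z ∈ Ms) :
    Nonempty (Ext (ModuleCat.of O ↥Ms) (ModuleCat.of O ↥Ms) 1 ≃+
      (↥((1 : Submodule O K) / Ms) →ₗ[O]
        (O ⧸ Submodule.comap (Algebra.linearMap O K) ((1 : Submodule O K) / Ms)))) := by
  classical
  haveI : Ring.KrullDimLE 1 O := by
    rw [Ring.krullDimLE_iff, hdim]
    rfl
  have hO : ¬ IsField O := by
    intro h
    have := ringKrullDim_eq_zero_of_isField h
    rw [hdim] at this
    simp at this
  have hcan : IsCanon (1 : Submodule O K) := isCanon_one hdim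
  have hMs0 : Ms ≠ ⊥ := (Submodule.ne_bot_iff _).mpr ⟨1, h1, one_ne_zero⟩
  set N : Submodule O K := 1 / Ms with hN
  have hN0 : N ≠ ⊥ := div_ne_bot one_ne_bot hMsfg
  have hNfg : N.FG := div_fg one_fg hMs0
  have hNle : N ≤ 1 := fun x hx => by
    have := (Submodule.mem_div_iff_forall_mul_mem.mp hx) 1 h1
    rwa [mul_one] at this
  set N' : Submodule O O := Submodule.comap (Algebra.linearMap O K) N with hN'
  haveI := noZeroSMulDivisors_submodule Ms
  haveI : Module.Finite O ↥Ms := Module.Finite.iff_fg.mpr hMsfg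
  haveI := noZeroSMulDivisors_submodule N
  haveI : Module.Finite O ↥N := Module.Finite.iff_fg.mpr hNfg
  -- step 1: duality
  obtain ⟨E1⟩ := ext_dual hO hcan 1 ↥Ms ↥Ms
  -- step 2: `Hom(Ms, O) ≅ N`
  let eD : ModuleCat.of O (↥Ms →ₗ[O] ↥(1 : Submodule O K)) ≅ ModuleCat.of O ↥N :=
    (homEquivDiv Ms 1 hMs0).symm.toModuleIso
  let E2 := extCongr' eD eD 1
  -- step 3: `N' ≅ N`
  let f : ↥N' →ₗ[O] ↥N :=
    LinearMap.codRestrict N ((Algebra.linearMap O K).domRestrict N') (fun x => x.2)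
  have hf : Function.Bijective f := by
    constructor
    · intro x y hxy
      have := congrArg Subtype.val hxy
      exact Subtype.ext (IsFractionRing.injective O K this)
    · intro y
      obtain ⟨x, hx⟩ := Submodule.mem_one.mp (hNle y.2)
      refine ⟨⟨x, ?_⟩, Subtype.ext hx⟩
      change algebraMap O K x ∈ N
      rw [hx]; exact y.2
  let eN : ↥N' ≃ₗ[O] ↥N := LinearEquiv.ofBijective f hf
  let E6 := extCongr' (Iso.refl (ModuleCat.of O ↥N)) eN.toModuleIso 1
  -- step 4: the short exact sequence `N' → O → O/N'`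
  have hT := subQuotSC_shortExact N'
  have h2 : Subsingleton (Ext (ModuleCat.of O ↥N) (subQuotSC N').X₂ 1) :=
    ext_subsingleton_of_torsionFree O K (ModuleCat.of O O) (injdim_self_lt_two hdim) ↥N 1 le_rfl
  let E3 := extOneEquivCov hT (ModuleCat.of O ↥N) h2
  have hbot : coRange (S := subQuotSC N') (ModuleCat.of O ↥N) = ⊥ := by
    rw [eq_bot_iff]
    rintro _ ⟨ψ, rfl⟩
    rw [Submodule.mem_bot]
    ext x
    change N'.mkQ (ψ.hom x) = 0
    rw [Submodule.mkQ_apply, Submodule.Quotient.mk_eq_zero]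
    change algebraMap O K (ψ.hom x) ∈ N
    let ψ' : ↥N →ₗ[O] ↥(1 : Submodule O K) :=
      LinearMap.codRestrict 1 ((Algebra.linearMap O K) ∘ₗ ψ.hom)
        (fun x => Submodule.mem_one.mpr ⟨_, rfl⟩)
    obtain ⟨y, hy⟩ := mulHomₗ_surjective N 1 hN0 ψ'
    have hyMs : y.1 ∈ Ms := (div_div hO hcan Ms hMs0 hMsfg).le y.2
    have hval : algebraMap O K (ψ.hom x) = y.1 * x.1 := by
      have := congrArg (fun g => ((g x : ↥(1 : Submodule O K)) : K)) hy
      exact this.symm
    rw [hval]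
    have hx : x.1 ∈ (1 : Submodule O K) / Ms := x.2
    rw [Submodule.mem_div_iff_forall_mul_mem] at hx
    show y.1 * x.1 ∈ (1 : Submodule O K) / Ms
    rw [Submodule.mem_div_iff_forall_mul_mem]
    intro z hz
    have := hx (y.1 * z) (hmul _ hyMs _ hz)
    have heq : y.1 * x.1 * z = x.1 * (y.1 * z) := by ring
    rw [heq]; exact this
  let E4 := Submodule.quotEquivOfEqBot _ hbot
  let E5 := ModuleCat.homLinearEquiv (M := ModuleCat.of O ↥N) (N := ModuleCat.of O (O ⧸ N'))
    (S := O)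
  exact ⟨E1.trans (E2.toAddEquiv.trans (E6.symm.toAddEquiv.trans (E3.symm.toAddEquiv.trans
    (E4.toAddEquiv.trans E5.toAddEquiv))))⟩

end Gor

end Groth.Agent.Lib.Helper73.CanonDual
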