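import Groth.Agent.Lib.Helper73.GorenLCI2
import Groth.Agent.Lib.Helper93.DepthFlat

/-!
# Fibres of flat local complete intersection maps are Gorenstein (helper73)

* `inf_map_le_mul_of_flat_quotient`: if `R ⧸ J` is flat over `A` then `J ∩ 𝔞R = 𝔞J`.
* `isH1Regular_quotient_of_flat`: `H_1`-regular sequences with `A`-flat quotient stay `H_1`-regular
  modulo `𝔞R`, for every ideal `𝔞` of `A`.
* `isGorensteinRing_fiber_quotient`: if `I ⊆ P` is Koszul-regular with `P ⧸ I` flat over `A` and the
  fibre of `P` over `p` is Gorenstein, then so is the fibre of `P ⧸ I`.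
* `isGorensteinRing_fiber_of_flat_isLCI`: fibres of flat lci maps are Gorenstein.
-/

set_option autoImplicit false
set_option maxSynthPendingDepth 3
universe u

namespace Groth.Agent.Lib.Helper73.GorenLCI

open TensorProduct IsLocalRing RingTheory.Sequence Groth.Agent.Lib.Helper29

/-- If `R ⧸ J` is flat over `A`, then `J ∩ 𝔞R = 𝔞J` for every ideal `𝔞` of `A`. -/
theorem inf_map_le_mul_of_flat_quotient {A R : Type u} [CommRing A] [CommRing R] [Algebra A R]
    (J : Ideal R) [Module.Flat A (R ⧸ J)] (𝔞 : Ideal A) :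
    J ⊓ 𝔞.map (algebraMap A R) ≤ 𝔞.map (algebraMap A R) * J := by
  rintro s ⟨hsJ, hs𝔞⟩
  let g : J →ₗ[A] R := J.subtype.restrictScalars A
  let f : R →ₗ[A] R ⧸ J := (Submodule.mkQ J).restrictScalars A
  have hex : Function.Exact g f := LinearMap.exact_subtype_mkQ J
  have hinj : Function.Injective (g.lTensor (A ⧸ 𝔞)) :=
    LinearMap.lTensor_injective_of_exact_of_flat f (Submodule.mkQ_surjective J) g
      Subtype.val_injective hex (A ⧸ 𝔞)
  have h1 : (1 : A ⧸ 𝔞) ⊗ₜ[A] s = 0 := by
    apply (TensorProduct.quotTensorEquivQuotSMul R 𝔞).injective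
    rw [TensorProduct.quotTensorEquivQuotSMul_mk_one_tmul, map_zero,
      Submodule.Quotient.mk_eq_zero]
    rw [← Groth.Agent.Lib.Helper93.DepthFlat.mem_map_smul_top_iff (S := R) (N := R) 𝔞 s,
      smul_eq_mul, Ideal.mul_top]
    exact hs𝔞
  have h2 : (1 : A ⧸ 𝔞) ⊗ₜ[A] (⟨s, hsJ⟩ : J) = 0 := by
    apply hinj
    rw [map_zero, LinearMap.lTensor_tmul]
    exact h1
  have h3 : (⟨s, hsJ⟩ : J) ∈ 𝔞 • (⊤ : Submodule A J) := by
    have h4 := TensorProduct.quotTensorEquivQuotSMul_mk_one_tmul (M := J) 𝔞 ⟨s, hsJ⟩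
    rw [h2, LinearEquiv.map_zero] at h4
    exact (Submodule.Quotient.mk_eq_zero _).mp h4.symm
  have key : ∀ x ∈ 𝔞 • (⊤ : Submodule A J), (x : R) ∈ 𝔞.map (algebraMap A R) * J := by
    intro x hx
    refine Submodule.smul_induction_on hx ?_ ?_
    · intro α hα j _
      have : ((α • j : J) : R) = algebraMap A R α * (j : R) := by
        rw [Submodule.coe_smul_of_tower, Algebra.smul_def]
      rw [this]
      exact Ideal.mul_mem_mul (Ideal.mem_map_of_mem _ hα) j.2
    · intro x y hx hy
      rw [Submodule.coe_add]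
      exact Ideal.add_mem _ hx hy
  exact key _ h3

/-- `H_1`-regularity passes to the quotient by an ideal extended from a base ring over which the
quotient by the sequence is flat. -/
theorem isH1Regular_quotient_of_flat {A R : Type u} [CommRing A] [CommRing R] [Algebra A R]
    {c : ℕ} (f : Fin c → R) (hf : CAlgX.IsH1Regular f)
    [Module.Flat A (R ⧸ Ideal.span (Set.range f))] (𝔞 : Ideal A) :
    CAlgX.IsH1Regular (fun i => Ideal.Quotient.mk (𝔞.map (algebraMap A R)) (f i)) := by
  set J := Ideal.span (Set.range f) with hJ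
  set I' := 𝔞.map (algebraMap A R) with hI'
  intro ā hā
  choose a ha using fun i => Ideal.Quotient.mk_surjective (ā i)
  have hsJ : ∑ i, a i * f i ∈ J :=
    Ideal.sum_mem _ fun i _ => Ideal.mul_mem_left _ _ (Ideal.subset_span ⟨i, rfl⟩)
  have hsI : ∑ i, a i * f i ∈ I' := by
    rw [← Ideal.Quotient.eq_zero_iff_mem, map_sum, ← hā]
    exact Finset.sum_congr rfl fun i _ => by rw [map_mul, ha]
  have hs : ∑ i, a i * f i ∈ I' * J := inf_map_le_mul_of_flat_quotient J 𝔞 ⟨hsJ, hsI⟩
  have hsq : ∀ y ∈ I' * J, ∃ b : Fin c → R, (∀ i, b i ∈ I') ∧ y = ∑ i, b i * f i := by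
    intro y hy
    rw [← Ideal.smul_eq_mul, hJ] at hy
    rw [Submodule.mem_ideal_smul_span_iff_exists_sum] at hy
    obtain ⟨b, hb, hby⟩ := hy
    refine ⟨fun i => b i, hb, ?_⟩
    rw [← hby, Finsupp.sum_fintype _ _ (fun i => by simp)]
    simp
  obtain ⟨b, hb, hab⟩ := hsq _ hs
  have hrel : ∑ i, (a - b) i * f i = 0 := by
    simp only [Pi.sub_apply, sub_mul, Finset.sum_sub_distrib]
    rw [hab, sub_self]
  have hmem := hf (a - b) hrel
  let π : (Fin c → R) →ₗ[R] (Fin c → R ⧸ I') := (Submodule.mkQ I').compLeft (Fin c)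
  have hπ : π (a - b) = ā := by
    ext i
    change Ideal.Quotient.mk I' (a i - b i) = ā i
    rw [map_sub, ha, Ideal.Quotient.eq_zero_iff_mem.mpr (hb i), sub_zero]
  rw [← hπ]
  have hall : ∀ v ∈ Submodule.span R {v : Fin c → R | ∃ i j : Fin c,
      v = Pi.single i (f j) - Pi.single j (f i)},
      π v ∈ Submodule.span (R ⧸ I') {v : Fin c → R ⧸ I' | ∃ i j : Fin c,
        v = Pi.single i (Ideal.Quotient.mk I' (f j)) -
          Pi.single j (Ideal.Quotient.mk I' (f i))} := by
    intro v hv
    induction hv using Submodule.span_induction with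
    | mem v hv =>
      obtain ⟨i, j, rfl⟩ := hv
      refine Submodule.subset_span ⟨i, j, ?_⟩
      ext k
      change Ideal.Quotient.mk I' ((Pi.single i (f j) - Pi.single j (f i) : Fin c → R) k) = _
      simp only [Pi.sub_apply, Pi.single_apply, map_sub]
      split_ifs <;> simp
    | zero => rw [map_zero]; exact Submodule.zero_mem _
    | add u v _ _ hu hv => rw [map_add]; exact Submodule.add_mem _ hu hv
    | smul r v _ hv =>
      have : π (r • v) = (Ideal.Quotient.mk I' r) • π v := by
        ext k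
        change Ideal.Quotient.mk I' (r * v k) =
          Ideal.Quotient.mk I' r * Ideal.Quotient.mk I' (v k)
        rw [map_mul]
      rw [this]
      exact Submodule.smul_mem _ _ hv
  exact hall _ hmem

/-- Around a prime containing a Koszul-regular ideal `I`, the extension of `I` to the local ring is
generated by a Koszul-regular sequence. -/
theorem exists_isKoszulRegularSeq_atPrime {P : Type u} [CommRing P] (I : Ideal P)
    (hI : LCI.IsKoszulRegularIdeal I) (𝔔 : Ideal P) [𝔔.IsPrime] (hle : I ≤ 𝔔) :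
    ∃ l : List (Localization.AtPrime 𝔔), LCI.IsKoszulRegularSeq (Localization.AtPrime 𝔔) l ∧
      I.map (algebraMap P (Localization.AtPrime 𝔔)) = Ideal.ofList l := by
  obtain ⟨g, hg, l, hl, hIl⟩ := hI ⟨𝔔, inferInstance⟩ hle
  have hg' : g ∉ 𝔔 := hg
  have hu : IsUnit (algebraMap P (Localization.AtPrime 𝔔) g) :=
    IsLocalization.map_units (Localization.AtPrime 𝔔) (⟨g, hg'⟩ : 𝔔.primeCompl)
  let ψ : Localization.Away g →+* Localization.AtPrime 𝔔 := IsLocalization.Away.lift g hu
  have hψ : ψ.comp (algebraMap P (Localization.Away g)) = algebraMap P (Localization.AtPrime 𝔔) :=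
    IsLocalization.Away.lift_comp g hu
  letI : Algebra (Localization.Away g) (Localization.AtPrime 𝔔) := ψ.toAlgebra
  haveI : IsScalarTower P (Localization.Away g) (Localization.AtPrime 𝔔) :=
    IsScalarTower.of_algebraMap_eq (fun x => (IsLocalization.Away.lift_eq g hu x).symm)
  have hpow : Submonoid.powers g ≤ 𝔔.primeCompl := by
    rintro _ ⟨n, rfl⟩
    exact fun h => hg' (Ideal.IsPrime.mem_of_pow_mem inferInstance n h)
  haveI : IsLocalization (𝔔.primeCompl.map (algebraMap P (Localization.Away g)))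
      (Localization.AtPrime 𝔔) :=
    IsLocalization.isLocalization_of_submonoid_le (Localization.Away g) (Localization.AtPrime 𝔔)
      (Submonoid.powers g) 𝔔.primeCompl hpow
  have hflat : Module.Flat (Localization.Away g) (Localization.AtPrime 𝔔) :=
    IsLocalization.flat (Localization.AtPrime 𝔔)
      (𝔔.primeCompl.map (algebraMap P (Localization.Away g)))
  have hψflat : ψ.Flat := hflat
  refine ⟨l.map ψ, Groth.Agent.Lib.Helper10.KoszulFlat.isKoszulRegularSeq_map ψ hψflat l hl, ?_⟩
  rw [← hψ, ← Ideal.map_map, hIl]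
  exact Ideal.map_ofList ψ l

end Groth.Agent.Lib.Helper73.GorenLCI
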