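import Groth.Agent.Lib.Helper73.GorenLCI3

/-!
# Fibres of flat local complete intersection maps are Gorenstein, II (helper73)

* `isGorensteinLocalRing_quotient_fibre`: the local core.
* `isGorensteinRing_fiber_quotient`: if `I ⊆ P` is Koszul-regular with `P ⧸ I` flat over `A` and the
  fibre of `P` over `p` is Gorenstein, then so is the fibre of `P ⧸ I`.
* `isGorensteinRing_fiber_of_flat_isLCI`: fibres of flat lci maps are Gorenstein.
-/

set_option autoImplicit false
set_option maxSynthPendingDepth 3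
set_option linter.style.haveILetI false
universe u

namespace Groth.Agent.Lib.Helper73.GorenLCI

open TensorProduct IsLocalRing RingTheory.Sequence Groth.Agent.Lib.Helper29

/-- Local core: `L` local `A`-algebra, `l` an `H_1`-regular sequence in the maximal ideal with
`A`-flat quotient; if `L ⧸ 𝔞L` is Gorenstein then so is `(L ⧸ (l)) ⧸ 𝔞(L ⧸ (l))`. -/
theorem isGorensteinLocalRing_quotient_fibre {A L : Type u} [CommRing A] [CommRing L] [Algebra A L]
    [IsLocalRing L] (𝔞 : Ideal A) (l : List L) (hH1 : CAlgX.IsH1Regular l.get)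
    (hflat : Module.Flat A (L ⧸ Ideal.ofList l)) (hmem : ∀ r ∈ l, r ∈ maximalIdeal L)
    (hG : LocCoh.IsGorensteinLocalRing (L ⧸ 𝔞.map (algebraMap A L))) :
    LocCoh.IsGorensteinLocalRing
      ((L ⧸ Ideal.ofList l) ⧸ 𝔞.map (algebraMap A (L ⧸ Ideal.ofList l))) := by
  have hrange : Ideal.span (Set.range l.get) = Ideal.ofList l := by
    congr 1
    ext x
    simp only [Set.mem_range, Set.mem_setOf_eq]
    exact List.mem_iff_get.symm
  haveI : Module.Flat A (L ⧸ Ideal.span (Set.range l.get)) := by rw [hrange]; exact hflat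
  have h1 := isH1Regular_quotient_of_flat l.get hH1 𝔞
  have hN : IsNoetherianRing (L ⧸ 𝔞.map (algebraMap A L)) := hG.toIsNoetherian
  have hloc : IsLocalRing (L ⧸ 𝔞.map (algebraMap A L)) := hG.toIsLocalRing
  have hlh : IsLocalHom (Ideal.Quotient.mk (𝔞.map (algebraMap A L))) :=
    IsLocalHom.of_surjective _ Ideal.Quotient.mk_surjective
  have hof : List.ofFn (fun i => Ideal.Quotient.mk (𝔞.map (algebraMap A L)) (l.get i)) =
      l.map (Ideal.Quotient.mk (𝔞.map (algebraMap A L))) := by
    rw [List.ofFn_comp', List.ofFn_get]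
  have hmem' : ∀ r ∈ l.map (Ideal.Quotient.mk (𝔞.map (algebraMap A L))),
      r ∈ maximalIdeal (L ⧸ 𝔞.map (algebraMap A L)) := by
    intro r hr
    obtain ⟨r0, hr0, rfl⟩ := List.mem_map.mp hr
    exact _root_.map_nonunit _ r0 (hmem r0 hr0)
  have hrad : ∀ i, Ideal.Quotient.mk (𝔞.map (algebraMap A L)) (l.get i) ∈
      (⊥ : Ideal (L ⧸ 𝔞.map (algebraMap A L))).jacobson := by
    intro i
    rw [IsLocalRing.jacobson_eq_maximalIdeal ⊥ bot_ne_top]
    exact _root_.map_nonunit _ _ (hmem _ (List.get_mem l i))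
  have h2 := koszulH1Zero_of_isH1Regular _ h1
  have h3 := Groth.Agent.Lib.Helper14.isWeaklyRegular_of_koszulH1Zero _ hrad h2
  rw [hof] at h3
  have h4 := isGorensteinLocalRing_quotient_ofList _ (L ⧸ 𝔞.map (algebraMap A L))
    (l.map (Ideal.Quotient.mk (𝔞.map (algebraMap A L)))) rfl hmem' h3 hG
  have hK' : 𝔞.map (algebraMap A (L ⧸ Ideal.ofList l)) =
      (𝔞.map (algebraMap A L)).map (Ideal.Quotient.mk (Ideal.ofList l)) := by
    rw [Ideal.map_map]
    rfl
  have hJ' : Ideal.ofList (l.map (Ideal.Quotient.mk (𝔞.map (algebraMap A L)))) =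
      (Ideal.ofList l).map (Ideal.Quotient.mk (𝔞.map (algebraMap A L))) :=
    (Ideal.map_ofList _ _).symm
  let e : ((L ⧸ Ideal.ofList l) ⧸ 𝔞.map (algebraMap A (L ⧸ Ideal.ofList l))) ≃+*
      ((L ⧸ 𝔞.map (algebraMap A L)) ⧸
        Ideal.ofList (l.map (Ideal.Quotient.mk (𝔞.map (algebraMap A L))))) :=
    (Ideal.quotEquivOfEq hK').trans
      ((DoubleQuot.quotQuotEquivComm (Ideal.ofList l) (𝔞.map (algebraMap A L))).trans
        (Ideal.quotEquivOfEq hJ'.symm))
  exact Groth.Agent.Lib.Helper24.isGorensteinLocalRing_of_ringEquiv e.symm h4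

section

variable {A P : Type u} [CommRing A] [CommRing P] [Algebra A P] (I : Ideal P)

instance isScalarTower_quotient_localization_quotient (𝔔 : Ideal P) [𝔔.IsPrime] :
    IsScalarTower A (P ⧸ I)
      (Localization.AtPrime 𝔔 ⧸ I.map (algebraMap P (Localization.AtPrime 𝔔))) :=
  IsScalarTower.of_algebraMap_eq (fun _ => rfl)

theorem flat_localization_quotient [Module.Flat A (P ⧸ I)] (𝔔 : Ideal P) [𝔔.IsPrime] :
    Module.Flat A (Localization.AtPrime 𝔔 ⧸ I.map (algebraMap P (Localization.AtPrime 𝔔))) := by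
  have h1 : Module.Flat (P ⧸ I)
      (Localization.AtPrime 𝔔 ⧸ I.map (algebraMap P (Localization.AtPrime 𝔔))) :=
    IsLocalization.flat _ (Algebra.algebraMapSubmonoid (P ⧸ I) 𝔔.primeCompl)
  exact Module.Flat.trans A (P ⧸ I) _

theorem localizationQuotientEquiv_algebraMap (Q : Ideal (P ⧸ I)) [Q.IsPrime]
    (x : P ⧸ I) :
    localizationQuotientEquiv I Q (algebraMap (P ⧸ I) (Localization.AtPrime Q) x) =
      algebraMap (P ⧸ I) _ x := by
  unfold localizationQuotientEquiv
  simp only [AlgEquiv.coe_ringEquiv, AlgEquiv.commutes]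

/-- The local form: the local rings of the fibre of `P ⧸ I` are Gorenstein. -/
theorem isGorensteinLocalRing_localization_quotient_fibre (hI : LCI.IsKoszulRegularIdeal I)
    [Module.Flat A (P ⧸ I)] (p : Ideal A) [p.IsPrime] (hF : LocCoh.IsGorensteinRing (p.Fiber P))
    (q : Ideal (P ⧸ I)) [q.IsPrime] [q.LiesOver p] :
    LocCoh.IsGorensteinLocalRing
      (Localization.AtPrime q ⧸ p.map (algebraMap A (Localization.AtPrime q))) := by
  have h𝔔p : (q.comap (Ideal.Quotient.mk I)).LiesOver p := by
    refine ⟨?_⟩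
    have h1 : p = q.under A := Ideal.LiesOver.over
    rw [h1, Ideal.under_def, Ideal.under_def, Ideal.comap_comap]
    rfl
  have hle : I ≤ q.comap (Ideal.Quotient.mk I) := by
    intro x hx
    rw [Ideal.mem_comap, Ideal.Quotient.eq_zero_iff_mem.mpr hx]
    exact q.zero_mem
  obtain ⟨l, hK, hmapI⟩ := exists_isKoszulRegularSeq_atPrime I hI (q.comap (Ideal.Quotient.mk I)) hle
  have hH1 := Groth.Agent.Lib.Helper10.KoszulH1.isH1Regular_of_isKoszulRegularSeq l hK
  have hflat : Module.Flat A (Localization.AtPrime (q.comap (Ideal.Quotient.mk I)) ⧸ Ideal.ofList l) := by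
    rw [← hmapI]
    exact flat_localization_quotient I _
  have hmem : ∀ r ∈ l, r ∈ maximalIdeal (Localization.AtPrime (q.comap (Ideal.Quotient.mk I))) := by
    intro r hr
    have h1 : r ∈ Ideal.ofList l := Ideal.subset_span hr
    rw [← hmapI] at h1
    rw [← Localization.AtPrime.map_eq_maximalIdeal]
    exact Ideal.map_mono hle h1
  have hGL : LocCoh.IsGorensteinLocalRing (Localization.AtPrime (q.comap (Ideal.Quotient.mk I)) ⧸
      p.map (algebraMap A (Localization.AtPrime (q.comap (Ideal.Quotient.mk I))))) := by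
    obtain ⟨𝔔', h𝔔', h𝔔'𝔔⟩ := exists_fiber_prime p (q.comap (Ideal.Quotient.mk I))
    have h1 := hF.isGorensteinLocalRing_localization 𝔔'
    have h2 := Groth.Agent.Lib.Helper24.isGorensteinLocalRing_of_ringEquiv
      (fiberLocalizationEquiv p 𝔔') h1
    have key : ∀ (r : Ideal P) (hr : r.IsPrime), r = q.comap (Ideal.Quotient.mk I) →
        LocCoh.IsGorensteinLocalRing (Localization.AtPrime r ⧸
          p.map (algebraMap A (Localization.AtPrime r))) →
        LocCoh.IsGorensteinLocalRing (Localization.AtPrime (q.comap (Ideal.Quotient.mk I)) ⧸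
          p.map (algebraMap A (Localization.AtPrime (q.comap (Ideal.Quotient.mk I))))) := by
      rintro r hr rfl h
      exact h
    exact key _ _ h𝔔'𝔔 h2
  have h5 := isGorensteinLocalRing_quotient_fibre p l hH1 hflat hmem hGL
  have key2 : ∀ (J : Ideal (Localization.AtPrime (q.comap (Ideal.Quotient.mk I)))),
      I.map (algebraMap P (Localization.AtPrime (q.comap (Ideal.Quotient.mk I)))) = J →
      LocCoh.IsGorensteinLocalRing ((Localization.AtPrime (q.comap (Ideal.Quotient.mk I)) ⧸ J) ⧸
        p.map (algebraMap A (Localization.AtPrime (q.comap (Ideal.Quotient.mk I)) ⧸ J))) →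
      LocCoh.IsGorensteinLocalRing ((Localization.AtPrime (q.comap (Ideal.Quotient.mk I)) ⧸
        I.map (algebraMap P (Localization.AtPrime (q.comap (Ideal.Quotient.mk I))))) ⧸
        p.map (algebraMap A (Localization.AtPrime (q.comap (Ideal.Quotient.mk I)) ⧸
          I.map (algebraMap P (Localization.AtPrime (q.comap (Ideal.Quotient.mk I))))))) := by
    rintro J rfl h
    exact h
  have h6 := key2 _ hmapI h5
  have hcomp : p.map (algebraMap A (Localization.AtPrime (q.comap (Ideal.Quotient.mk I)) ⧸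
      I.map (algebraMap P (Localization.AtPrime (q.comap (Ideal.Quotient.mk I)))))) =
      (p.map (algebraMap A (Localization.AtPrime q))).map
        ((localizationQuotientEquiv I q : Localization.AtPrime q →+* _)) := by
    rw [Ideal.map_map]
    congr 1
    ext a
    rw [RingHom.comp_apply, IsScalarTower.algebraMap_apply A (P ⧸ I) (Localization.AtPrime q)]
    erw [localizationQuotientEquiv_algebraMap]
    rw [← IsScalarTower.algebraMap_apply]
  exact Groth.Agent.Lib.Helper24.isGorensteinLocalRing_of_ringEquiv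
    (Ideal.quotientEquiv _ _ (localizationQuotientEquiv I q) hcomp).symm h6


/-- If `I ⊆ P` is Koszul-regular with `P ⧸ I` flat over `A` and the fibre of `P` over `p` is a
Gorenstein ring, then the fibre of `P ⧸ I` over `p` is a Gorenstein ring. -/
theorem isGorensteinRing_fiber_quotient (hI : LCI.IsKoszulRegularIdeal I)
    [Module.Flat A (P ⧸ I)] (p : Ideal A) [p.IsPrime] (hF : LocCoh.IsGorensteinRing (p.Fiber P)) :
    LocCoh.IsGorensteinRing (p.Fiber (P ⧸ I)) := by
  have hNF : IsNoetherianRing (p.Fiber P) := hF.toIsNoetherian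
  have hN : IsNoetherianRing (p.Fiber (P ⧸ I)) := by
    let φ : p.Fiber P →ₐ[p.ResidueField] p.Fiber (P ⧸ I) :=
      Algebra.TensorProduct.map (AlgHom.id _ _) (Ideal.Quotient.mkₐ A I)
    have hφ : Function.Surjective φ := by
      intro y
      induction y using TensorProduct.induction_on with
      | zero => exact ⟨0, map_zero _⟩
      | tmul k x =>
        obtain ⟨x0, rfl⟩ := Ideal.Quotient.mk_surjective x
        exact ⟨k ⊗ₜ x0, Algebra.TensorProduct.map_tmul _ _ _ _⟩
      | add y z hy hz =>
        obtain ⟨y0, rfl⟩ := hy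
        obtain ⟨z0, rfl⟩ := hz
        exact ⟨y0 + z0, map_add _ _ _⟩
    exact isNoetherianRing_of_surjective _ _ φ.toRingHom hφ
  refine { isGorensteinLocalRing_localization := fun q' hq' => ?_ }
  have hqp : (q'.comap (Algebra.TensorProduct.includeRight :
      (P ⧸ I) →ₐ[A] p.Fiber (P ⧸ I))).LiesOver p := inferInstance
  have h := isGorensteinLocalRing_localization_quotient_fibre I hI p hF
    (q'.comap (Algebra.TensorProduct.includeRight : (P ⧸ I) →ₐ[A] p.Fiber (P ⧸ I)))
  exact Groth.Agent.Lib.Helper24.isGorensteinLocalRing_of_ringEquiv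
    (fiberLocalizationEquiv p q').symm h

end

/-- Fibres of flat local complete intersection ring maps are Gorenstein rings. -/
theorem isGorensteinRing_fiber_of_flat_isLCI (A B : Type u) [CommRing A] [CommRing B] [Algebra A B]
    [Module.Flat A B] (hl : LCI.IsLCI A B) (p : Ideal A) [p.IsPrime] :
    LocCoh.IsGorensteinRing (B ⊗[A] p.ResidueField) := by
  obtain ⟨_, n, f, hf, hI⟩ := hl
  let eB : (MvPolynomial (Fin n) A ⧸ RingHom.ker f.toRingHom) ≃ₐ[A] B :=
    Ideal.quotientKerAlgEquivOfSurjective hf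
  haveI : Module.Flat A (MvPolynomial (Fin n) A ⧸ RingHom.ker f.toRingHom) :=
    Module.Flat.of_linearEquiv eB.toLinearEquiv
  have hF : LocCoh.IsGorensteinRing (p.Fiber (MvPolynomial (Fin n) A)) := by
    let e : p.Fiber (MvPolynomial (Fin n) A) ≃+* MvPolynomial (Fin n) p.ResidueField :=
      (MvPolynomial.algebraTensorAlgEquiv A p.ResidueField (σ := Fin n)).toRingEquiv
    have hreg : IsRegularRing (MvPolynomial (Fin n) p.ResidueField) :=
      MvPolynomial.isRegularRing_of_isRegularRing _
    exact Groth.Agent.Lib.Helper24.isGorensteinRing_of_ringEquiv e.symm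
      (Groth.Agent.Lib.Helper24.isGorensteinRing_of_isRegularRing _)
  have h := isGorensteinRing_fiber_quotient (RingHom.ker f.toRingHom) hI p hF
  let e1 : p.Fiber (MvPolynomial (Fin n) A ⧸ RingHom.ker f.toRingHom) ≃+* p.ResidueField ⊗[A] B :=
    (Algebra.TensorProduct.congr (AlgEquiv.refl : p.ResidueField ≃ₐ[A] p.ResidueField)
      eB).toRingEquiv
  let e2 : p.ResidueField ⊗[A] B ≃+* B ⊗[A] p.ResidueField :=
    (Algebra.TensorProduct.comm A p.ResidueField B).toRingEquiv
  exact Groth.Agent.Lib.Helper24.isGorensteinRing_of_ringEquiv (e1.trans e2) h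

end Groth.Agent.Lib.Helper73.GorenLCI
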