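import Groth.Agent.Lib.Helper73.GorenLCI2
import Groth.Prelude.Def_Dual3

/-!
# Gorenstein schemes and affine opens (helper73)

* `isGorensteinRing_of_isAffineOpen`: sections of a Gorenstein scheme over an affine open form a
  Gorenstein ring.
* `isGorensteinLocalRing_stalk_of_isAffineOpen`: stalks at points of an affine open with Gorenstein
  ring of sections are Gorenstein local rings.
* `isGorenstein_of_isLCIMor`: the source of an lci morphism to a Gorenstein scheme is Gorenstein.
-/

set_option autoImplicit false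
universe u

open AlgebraicGeometry CategoryTheory

namespace Groth.Agent.Lib.Helper73.GorenLCI

/-- Sections of a Gorenstein scheme over an affine open form a Gorenstein ring. -/
theorem isGorensteinRing_of_isAffineOpen {X : Scheme.{u}} (hX : Dual3.IsGorenstein X)
    {U : X.Opens} (hU : IsAffineOpen U) : LocCoh.IsGorensteinRing Γ(X, U) := by
  have hN : IsLocallyNoetherian X := hX.1
  have hNU : IsNoetherianRing Γ(X, U) := IsLocallyNoetherian.component_noetherian ⟨U, hU⟩
  refine { isGorensteinLocalRing_localization := fun p hp => ?_ }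
  let y : PrimeSpectrum Γ(X, U) := ⟨p, hp⟩
  have hy : hU.fromSpec y ∈ U := by
    have : hU.fromSpec y ∈ Set.range hU.fromSpec := ⟨y, rfl⟩
    rw [hU.range_fromSpec] at this
    exact this
  letI := TopCat.Presheaf.algebra_section_stalk X.presheaf ⟨hU.fromSpec y, hy⟩
  haveI : IsLocalization.AtPrime (X.presheaf.stalk (hU.fromSpec y)) y.asIdeal :=
    hU.isLocalization_stalk' y hy
  let e : Localization.AtPrime p ≃+* X.presheaf.stalk (hU.fromSpec y) :=
    (IsLocalization.algEquiv p.primeCompl (Localization.AtPrime p)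
      (X.presheaf.stalk (hU.fromSpec y))).toRingEquiv
  exact Groth.Agent.Lib.Helper24.isGorensteinLocalRing_of_ringEquiv e.symm (hX.2 _)

/-- Stalks at points of an affine open with Gorenstein ring of sections are Gorenstein. -/
theorem isGorensteinLocalRing_stalk_of_isAffineOpen {X : Scheme.{u}} {U : X.Opens}
    (hU : IsAffineOpen U) (hG : LocCoh.IsGorensteinRing Γ(X, U)) (x : X) (hx : x ∈ U) :
    LocCoh.IsGorensteinLocalRing (X.presheaf.stalk x) := by
  letI := TopCat.Presheaf.algebra_section_stalk X.presheaf ⟨x, hx⟩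
  haveI : IsLocalization.AtPrime (X.presheaf.stalk x) (hU.primeIdealOf ⟨x, hx⟩).asIdeal :=
    hU.isLocalization_stalk ⟨x, hx⟩
  let e : Localization.AtPrime (hU.primeIdealOf ⟨x, hx⟩).asIdeal ≃+* X.presheaf.stalk x :=
    (IsLocalization.algEquiv (hU.primeIdealOf ⟨x, hx⟩).asIdeal.primeCompl
      (Localization.AtPrime (hU.primeIdealOf ⟨x, hx⟩).asIdeal) (X.presheaf.stalk x)).toRingEquiv
  exact Groth.Agent.Lib.Helper24.isGorensteinLocalRing_of_ringEquiv e
    (hG.isGorensteinLocalRing_localization _)

/-- The source of a local complete intersection morphism to a Gorenstein scheme is Gorenstein. -/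
theorem isGorenstein_of_isLCIMor {Y X : Scheme.{u}} (f : Y ⟶ X) (hf : Dual3.IsLCIMor f)
    (hX : Dual3.IsGorenstein X) : Dual3.IsGorenstein Y := by
  choose U V e hxU hlci using hf
  have hG : ∀ y : Y, LocCoh.IsGorensteinRing Γ(Y, (U y).1) := by
    intro y
    letI := (f.appLE (V y).1 (U y).1 (e y)).hom.toAlgebra
    exact isGorensteinRing_of_isLCI Γ(X, (V y).1) Γ(Y, (U y).1)
      (isGorensteinRing_of_isAffineOpen hX (V y).2) (hlci y)
  refine ⟨?_, fun y => isGorensteinLocalRing_stalk_of_isAffineOpen (U y).2 (hG y) y (hxU y)⟩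
  refine isLocallyNoetherian_of_affine_cover (S := U) ?_ (fun y => (hG y).toIsNoetherian)
  rw [eq_top_iff]
  intro y _
  exact TopologicalSpace.Opens.mem_iSup.mpr ⟨y, hxU y⟩

end Groth.Agent.Lib.Helper73.GorenLCI
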