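import Groth.Agent.Lib.Helper73.BE3
import Groth.Agent.Lib.Helper66.HilbertBurchA
import Groth.Agent.H8.RegSeqSpread

/-!
# Spreading out a Hilbert–Burch resolution from a local ring to a basic open (helper73)
-/

set_option autoImplicit false
universe u

open Matrix

namespace Groth.Agent.Lib.Helper73.HBSpread

open Groth.Agent.Lib.Helper73.BE

/-- The signed maximal minors of an `(r+1) × r` matrix. -/
def sm {R : Type*} [CommRing R] {r : ℕ} (φ : Matrix (Fin (r + 1)) (Fin r) R) : Fin (r + 1) → R :=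
  fun i => (-1 : R) ^ (i : ℕ) * (φ.submatrix i.succAbove id).det

theorem sm_map {R S : Type*} [CommRing R] [CommRing S] (f : R →+* S) {r : ℕ}
    (φ : Matrix (Fin (r + 1)) (Fin r) R) : sm (φ.map f) = f ∘ sm φ := by
  funext i
  simp only [sm, Function.comp_apply, map_mul, map_pow, map_neg, map_one]
  congr 1
  rw [RingHom.map_det]
  rfl

theorem sm_smul {R : Type*} [CommRing R] {r : ℕ} (c : R) (φ : Matrix (Fin (r + 1)) (Fin r) R) :
    sm (c • φ) = c ^ r • sm φ := by
  funext i
  simp only [sm, Pi.smul_apply, smul_eq_mul]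
  have : (c • φ).submatrix i.succAbove id = c • φ.submatrix i.succAbove id := by
    ext a b; simp
  rw [this, Matrix.det_smul, Fintype.card_fin]
  ring

/-- The complex `R^r → R^{r+1} → R` given by a matrix and its signed minors is a complex. -/
theorem linearCombination_sm_mulVec {R : Type u} [CommRing R] {r : ℕ}
    (φ : Matrix (Fin (r + 1)) (Fin r) R) (v : Fin r → R) :
    Fintype.linearCombination R (sm φ) (φ.mulVec v) = 0 := by
  have := Groth.Agent.Lib.Helper66.HilbertBurch.Δ_mulVec φ v
  rw [Groth.Agent.Lib.Helper66.HilbertBurch.Δ] at this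
  rw [Fintype.linearCombination_apply, ← this]
  refine Finset.sum_congr rfl fun i _ => ?_
  simp only [sm, smul_eq_mul, Groth.Agent.Lib.Helper66.HilbertBurch.d]
  ring

/-- The row matrix of a family. -/
def row {R : Type*} [CommRing R] {n : ℕ} (F : Fin n → R) : Matrix (Fin 1) (Fin n) R :=
  Matrix.of fun _ i => F i

theorem row_map {R S : Type*} [CommRing R] [CommRing S] (f : R →+* S) {n : ℕ} (F : Fin n → R) :
    (row F).map f = row (f ∘ F) := by
  ext i j
  simp [row]

theorem ker_row {R : Type*} [CommRing R] {n : ℕ} (F : Fin n → R) :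
    LinearMap.ker (row F).mulVecLin = LinearMap.ker (Fintype.linearCombination R F) := by
  ext v
  rw [LinearMap.mem_ker, LinearMap.mem_ker, Matrix.mulVecLin_apply,
    Fintype.linearCombination_apply]
  constructor
  · intro h
    have := congrFun h 0
    simp only [Matrix.mulVec, dotProduct, row, Matrix.of_apply, Pi.zero_apply] at this
    rw [← this]
    refine Finset.sum_congr rfl fun i _ => ?_
    rw [smul_eq_mul, mul_comm]
  · intro h
    funext j
    simp only [Matrix.mulVec, dotProduct, row, Matrix.of_apply, Pi.zero_apply]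
    rw [← h]
    refine Finset.sum_congr rfl fun i _ => ?_
    rw [smul_eq_mul, mul_comm]

section Loc

variable {A : Type u} [CommRing A]

/-- If some element of the multiplicative set pushes all cycles into the boundaries, then the
localised complex is exact. -/
theorem ker_le_range_map_of_smul (M : Submonoid A) (S' : Type u) [CommRing S'] [Algebra A S']
    [IsLocalization M S'] {a b c : ℕ} (B : Matrix (Fin a) (Fin b) A) (C : Matrix (Fin b) (Fin c) A)
    (g : A) (hg : g ∈ M)
    (h : ∀ v ∈ LinearMap.ker B.mulVecLin, g • v ∈ LinearMap.range C.mulVecLin) :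
    LinearMap.ker (B.map (algebraMap A S')).mulVecLin ≤
      LinearMap.range (C.map (algebraMap A S')).mulVecLin := by
  set f := algebraMap A S' with hf
  intro v' hv'
  have hv0 : (B.map f).mulVec v' = 0 := hv'
  obtain ⟨s, hs, v, hv⟩ := exists_common_denom M S' v'
  have h1 : f ∘ (B.mulVec v) = 0 := by
    rw [← map_mulVec_comp, ← hv, Matrix.mulVec_smul, hv0, smul_zero]
  obtain ⟨t, ht, htu⟩ := exists_mul_eq_zero M S' (B.mulVec v) h1
  have h2 : (t • v) ∈ LinearMap.ker B.mulVecLin := by
    rw [LinearMap.mem_ker, Matrix.mulVecLin_apply, Matrix.mulVec_smul]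
    exact htu
  obtain ⟨w, hw⟩ := h _ h2
  have hunit : IsUnit (f (g * t * s)) :=
    IsLocalization.map_units S' (⟨g * t * s, M.mul_mem (M.mul_mem hg ht) hs⟩ : M)
  obtain ⟨un, hun⟩ := hunit
  refine ⟨(↑un⁻¹ : S') • (f ∘ w), ?_⟩
  rw [Matrix.mulVecLin_apply, Matrix.mulVec_smul, map_mulVec_comp]
  have hw' : C.mulVec w = g • t • v := hw
  rw [hw']
  have h3 : f ∘ (g • t • v) = (f g * f t) • (f ∘ v) := by
    funext i
    simp [mul_assoc]
  rw [h3, ← hv, smul_smul, smul_smul]
  have h4 : (↑un⁻¹ : S') * (f g * f t) * algebraMap A S' s = 1 := by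
    rw [mul_assoc, ← map_mul, ← map_mul, ← hun, Units.inv_mul]
  rw [h4, one_smul]

variable [IsNoetherianRing A]

/-- Exactness at a prime spreads out to a basic open neighbourhood. -/
theorem exists_away_ker_le_range (p : Ideal A) [p.IsPrime] (L : Type u) [CommRing L] [Algebra A L]
    [IsLocalization.AtPrime L p] {a b c : ℕ} (B : Matrix (Fin a) (Fin b) A)
    (C : Matrix (Fin b) (Fin c) A)
    (hex : LinearMap.ker (B.map (algebraMap A L)).mulVecLin ≤
      LinearMap.range (C.map (algebraMap A L)).mulVecLin) :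
    ∃ f, f ∉ p ∧ ∀ g ∈ Ideal.span {f}, ∀ (S' : Type u) [CommRing S'] [Algebra A S']
      [IsLocalization.Away g S'],
        LinearMap.ker (B.map (algebraMap A S')).mulVecLin ≤
          LinearMap.range (C.map (algebraMap A S')).mulVecLin := by
  classical
  obtain ⟨T, hT⟩ : (LinearMap.ker B.mulVecLin).FG := IsNoetherian.noetherian _
  have hex' : ∀ v : Fin b → A, ∃ s : A, s ∈ p.primeCompl ∧
      (v ∈ T → s • v ∈ LinearMap.range C.mulVecLin) := by
    intro v
    by_cases hv : v ∈ T
    · have hvK : v ∈ LinearMap.ker B.mulVecLin := by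
        rw [← hT]; exact Submodule.subset_span hv
      obtain ⟨s, hs, hsv⟩ := exists_smul_mem_range p.primeCompl L B C hex v hvK
      exact ⟨s, hs, fun _ => hsv⟩
    · exact ⟨1, p.primeCompl.one_mem, fun h => absurd h hv⟩
  choose s hs hsv using hex'
  set f := ∏ v ∈ T, s v with hfdef
  have hfp : f ∈ p.primeCompl := Submonoid.prod_mem _ fun v _ => hs v
  have hf : ∀ v ∈ LinearMap.ker B.mulVecLin, f • v ∈ LinearMap.range C.mulVecLin := by
    intro v hv
    rw [← hT] at hv
    induction hv using Submodule.span_induction with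
    | mem v hvT =>
      obtain ⟨c', hc'⟩ := Finset.dvd_prod_of_mem s hvT
      rw [hfdef, hc', mul_comm, mul_smul]
      exact Submodule.smul_mem _ _ (hsv v hvT)
    | zero => rw [smul_zero]; exact Submodule.zero_mem _
    | add x y _ _ hx hy => rw [smul_add]; exact Submodule.add_mem _ hx hy
    | smul a x _ hx => rw [smul_comm]; exact Submodule.smul_mem _ _ hx
  refine ⟨f, hfp, fun g hg S' _ _ _ => ?_⟩
  obtain ⟨c', rfl⟩ := Ideal.mem_span_singleton'.mp hg
  refine ker_le_range_map_of_smul (Submonoid.powers (c' * f)) S' B C (c' * f)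
    (Submonoid.mem_powers _) ?_
  intro v hv
  rw [mul_smul]
  exact Submodule.smul_mem _ _ (hf v hv)

/-- **Spreading out a Hilbert–Burch resolution.** -/
theorem spread (p : Ideal A) [p.IsPrime] (L : Type u) [CommRing L] [Algebra A L]
    [IsLocalization.AtPrime L p] (I : Ideal A) (r : ℕ) (ψ : Matrix (Fin (r + 1)) (Fin r) L)
    (h1 : Ideal.span (Set.range (sm ψ)) = I.map (algebraMap A L))
    (h2 : Function.Injective ψ.mulVecLin)
    (h3 : LinearMap.range ψ.mulVecLin = LinearMap.ker (Fintype.linearCombination L (sm ψ))) :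
    ∃ f, f ∉ p ∧ ∀ (S' : Type u) [CommRing S'] [Algebra A S'] [IsLocalization.Away f S'],
      ∃ φ : Matrix (Fin (r + 1)) (Fin r) S',
        Ideal.span (Set.range (sm φ)) = I.map (algebraMap A S') ∧
        Function.Injective φ.mulVecLin ∧
        LinearMap.range φ.mulVecLin = LinearMap.ker (Fintype.linearCombination S' (sm φ)) := by
  -- clear denominators
  obtain ⟨b, hb⟩ := IsLocalization.exist_integer_multiples_of_finite p.primeCompl
    (fun ij : Fin (r + 1) × Fin r => ψ ij.1 ij.2)
  choose e he using hb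
  set Φ₀ : Matrix (Fin (r + 1)) (Fin r) A := Matrix.of fun i j => e (i, j) with hΦ₀
  set σ : L := algebraMap A L b with hσ
  have hσu : IsUnit σ := IsLocalization.map_units L b
  have hΦψ : Φ₀.map (algebraMap A L) = σ • ψ := by
    ext i j
    simp only [Matrix.map_apply, hΦ₀, Matrix.of_apply, Matrix.smul_apply, smul_eq_mul]
    rw [he (i, j), Algebra.smul_def]
  set F : Fin (r + 1) → A := sm Φ₀ with hF
  have hFψ : algebraMap A L ∘ F = σ ^ r • sm ψ := by
    rw [hF, ← sm_map, hΦψ, sm_smul]
  have hσr : IsUnit (σ ^ r) := hσu.pow r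
  -- the ideal
  have hspan : (Ideal.span (Set.range F)).map (algebraMap A L) = I.map (algebraMap A L) := by
    rw [Ideal.map_span, ← Set.range_comp, ← h1]
    change Ideal.span (Set.range (algebraMap A L ∘ F)) = _
    rw [hFψ]
    apply le_antisymm
    · rw [Ideal.span_le]
      rintro _ ⟨i, rfl⟩
      exact Ideal.mul_mem_left _ _ (Ideal.subset_span ⟨i, rfl⟩)
    · rw [Ideal.span_le]
      rintro _ ⟨i, rfl⟩
      obtain ⟨un, hun⟩ := hσr
      have : sm ψ i = (↑un⁻¹ : L) * ((σ ^ r • sm ψ) i) := by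
        rw [Pi.smul_apply, smul_eq_mul, ← hun, ← mul_assoc, Units.inv_mul, one_mul]
      rw [this]
      exact Ideal.mul_mem_left _ _ (Ideal.subset_span ⟨i, rfl⟩)
  obtain ⟨f₁, hf₁, hf₁'⟩ := Groth.Agent.H8.RegSeqSpread.exists_map_eq_away A p L _ _ hspan
  -- exactness in the middle
  have hker : LinearMap.ker ((row F).map (algebraMap A L)).mulVecLin =
      LinearMap.ker (Fintype.linearCombination L (sm ψ)) := by
    rw [row_map, ker_row, hFψ]
    ext v
    rw [LinearMap.mem_ker, LinearMap.mem_ker, Fintype.linearCombination_apply,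
      Fintype.linearCombination_apply]
    have : ∑ i, v i • (σ ^ r • sm ψ) i = σ ^ r * ∑ i, v i • sm ψ i := by
      rw [Finset.mul_sum]
      refine Finset.sum_congr rfl fun i _ => ?_
      simp only [Pi.smul_apply, smul_eq_mul]
      ring
    rw [this]
    exact hσr.mul_right_eq_zero
  have hrange : LinearMap.range (Φ₀.map (algebraMap A L)).mulVecLin =
      LinearMap.range ψ.mulVecLin := by
    rw [hΦψ]
    obtain ⟨un, hun⟩ := hσu
    apply le_antisymm
    · rintro _ ⟨v, rfl⟩
      refine ⟨σ • v, ?_⟩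
      rw [Matrix.mulVecLin_apply, Matrix.mulVecLin_apply, Matrix.mulVec_smul, Matrix.smul_mulVec]
    · rintro _ ⟨v, rfl⟩
      refine ⟨(↑un⁻¹ : L) • v, ?_⟩
      rw [Matrix.mulVecLin_apply, Matrix.mulVecLin_apply, Matrix.mulVec_smul, Matrix.smul_mulVec,
        smul_smul, ← hun, Units.inv_mul, one_smul]
  have hex₁ : LinearMap.ker ((row F).map (algebraMap A L)).mulVecLin ≤
      LinearMap.range (Φ₀.map (algebraMap A L)).mulVecLin := by
    rw [hker, hrange, h3]
  obtain ⟨f₂, hf₂, hf₂'⟩ := exists_away_ker_le_range p L (row F) Φ₀ hex₁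
  -- injectivity
  have hinj : Function.Injective (Φ₀.map (algebraMap A L)).mulVecLin := by
    rw [hΦψ]
    intro v w hvw
    apply h2
    rw [Matrix.mulVecLin_apply, Matrix.mulVecLin_apply, Matrix.smul_mulVec,
      Matrix.smul_mulVec] at hvw
    rw [Matrix.mulVecLin_apply, Matrix.mulVecLin_apply]
    exact hσu.smul_left_cancel.mp hvw
  have hex₂ : LinearMap.ker (Φ₀.map (algebraMap A L)).mulVecLin ≤
      LinearMap.range ((0 : Matrix (Fin r) (Fin 0) A).map (algebraMap A L)).mulVecLin := by
    rw [LinearMap.ker_eq_bot.mpr hinj]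
    exact bot_le
  obtain ⟨f₃, hf₃, hf₃'⟩ := exists_away_ker_le_range p L Φ₀ (0 : Matrix (Fin r) (Fin 0) A) hex₂
  refine ⟨f₁ * f₂ * f₃, ?_, ?_⟩
  · intro hmem
    rcases Ideal.IsPrime.mem_or_mem inferInstance hmem with h | h
    · rcases Ideal.IsPrime.mem_or_mem inferInstance h with h | h
      · exact hf₁ h
      · exact hf₂ h
    · exact hf₃ h
  · intro S' _ _ _
    have e1 := hf₁' (f₁ * f₂ * f₃) (Ideal.mem_span_singleton'.mpr ⟨f₂ * f₃, by ring⟩) S'
    have e2 := hf₂' (f₁ * f₂ * f₃) (Ideal.mem_span_singleton'.mpr ⟨f₁ * f₃, by ring⟩) S'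
    have e3 := hf₃' (f₁ * f₂ * f₃) (Ideal.mem_span_singleton'.mpr ⟨f₁ * f₂, by ring⟩) S'
    refine ⟨Φ₀.map (algebraMap A S'), ?_, ?_, ?_⟩
    · rw [sm_map, ← e1, Ideal.map_span, ← Set.range_comp]
    · rw [← LinearMap.ker_eq_bot, eq_bot_iff]
      intro v hv
      obtain ⟨w, hw⟩ := e3 hv
      rw [Submodule.mem_bot, ← hw]
      have : w = 0 := Subsingleton.elim _ _
      rw [this, map_zero]
    · apply le_antisymm
      · rintro _ ⟨v, rfl⟩
        rw [LinearMap.mem_ker, Matrix.mulVecLin_apply]
        exact linearCombination_sm_mulVec _ v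
      · rw [sm_map, ← ker_row, ← row_map]
        exact e2

end Loc

end Groth.Agent.Lib.Helper73.HBSpread
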