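import Mathlib
import Groth.Agent.Lib.Helper2.FEtDepthGlue
import Groth.Agent.Lib.Helper45.RefHullDepth

/-!
# Restriction of homs `M~ → F` on `Spec R` to an open subscheme (helper73)

* `restrict_injective`, `restrict_bijective`: `Hom(M~, F) → Hom(M~|_U, F|_U)` is injective /
  bijective as soon as `Γ(F) → Γ(j_* j^* F)` is.
* `unit_injective`, `unit_bijective`: for `F = O`, this follows from the corresponding property
  of `Γ(Spec R, ⊤) → Γ(Spec R, U)`.
* `hartogs_res_bijective`: for `R` a Noetherian normal domain and `U` containing all primes of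
  height `≤ 1`, `Γ(Spec R, ⊤) → Γ(Spec R, U)` is bijective.
-/

set_option autoImplicit false
set_option linter.style.haveILetI false

open AlgebraicGeometry CategoryTheory TopologicalSpace Opposite

namespace Groth.Agent.Lib.Helper73.HomRestrict


universe u
variable {R : CommRingCat.{u}} (M : ModuleCat.{u} R) (U : (Spec R).Opens) (F : (Spec R).Modules)

/-- restriction of homs `M~ → F` to an open subscheme, via the two adjunctions -/
theorem restrict_map_eq (φ : tilde M ⟶ F) :
    (Scheme.Modules.restrictFunctor U.ι).map φ =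
      ((Scheme.Modules.restrictAdjunction U.ι).homEquiv _ _).symm
        (φ ≫ (Scheme.Modules.restrictAdjunction U.ι).unit.app F) := by
  rw [Equiv.eq_symm_apply, Adjunction.homEquiv_unit]
  exact ((Scheme.Modules.restrictAdjunction U.ι).unit.naturality φ).symm

theorem comp_unit_eq (φ : tilde M ⟶ F) (G : (Spec R).Modules) (η : F ⟶ G) :
    (tilde.adjunction (R := R)).homEquiv M G (φ ≫ η) =
      (tilde.adjunction (R := R)).homEquiv M F φ ≫ moduleSpecΓFunctor.map η :=
  Adjunction.homEquiv_naturality_right _ _ _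

theorem restrict_injective
    (h : Function.Injective
      (moduleSpecΓFunctor.map ((Scheme.Modules.restrictAdjunction U.ι).unit.app F)).hom) :
    Function.Injective (fun φ : tilde M ⟶ F => (Scheme.Modules.restrictFunctor U.ι).map φ) := by
  intro φ ψ hφψ
  simp only [restrict_map_eq] at hφψ
  have h1 := (Equiv.injective _) hφψ
  have h2 := congrArg ((tilde.adjunction (R := R)).homEquiv M _) h1
  replace h2 := (comp_unit_eq M F φ _ _).symm.trans (h2.trans (comp_unit_eq M F ψ _ _))
  haveI : Mono (moduleSpecΓFunctor.map ((Scheme.Modules.restrictAdjunction U.ι).unit.app F)) :=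
    (ModuleCat.mono_iff_injective _).mpr h
  have h3 := (cancel_mono _).mp h2
  exact (Equiv.injective _) h3

theorem restrict_bijective
    (h : Function.Bijective
      (moduleSpecΓFunctor.map ((Scheme.Modules.restrictAdjunction U.ι).unit.app F)).hom) :
    Function.Bijective (fun φ : tilde M ⟶ F => (Scheme.Modules.restrictFunctor U.ι).map φ) := by
  refine ⟨restrict_injective M U F h.1, ?_⟩
  haveI : IsIso (moduleSpecΓFunctor.map ((Scheme.Modules.restrictAdjunction U.ι).unit.app F)) :=
    (ConcreteCategory.isIso_iff_bijective _).mpr h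
  intro ψ
  let ψ' := (Scheme.Modules.restrictAdjunction U.ι).homEquiv _ _ ψ
  let g := (tilde.adjunction (R := R)).homEquiv M _ ψ' ≫
    inv (moduleSpecΓFunctor.map ((Scheme.Modules.restrictAdjunction U.ι).unit.app F))
  refine ⟨((tilde.adjunction (R := R)).homEquiv M F).symm g, ?_⟩
  refine (restrict_map_eq M U F _).trans ?_
  rw [Equiv.symm_apply_eq]
  apply ((tilde.adjunction (R := R)).homEquiv M _).injective
  refine (comp_unit_eq M F _ _ _).trans ?_
  rw [Equiv.apply_symm_apply]
  simp [g, ψ']



section Unit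
variable {R : CommRingCat.{u}} (U : (Spec R).Opens)

theorem image_preimage_top : U.ι ''ᵁ (U.ι ⁻¹ᵁ ⊤) = U := by
  simp

theorem unit_fun_eq (x : Γ(Spec R, ⊤)) :
    (moduleSpecΓFunctor.map ((Scheme.Modules.restrictAdjunction U.ι).unit.app
      (SheafOfModules.unit (Spec R).ringCatSheaf))).hom x =
    (Spec R).presheaf.map (homOfLE (U.ι.image_preimage_le ⊤)).op x := rfl


theorem res_res {V₁ V₂ V₃ : (Spec R).Opens} (h₁₂ : V₂ ≤ V₁) (h₂₃ : V₃ ≤ V₂) (x : Γ(Spec R, V₁)) :
    (Spec R).presheaf.map (homOfLE h₂₃).op ((Spec R).presheaf.map (homOfLE h₁₂).op x) =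
      (Spec R).presheaf.map (homOfLE (h₂₃.trans h₁₂)).op x := by
  rw [← ConcreteCategory.comp_apply, ← Functor.map_comp]
  rfl

theorem unit_injective
    (h : Function.Injective ((Spec R).presheaf.map (homOfLE (le_top : U ≤ ⊤)).op)) :
    Function.Injective (moduleSpecΓFunctor.map ((Scheme.Modules.restrictAdjunction U.ι).unit.app
      (SheafOfModules.unit (Spec R).ringCatSheaf))).hom := by
  intro x y hxy
  have h1 : (Spec R).presheaf.map (homOfLE (U.ι.image_preimage_le ⊤)).op x =
      (Spec R).presheaf.map (homOfLE (U.ι.image_preimage_le ⊤)).op y := hxy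
  have hle : U ≤ U.ι ''ᵁ (U.ι ⁻¹ᵁ ⊤) := (image_preimage_top U).ge
  have h2 := congrArg ((Spec R).presheaf.map (homOfLE hle).op) h1
  exact h ((res_res (U.ι.image_preimage_le ⊤) hle x).symm.trans
    (h2.trans (res_res (U.ι.image_preimage_le ⊤) hle y)))

theorem unit_bijective
    (h : Function.Bijective ((Spec R).presheaf.map (homOfLE (le_top : U ≤ ⊤)).op)) :
    Function.Bijective (moduleSpecΓFunctor.map ((Scheme.Modules.restrictAdjunction U.ι).unit.app
      (SheafOfModules.unit (Spec R).ringCatSheaf))).hom := by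
  refine ⟨unit_injective U h.1, fun z => ?_⟩
  have hle : U ≤ U.ι ''ᵁ (U.ι ⁻¹ᵁ ⊤) := (image_preimage_top U).ge
  have hge : U.ι ''ᵁ (U.ι ⁻¹ᵁ ⊤) ≤ U := (image_preimage_top U).le
  obtain ⟨x, hx⟩ := h.2 ((Spec R).presheaf.map (homOfLE hle).op z)
  refine ⟨x, ?_⟩
  show (Spec R).presheaf.map (homOfLE (U.ι.image_preimage_le ⊤)).op x = z
  have h3 := congrArg ((Spec R).presheaf.map (homOfLE hge).op) hx
  have h4 := (res_res le_top hge x).symm.trans (h3.trans (res_res hle hge z))
  refine h4.trans ?_
  have : homOfLE (hge.trans hle) = 𝟙 _ := rfl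
  rw [this, op_id, (Spec R).presheaf.map_id]
  rfl


end Unit




theorem hartogs_res_bijective (R : CommRingCat.{u}) [IsNoetherianRing R] [IsDomain R]
    [IsIntegrallyClosed R] (U : (Spec R).Opens)
    (hU : ∀ p : PrimeSpectrum R, p ∉ U → (2 : ℕ∞) ≤ p.asIdeal.height) :
    Function.Bijective ((Spec R).presheaf.map (homOfLE (le_top : U ≤ ⊤)).op) := by
  have hdepth : ∀ p : PrimeSpectrum R, p ∉ U →
      (2 : ℕ∞) ≤ LocCoh.depth (Localization.AtPrime p.asIdeal) (Localization.AtPrime p.asIdeal) := by
    intro p hp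
    haveI : IsIntegrallyClosed (Localization.AtPrime p.asIdeal) :=
      isIntegrallyClosed_of_isLocalization _ p.asIdeal.primeCompl p.asIdeal.primeCompl_le_nonZeroDivisors
    apply Groth.Agent.Lib.Helper45.RefHullDepth.two_le_depth_of_isIntegrallyClosed
    rw [IsLocalization.AtPrime.ringKrullDim_eq_height p.asIdeal]
    intro hle
    have h2 := hU p hp
    have : (p.asIdeal.height : WithBot ℕ∞) ≤ 1 := hle
    have h3 : p.asIdeal.height ≤ 1 := by exact_mod_cast this
    have := h2.trans h3
    norm_num at this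
  have key := Groth.Agent.Lib.Helper2.res_bijective_preimage_of_depth R U hdepth (𝟙 (Spec R))
  exact key


end Groth.Agent.Lib.Helper73.HomRestrict
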