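import Mathlib
import Groth.Agent.Lib.Helper73.RegularNormal
import Groth.Agent.Lib.Helper29.DepthQuot

universe u

set_option maxSynthPendingDepth 3

namespace Groth.Agent.Lib.Helper73.HypersurfaceCM

open IsLocalRing

open Groth.Agent.Lib.Helper73.RegularNormal

/-- depth = height for the localization of a regular local ring. -/
theorem depth_eq_height_of_isRegularLocalRing (A : Type u) [CommRing A] (P : Ideal A) [P.IsPrime]
    [IsRegularLocalRing (Localization.AtPrime P)] :
    LocCoh.depth (Localization.AtPrime P) (Localization.AtPrime P) = P.height := by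
  have h1 := depth_self_of_isRegularLocalRing (Localization.AtPrime P)
  rw [IsLocalization.AtPrime.ringKrullDim_eq_height P (Localization.AtPrime P)] at h1
  exact WithBot.coe_injective h1

/-- The local rings of a hypersurface `A/(f)` in a regular ring are Cohen–Macaulay:
`depth = height`. -/
theorem depth_eq_height_quotient (A : Type u) [CommRing A] [IsNoetherianRing A]
    (hreg : ∀ (p : Ideal A) (_ : p.IsPrime), IsRegularLocalRing (Localization.AtPrime p))
    (f : A) (q : Ideal (A ⧸ Ideal.span {f})) [q.IsPrime] :
    LocCoh.depth (Localization.AtPrime q) (Localization.AtPrime q) = q.height := by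
  have hP : (q.comap (Ideal.Quotient.mk (Ideal.span {f}))).IsPrime := Ideal.comap_isPrime _ q
  have hq : q = (q.comap (Ideal.Quotient.mk (Ideal.span {f}))).map
      (Ideal.Quotient.mk (Ideal.span {f})) :=
    (Ideal.map_comap_of_surjective _ Ideal.Quotient.mk_surjective q).symm
  have hfP : f ∈ q.comap (Ideal.Quotient.mk (Ideal.span {f})) := by
    rw [Ideal.mem_comap]
    have : Ideal.Quotient.mk (Ideal.span {f}) f = 0 :=
      Ideal.Quotient.eq_zero_iff_mem.mpr (Ideal.mem_span_singleton_self f)
    rw [this]
    exact q.zero_mem
  have key : ∀ (P : Ideal A) [P.IsPrime], f ∈ P → ∀ (Q : Ideal (A ⧸ Ideal.span {f})) [Q.IsPrime],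
      Q = P.map (Ideal.Quotient.mk (Ideal.span {f})) →
      LocCoh.depth (Localization.AtPrime Q) (Localization.AtPrime Q) = Q.height := by
    intro P _ hfP Q hQ hQP
    subst hQP
    haveI := hreg P inferInstance
    haveI hdom : IsDomain (Localization.AtPrime P) :=
      Groth.Agent.Lib.Helper85.isDomain_of_isRegularLocalRing _
    by_cases hy : algebraMap A (Localization.AtPrime P) f = 0
    · -- `B_Q ≃ A_P`
      have hIP : Ideal.span {f} ≤ P := (Ideal.span_singleton_le_iff_mem _).mpr hfP
      have hlies : (P.map (Ideal.Quotient.mk (Ideal.span {f}))).LiesOver P := ⟨by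
        rw [Ideal.under, Ideal.Quotient.algebraMap_eq,
          Ideal.comap_map_of_surjective _ Ideal.Quotient.mk_surjective,
          ← RingHom.ker_eq_comap_bot, Ideal.mk_ker]
        exact (sup_eq_left.mpr hIP).symm⟩
      have hsub : Algebra.algebraMapSubmonoid (A ⧸ Ideal.span {f}) P.primeCompl =
          (P.map (Ideal.Quotient.mk (Ideal.span {f}))).primeCompl :=
        Ideal.algebraMapSubmonoid_primeCompl_of_liesOver_surjective _ P
          Ideal.Quotient.mk_surjective
      have loc1 : IsLocalization (Algebra.algebraMapSubmonoid (A ⧸ Ideal.span {f}) P.primeCompl)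
          (Localization.AtPrime P ⧸ (Ideal.span {f}).map (algebraMap A (Localization.AtPrime P))) :=
        inferInstance
      rw [hsub] at loc1
      let e1 := IsLocalization.algEquiv (P.map (Ideal.Quotient.mk (Ideal.span {f}))).primeCompl
        (Localization.AtPrime (P.map (Ideal.Quotient.mk (Ideal.span {f}))))
        (Localization.AtPrime P ⧸ (Ideal.span {f}).map (algebraMap A (Localization.AtPrime P)))
      have hmap : (Ideal.span {f}).map (algebraMap A (Localization.AtPrime P)) = ⊥ := by
        rw [Ideal.map_span, Set.image_singleton, hy]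
        simp
      have hreg2 : IsRegularLocalRing (Localization.AtPrime P ⧸ (⊥ : Ideal (Localization.AtPrime P))) :=
        IsRegularLocalRing.of_ringEquiv (RingEquiv.quotientBot (Localization.AtPrime P)).symm
      have hreg3 : IsRegularLocalRing (Localization.AtPrime P ⧸
          (Ideal.span {f}).map (algebraMap A (Localization.AtPrime P))) :=
        IsRegularLocalRing.of_ringEquiv (Ideal.quotEquivOfEq hmap.symm)
      haveI : IsRegularLocalRing
          (Localization.AtPrime (P.map (Ideal.Quotient.mk (Ideal.span {f})))) :=
        IsRegularLocalRing.of_ringEquiv e1.toRingEquiv.symm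
      exact depth_eq_height_of_isRegularLocalRing _ _
    · have hreg' : IsSMulRegular (Localization.AtPrime P)
          (algebraMap A (Localization.AtPrime P) f) :=
        (isRegular_of_ne_zero hy).left.isSMulRegular
      obtain ⟨h1, h2⟩ :=
        Groth.Agent.Lib.Helper29.depth_and_height_quotient_span_singleton A P f hfP hreg'
      have h3 := depth_eq_height_of_isRegularLocalRing A P
      rw [h3, ← h2] at h1
      exact ENat.add_left_injective_of_ne_top (n := 1) (by simp) h1
  exact key _ hfP q hq

end Groth.Agent.Lib.Helper73.HypersurfaceCM
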