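import Mathlib

/-!
# Counting minimal primes: general lemmas (helper73)

* `isDomain_of_maximalIdeal_eq_span_singleton`: a Noetherian local ring whose maximal ideal is
  generated by a nonzerodivisor is a domain.
* `ncard_minimalPrimes_eq_of_conductor`: an injective ring map `R → S` which becomes an isomorphism
  after inverting a nonzerodivisor `c` (in the form `c S ⊆ R`) induces a bijection on minimal primes.
* `ncard_minimalPrimes_eq_ncard_maximal`: if all localizations at maximal ideals are domains and
  all quotients by primes are local, minimal primes and maximal ideals are equinumerous.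
-/

set_option autoImplicit false
set_option linter.style.haveILetI false
universe u

open IsLocalRing

namespace Groth.Agent.Lib.Helper73.NormCount

section Dom

variable {C : Type u} [CommRing C] [IsNoetherianRing C] [IsLocalRing C]

/-- In a Noetherian local ring with principal maximal ideal `(t)`, every nonzero element is a unit
times a power of `t`. -/
theorem exists_unit_mul_pow_of_maximalIdeal_eq_span {t : C}
    (ht : maximalIdeal C = Ideal.span {t}) {x : C} (hx : x ≠ 0) :
    ∃ (k : ℕ) (u : C), IsUnit u ∧ x = u * t ^ k := by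
  classical
  have hkr : ⨅ i : ℕ, maximalIdeal C ^ i = ⊥ :=
    Ideal.iInf_pow_eq_bot_of_isLocalRing _ (Ideal.IsPrime.ne_top inferInstance)
  have hex : ∃ k : ℕ, x ∉ maximalIdeal C ^ k := by
    by_contra h
    have h' : ∀ k : ℕ, x ∈ maximalIdeal C ^ k := fun k => by
      by_contra hk; exact h ⟨k, hk⟩
    have : x ∈ ⨅ i : ℕ, maximalIdeal C ^ i := (Ideal.mem_iInf).mpr h'
    rw [hkr] at this
    exact hx this
  have hk0 : Nat.find hex ≠ 0 := by
    intro h0
    have := Nat.find_spec hex
    rw [h0, pow_zero, Ideal.one_eq_top] at this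
    exact this trivial
  obtain ⟨k, hk⟩ := Nat.exists_eq_succ_of_ne_zero hk0
  have hmem : x ∈ maximalIdeal C ^ k := by
    by_contra h
    have := Nat.find_min' hex h
    omega
  have hnot : x ∉ maximalIdeal C ^ (k + 1) := by
    have := Nat.find_spec hex
    rwa [hk] at this
  rw [ht, Ideal.span_singleton_pow, Ideal.mem_span_singleton'] at hmem
  obtain ⟨u, hu⟩ := hmem
  refine ⟨k, u, ?_, hu.symm⟩
  by_contra hnu
  have hum : u ∈ maximalIdeal C := (mem_maximalIdeal u).mpr hnu
  rw [ht, Ideal.mem_span_singleton'] at hum
  obtain ⟨v, hv⟩ := hum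
  apply hnot
  rw [ht, Ideal.span_singleton_pow, Ideal.mem_span_singleton']
  exact ⟨v, by rw [← hu, ← hv]; ring⟩

/-- A Noetherian local ring whose maximal ideal is generated by a nonzerodivisor is a domain. -/
theorem isDomain_of_maximalIdeal_eq_span_singleton {t : C}
    (ht : maximalIdeal C = Ideal.span {t}) (hreg : t ∈ nonZeroDivisors C) : IsDomain C := by
  have hnzd : NoZeroDivisors C := by
    refine ⟨fun {x y} hxy => ?_⟩
    by_contra hne
    rw [not_or] at hne
    obtain ⟨k, u, hu, rfl⟩ := exists_unit_mul_pow_of_maximalIdeal_eq_span ht hne.1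
    obtain ⟨l, v, hv, rfl⟩ := exists_unit_mul_pow_of_maximalIdeal_eq_span ht hne.2
    have h1 : (u * v) * t ^ (k + l) = 0 := by rw [← hxy, pow_add]; ring
    have h2 : t ^ (k + l) = 0 := by
      have := (hu.mul hv).mul_right_eq_zero.mp (by rw [mul_comm] at h1; rw [mul_comm]; exact h1)
      exact this
    have h3 : t ^ (k + l) ∈ nonZeroDivisors C := pow_mem hreg _
    have h4 : (1 : C) = 0 := by
      have := (mem_nonZeroDivisors_iff_right.mp h3) 1 (by rw [one_mul]; exact h2)
      exact this
    exact one_ne_zero h4
  exact NoZeroDivisors.to_isDomain C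

end Dom

section Conductor

variable {R S : Type u} [CommRing R] [CommRing S] (φ : R →+* S)

theorem comap_injective_of_isLocalization {R T : Type*} [CommRing R] [CommRing T] [Algebra R T]
    (M : Submonoid R) [IsLocalization M T] :
    Function.Injective (Ideal.comap (algebraMap R T)) := fun J J' h => by
  have h1 := IsLocalization.map_under M T J
  have h2 := IsLocalization.map_under M T J'
  change Ideal.under R J = Ideal.under R J' at h
  rw [← h1, h, h2]

/-- If `φ : R → S` is injective and `c S ⊆ φ R` for an element `c` which is a nonzerodivisor on both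
rings, then `R` and `S` have the same number of minimal primes. -/
theorem ncard_minimalPrimes_eq_of_conductor (hφ : Function.Injective φ) (c : R)
    (hc : c ∈ nonZeroDivisors R) (hc' : φ c ∈ nonZeroDivisors S)
    (hcS : ∀ s : S, ∃ r : R, φ r = φ c * s) :
    (minimalPrimes R).ncard = (minimalPrimes S).ncard := by
  let T := Localization.Away (φ c)
  letI : Algebra R T := ((algebraMap S T).comp φ).toAlgebra
  have halg : ∀ r : R, algebraMap R T r = algebraMap S T (φ r) := fun _ => rfl
  have hloc : IsLocalization (Submonoid.powers c) T := by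
    refine ⟨?_, ?_, ?_⟩
    · rintro ⟨_, k, rfl⟩
      rw [halg, map_pow, map_pow]
      exact (IsLocalization.Away.algebraMap_isUnit (φ c)).pow k
    · intro z
      obtain ⟨⟨s, ⟨_, k, rfl⟩⟩, hz⟩ := IsLocalization.surj (Submonoid.powers (φ c)) z
      obtain ⟨r, hr⟩ := hcS s
      refine ⟨⟨r, ⟨c ^ (k + 1), k + 1, rfl⟩⟩, ?_⟩
      simp only [halg, map_pow] at hz ⊢
      rw [hr, map_mul, ← hz, pow_succ]
      ring
    · intro r1 r2 h
      rw [halg, halg] at h
      obtain ⟨⟨_, k, rfl⟩, hk⟩ := (IsLocalization.eq_iff_exists (Submonoid.powers (φ c)) T).mp h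
      refine ⟨⟨c ^ k, k, rfl⟩, hφ ?_⟩
      simpa [map_mul, map_pow] using hk
  have hle : Submonoid.powers c ≤ nonZeroDivisors R := Submonoid.powers_le.mpr hc
  have hle' : Submonoid.powers (φ c) ≤ nonZeroDivisors S := Submonoid.powers_le.mpr hc'
  have hinjR : Function.Injective (algebraMap R T) := IsLocalization.injective T hle
  have hinjS : Function.Injective (algebraMap S T) := IsLocalization.injective T hle'
  have h1 : minimalPrimes R = Ideal.comap (algebraMap R T) '' minimalPrimes T := by
    have := IsLocalization.minimalPrimes_comap (Submonoid.powers c) T (⊥ : Ideal T)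
    rwa [Ideal.comap_bot_of_injective _ hinjR] at this
  have h2 : minimalPrimes S = Ideal.comap (algebraMap S T) '' minimalPrimes T := by
    have := IsLocalization.minimalPrimes_comap (Submonoid.powers (φ c)) T (⊥ : Ideal T)
    rwa [Ideal.comap_bot_of_injective _ hinjS] at this
  rw [h1, h2, Set.ncard_image_of_injective _ (comap_injective_of_isLocalization (Submonoid.powers c)),
    Set.ncard_image_of_injective _ (comap_injective_of_isLocalization (Submonoid.powers (φ c)))]

end Conductor

section MaxMin

variable {B : Type u} [CommRing B]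

/-- The kernel of the localization map at a prime `N` is contained in every prime contained in
`N`. -/
theorem ker_algebraMap_atPrime_le {N Q : Ideal B} [N.IsPrime] [hQ : Q.IsPrime] (hQN : Q ≤ N) :
    RingHom.ker (algebraMap B (Localization.AtPrime N)) ≤ Q := by
  intro x hx
  rw [RingHom.mem_ker, IsLocalization.map_eq_zero_iff N.primeCompl] at hx
  obtain ⟨⟨s, hs⟩, hsx⟩ := hx
  have h : s * x ∈ Q := by
    have : s * x = 0 := hsx
    rw [this]; exact Q.zero_mem
  exact (hQ.mem_or_mem h).resolve_left (fun h => hs (hQN h))

/-- If all localizations of `B` at maximal ideals are domains and all quotients of `B` by prime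
ideals are local rings, then `B` has as many minimal primes as maximal ideals. -/
theorem ncard_minimalPrimes_eq_ncard_maximal
    (hdom : ∀ (N : Ideal B) [N.IsMaximal], IsDomain (Localization.AtPrime N))
    (hloc : ∀ (Q : Ideal B) [Q.IsPrime], IsLocalRing (B ⧸ Q)) :
    (minimalPrimes B).ncard = {N : Ideal B | N.IsMaximal}.ncard := by
  symm
  refine Set.ncard_congr
    (fun N hN => haveI : N.IsMaximal := hN; RingHom.ker (algebraMap B (Localization.AtPrime N)))
    ?_ ?_ ?_
  · intro N hN
    haveI : N.IsMaximal := hN
    haveI := hdom N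
    have hP : (RingHom.ker (algebraMap B (Localization.AtPrime N))).IsPrime := RingHom.ker_isPrime _
    have hPN : RingHom.ker (algebraMap B (Localization.AtPrime N)) ≤ N :=
      ker_algebraMap_atPrime_le le_rfl
    refine ⟨⟨hP, bot_le⟩, ?_⟩
    rintro q ⟨hq, -⟩ hqP
    haveI := hq
    exact ker_algebraMap_atPrime_le (hqP.trans hPN)
  · intro N N' hN hN' h
    haveI : N.IsMaximal := hN
    haveI : N'.IsMaximal := hN'
    haveI := hdom N
    have hP : (RingHom.ker (algebraMap B (Localization.AtPrime N))).IsPrime := RingHom.ker_isPrime _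
    have hPN : RingHom.ker (algebraMap B (Localization.AtPrime N)) ≤ N :=
      ker_algebraMap_atPrime_le le_rfl
    have hPN' : RingHom.ker (algebraMap B (Localization.AtPrime N)) ≤ N' := by
      change RingHom.ker (algebraMap B (Localization.AtPrime N)) =
        RingHom.ker (algebraMap B (Localization.AtPrime N')) at h
      rw [h]
      exact ker_algebraMap_atPrime_le le_rfl
    set P := RingHom.ker (algebraMap B (Localization.AtPrime N)) with hPdef
    haveI := hloc P
    by_contra hne
    have hsup : N ⊔ N' = ⊤ := Ideal.IsMaximal.coprime_of_ne hN hN' hne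
    obtain ⟨a, ha, b, hb, hab⟩ := Submodule.mem_sup.mp ((Ideal.eq_top_iff_one _).mp hsup)
    have hab' : Ideal.Quotient.mk P a + Ideal.Quotient.mk P b = 1 := by
      rw [← map_add, hab, map_one]
    have key : ∀ (M : Ideal B), M.IsMaximal → P ≤ M → ∀ x ∈ M, ¬ IsUnit (Ideal.Quotient.mk P x) := by
      intro M hM hPM x hx hu
      obtain ⟨d, hd⟩ := hu.exists_right_inv
      obtain ⟨d, rfl⟩ := Ideal.Quotient.mk_surjective d
      rw [← map_mul, ← map_one (Ideal.Quotient.mk P), Ideal.Quotient.eq] at hd
      have h1 : x * d - 1 ∈ M := hPM hd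
      have h2 : x * d ∈ M := M.mul_mem_right d hx
      have : (1 : B) ∈ M := by
        have := M.sub_mem h2 h1
        simpa using this
      exact hM.ne_top ((Ideal.eq_top_iff_one _).mpr this)
    rcases IsLocalRing.isUnit_or_isUnit_of_add_one hab' with h | h
    · exact key N hN hPN a ha h
    · exact key N' hN' hPN' b hb h
  · intro Q hQ
    haveI hQp : Q.IsPrime := hQ.1.1
    obtain ⟨N, hN, hQN⟩ := Ideal.exists_le_maximal Q hQp.ne_top
    refine ⟨N, hN, ?_⟩
    haveI : N.IsMaximal := hN
    haveI := hdom N
    have hP : (RingHom.ker (algebraMap B (Localization.AtPrime N))).IsPrime := RingHom.ker_isPrime _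
    have h1 : RingHom.ker (algebraMap B (Localization.AtPrime N)) ≤ Q :=
      ker_algebraMap_atPrime_le hQN
    exact le_antisymm h1 (hQ.2 ⟨hP, bot_le⟩ h1)

end MaxMin

end Groth.Agent.Lib.Helper73.NormCount
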