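import Groth.Agent.Lib.Helper73.NormCount1
import Groth.Agent.Lib.Helper73.RedFibre3

/-!
# Counting minimal primes of a completion via the normalization: pushout lemmas (helper73)
-/

set_option autoImplicit false
set_option linter.style.haveILetI false
set_option linter.unusedSectionVars false
universe u

open IsLocalRing TensorProduct

namespace Groth.Agent.Lib.Helper73.NormCount

section Pushout

variable (A Ah A' B : Type u) [CommRing A] [CommRing Ah] [CommRing A'] [CommRing B]
  [Algebra A Ah] [Algebra A A'] [Algebra A B] [Algebra Ah B] [Algebra A' B]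
  [IsScalarTower A Ah B] [IsScalarTower A A' B] [Algebra.IsPushout A Ah A' B]

include A in
theorem finite_of_isPushout [Module.Finite A A'] : Module.Finite Ah B :=
  Module.Finite.equiv (Algebra.IsPushout.equiv A Ah A' B).toLinearEquiv

include A in
theorem flat_of_isPushout [Module.Flat A Ah] : Module.Flat A' B := by
  have h : Algebra.IsPushout A A' Ah B := Algebra.IsPushout.symm inferInstance
  exact Module.Flat.of_linearEquiv (Algebra.IsPushout.equiv A A' Ah B).toLinearEquiv.symm

include A in
theorem faithfullyFlat_of_isPushout [Module.FaithfullyFlat A Ah] : Module.FaithfullyFlat A' B := by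
  have h : Algebra.IsPushout A A' Ah B := Algebra.IsPushout.symm inferInstance
  exact Module.FaithfullyFlat.of_linearEquiv _ _ (Algebra.IsPushout.equiv A A' Ah B).toLinearEquiv.symm

include A in
/-- Induction principle for the pushout. -/
theorem pushout_induction {P : B → Prop} (h0 : P 0)
    (hmul : ∀ (x : Ah) (y : A'), P (algebraMap Ah B x * algebraMap A' B y))
    (hadd : ∀ b₁ b₂, P b₁ → P b₂ → P (b₁ + b₂)) (b : B) : P b := by
  obtain ⟨z, rfl⟩ := (Algebra.IsPushout.equiv A Ah A' B).surjective b
  induction z with
  | zero => simpa using h0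
  | tmul x y => rw [Algebra.IsPushout.equiv_tmul]; exact hmul x y
  | add z₁ z₂ h₁ h₂ => rw [map_add]; exact hadd _ _ h₁ h₂

include A A' in
theorem algebraMap_injective_of_isPushout [Module.Flat A Ah]
    (hinj : Function.Injective (algebraMap A A')) : Function.Injective (algebraMap Ah B) := by
  have h1 : Function.Injective (LinearMap.lTensor Ah (Algebra.linearMap A A')) :=
    Module.Flat.lTensor_preserves_injective_linearMap _ hinj
  have h2 : ∀ x : Ah, algebraMap Ah B x =
      Algebra.IsPushout.equiv A Ah A' B
        (LinearMap.lTensor Ah (Algebra.linearMap A A') ((TensorProduct.rid A Ah).symm x)) := by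
    intro x
    simp [Algebra.IsPushout.equiv_tmul]
  intro x y hxy
  rw [h2, h2] at hxy
  exact (TensorProduct.rid A Ah).symm.injective (h1 ((Algebra.IsPushout.equiv A Ah A' B).injective hxy))

/-- Conductor: the completion and the pushout have the same number of minimal primes. -/
theorem ncard_minimalPrimes_pushout [Module.Flat A Ah]
    (hinj : Function.Injective (algebraMap A A')) (c : A) (hc : c ∈ nonZeroDivisors A)
    (hc' : algebraMap A A' c ∈ nonZeroDivisors A')
    (hcond : ∀ y : A', ∃ a : A, algebraMap A A' a = algebraMap A A' c * y) :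
    (minimalPrimes Ah).ncard = (minimalPrimes B).ncard := by
  have hflat : Module.Flat A' B := flat_of_isPushout A Ah A' B
  refine ncard_minimalPrimes_eq_of_conductor (algebraMap Ah B)
    (algebraMap_injective_of_isPushout A Ah A' B hinj) (algebraMap A Ah c) ?_ ?_ ?_
  · have := Module.Flat.isSMulRegular_of_nonZeroDivisors (M := Ah) hc
    rw [mem_nonZeroDivisors_iff_right]
    intro x hx
    apply this
    change c • x = c • (0 : Ah)
    rw [smul_zero, Algebra.smul_def, mul_comm]
    exact hx
  · have := Module.Flat.isSMulRegular_of_nonZeroDivisors (M := B) hc'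
    rw [mem_nonZeroDivisors_iff_right]
    intro x hx
    apply this
    change (algebraMap A A' c) • x = (algebraMap A A' c) • (0 : B)
    rw [smul_zero, Algebra.smul_def, mul_comm, ← IsScalarTower.algebraMap_apply,
      IsScalarTower.algebraMap_apply A Ah B]
    exact hx
  · intro s
    induction s using pushout_induction A Ah A' B with
    | h0 => exact ⟨0, by simp⟩
    | hmul x y =>
      obtain ⟨a, ha⟩ := hcond y
      refine ⟨x * algebraMap A Ah a, ?_⟩
      rw [map_mul, ← IsScalarTower.algebraMap_apply, IsScalarTower.algebraMap_apply A A' B, ha,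
        map_mul, ← IsScalarTower.algebraMap_apply A A' B, ← IsScalarTower.algebraMap_apply A Ah B]
      ring
    | hadd b₁ b₂ h₁ h₂ =>
      obtain ⟨r₁, hr₁⟩ := h₁
      obtain ⟨r₂, hr₂⟩ := h₂
      exact ⟨r₁ + r₂, by rw [map_add, hr₁, hr₂]; ring⟩

end Pushout

section Maximal

variable (A Ah A' B : Type u) [CommRing A] [CommRing Ah] [CommRing A'] [CommRing B]
  [Algebra A Ah] [Algebra A A'] [Algebra A B] [Algebra Ah B] [Algebra A' B]
  [IsScalarTower A Ah B] [IsScalarTower A A' B] [Algebra.IsPushout A Ah A' B]
  [IsLocalRing A] [IsLocalRing Ah] [IsLocalHom (algebraMap A Ah)] [Module.FaithfullyFlat A Ah]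
  [Module.Finite A A']

include A in
/-- A maximal ideal of the finite `A`-algebra `A'` contains the maximal ideal of `A`. -/
theorem comap_eq_maximalIdeal_of_isMaximal (n : Ideal A') [n.IsMaximal] :
    n.comap (algebraMap A A') = maximalIdeal A := by
  have : Algebra.IsIntegral A A' := inferInstance
  have := Ideal.isMaximal_comap_of_isIntegral_of_isMaximal (R := A) n
  exact IsLocalRing.eq_maximalIdeal this

variable (hm : maximalIdeal Ah = (maximalIdeal A).map (algebraMap A Ah))
  (hres : ∀ x : Ah, ∃ a : A, x - algebraMap A Ah a ∈ maximalIdeal Ah)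

include hm hres in
/-- Modulo the extension of a maximal ideal `n` of `A'`, every element of the pushout comes from
`A'`. -/
theorem exists_sub_mem_map_of_isMaximal (n : Ideal A') [n.IsMaximal] (b : B) :
    ∃ y : A', b - algebraMap A' B y ∈ n.map (algebraMap A' B) := by
  have hmn : ∀ a ∈ maximalIdeal A, algebraMap A A' a ∈ n := by
    intro a ha
    rw [← comap_eq_maximalIdeal_of_isMaximal A A' n] at ha
    exact ha
  have hmB : ∀ x ∈ maximalIdeal Ah, algebraMap Ah B x ∈ n.map (algebraMap A' B) := by
    intro x hx
    rw [hm] at hx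
    have : (maximalIdeal A).map (algebraMap A Ah) ≤
        (n.map (algebraMap A' B)).comap (algebraMap Ah B) := by
      rw [Ideal.map_le_iff_le_comap]
      intro a ha
      rw [Ideal.mem_comap, Ideal.mem_comap, ← IsScalarTower.algebraMap_apply,
        IsScalarTower.algebraMap_apply A A' B]
      exact Ideal.mem_map_of_mem _ (hmn a ha)
    exact this hx
  induction b using pushout_induction A Ah A' B with
  | h0 => exact ⟨0, by simp⟩
  | hmul x y =>
    obtain ⟨a, ha⟩ := hres x
    refine ⟨algebraMap A A' a * y, ?_⟩
    have h1 := hmB _ ha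
    have : algebraMap Ah B x * algebraMap A' B y - algebraMap A' B (algebraMap A A' a * y) =
        algebraMap Ah B (x - algebraMap A Ah a) * algebraMap A' B y := by
      rw [map_mul, map_sub, ← IsScalarTower.algebraMap_apply A A' B,
        ← IsScalarTower.algebraMap_apply A Ah B]
      ring
    rw [this]
    exact Ideal.mul_mem_right _ _ h1
  | hadd b₁ b₂ h₁ h₂ =>
    obtain ⟨y₁, hy₁⟩ := h₁
    obtain ⟨y₂, hy₂⟩ := h₂
    refine ⟨y₁ + y₂, ?_⟩
    have : b₁ + b₂ - algebraMap A' B (y₁ + y₂) =
        (b₁ - algebraMap A' B y₁) + (b₂ - algebraMap A' B y₂) := by rw [map_add]; ring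
    rw [this]
    exact Ideal.add_mem _ hy₁ hy₂

include A Ah in
theorem comap_map_of_isPushout (n : Ideal A') :
    (n.map (algebraMap A' B)).comap (algebraMap A' B) = n := by
  have := faithfullyFlat_of_isPushout A Ah A' B
  exact Ideal.comap_map_eq_self_of_faithfullyFlat n

include hm hres in
/-- The extension to the pushout of a maximal ideal of `A'` is maximal. -/
theorem map_isMaximal_of_isMaximal (n : Ideal A') [hn : n.IsMaximal] :
    (n.map (algebraMap A' B)).IsMaximal := by
  rw [Ideal.isMaximal_iff]
  have hcm := comap_map_of_isPushout A Ah A' B n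
  refine ⟨?_, ?_⟩
  · intro h1
    have : (1 : A') ∈ (n.map (algebraMap A' B)).comap (algebraMap A' B) := by
      rw [Ideal.mem_comap, map_one]; exact h1
    rw [hcm] at this
    exact hn.ne_top ((Ideal.eq_top_iff_one _).mpr this)
  · intro J b hJ hb hbJ
    obtain ⟨y, hy⟩ := exists_sub_mem_map_of_isMaximal A Ah A' B hm hres n b
    have hyn : y ∉ n := by
      intro hyn
      apply hb
      have := Ideal.add_mem _ hy (Ideal.mem_map_of_mem (algebraMap A' B) hyn)
      simpa using this
    obtain ⟨y', z, hz, hyz⟩ := hn.exists_inv hyn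
    have h1 : algebraMap A' B y ∈ J := by
      have := J.sub_mem hbJ (hJ hy)
      simpa using this
    have h2 : algebraMap A' B (y' * y) ∈ J := by
      rw [map_mul]; exact J.mul_mem_left _ h1
    have h3 : algebraMap A' B z ∈ J := hJ (Ideal.mem_map_of_mem _ hz)
    have := J.add_mem h2 h3
    rw [← map_add, hyz, map_one] at this
    exact this

include hm hres in
/-- Every maximal ideal of the pushout is extended from its contraction to `A'`, which is
maximal. -/
theorem comap_isMaximal_and_map_comap_eq [IsNoetherianRing Ah] (N : Ideal B) [hN : N.IsMaximal] :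
    (N.comap (algebraMap A' B)).IsMaximal ∧
      (N.comap (algebraMap A' B)).map (algebraMap A' B) = N := by
  have hfin : Module.Finite Ah B := finite_of_isPushout A Ah A' B
  have hint : Algebra.IsIntegral Ah B := inferInstance
  have h1 : N.comap (algebraMap Ah B) = maximalIdeal Ah :=
    IsLocalRing.eq_maximalIdeal (Ideal.isMaximal_comap_of_isIntegral_of_isMaximal (R := Ah) N)
  have h2 : (N.comap (algebraMap A' B)).comap (algebraMap A A') = maximalIdeal A := by
    rw [Ideal.comap_comap, ← IsScalarTower.algebraMap_eq, IsScalarTower.algebraMap_eq A Ah B,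
      ← Ideal.comap_comap, h1, IsLocalRing.maximalIdeal_comap]
  have hint' : Algebra.IsIntegral A A' := inferInstance
  have h3 : (N.comap (algebraMap A' B)).IsMaximal :=
    Ideal.isMaximal_of_isIntegral_of_isMaximal_comap (R := A) _ (by rw [h2]; infer_instance)
  refine ⟨h3, ?_⟩
  have h4 := map_isMaximal_of_isMaximal A Ah A' B hm hres (N.comap (algebraMap A' B))
  exact h4.eq_of_le hN.ne_top Ideal.map_comap_le

include hm hres in
/-- The pushout and `A'` have the same number of maximal ideals. -/
theorem ncard_maximal_pushout [IsNoetherianRing Ah] :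
    {N : Ideal B | N.IsMaximal}.ncard = {n : Ideal A' | n.IsMaximal}.ncard := by
  refine Set.ncard_congr (fun N _ => N.comap (algebraMap A' B)) ?_ ?_ ?_
  · intro N hN
    haveI : N.IsMaximal := hN
    exact (comap_isMaximal_and_map_comap_eq A Ah A' B hm hres N).1
  · intro N N' hN hN' h
    haveI : N.IsMaximal := hN
    haveI : N'.IsMaximal := hN'
    rw [← (comap_isMaximal_and_map_comap_eq A Ah A' B hm hres N).2,
      ← (comap_isMaximal_and_map_comap_eq A Ah A' B hm hres N').2]
    exact congrArg _ h
  · intro n hn
    haveI : n.IsMaximal := hn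
    exact ⟨n.map (algebraMap A' B), map_isMaximal_of_isMaximal A Ah A' B hm hres n,
      comap_map_of_isPushout A Ah A' B n⟩

end Maximal

section Main

variable (A Ah A' B : Type u) [CommRing A] [CommRing Ah] [CommRing A'] [CommRing B]
  [Algebra A Ah] [Algebra A A'] [Algebra A B] [Algebra Ah B] [Algebra A' B]
  [IsScalarTower A Ah B] [IsScalarTower A A' B] [Algebra.IsPushout A Ah A' B]
  [IsLocalRing A] [IsLocalRing Ah] [IsLocalHom (algebraMap A Ah)] [Module.FaithfullyFlat A Ah]
  [Module.Finite A A'] [IsNoetherianRing Ah]
  (hm : maximalIdeal Ah = (maximalIdeal A).map (algebraMap A Ah))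
  (hres : ∀ x : Ah, ∃ a : A, x - algebraMap A Ah a ∈ maximalIdeal Ah)

include hm hres in
/-- If the localizations of `A'` at its maximal ideals are discrete valuation rings, the
localizations of the pushout at its maximal ideals are domains. -/
theorem isDomain_localization_pushout
    (hV : ∀ (n : Ideal A') [n.IsMaximal], ∃ _ : IsDomain (Localization.AtPrime n),
      IsDiscreteValuationRing (Localization.AtPrime n))
    (N : Ideal B) [hN : N.IsMaximal] : IsDomain (Localization.AtPrime N) := by
  obtain ⟨hn, hnN⟩ := comap_isMaximal_and_map_comap_eq A Ah A' B hm hres N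
  set n := N.comap (algebraMap A' B) with hndef
  haveI : n.IsMaximal := hn
  haveI : N.LiesOver n := ⟨rfl⟩
  obtain ⟨hdomV, hdvr⟩ := hV n
  letI := Localization.AtPrime.algebraOfLiesOver n N
  haveI hflat : Module.Flat A' B := flat_of_isPushout A Ah A' B
  haveI hfin : Module.Finite Ah B := finite_of_isPushout A Ah A' B
  haveI : IsNoetherianRing B := IsNoetherianRing.of_finite Ah B
  haveI : IsNoetherianRing (Localization.AtPrime N) :=
    IsLocalization.isNoetherianRing N.primeCompl _ inferInstance
  obtain ⟨ϖ, hϖ⟩ := IsDiscreteValuationRing.exists_irreducible (Localization.AtPrime n)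
  have hmV : maximalIdeal (Localization.AtPrime n) = Ideal.span {ϖ} := hϖ.maximalIdeal_eq
  have hϖ0 : ϖ ∈ nonZeroDivisors (Localization.AtPrime n) :=
    mem_nonZeroDivisors_of_ne_zero hϖ.ne_zero
  have hreg : IsSMulRegular (Localization.AtPrime N) ϖ :=
    Module.Flat.isSMulRegular_of_nonZeroDivisors hϖ0
  refine isDomain_of_maximalIdeal_eq_span_singleton
    (t := algebraMap (Localization.AtPrime n) (Localization.AtPrime N) ϖ) ?_ ?_
  · have e1 : N.map (algebraMap B (Localization.AtPrime N)) =
        (n.map (algebraMap A' B)).map (algebraMap B (Localization.AtPrime N)) := by rw [hnN]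
    rw [← Localization.AtPrime.map_eq_maximalIdeal (I := N), e1, Ideal.map_map,
      ← IsScalarTower.algebraMap_eq,
      IsScalarTower.algebraMap_eq A' (Localization.AtPrime n) (Localization.AtPrime N),
      ← Ideal.map_map, Localization.AtPrime.map_eq_maximalIdeal, hmV, Ideal.map_span,
      Set.image_singleton]
  · rw [mem_nonZeroDivisors_iff_right]
    intro x hx
    apply hreg
    change ϖ • x = ϖ • (0 : Localization.AtPrime N)
    rw [smul_zero, Algebra.smul_def, mul_comm]
    exact hx

include A A' in
/-- Quotients of the pushout by prime ideals are local (the base being complete). -/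
theorem isLocalRing_quotient_pushout [IsAdicComplete (maximalIdeal Ah) Ah]
    (Q : Ideal B) [Q.IsPrime] : IsLocalRing (B ⧸ Q) := by
  haveI hfin : Module.Finite Ah B := finite_of_isPushout A Ah A' B
  haveI : Module.Finite Ah (B ⧸ Q) :=
    Module.Finite.of_surjective (Ideal.Quotient.mkₐ Ah Q).toLinearMap Ideal.Quotient.mk_surjective
  exact Groth.Agent.Lib.Helper73.RedFibre.isLocalRing_of_finite_domain Ah (B ⧸ Q)

include hm hres B in
/-- **Main count**: the number of maximal ideals of `A'` equals the number of minimal primes of the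
completion `Ah`. -/
theorem ncard_maximal_eq_ncard_minimalPrimes [IsAdicComplete (maximalIdeal Ah) Ah]
    (hV : ∀ (n : Ideal A') [n.IsMaximal], ∃ _ : IsDomain (Localization.AtPrime n),
      IsDiscreteValuationRing (Localization.AtPrime n))
    (hinj : Function.Injective (algebraMap A A')) (c : A) (hc : c ∈ nonZeroDivisors A)
    (hc' : algebraMap A A' c ∈ nonZeroDivisors A')
    (hcond : ∀ y : A', ∃ a : A, algebraMap A A' a = algebraMap A A' c * y) :
    {n : Ideal A' | n.IsMaximal}.ncard = (minimalPrimes Ah).ncard := by
  rw [ncard_minimalPrimes_pushout A Ah A' B hinj c hc hc' hcond,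
    ← ncard_maximal_pushout A Ah A' B hm hres]
  symm
  exact ncard_minimalPrimes_eq_ncard_maximal
    (fun N _ => isDomain_localization_pushout A Ah A' B hm hres hV N)
    (fun Q _ => isLocalRing_quotient_pushout A Ah A' B Q)

end Main

end Groth.Agent.Lib.Helper73.NormCount
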