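import Groth.Agent.Lib.Helper73.NormCount2
import Groth.Agent.Lib.Helper29.CMLocusOpen
import Groth.Agent.Lib.Helper38.Delta2
import Groth.Agent.Lib.Helper55.KrullDimIntegral

/-!
# Maximal ideals of the normalization and minimal primes of the completion (helper73)
-/

set_option autoImplicit false
set_option linter.style.haveILetI false
set_option linter.unusedSectionVars false
universe u

open IsLocalRing TensorProduct

namespace Groth.Agent.Lib.Helper73.NormCount

section Regular

variable (A : Type u) [CommRing A] [IsNoetherianRing A] [IsLocalRing A] [IsReduced A]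

/-- A reduced Noetherian local ring of dimension one has a nonzerodivisor in its maximal ideal. -/
theorem exists_mem_maximalIdeal_nonZeroDivisors (hdim : ringKrullDim A = 1) :
    ∃ x ∈ maximalIdeal A, x ∈ nonZeroDivisors A := by
  classical
  by_contra hcon
  have hcon' : ∀ x ∈ maximalIdeal A, x ∉ nonZeroDivisors A := fun x hx hx' => hcon ⟨x, hx, hx'⟩
  have hfin : (minimalPrimes A).Finite := minimalPrimes.finite_of_isNoetherianRing A
  have hsub : ((maximalIdeal A : Ideal A) : Set A) ⊆
      ⋃ p ∈ ((hfin.toFinset : Finset (Ideal A)) : Set (Ideal A)), ((id p : Ideal A) : Set A) := by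
    intro x hx
    have h1 := hcon' x hx
    rw [mem_nonZeroDivisors_iff_right] at h1
    push Not at h1
    obtain ⟨y, hyx, hy0⟩ := h1
    have hy : y ∉ sInf (minimalPrimes A) := by
      change y ∉ sInf (⊥ : Ideal A).minimalPrimes
      rw [Ideal.sInf_minimalPrimes]
      intro hy
      have : IsNilpotent y := by
        obtain ⟨n, hn⟩ := hy
        exact ⟨n, by simpa using hn⟩
      exact hy0 this.eq_zero
    rw [Ideal.mem_sInf] at hy
    push Not at hy
    obtain ⟨p, hp, hyp⟩ := hy
    have hpp : p.IsPrime := hp.1.1
    have hxp : x ∈ p := by
      have : y * x ∈ p := by rw [hyx]; exact p.zero_mem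
      exact (hpp.mem_or_mem this).resolve_left hyp
    simp only [Set.mem_iUnion]
    exact ⟨p, by simpa using hp, hxp⟩
  rw [Ideal.subset_union_prime (maximalIdeal A) (maximalIdeal A)] at hsub
  · obtain ⟨p, hp, hmp⟩ := hsub
    have hp' : p ∈ minimalPrimes A := by simpa using hp
    have hpp : p.IsPrime := hp'.1.1
    have hpm : p = maximalIdeal A := le_antisymm (le_maximalIdeal hpp.ne_top) hmp
    have hh : (maximalIdeal A).height = 0 := by
      rw [Ideal.height_eq_zero_iff, ← hpm]; exact hp'
    have := IsLocalRing.maximalIdeal_height_eq_ringKrullDim (R := A)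
    rw [hh, hdim] at this
    exact absurd this (by norm_cast)
  · intro p hp _ _
    have hp' : p ∈ minimalPrimes A := by simpa using hp
    exact hp'.1.1

end Regular

section Norm

variable (A : Type u) [CommRing A] [IsNoetherianRing A] [IsLocalRing A] [IsReduced A]

theorem algebraMap_integralClosure_injective :
    Function.Injective (algebraMap A (integralClosure A (FractionRing A))) := by
  have h : Function.Injective (algebraMap A (FractionRing A)) :=
    IsFractionRing.injective A (FractionRing A)
  rw [IsScalarTower.algebraMap_eq A (integralClosure A (FractionRing A)) (FractionRing A),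
    RingHom.coe_comp] at h
  exact Function.Injective.of_comp h

theorem algebraMap_mem_nonZeroDivisors_integralClosure {s : A} (hs : s ∈ nonZeroDivisors A) :
    algebraMap A (integralClosure A (FractionRing A)) s ∈
      nonZeroDivisors (integralClosure A (FractionRing A)) := by
  rw [mem_nonZeroDivisors_iff_right]
  intro y hy
  have hu : IsUnit (algebraMap A (FractionRing A) s) :=
    IsLocalization.map_units (FractionRing A) (⟨s, hs⟩ : nonZeroDivisors A)
  have h1 : (y : FractionRing A) * algebraMap A (FractionRing A) s = 0 := by
    have := congrArg (algebraMap (integralClosure A (FractionRing A)) (FractionRing A)) hy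
    rw [map_mul, map_zero, ← IsScalarTower.algebraMap_apply] at this
    exact this
  have h2 : (y : FractionRing A) = 0 := hu.mul_left_eq_zero.mp h1
  exact Subtype.ext h2

/-- The localizations of the (finite) normalization of a reduced one-dimensional Noetherian local
ring at its maximal ideals are discrete valuation rings. -/
theorem isDiscreteValuationRing_localization_integralClosure (hdim : ringKrullDim A = 1)
    (hfin : Module.Finite A (integralClosure A (FractionRing A)))
    (n : Ideal (integralClosure A (FractionRing A))) [hn : n.IsMaximal] :
    ∃ _ : IsDomain (Localization.AtPrime n), IsDiscreteValuationRing (Localization.AtPrime n) := by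
  have hnor := Groth.Agent.Lib.Helper38.isNormalRing_integralClosure A hfin
  obtain ⟨hdom, hic⟩ := hnor n
  haveI : IsNoetherianRing (integralClosure A (FractionRing A)) := IsNoetherianRing.of_finite A _
  haveI : IsNoetherianRing (Localization.AtPrime n) :=
    IsLocalization.isNoetherianRing n.primeCompl _ inferInstance
  haveI : Algebra.IsIntegral A (integralClosure A (FractionRing A)) := inferInstance
  refine ⟨hdom, ?_⟩
  apply Groth.Agent.Lib.Helper38.isDiscreteValuationRing_of_dim_one
  rw [IsLocalization.AtPrime.ringKrullDim_eq_height n (Localization.AtPrime n)]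
  have hle : (n.height : WithBot ℕ∞) ≤ 1 := by
    calc (n.height : WithBot ℕ∞) ≤ ringKrullDim (integralClosure A (FractionRing A)) :=
          Ideal.height_le_ringKrullDim_of_ne_top hn.ne_top
      _ ≤ ringKrullDim A := Groth.Agent.Lib.Helper55.ringKrullDim_le_of_isIntegral A _
      _ = 1 := hdim
  have hge : (1 : WithBot ℕ∞) ≤ (n.height : WithBot ℕ∞) := by
    obtain ⟨x, hxm, hxreg⟩ := exists_mem_maximalIdeal_nonZeroDivisors A hdim
    have hxn : algebraMap A (integralClosure A (FractionRing A)) x ∈ n := by
      have := comap_eq_maximalIdeal_of_isMaximal A (integralClosure A (FractionRing A)) n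
      rw [← this] at hxm
      exact hxm
    have hnotmin : n ∉ minimalPrimes (integralClosure A (FractionRing A)) := by
      intro hmin
      have := Ideal.disjoint_nonZeroDivisors_of_mem_minimalPrimes hmin
      exact Set.disjoint_left.mp this hxn (algebraMap_mem_nonZeroDivisors_integralClosure A hxreg)
    have h0 : n.height ≠ 0 := by
      rw [Ne, Ideal.height_eq_zero_iff]; exact hnotmin
    have : (1 : ℕ∞) ≤ n.height := Order.one_le_iff_pos.mpr (pos_iff_ne_zero.mpr h0)
    exact_mod_cast this
  exact le_antisymm hle hge

end Norm

section Final

variable (A : Type u) [CommRing A] [IsNoetherianRing A] [IsLocalRing A] [IsReduced A]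

open Groth.Agent.Lib.Helper29 in
attribute [local instance] Algebra.TensorProduct.rightAlgebra in
/-- For a reduced Noetherian local ring `A` of dimension one with finite normalization `A'`, the
number of maximal ideals of `A'` equals the number of minimal primes of the completion of `A`. -/
theorem ncard_maximal_integralClosure_eq_ncard_minimalPrimes_cpl (hdim : ringKrullDim A = 1)
    (hfin : Module.Finite A (integralClosure A (FractionRing A))) :
    {P : Ideal (integralClosure A (FractionRing A)) | P.IsMaximal}.ncard =
      (minimalPrimes (AdicCompletion (maximalIdeal A) A)).ncard := by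
  have hne : maximalIdeal A ≠ ⊤ := Ideal.IsPrime.ne_top inferInstance
  haveI := hfin
  haveI : IsNoetherianRing (AdicCompletion (maximalIdeal A) A) := isNoetherianRing_cpl A
  haveI : IsLocalRing (AdicCompletion (maximalIdeal A) A) := isLocalRing_cpl A
  haveI : Module.FaithfullyFlat A (AdicCompletion (maximalIdeal A) A) := faithfullyFlat_cpl A
  haveI : IsLocalHom (algebraMap A (AdicCompletion (maximalIdeal A) A)) :=
    isLocalHom_algebraMap_adicCompletion A (maximalIdeal A) hne
  haveI : IsAdicComplete (maximalIdeal (AdicCompletion (maximalIdeal A) A))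
      (AdicCompletion (maximalIdeal A) A) := isAdicComplete_cpl A
  have hm : maximalIdeal (AdicCompletion (maximalIdeal A) A) =
      (maximalIdeal A).map (algebraMap A (AdicCompletion (maximalIdeal A) A)) :=
    maximalIdeal_adicCompletion_eq_map A (maximalIdeal A) hne
  have hres : ∀ x : AdicCompletion (maximalIdeal A) A, ∃ a : A,
      x - algebraMap A (AdicCompletion (maximalIdeal A) A) a ∈
        maximalIdeal (AdicCompletion (maximalIdeal A) A) := by
    intro x
    obtain ⟨a, ha⟩ := Ideal.Quotient.mk_surjective (AdicCompletion.evalOneₐ (maximalIdeal A) x)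
    refine ⟨a, ?_⟩
    rw [hm, ← AdicCompletion.ker_evalOneₐ_eq_map (maximalIdeal A) (Ideal.fg_of_isNoetherianRing _),
      RingHom.mem_ker, map_sub, sub_eq_zero]
    have := congrArg (fun f => f a)
      (AdicCompletion.evalOneₐ_comp_algebraMap_eq_mk (maximalIdeal A))
    simp only [RingHom.comp_apply] at this
    rw [this]
    exact ha.symm
  obtain ⟨c, hc, hcond⟩ := Groth.Agent.Lib.Helper38.exists_nonZeroDivisor_smul_mem_range
    (A := A) (K := FractionRing A) (integralClosure A (FractionRing A))
  refine ncard_maximal_eq_ncard_minimalPrimes A (AdicCompletion (maximalIdeal A) A)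
    (integralClosure A (FractionRing A))
    (AdicCompletion (maximalIdeal A) A ⊗[A] integralClosure A (FractionRing A)) hm hres
    (fun n _ => isDiscreteValuationRing_localization_integralClosure A hdim hfin n)
    (algebraMap_integralClosure_injective A) c hc
    (algebraMap_mem_nonZeroDivisors_integralClosure A hc) ?_
  intro y
  obtain ⟨a, ha⟩ := hcond y
  refine ⟨a, ?_⟩
  rw [← Algebra.smul_def]
  exact ha

end Final

end Groth.Agent.Lib.Helper73.NormCount
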