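import Mathlib
import Groth.Agent.S4756
import Groth.Agent.S4736
import Groth.Agent.Lib.Helper29.GeomDescent
import Groth.Agent.Lib.Helper47.RegularHomAscent
import Groth.Agent.Lib.Helper73.GeomFibreComp
import Groth.Agent.Lib.Helper73.RegularCompletion
import Groth.Agent.Lib.Helper50.SpecConnected
import Groth.Agent.Lib.Helper73.RegularNormal

universe u

set_option maxSynthPendingDepth 3

namespace Groth.Agent.Lib.Helper73.OnePlus

variable {A : Type u} [CommRing A] [IsNoetherianRing A] (J : Ideal A)

theorem isUnit_algebraMap_of_mem {t : A} (ht : t ∈ MonoidHom.mker (Ideal.Quotient.mk J)) :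
    IsUnit (algebraMap A (AdicCompletion J A) t) := by
  have fg := Ideal.fg_of_isNoetherianRing J
  have hcompl := AdicCompletion.isAdicComplete_self J fg
  have h1 : t - 1 ∈ J := by
    rw [MonoidHom.mem_mker] at ht
    rw [← Ideal.Quotient.eq]
    simpa using ht
  have h2 : algebraMap A (AdicCompletion J A) (t - 1) ∈ Ideal.jacobson (⊥ : Ideal (AdicCompletion J A)) :=
    (hcompl.le_jacobson_bot : _ ≤ _) (Ideal.mem_map_of_mem _ h1)
  have h3 := Ideal.mem_jacobson_bot.mp h2 1
  simpa using h3

noncomputable abbrev algT : Algebra (Localization (MonoidHom.mker (Ideal.Quotient.mk J))) (AdicCompletion J A) :=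
  (IsLocalization.lift (M := MonoidHom.mker (Ideal.Quotient.mk J))
    (g := algebraMap A (AdicCompletion J A)) (fun t => isUnit_algebraMap_of_mem J t.2)).toAlgebra

attribute [local instance] algT

instance : IsScalarTower A (Localization (MonoidHom.mker (Ideal.Quotient.mk J))) (AdicCompletion J A) :=
  IsScalarTower.of_algebraMap_eq fun a => by
    rw [RingHom.algebraMap_toAlgebra]
    exact (IsLocalization.lift_eq _ a).symm

theorem isLocalization_self :
    IsLocalization (Algebra.algebraMapSubmonoid (AdicCompletion J A) (MonoidHom.mker (Ideal.Quotient.mk J)))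
      (AdicCompletion J A) := by
  apply IsLocalization.of_le_isUnit
  rintro _ ⟨t, ht, rfl⟩
  exact isUnit_algebraMap_of_mem J ht

theorem isNormalHom (hf : EGA4.IsNormalHom A (AdicCompletion J A)) :
    EGA4.IsNormalHom (Localization (MonoidHom.mker (Ideal.Quotient.mk J))) (AdicCompletion J A) := by
  have hN : IsNoetherianRing (AdicCompletion J A) := Groth.Agent.S0543.result A J
  have := isLocalization_self J
  exact Groth.Agent.S4756.result A (AdicCompletion J A) hf (MonoidHom.mker (Ideal.Quotient.mk J))
    (Localization (MonoidHom.mker (Ideal.Quotient.mk J))) (AdicCompletion J A)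

theorem isRegularHom (hf : CAlg.IsRegularHom A (AdicCompletion J A)) :
    CAlg.IsRegularHom (Localization (MonoidHom.mker (Ideal.Quotient.mk J))) (AdicCompletion J A) := by
  have hN : IsNoetherianRing (AdicCompletion J A) := Groth.Agent.S0543.result A J
  have := isLocalization_self J
  exact Groth.Agent.S4736.result A (AdicCompletion J A) hf (MonoidHom.mker (Ideal.Quotient.mk J))
    (Localization (MonoidHom.mker (Ideal.Quotient.mk J))) (AdicCompletion J A)

theorem map_le_jacobson :
    J.map (algebraMap A (Localization (MonoidHom.mker (Ideal.Quotient.mk J)))) ≤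
      Ideal.jacobson (⊥ : Ideal (Localization (MonoidHom.mker (Ideal.Quotient.mk J)))) := by
  rw [Ideal.map_le_iff_le_comap]
  intro j hj
  rw [Ideal.mem_comap, Ideal.mem_jacobson_bot]
  intro y
  obtain ⟨a, t, rfl⟩ := IsLocalization.exists_mk'_eq (MonoidHom.mker (Ideal.Quotient.mk J)) y
  have ht : IsUnit (algebraMap A (Localization (MonoidHom.mker (Ideal.Quotient.mk J))) t) :=
    IsLocalization.map_units _ t
  have hmem : j * a + t ∈ MonoidHom.mker (Ideal.Quotient.mk J) := by
    rw [MonoidHom.mem_mker]
    have h1 : (Ideal.Quotient.mk J) (t : A) = 1 := MonoidHom.mem_mker.mp t.2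
    have h2 : (Ideal.Quotient.mk J) j = 0 := Ideal.Quotient.eq_zero_iff_mem.mpr hj
    simp [h1, h2]
  have hu : IsUnit (algebraMap A (Localization (MonoidHom.mker (Ideal.Quotient.mk J))) (j * a + t)) :=
    IsLocalization.map_units _ (⟨j * a + t, hmem⟩ : MonoidHom.mker (Ideal.Quotient.mk J))
  have heq : (algebraMap A (Localization (MonoidHom.mker (Ideal.Quotient.mk J))) j *
      IsLocalization.mk' (Localization (MonoidHom.mker (Ideal.Quotient.mk J))) a t + 1) *
      algebraMap A (Localization (MonoidHom.mker (Ideal.Quotient.mk J))) t =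
      algebraMap A (Localization (MonoidHom.mker (Ideal.Quotient.mk J))) (j * a + t) := by
    rw [add_mul, mul_assoc, IsLocalization.mk'_spec, one_mul, map_add, map_mul]
  rw [← heq] at hu
  exact (IsUnit.mul_iff.mp hu).1

theorem faithfullyFlat (hJ : J ≠ ⊤)
    (hflat : Module.Flat (Localization (MonoidHom.mker (Ideal.Quotient.mk J))) (AdicCompletion J A)) :
    Module.FaithfullyFlat (Localization (MonoidHom.mker (Ideal.Quotient.mk J))) (AdicCompletion J A) := by
  refine ⟨fun m hm htop => ?_⟩
  rw [Ideal.smul_top_eq_map] at htop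
  have htop' : m.map (algebraMap (Localization (MonoidHom.mker (Ideal.Quotient.mk J)))
      (AdicCompletion J A)) = ⊤ := by
    apply Submodule.restrictScalars_injective (Localization (MonoidHom.mker (Ideal.Quotient.mk J)))
    rw [htop]; rfl
  set n : Ideal A := m.comap (algebraMap A (Localization (MonoidHom.mker (Ideal.Quotient.mk J)))) with hn
  have hmn : n.map (algebraMap A (Localization (MonoidHom.mker (Ideal.Quotient.mk J)))) = m :=
    IsLocalization.map_under (MonoidHom.mker (Ideal.Quotient.mk J)) _ m
  have hJn : J ≤ n := by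
    rw [hn, ← Ideal.map_le_iff_le_comap]
    refine le_trans (map_le_jacobson J) ?_
    rw [Ideal.jacobson]
    exact sInf_le ⟨bot_le, hm⟩
  have hnprime : n.IsPrime := Ideal.comap_isPrime _ _
  have hnmap : n.map (algebraMap A (AdicCompletion J A)) = ⊤ := by
    rw [← htop', ← hmn, Ideal.map_map, ← IsScalarTower.algebraMap_eq]
  let χ : AdicCompletion J A →+* A ⧸ n :=
    (Ideal.Quotient.factor hJn).comp (AdicCompletion.evalOneₐ J).toRingHom
  have hχ : ∀ a : A, χ (algebraMap A (AdicCompletion J A) a) = Ideal.Quotient.mk n a := by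
    intro a
    have := congrArg (fun f => f a) (AdicCompletion.evalOneₐ_comp_algebraMap_eq_mk J)
    simp only [RingHom.comp_apply] at this
    simp only [χ, RingHom.comp_apply, this, Ideal.Quotient.factor_mk]
  have hle : n.map (algebraMap A (AdicCompletion J A)) ≤ RingHom.ker χ := by
    rw [Ideal.map_le_iff_le_comap]
    intro a ha
    rw [Ideal.mem_comap, RingHom.mem_ker, hχ]
    exact Ideal.Quotient.eq_zero_iff_mem.mpr ha
  rw [hnmap] at hle
  have : (1 : AdicCompletion J A) ∈ RingHom.ker χ := hle trivial
  rw [RingHom.mem_ker, map_one] at this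
  have hnt : Nontrivial (A ⧸ n) := Ideal.Quotient.nontrivial_iff.mpr hnprime.ne_top
  exact one_ne_zero this

open TensorProduct in
/-- normality ascends along normal homomorphisms of Noetherian rings -/
theorem isNormalRing_of_isNormalHom {R S : Type u} [CommRing R] [CommRing S] [Algebra R S]
    [IsNoetherianRing R] [IsNoetherianRing S] (h : EGA4.IsNormalHom R S)
    (hR : EGA4.IsNormalRing R) : EGA4.IsNormalRing S := by
  have hflat : Module.Flat R S := h.1
  refine Groth.Agent.Lib.Helper73.isNormalRing_of_flat_of_fibers hR fun p _ => ?_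
  have h1 := h.2 p p.ResidueField inferInstance
  exact Groth.Agent.Lib.Helper73.isNormalRing_of_ringEquiv
    (Algebra.TensorProduct.lid p.ResidueField (p.Fiber S)).toRingEquiv h1

theorem isNormalRing_iff (hJ : J ≠ ⊤) (hf : EGA4.IsNormalHom A (AdicCompletion J A)) :
    EGA4.IsNormalRing (Localization (MonoidHom.mker (Ideal.Quotient.mk J))) ↔
      EGA4.IsNormalRing (AdicCompletion J A) := by
  have hN : IsNoetherianRing (AdicCompletion J A) := Groth.Agent.S0543.result A J
  have hNH := isNormalHom J hf
  have hFF := faithfullyFlat J hJ hNH.1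
  exact ⟨fun h => isNormalRing_of_isNormalHom hNH h,
    fun h => (Groth.Agent.Lib.Helper29.isNormalRing_of_faithfullyFlat h).2⟩

theorem isRegularRing_iff (hJ : J ≠ ⊤) (hf : CAlg.IsRegularHom A (AdicCompletion J A)) :
    IsRegularRing (Localization (MonoidHom.mker (Ideal.Quotient.mk J))) ↔
      IsRegularRing (AdicCompletion J A) := by
  have hN : IsNoetherianRing (AdicCompletion J A) := Groth.Agent.S0543.result A J
  have hRH := isRegularHom J hf
  have hFF := faithfullyFlat J hJ hRH.1
  exact ⟨fun h => Groth.Agent.Lib.Helper47.isRegularRing_of_isRegularHom hRH,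
    fun h => Groth.Agent.Lib.Helper29.isRegularRing_of_faithfullyFlat h⟩



open Polynomial in
/-- idempotents lift along a Henselian pair -/
theorem exists_idempotent_lift {R : Type*} [CommRing R] (I : Ideal R) [HenselianRing R I]
    (e₀ : R) (h : e₀ * e₀ - e₀ ∈ I) : ∃ e, IsIdempotentElem e ∧ e - e₀ ∈ I := by
  rcases subsingleton_or_nontrivial R with hsub | hnt
  · exact ⟨e₀, Subsingleton.elim _ _, by simp⟩
  have hmonic : (X ^ 2 - X : R[X]).Monic := by
    apply Polynomial.monic_X_pow_sub
    rw [degree_X]
    norm_num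
  have h1 : (X ^ 2 - X : R[X]).eval e₀ ∈ I := by
    simpa [pow_two] using h
  have h2 : IsUnit (Ideal.Quotient.mk I ((X ^ 2 - X : R[X]).derivative.eval e₀)) := by
    have hd : (X ^ 2 - X : R[X]).derivative.eval e₀ = 2 * e₀ - 1 := by
      simp
      ring
    rw [hd]
    have hsq : Ideal.Quotient.mk I (2 * e₀ - 1) * Ideal.Quotient.mk I (2 * e₀ - 1) = 1 := by
      rw [← map_mul, ← map_one (Ideal.Quotient.mk I), Ideal.Quotient.eq]
      have : (2 * e₀ - 1) * (2 * e₀ - 1) - 1 = 4 * (e₀ * e₀ - e₀) := by ring
      rw [this]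
      exact I.mul_mem_left _ h
    exact IsUnit.of_mul_eq_one _ hsq
  obtain ⟨e, he, hee⟩ := HenselianRing.is_henselian (X ^ 2 - X : R[X]) hmonic e₀ h1 h2
  refine ⟨e, ?_, hee⟩
  have : e ^ 2 - e = 0 := by simpa [IsRoot] using he
  rw [IsIdempotentElem, ← sub_eq_zero, ← this]
  ring

/-- Two idempotents which are congruent modulo the Jacobson radical are equal. -/
theorem eq_of_isIdempotentElem_of_sub_mem_jacobson {S : Type*} [CommRing S] {e e' : S}
    (he : IsIdempotentElem e) (he' : IsIdempotentElem e')
    (h : e - e' ∈ Ideal.jacobson (⊥ : Ideal S)) : e = e' := by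
  have h1 : IsUnit ((e - e') * (-(e - e')) + 1) := Ideal.mem_jacobson_bot.mp h _
  have h2 : (e - e') * ((e - e') * (-(e - e')) + 1) = 0 := by
    have e1 := he.eq
    have e2 := he'.eq
    linear_combination (-e + 3 * e' - 1) * e1 + (-3 * e + e' + 1) * e2
  exact sub_eq_zero.mp ((h1.mul_left_eq_zero).mp h2)

/-- a minimal prime below `q` with `R_q` a domain is the kernel of `R → R_q`. -/
theorem eq_ker_of_mem_minimalPrimes {R : Type*} [CommRing R] {p : Ideal R} (hp : p ∈ minimalPrimes R)
    (q : Ideal R) [q.IsPrime] (hpq : p ≤ q) [IsDomain (Localization.AtPrime q)] :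
    p = RingHom.ker (algebraMap R (Localization.AtPrime q)) := by
  have hK : (RingHom.ker (algebraMap R (Localization.AtPrime q))).IsPrime := RingHom.ker_isPrime _
  have hle : RingHom.ker (algebraMap R (Localization.AtPrime q)) ≤ p := by
    intro x hx
    rw [RingHom.mem_ker, IsLocalization.map_eq_zero_iff q.primeCompl] at hx
    obtain ⟨m, hm⟩ := hx
    have hpp : p.IsPrime := hp.1.1
    have : (m : R) * x ∈ p := by rw [hm]; exact p.zero_mem
    rcases hpp.mem_or_mem this with h | h
    · exact absurd (hpq h) m.2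
    · exact h
  exact le_antisymm (hp.2 ⟨hK, bot_le⟩ hle) hle

/-- A Noetherian ring with connected spectrum, all of whose local rings are domains, is a domain. -/
theorem isDomain_of_connected {R : Type*} [CommRing R] [IsNoetherianRing R]
    [ConnectedSpace (PrimeSpectrum R)]
    (h : ∀ (q : Ideal R) [q.IsPrime], IsDomain (Localization.AtPrime q)) : IsDomain R := by
  have hnt : Nontrivial R := PrimeSpectrum.nonempty_iff_nontrivial.mp inferInstance
  obtain ⟨p, hp⟩ : (minimalPrimes R).Nonempty := by
    obtain ⟨m, hm⟩ := Ideal.exists_maximal R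
    obtain ⟨p, hp, -⟩ := Ideal.exists_minimalPrimes_le (I := ⊥) (J := m) bot_le
    exact ⟨p, hp⟩
  have hpp : p.IsPrime := hp.1.1
  have hfin : (minimalPrimes R).Finite := minimalPrimes.finite_of_isNoetherianRing R
  have hcompl : (PrimeSpectrum.zeroLocus (p : Set R))ᶜ =
      ⋃ p' ∈ (minimalPrimes R \ {p}), PrimeSpectrum.zeroLocus (p' : Set R) := by
    ext x
    simp only [Set.mem_compl_iff, PrimeSpectrum.mem_zeroLocus, SetLike.coe_subset_coe,
      Set.mem_iUnion, exists_prop]
    constructor
    · intro hx
      obtain ⟨p', hp', hp'x⟩ := Ideal.exists_minimalPrimes_le (I := ⊥) (J := x.asIdeal) bot_le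
      refine ⟨p', ⟨hp', ?_⟩, hp'x⟩
      rintro rfl
      exact hx hp'x
    · rintro ⟨p', ⟨hp', hne⟩, hp'x⟩ hpx
      haveI := h x.asIdeal
      apply hne
      rw [Set.mem_singleton_iff, eq_ker_of_mem_minimalPrimes hp' x.asIdeal hp'x,
        eq_ker_of_mem_minimalPrimes hp x.asIdeal hpx]
  have hopen : IsOpen (PrimeSpectrum.zeroLocus (p : Set R)) := by
    rw [← isClosed_compl_iff, hcompl]
    exact (hfin.subset Set.sdiff_subset).isClosed_biUnion fun p' _ =>
      PrimeSpectrum.isClosed_zeroLocus _
  have hclopen : IsClopen (PrimeSpectrum.zeroLocus (p : Set R)) :=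
    ⟨PrimeSpectrum.isClosed_zeroLocus _, hopen⟩
  have huniv : PrimeSpectrum.zeroLocus (p : Set R) = Set.univ := by
    rcases isClopen_iff.mp hclopen with h0 | h1
    · exfalso
      have : (⟨p, hpp⟩ : PrimeSpectrum R) ∈ PrimeSpectrum.zeroLocus (p : Set R) := by
        simp [PrimeSpectrum.mem_zeroLocus]
      rw [h0] at this
      exact this
    · exact h1
  have hbot : p = ⊥ := by
    rw [eq_bot_iff]
    intro x hx
    rw [Ideal.mem_bot]
    apply eq_zero_of_localization
    intro m hm
    haveI := h m
    have hpm : p ≤ m := by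
      have : (⟨m, hm.isPrime⟩ : PrimeSpectrum R) ∈ PrimeSpectrum.zeroLocus (p : Set R) := by
        rw [huniv]; trivial
      simpa [PrimeSpectrum.mem_zeroLocus] using this
    have := eq_ker_of_mem_minimalPrimes hp m hpm
    rw [this] at hx
    exact hx
  rw [hbot] at hpp
  exact IsDomain.of_bot_isPrime R

theorem idempotents_trivial_iff :
    (∀ e : AdicCompletion J A, IsIdempotentElem e → e = 0 ∨ e = 1) ↔
      (∀ e : A ⧸ J, IsIdempotentElem e → e = 0 ∨ e = 1) := by
  have fg := Ideal.fg_of_isNoetherianRing J
  have hcompl := AdicCompletion.isAdicComplete_self J fg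
  have hker : ∀ x : AdicCompletion J A, AdicCompletion.evalOneₐ J x = 0 ↔
      x ∈ J.map (algebraMap A (AdicCompletion J A)) := by
    intro x
    rw [← AdicCompletion.ker_evalOneₐ_eq_map J fg]
    rfl
  have hsurj := AdicCompletion.evalOneₐ_surjective J
  have hjac := hcompl.le_jacobson_bot
  constructor
  · intro h ebar hebar
    obtain ⟨x, rfl⟩ := hsurj ebar
    have hx : x * x - x ∈ J.map (algebraMap A (AdicCompletion J A)) := by
      rw [← hker, map_sub, map_mul, hebar.eq, sub_self]
    obtain ⟨e, he, hex⟩ := exists_idempotent_lift _ x hx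
    have hex' : AdicCompletion.evalOneₐ J e = AdicCompletion.evalOneₐ J x := by
      rw [← sub_eq_zero, ← map_sub, hker]; exact hex
    rw [← hex']
    rcases h e he with rfl | rfl
    · left; simp
    · right; simp
  · intro h e he
    rcases h _ (he.map (AdicCompletion.evalOneₐ J)) with h0 | h1
    · left
      apply eq_of_isIdempotentElem_of_sub_mem_jacobson he IsIdempotentElem.zero
      apply hjac
      rw [← hker, sub_zero]; exact h0
    · right
      apply eq_of_isIdempotentElem_of_sub_mem_jacobson he IsIdempotentElem.one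
      apply hjac
      rw [← hker, map_sub, map_one, h1, sub_self]

theorem connectedSpace_iff (hJ : J ≠ ⊤) :
    ConnectedSpace (PrimeSpectrum (AdicCompletion J A)) ↔
      ConnectedSpace (PrimeSpectrum (A ⧸ J)) := by
  have hnt : Nontrivial (A ⧸ J) := Ideal.Quotient.nontrivial_iff.mpr hJ
  have hnt' : Nontrivial (AdicCompletion J A) :=
    (AdicCompletion.evalOneₐ_surjective J).nontrivial
  rw [Groth.Agent.Lib.Helper50.connectedSpace_primeSpectrum_iff,
    Groth.Agent.Lib.Helper50.connectedSpace_primeSpectrum_iff, idempotents_trivial_iff]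
  simp [hnt, hnt']

theorem isDomain_isIntegrallyClosed_iff (hJ : J ≠ ⊤) (hf : EGA4.IsNormalHom A (AdicCompletion J A)) :
    (IsDomain (AdicCompletion J A) ∧ IsIntegrallyClosed (AdicCompletion J A)) ↔
      ((IsDomain (Localization (MonoidHom.mker (Ideal.Quotient.mk J))) ∧
        IsIntegrallyClosed (Localization (MonoidHom.mker (Ideal.Quotient.mk J)))) ∧
        ConnectedSpace (PrimeSpectrum (A ⧸ J))) := by
  have hN : IsNoetherianRing (AdicCompletion J A) := Groth.Agent.S0543.result A J
  have hNH := isNormalHom J hf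
  have hFF := faithfullyFlat J hJ hNH.1
  have hiff := isNormalRing_iff J hJ hf
  constructor
  · rintro ⟨hd, hic⟩
    have hn : EGA4.IsNormalRing (AdicCompletion J A) :=
      Groth.Agent.Lib.Helper29.isNormalRing_of_isIntegrallyClosed _
    have hnT := hiff.mpr hn
    have hinj : Function.Injective (algebraMap (Localization (MonoidHom.mker (Ideal.Quotient.mk J)))
        (AdicCompletion J A)) := FaithfulSMul.algebraMap_injective _ _
    have hdT : IsDomain (Localization (MonoidHom.mker (Ideal.Quotient.mk J))) :=
      hinj.isDomain _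
    refine ⟨⟨hdT, Groth.Agent.Lib.Helper73.RegularNormal.isIntegrallyClosed_of_isNormalRing _ hnT⟩, ?_⟩
    rw [← connectedSpace_iff J hJ, Groth.Agent.Lib.Helper50.connectedSpace_primeSpectrum_iff]
    exact ⟨inferInstance, fun e he => IsIdempotentElem.iff_eq_zero_or_one.mp he⟩
  · rintro ⟨⟨hd, hic⟩, hconn⟩
    have hnT : EGA4.IsNormalRing (Localization (MonoidHom.mker (Ideal.Quotient.mk J))) :=
      Groth.Agent.Lib.Helper29.isNormalRing_of_isIntegrallyClosed _
    have hn := hiff.mp hnT
    have hconn' := (connectedSpace_iff J hJ).mpr hconn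
    have hdom : IsDomain (AdicCompletion J A) := isDomain_of_connected fun q _ => (hn q).1
    exact ⟨hdom, Groth.Agent.Lib.Helper73.RegularNormal.isIntegrallyClosed_of_isNormalRing _ hn⟩

end Groth.Agent.Lib.Helper73.OnePlus
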