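import Groth.Agent.Lib.Helper73.CanonDual9
import Groth.Agent.Lib.Helper99.EakinNagata
import Groth.Agent.Lib.Helper55.KrullDimIntegral
import Groth.Agent.H76.ValueSemigroup

set_option autoImplicit false
universe u

namespace Groth.Agent.Lib.Helper73.PSeries

open PowerSeries

variable {k : Type u} [Field k] (A : Subalgebra k (PowerSeries k))

section Setup

variable (hA : Module.Finite ↥A (PowerSeries k))
include hA

theorem isIntegral : Algebra.IsIntegral ↥A (PowerSeries k) := Algebra.IsIntegral.of_finite _ _

theorem isNoetherianRing : IsNoetherianRing ↥A :=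
  Groth.Agent.Lib.Helper99.EakinNagata.isNoetherianRing_of_finite_of_injective ↥A (PowerSeries k)
    Subtype.val_injective

theorem isLocalRing : IsLocalRing ↥A := by
  haveI := isIntegral A hA
  haveI : IsLocalHom (algebraMap ↥A (PowerSeries k)) := Algebra.IsIntegral.isLocalHom _ _
  exact (algebraMap ↥A (PowerSeries k)).domain_isLocalRing

theorem krullDimLE_one : Ring.KrullDimLE 1 ↥A := by
  haveI := isIntegral A hA
  have h := Groth.Agent.Lib.Helper55.ringKrullDim_eq_of_isIntegral_of_injective ↥A (PowerSeries k)
    Subtype.val_injective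
  rw [Ring.krullDimLE_iff, ← h]
  exact (Ring.krullDimLE_iff (n := 1) (R := PowerSeries k)).mp inferInstance

theorem not_isField : ¬ IsField ↥A := by
  haveI := isIntegral A hA
  intro h
  have hP : IsField (PowerSeries k) := isField_of_isIntegral_of_isField' h
  obtain ⟨b, hb⟩ := hP.mul_inv_cancel (X_ne_zero : (X : PowerSeries k) ≠ 0)
  have := congrArg (constantCoeff (R := k)) hb
  simp at this

end Setup

end Groth.Agent.Lib.Helper73.PSeries
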