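import Groth.Agent.Lib.Helper73.PSeries1

set_option autoImplicit false
universe u

namespace Groth.Agent.Lib.Helper73.PSeries

open PowerSeries

variable {k : Type u} [Field k] (A : Subalgebra k (PowerSeries k))

/-- the fraction field -/
abbrev KK (k : Type u) [Field k] : Type u := FractionRing (PowerSeries k)

noncomputable example : Algebra ↥A (KK k) := inferInstance
example : IsScalarTower ↥A (PowerSeries k) (KK k) := inferInstance

theorem algebraMap_apply (a : ↥A) :
    algebraMap ↥A (KK k) a = algebraMap (PowerSeries k) (KK k) a.1 := rfl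

theorem algebraMap_injective : Function.Injective (algebraMap ↥A (KK k)) :=
  (IsFractionRing.injective (PowerSeries k) (KK k)).comp Subtype.val_injective

instance : FaithfulSMul ↥A (KK k) :=
  (faithfulSMul_iff_algebraMap_injective ↥A (KK k)).mpr (algebraMap_injective A)

theorem isFractionRing (d : PowerSeries k) (hd0 : d ≠ 0) (hd : ∀ p : PowerSeries k, d * p ∈ A) :
    IsFractionRing ↥A (KK k) := by
  refine IsFractionRing.of_field (R := ↥A) (K := KK k) fun z => ?_
  obtain ⟨p, q, hq, rfl⟩ := IsFractionRing.div_surjective (A := PowerSeries k) z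
  refine ⟨⟨d * p, hd p⟩, ⟨d * q, hd q⟩, ?_⟩
  change _ = algebraMap (PowerSeries k) (KK k) (d * p) / algebraMap (PowerSeries k) (KK k) (d * q)
  have hdK : algebraMap (PowerSeries k) (KK k) d ≠ 0 := by
    rwa [Ne, IsFractionRing.to_map_eq_zero_iff]
  rw [map_mul, map_mul, mul_div_mul_left _ _ hdK]

end Groth.Agent.Lib.Helper73.PSeries
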