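import Groth.Agent.Lib.Helper73.PSeries2

set_option autoImplicit false
universe u

namespace Groth.Agent.Lib.Helper73.PSeries

open PowerSeries CategoryTheory Groth.Agent.Lib.Helper73.CanonDual

variable {k : Type u} [Field k] (A : Subalgebra k (PowerSeries k))

/-- the inclusion of `k[[t]]` in its fraction field as an `A`-linear map -/
noncomputable def ι : PowerSeries k →ₗ[↥A] KK k :=
  (IsScalarTower.toAlgHom ↥A (PowerSeries k) (KK k)).toLinearMap

theorem ι_apply (p : PowerSeries k) : ι A p = algebraMap (PowerSeries k) (KK k) p := rfl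

theorem ι_injective : Function.Injective (ι A) := IsFractionRing.injective (PowerSeries k) (KK k)

theorem ι_mul (p q : PowerSeries k) : ι A (p * q) = ι A p * ι A q := by
  simp only [ι_apply, map_mul]

theorem ι_one : ι A 1 = 1 := by simp only [ι_apply, map_one]

theorem ι_ne_zero {p : PowerSeries k} (hp : p ≠ 0) : ι A p ≠ 0 := by
  intro h
  exact hp (ι_injective A (by rw [h, map_zero]))

theorem smul_def' (a : ↥A) (p : PowerSeries k) : a • p = a.1 * p := rfl

/-- series of order `≥ m` -/
def Pord (m : ℕ) : Submodule ↥A (PowerSeries k) where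
  carrier := {f | (m : ℕ∞) ≤ order f}
  add_mem' := fun {a b} ha hb => le_trans (le_min ha hb) (min_order_le_order_add a b)
  zero_mem' := by simp
  smul_mem' := fun a f hf => by
    change (m : ℕ∞) ≤ order (a.1 * f)
    calc (m : ℕ∞) ≤ order f := hf
      _ ≤ order a.1 + order f := le_add_self
      _ ≤ order (a.1 * f) := le_order_mul _ _

theorem mem_Pord {m : ℕ} {f : PowerSeries k} : f ∈ Pord A m ↔ (m : ℕ∞) ≤ order f := Iff.rfl

theorem Pord_anti {m m' : ℕ} (h : m ≤ m') : Pord A m' ≤ Pord A m := fun f hf =>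
  le_trans (by exact_mod_cast h) ((mem_Pord A).mp hf)

theorem X_pow_mul_mem_Pord (m : ℕ) (p : PowerSeries k) : X ^ m * p ∈ Pord A m := by
  rw [mem_Pord, order_mul, order_X_pow]
  exact le_self_add

theorem map_ι_le_iff {M N : Submodule ↥A (PowerSeries k)} :
    M.map (ι A) ≤ N.map (ι A) ↔ M ≤ N :=
  Submodule.map_le_map_iff_of_injective (ι_injective A) M N

theorem ι_mem_map_iff {M : Submodule ↥A (PowerSeries k)} {p : PowerSeries k} :
    ι A p ∈ M.map (ι A) ↔ p ∈ M :=
  (ι_injective A).mem_set_image

end Groth.Agent.Lib.Helper73.PSeries
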