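import Groth.Agent.Lib.Helper73.PSeries3

set_option autoImplicit false
universe u

namespace Groth.Agent.Lib.Helper73.PSeries

open PowerSeries CategoryTheory Groth.Agent.Lib.Helper73.CanonDual

variable {k : Type u} [Field k] (A : Subalgebra k (PowerSeries k))

section Main

variable (hA : Module.Finite ↥A (PowerSeries k))
  (hcl : ∀ f : PowerSeries k, (∀ n : ℕ, ∃ g ∈ A, (n : ℕ∞) ≤ PowerSeries.order (f - g)) → f ∈ A)
  (Γ : Set ℕ) (hΓ : ∀ n : ℕ, n ∈ Γ ↔ ∃ f ∈ A, PowerSeries.order f = n)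
  (c : ℕ) (hc : ∀ n : ℕ, c ≤ n → n ∈ Γ) (hc1 : c - 1 ∉ Γ)
  (ω : Submodule ↥A (PowerSeries k)) (hω1 : (1 : PowerSeries k) ∈ ω)

include hcl hΓ hc in
theorem mem_A_of_le_order {h : PowerSeries k} (hh : (c : ℕ∞) ≤ order h) : h ∈ A :=
  Groth.Agent.H76.ValueSemigroup.mem_of_le_order A hcl Γ hΓ c hc h hh

include hω1 in
theorem mem_ω_of_mem_A {a : PowerSeries k} (ha : a ∈ A) : a ∈ ω := by
  have := ω.smul_mem (⟨a, ha⟩ : ↥A) hω1
  rwa [smul_def', mul_one] at this

include hcl hΓ hc hω1 in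
theorem mem_ω_of_le_order {h : PowerSeries k} (hh : (c : ℕ∞) ≤ order h) : h ∈ ω :=
  mem_ω_of_mem_A A ω hω1 (mem_A_of_le_order A hcl Γ hΓ c hc hh)

include hcl hΓ hc in
theorem isFractionRing' : IsFractionRing ↥A (KK k) := by
  refine isFractionRing A (X ^ c) (pow_ne_zero _ X_ne_zero) fun p => ?_
  apply mem_A_of_le_order A hcl Γ hΓ c hc
  rw [order_mul, order_X_pow]
  exact le_self_add

theorem smul_mem_of_mem (N : Submodule ↥A (PowerSeries k)) (l : k) {f : PowerSeries k}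
    (hf : f ∈ N) : l • f ∈ N := by
  have : l • f = (algebraMap k ↥A l) • f := by rw [algebraMap_smul]
  rw [this]; exact N.smul_mem _ hf

end Main

end Groth.Agent.Lib.Helper73.PSeries
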