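import Groth.Agent.Lib.Helper73.PSeries4
import Groth.Agent.H76.ValueModule

set_option autoImplicit false
universe u

namespace Groth.Agent.Lib.Helper73.PSeries

open PowerSeries CategoryTheory Groth.Agent.Lib.Helper73.CanonDual

variable {k : Type u} [Field k] (A : Subalgebra k (PowerSeries k))

theorem hasInjDim_map {O : Type u} [CommRing O] {P K : Type u} [AddCommGroup P] [Module O P]
    [AddCommGroup K] [Module O K] (f : P →ₗ[O] K) (hf : Function.Injective f)
    (ω : Submodule O P) (n : ℕ) [HasInjectiveDimensionLT (ModuleCat.of O ↥ω) n] :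
    HasInjectiveDimensionLT (ModuleCat.of O ↥(ω.map f)) n :=
  hasInjectiveDimensionLT_of_iso (Submodule.equivMapOfInjective f hf ω).toModuleIso n

section Canon

variable [IsNoetherianRing ↥A] [IsLocalRing ↥A] [Ring.KrullDimLE 1 ↥A] [IsFractionRing ↥A (KK k)]

theorem isCanon_map (ω : Submodule ↥A (PowerSeries k)) (hω1 : (1 : PowerSeries k) ∈ ω)
    (hωfg : ω.FG) (hωinj : HasInjectiveDimensionLT (ModuleCat.of ↥A ↥ω) 2) :
    IsCanon (ω.map (ι A)) where
  ne_bot := by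
    intro h
    have : ι A 1 ∈ ω.map (ι A) := Submodule.mem_map_of_mem hω1
    rw [h, Submodule.mem_bot, ι_one] at this
    exact one_ne_zero this
  fg := hωfg.map _
  inj := by
    haveI := hωinj
    exact hasInjDim_map (ι A) (ι_injective A) ω 2

/-- `k[[t]]` inside its fraction field -/
noncomputable def P' : Submodule ↥A (KK k) := (⊤ : Submodule ↥A (PowerSeries k)).map (ι A)

omit [IsNoetherianRing ↥A] [IsLocalRing ↥A] [Ring.KrullDimLE 1 ↥A] [IsFractionRing ↥A (KK k)] in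
theorem ι_mem_P' (p : PowerSeries k) : ι A p ∈ P' A := ⟨p, trivial, rfl⟩

theorem div_P'_eq (hO : ¬ IsField ↥A) (ω : Submodule ↥A (PowerSeries k))
    (hω1 : (1 : PowerSeries k) ∈ ω)
    (hωfg : ω.FG) (hωinj : HasInjectiveDimensionLT (ModuleCat.of ↥A ↥ω) 2) :
    ω.map (ι A) / P' A = 1 / P' A := by
  apply div_overring_eq hO (isCanon_map A ω hω1 hωfg hωinj) (P' A)
  · rw [Submodule.one_le]; exact ⟨1, hω1, ι_one A⟩
  · exact Submodule.map_mono le_top
  · rintro y ⟨p, -, rfl⟩ z ⟨q, -, rfl⟩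
    exact ⟨p * q, trivial, ι_mul A p q⟩

omit [IsNoetherianRing ↥A] [IsLocalRing ↥A] [Ring.KrullDimLE 1 ↥A] [IsFractionRing ↥A (KK k)] in
theorem exists_of_mem_one_div {x : KK k} (hx : x ∈ (1 : Submodule ↥A (KK k)) / P' A) :
    ∃ g : PowerSeries k, ι A g = x ∧ ∀ q : PowerSeries k, g * q ∈ A := by
  rw [Submodule.mem_div_iff_forall_mul_mem] at hx
  have h1 := hx (ι A 1) (ι_mem_P' A 1)
  rw [ι_one, mul_one, Submodule.mem_one] at h1
  obtain ⟨a, ha⟩ := h1
  refine ⟨a.1, ha, fun q => ?_⟩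
  have h2 := hx (ι A q) (ι_mem_P' A q)
  rw [Submodule.mem_one] at h2
  obtain ⟨b, hb⟩ := h2
  have e1 : ι A a.1 = x := ha
  have e2 : ι A b.1 = x * ι A q := hb
  have : b.1 = a.1 * q := ι_injective A (by rw [ι_mul, e1, e2])
  rw [← this]; exact b.2

end Canon

section Cond

variable (Γ : Set ℕ) (hΓ : ∀ n : ℕ, n ∈ Γ ↔ ∃ f ∈ A, PowerSeries.order f = n)
  (c : ℕ) (hc1 : c - 1 ∉ Γ)

include hΓ hc1 in
theorem le_order_of_forall_mul_mem {g : PowerSeries k} (hg : ∀ q, g * q ∈ A) :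
    (c : ℕ∞) ≤ order g := by
  by_contra hlt
  rw [not_le] at hlt
  have hne : order g ≠ ⊤ := ne_top_of_lt hlt
  obtain ⟨j, hj⟩ := ENat.ne_top_iff_exists.mp hne
  rw [← hj] at hlt
  have hjc : j < c := by exact_mod_cast hlt
  apply hc1
  rw [hΓ]
  refine ⟨g * X ^ (c - 1 - j), hg _, ?_⟩
  rw [order_mul, order_X_pow, ← hj]
  norm_cast
  omega

end Cond

end Groth.Agent.Lib.Helper73.PSeries
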