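import Groth.Agent.Lib.Helper73.PSeries5

set_option autoImplicit false
universe u

namespace Groth.Agent.Lib.Helper73.PSeries

open PowerSeries CategoryTheory Groth.Agent.Lib.Helper73.CanonDual

variable {k : Type u} [Field k] (A : Subalgebra k (PowerSeries k))

theorem le_of_length_eq_of_le {O : Type u} [CommRing O] {K : Type u} [AddCommGroup K] [Module O K]
    {I J Dj Di : Submodule O K}
    (hlen : Module.length O (↥Dj ⧸ Di.submoduleOf Dj) = Module.length O (↥I ⧸ J.submoduleOf I))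
    (hle : Dj ≤ Di) : I ≤ J := by
  have h0 : Module.length O (↥Dj ⧸ Di.submoduleOf Dj) = 0 := by
    rw [Module.length_eq_zero_iff, Submodule.Quotient.subsingleton_iff]
    exact Submodule.submoduleOf_eq_top.mpr hle
  rw [hlen, Module.length_eq_zero_iff, Submodule.Quotient.subsingleton_iff] at h0
  intro y hy
  have : (⟨y, hy⟩ : ↥I) ∈ J.submoduleOf I := by rw [h0]; trivial
  exact this

section Main

variable [IsNoetherianRing ↥A] [IsLocalRing ↥A] [Ring.KrullDimLE 1 ↥A] [IsFractionRing ↥A (KK k)]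
  (hO : ¬ IsField ↥A)
  (hA : Module.Finite ↥A (PowerSeries k))
  (hcl : ∀ f : PowerSeries k, (∀ n : ℕ, ∃ g ∈ A, (n : ℕ∞) ≤ PowerSeries.order (f - g)) → f ∈ A)
  (Γ : Set ℕ) (hΓ : ∀ n : ℕ, n ∈ Γ ↔ ∃ f ∈ A, PowerSeries.order f = n)
  (c : ℕ) (hc : ∀ n : ℕ, c ≤ n → n ∈ Γ) (hc1 : c - 1 ∉ Γ)
  (ω : Submodule ↥A (PowerSeries k)) (hω1 : (1 : PowerSeries k) ∈ ω)
  (hωfg : ω.FG) (hωinj : HasInjectiveDimensionLT (ModuleCat.of ↥A ↥ω) 2)

include hO hcl hΓ hc hc1 hω1 hωfg hωinj in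
/-- a canonical ideal between `A` and `k[[t]]` has no element of order `c - 1` -/
theorem order_ne_of_mem_ω {f : PowerSeries k} (hf : f ∈ ω) :
    order f ≠ ((c - 1 : ℕ) : ℕ∞) := by
  intro hfo
  have hc0 : c ≠ 0 := by
    rintro rfl
    exact hc1 (hc _ le_rfl)
  have hmem : ι A (X ^ (c - 1)) ∈ ω.map (ι A) / P' A := by
    rw [Submodule.mem_div_iff_forall_mul_mem]
    rintro z ⟨p, -, rfl⟩
    rw [← ι_mul, ι_mem_map_iff]
    obtain ⟨l, hl⟩ := Groth.Agent.H76.ValueSemigroup.exists_smul_sub_order_gt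
      (X ^ (c - 1) * p) f (c - 1) hfo (by rw [order_mul, order_X_pow]; exact le_self_add)
    have h1 : X ^ (c - 1) * p - l • f ∈ ω :=
      mem_ω_of_le_order A hcl Γ hΓ c hc ω hω1
        (le_trans (by exact_mod_cast (by omega : c ≤ c - 1 + 1)) hl)
    have h2 := ω.add_mem h1 (smul_mem_of_mem A ω l hf)
    rwa [sub_add_cancel] at h2
  rw [div_P'_eq A hO ω hω1 hωfg hωinj] at hmem
  obtain ⟨g, hg, hgq⟩ := exists_of_mem_one_div A hmem
  have hgX := ι_injective A hg
  subst hgX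
  have := le_order_of_forall_mul_mem A Γ hΓ c hc1 hgq
  rw [order_X_pow] at this
  have : c ≤ c - 1 := by exact_mod_cast this
  omega

include hO hA hcl hΓ hc hc1 hω1 hωfg hωinj in
theorem exists_of_not_exists (M : Submodule ↥A (PowerSeries k)) (hM1 : (1 : PowerSeries k) ∈ M)
    (n : ℕ) (hn : n < c)
    (h : ¬ ∃ m ∈ M, order m = ((c - 1 - n : ℕ) : ℕ∞)) :
    ∃ u : PowerSeries k, order u = n ∧ ∀ m ∈ M, u * m ∈ ω := by
  haveI : IsNoetherian ↥A (PowerSeries k) := isNoetherian_of_isNoetherianRing_of_finite _ _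
  set I := (M ⊔ Pord A (c - 1 - n)).map (ι A) with hI
  set J := (M ⊔ Pord A (c - n)).map (ι A) with hJ
  have hJI : J ≤ I := Submodule.map_mono (sup_le_sup_left (Pord_anti A (by omega)) M)
  have hJ0 : J ≠ ⊥ := by
    intro h0
    have : ι A 1 ∈ J := Submodule.mem_map_of_mem (Submodule.mem_sup_left hM1)
    rw [h0, Submodule.mem_bot, ι_one] at this
    exact one_ne_zero this
  have hIfg : I.FG := (IsNoetherian.noetherian _).map _
  have hcan := isCanon_map A ω hω1 hωfg hωinj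
  have hlen := length_div hO hcan I J hJ0 hIfg hJI _ _ rfl rfl
  have hnot : ¬ (ω.map (ι A) / J ≤ ω.map (ι A) / I) := by
    intro hle
    have hIJ := le_of_length_eq_of_le hlen hle
    rw [hI, hJ, map_ι_le_iff] at hIJ
    have hX : X ^ (c - 1 - n) ∈ M ⊔ Pord A (c - n) :=
      hIJ (Submodule.mem_sup_right (by rw [mem_Pord, order_X_pow]))
    obtain ⟨m, hm, p, hp, hmp⟩ := Submodule.mem_sup.mp hX
    apply h
    refine ⟨m, hm, ?_⟩
    have hm' : m = X ^ (c - 1 - n) + (-p) := by rw [← hmp]; ring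
    rw [mem_Pord] at hp
    rw [hm', order_add_of_order_ne, order_X_pow, order_neg, min_eq_left]
    · exact le_trans (by exact_mod_cast (by omega : c - 1 - n ≤ c - n)) hp
    · rw [order_X_pow, order_neg]
      intro heq
      rw [← heq] at hp
      have : c - n ≤ c - 1 - n := by exact_mod_cast hp
      omega
  obtain ⟨x, hxJ, hxI⟩ := SetLike.not_le_iff_exists.mp hnot
  rw [Submodule.mem_div_iff_forall_mul_mem] at hxJ hxI
  have hmem : x * ι A (X ^ (c - n)) ∈ ω.map (ι A) / P' A := by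
    rw [Submodule.mem_div_iff_forall_mul_mem]
    rintro z ⟨p, -, rfl⟩
    rw [mul_assoc, ← ι_mul]
    exact hxJ _ (Submodule.mem_map_of_mem (Submodule.mem_sup_right (X_pow_mul_mem_Pord A _ p)))
  rw [div_P'_eq A hO ω hω1 hωfg hωinj] at hmem
  obtain ⟨g, hg, hgq⟩ := exists_of_mem_one_div A hmem
  have hgo := le_order_of_forall_mul_mem A Γ hΓ c hc1 hgq
  obtain ⟨g', rfl⟩ := (Groth.Agent.H76.ValueModule.X_pow_dvd_iff_le_order c g).mpr hgo
  have hx : x = ι A (X ^ n * g') := by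
    have hne : ι A (X ^ (c - n)) ≠ 0 := ι_ne_zero A (pow_ne_zero _ X_ne_zero)
    apply mul_right_cancel₀ hne
    rw [← hg, ← ι_mul]
    congr 1
    have hpow : (X : PowerSeries k) ^ c = X ^ n * X ^ (c - n) := by
      rw [← pow_add]; congr 1; omega
    rw [hpow]
    ring
  have hxM : ∀ m ∈ M, X ^ n * g' * m ∈ ω := by
    intro m hm
    have := hxJ (ι A m) (Submodule.mem_map_of_mem (Submodule.mem_sup_left hm))
    rwa [hx, ← ι_mul, ι_mem_map_iff] at this
  refine ⟨X ^ n * g', ?_, hxM⟩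
  have hge : (n : ℕ∞) ≤ order (X ^ n * g') := by
    rw [order_mul, order_X_pow]; exact le_self_add
  by_contra hne
  have hgt : ((n + 1 : ℕ) : ℕ∞) ≤ order (X ^ n * g') := by
    have := Order.add_one_le_of_lt (lt_of_le_of_ne hge (Ne.symm hne))
    exact_mod_cast this
  apply hxI
  rintro z ⟨q, hq, rfl⟩
  obtain ⟨m, hm, p, hp, rfl⟩ := Submodule.mem_sup.mp hq
  rw [hx, ← ι_mul, ι_mem_map_iff, mul_add]
  refine ω.add_mem (hxM m hm) ?_
  apply mem_ω_of_le_order A hcl Γ hΓ c hc ω hω1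
  rw [order_mul]
  rw [mem_Pord] at hp
  calc (c : ℕ∞) = ((n + 1 : ℕ) : ℕ∞) + ((c - 1 - n : ℕ) : ℕ∞) := by norm_cast; omega
    _ ≤ _ := add_le_add hgt hp

include hO hA hcl hΓ hc hc1 hω1 hωfg hωinj in
theorem main (M : Submodule ↥A (PowerSeries k)) (hM1 : (1 : PowerSeries k) ∈ M) (n : ℕ) :
    (∃ u : PowerSeries k, order u = n ∧ ∀ m ∈ M, u * m ∈ ω) ↔
      (c ≤ n ∨ ¬ ∃ m ∈ M, order m = ((c - 1 - n : ℕ) : ℕ∞)) := by
  constructor
  · rintro ⟨u, hu, huM⟩
    by_cases hcn : c ≤ n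
    · exact Or.inl hcn
    · right
      rintro ⟨m, hm, hmo⟩
      apply order_ne_of_mem_ω A hO hcl Γ hΓ c hc hc1 ω hω1 hωfg hωinj (huM m hm)
      rw [order_mul, hu, hmo]
      norm_cast
      omega
  · rintro (hcn | h)
    · refine ⟨X ^ n, order_X_pow n, fun m _ => ?_⟩
      apply mem_ω_of_le_order A hcl Γ hΓ c hc ω hω1
      rw [order_mul, order_X_pow]
      exact le_trans (by exact_mod_cast hcn) le_self_add
    · by_cases hcn : c ≤ n
      · refine ⟨X ^ n, order_X_pow n, fun m _ => ?_⟩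
        apply mem_ω_of_le_order A hcl Γ hΓ c hc ω hω1
        rw [order_mul, order_X_pow]
        exact le_trans (by exact_mod_cast hcn) le_self_add
      · exact exists_of_not_exists A hO hA hcl Γ hΓ c hc hc1 ω hω1 hωfg hωinj M hM1 n
          (not_le.mp hcn) h

end Main

end Groth.Agent.Lib.Helper73.PSeries
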