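import Mathlib
import Groth.Agent.Lib.Helper73.PdQuotient

universe u

set_option maxSynthPendingDepth 3

open CategoryTheory TensorProduct

namespace Groth.Agent.Lib.Helper73.PdLocalize

open Groth.Agent.Lib.Helper73

section Ascent

variable (R : Type u) [CommRing R] (S : Type u) [CommRing S] [Algebra R S]

theorem isZero_of_subsingleton (A : Type u) [Ring A] (M : Type u) [AddCommGroup M] [Module A M]
    [Subsingleton M] : Limits.IsZero (ModuleCat.of A M) :=
  ModuleCat.isZero_of_subsingleton _

/-- Flat base change does not increase projective dimension. -/
theorem hasProjectiveDimensionLT_baseChange [Module.Flat R S] :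
    ∀ (n : ℕ) (M : Type u) [AddCommGroup M] [Module R M],
    HasProjectiveDimensionLT (ModuleCat.of R M) n →
    HasProjectiveDimensionLT (ModuleCat.of S (S ⊗[R] M)) n := by
  intro n
  induction n with
  | zero =>
    intro M _ _ h
    rw [hasProjectiveDimensionLT_zero_iff_isZero, ModuleCat.isZero_iff_subsingleton] at h ⊢
    change Subsingleton M at h
    change Subsingleton (S ⊗[R] M)
    infer_instance
  | succ n ih =>
    intro M _ _ h
    cases n with
    | zero =>
      rw [zero_add, ← projective_iff_hasProjectiveDimensionLT_one,
        ← IsProjective.iff_projective] at h ⊢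
      change Module.Projective R M at h
      change Module.Projective S (S ⊗[R] M)
      infer_instance
    | succ n =>
      obtain ⟨g, hg⟩ : ∃ g : (M →₀ R) →ₗ[R] M, Function.Surjective g :=
        ⟨_, Finsupp.linearCombination_id_surjective R M⟩
      have hex : Function.Exact (LinearMap.ker g).subtype g := LinearMap.exact_subtype_ker_map g
      have hi : Function.Injective (LinearMap.ker g).subtype := Submodule.injective_subtype _
      have hS := PdQuotient.shortExact_of_linear (A := R) (N₁ := LinearMap.ker g)
        (N₂ := M →₀ R) (N₃ := M) (LinearMap.ker g).subtype g hi hg hex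
      have hex' : Function.Exact ((LinearMap.ker g).subtype.baseChange S) (g.baseChange S) :=
        lTensor_exact S hex hg
      have hi' : Function.Injective ((LinearMap.ker g).subtype.baseChange S) :=
        Module.Flat.lTensor_preserves_injective_linearMap _ hi
      have hg' : Function.Surjective (g.baseChange S) := LinearMap.lTensor_surjective S hg
      have hS' := PdQuotient.shortExact_of_linear (A := S) (N₁ := S ⊗[R] LinearMap.ker g)
        (N₂ := S ⊗[R] (M →₀ R)) (N₃ := S ⊗[R] M) ((LinearMap.ker g).subtype.baseChange S)
        (g.baseChange S) hi' hg' hex'
      have hK : HasProjectiveDimensionLT (ModuleCat.of R (LinearMap.ker g)) (n + 1) := by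
        refine (hS.hasProjectiveDimensionLT_X₃_iff n ?_).mp h
        change Projective (ModuleCat.of R (M →₀ R))
        rw [← IsProjective.iff_projective]
        infer_instance
      have hK' := ih (LinearMap.ker g) hK
      refine (hS'.hasProjectiveDimensionLT_X₃_iff n ?_).mpr hK'
      change Projective (ModuleCat.of S (S ⊗[R] (M →₀ R)))
      rw [← IsProjective.iff_projective]
      infer_instance

end Ascent

section Lower

variable {R : Type u} [CommRing R] (p : Ideal R) [p.IsPrime] (s : R) (hs : s ∉ p)
  (M : Type u) [AddCommGroup M] [Module R M]

include hs in
/-- `pd_{R_p} M_p ≤ pd_{R_s} M_s` for `s ∉ p`. -/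
theorem hasProjectiveDimensionLT_atPrime_of_away (n : ℕ)
    (h : HasProjectiveDimensionLT (ModuleCat.of (Localization.Away s)
      (LocalizedModule (Submonoid.powers s) M)) n) :
    HasProjectiveDimensionLT (ModuleCat.of (Localization.AtPrime p)
      (LocalizedModule p.primeCompl M)) n := by
  have hle : Submonoid.powers s ≤ p.primeCompl := Submonoid.powers_le.mpr hs
  letI : Algebra (Localization.Away s) (Localization.AtPrime p) :=
    IsLocalization.localizationAlgebraOfSubmonoidLe _ _ (Submonoid.powers s) p.primeCompl hle
  haveI : IsScalarTower R (Localization.Away s) (Localization.AtPrime p) :=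
    IsLocalization.localization_isScalarTower_of_submonoid_le ..
  haveI : IsLocalization (p.primeCompl.map (algebraMap R (Localization.Away s)))
      (Localization.AtPrime p) :=
    IsLocalization.isLocalization_of_submonoid_le (Localization.Away s) (Localization.AtPrime p)
      _ _ hle
  haveI : Module.Flat (Localization.Away s) (Localization.AtPrime p) :=
    IsLocalization.flat _ (p.primeCompl.map (algebraMap R (Localization.Away s)))
  have h1 := hasProjectiveDimensionLT_baseChange (Localization.Away s) (Localization.AtPrime p) n
    (LocalizedModule (Submonoid.powers s) M) h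
  let e1 : Localization.Away s ⊗[R] M ≃ₗ[Localization.Away s]
      LocalizedModule (Submonoid.powers s) M :=
    (IsLocalizedModule.isBaseChange (Submonoid.powers s) (Localization.Away s)
      (LocalizedModule.mkLinearMap (Submonoid.powers s) M)).equiv
  let e2 : Localization.AtPrime p ⊗[R] M ≃ₗ[Localization.AtPrime p]
      LocalizedModule p.primeCompl M :=
    (IsLocalizedModule.isBaseChange p.primeCompl (Localization.AtPrime p)
      (LocalizedModule.mkLinearMap p.primeCompl M)).equiv
  let e3 : Localization.AtPrime p ⊗[Localization.Away s] (Localization.Away s ⊗[R] M)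
      ≃ₗ[Localization.AtPrime p] Localization.AtPrime p ⊗[R] M :=
    TensorProduct.AlgebraTensorModule.cancelBaseChange R (Localization.Away s)
      (Localization.AtPrime p) (Localization.AtPrime p) M
  let e4 : Localization.AtPrime p ⊗[Localization.Away s] (Localization.Away s ⊗[R] M)
      ≃ₗ[Localization.AtPrime p]
      Localization.AtPrime p ⊗[Localization.Away s] (LocalizedModule (Submonoid.powers s) M) :=
    TensorProduct.AlgebraTensorModule.congr
      (LinearEquiv.refl (Localization.AtPrime p) (Localization.AtPrime p)) e1
  exact hasProjectiveDimensionLT_of_iso ((e4.symm ≪≫ₗ e3 ≪≫ₗ e2).toModuleIso) n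

end Lower

section Upper

variable {R : Type u} [CommRing R]

/-- localization of a short exact sequence of modules, as a short exact complex -/
theorem shortExact_localized (S : Submonoid R) {K F M : Type u} [AddCommGroup K] [Module R K]
    [AddCommGroup F] [Module R F] [AddCommGroup M] [Module R M] (i : K →ₗ[R] F) (f : F →ₗ[R] M)
    (hi : Function.Injective i) (hf : Function.Surjective f) (hex : Function.Exact i f) :
    ∃ h0 : LocalizedModule.map S f ∘ₗ LocalizedModule.map S i = 0,
    (ModuleCat.shortComplexOfCompEqZero (LocalizedModule.map S i) (LocalizedModule.map S f)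
      h0).ShortExact := by
  have h2 : Function.Exact (LocalizedModule.map S i) (LocalizedModule.map S f) :=
    LocalizedModule.map_exact S i f hex
  exact ⟨h2.linearMap_comp_eq_zero, PdQuotient.shortExact_of_linear
    (A := Localization S) (N₁ := LocalizedModule S K) (N₂ := LocalizedModule S F)
    (N₃ := LocalizedModule S M) (LocalizedModule.map S i) (LocalizedModule.map S f)
    (LocalizedModule.map_injective S i hi) (LocalizedModule.map_surjective S f hf) h2⟩

variable [IsNoetherianRing R] (p : Ideal R) [p.IsPrime]

theorem exists_away_hasProjectiveDimensionLT :
    ∀ (n : ℕ) (M : Type u) [AddCommGroup M] [Module R M] [Module.Finite R M],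
    HasProjectiveDimensionLT (ModuleCat.of (Localization.AtPrime p)
      (LocalizedModule p.primeCompl M)) n →
    ∃ s : R, s ∉ p ∧ HasProjectiveDimensionLT (ModuleCat.of (Localization.Away s)
      (LocalizedModule (Submonoid.powers s) M)) n := by
  intro n
  induction n with
  | zero =>
    intro M _ _ _ h
    rw [hasProjectiveDimensionLT_zero_iff_isZero, ModuleCat.isZero_iff_subsingleton] at h
    change Subsingleton (LocalizedModule p.primeCompl M) at h
    obtain ⟨f, hf, hsub⟩ := LocalizedModule.exists_subsingleton_away (M := M) p
    refine ⟨f, hf, ?_⟩
    rw [hasProjectiveDimensionLT_zero_iff_isZero, ModuleCat.isZero_iff_subsingleton]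
    exact hsub
  | succ n ih =>
    intro M _ _ _ h
    cases n with
    | zero =>
      rw [zero_add, ← projective_iff_hasProjectiveDimensionLT_one,
        ← IsProjective.iff_projective] at h
      change Module.Projective (Localization.AtPrime p) (LocalizedModule p.primeCompl M) at h
      haveI : Module.Free (Localization.AtPrime p) (LocalizedModule p.primeCompl M) :=
        Module.free_of_flat_of_isLocalRing
      haveI : Module.FinitePresentation R M := Module.finitePresentation_of_finite R M
      obtain ⟨r, hr, hfree, -⟩ := Module.FinitePresentation.exists_free_localizedModule_powers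
        p.primeCompl (LocalizedModule.mkLinearMap p.primeCompl M) (Localization.AtPrime p)
      refine ⟨r, hr, ?_⟩
      rw [zero_add, ← projective_iff_hasProjectiveDimensionLT_one,
        ← IsProjective.iff_projective]
      change Module.Projective (Localization (Submonoid.powers r))
        (LocalizedModule (Submonoid.powers r) M)
      infer_instance
    | succ n =>
      obtain ⟨m, g, hg⟩ := Module.Finite.exists_fin' R M
      have hex : Function.Exact (LinearMap.ker g).subtype g := LinearMap.exact_subtype_ker_map g
      have hi : Function.Injective (LinearMap.ker g).subtype := Submodule.injective_subtype _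
      obtain ⟨h0p, hSp⟩ := shortExact_localized p.primeCompl (LinearMap.ker g).subtype g hi hg hex
      have hKp : HasProjectiveDimensionLT (ModuleCat.of (Localization.AtPrime p)
          (LocalizedModule p.primeCompl (LinearMap.ker g))) (n + 1) := by
        refine (hSp.hasProjectiveDimensionLT_X₃_iff n ?_).mp h
        change Projective (ModuleCat.of (Localization p.primeCompl)
          (LocalizedModule p.primeCompl (Fin m → R)))
        rw [← IsProjective.iff_projective]
        infer_instance
      obtain ⟨s, hs, hKs⟩ := ih (LinearMap.ker g) hKp
      refine ⟨s, hs, ?_⟩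
      obtain ⟨h0s, hSs⟩ := shortExact_localized (Submonoid.powers s) (LinearMap.ker g).subtype g
        hi hg hex
      refine (hSs.hasProjectiveDimensionLT_X₃_iff n ?_).mpr hKs
      change Projective (ModuleCat.of (Localization (Submonoid.powers s))
        (LocalizedModule (Submonoid.powers s) (Fin m → R)))
      rw [← IsProjective.iff_projective]
      infer_instance

end Upper

end Groth.Agent.Lib.Helper73.PdLocalize
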