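import Groth.Agent.Lib.Helper73.PdLocalize

/-!
# Projective dimension: transfer along semilinear isomorphisms and localizations (helper73)
-/

universe u

set_option maxSynthPendingDepth 3
set_option autoImplicit false
set_option linter.style.haveILetI false

open CategoryTheory TensorProduct

namespace Groth.Agent.Lib.Helper73.PdStalk

/-- Projective dimension is invariant under semilinear isomorphisms. -/
theorem hasProjectiveDimensionLT_of_semilinear {R R' : Type u} [CommRing R] [CommRing R']
    (e : R ≃+* R') (n : ℕ) (M M' : Type u) [AddCommGroup M] [Module R M] [AddCommGroup M']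
    [Module R' M'] (g : M ≃+ M') (hg : ∀ (r : R) (m : M), g (r • m) = e r • g m)
    (h : HasProjectiveDimensionLT (ModuleCat.of R M) n) :
    HasProjectiveDimensionLT (ModuleCat.of R' M') n := by
  letI : Algebra R R' := e.toRingHom.toAlgebra
  have halg : ∀ r : R, algebraMap R R' r = e r := fun _ => rfl
  let eL : R ≃ₗ[R] R' :=
    { e.toAddEquiv with
      map_smul' := fun r x => by
        change e (r * x) = algebraMap R R' r * e x
        rw [map_mul, halg] }
  haveI : Module.Flat R R' := Module.Flat.of_linearEquiv eL.symm
  have h1 := PdLocalize.hasProjectiveDimensionLT_baseChange R R' n M h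
  letI : Module R M' := Module.compHom M' (algebraMap R R')
  haveI : IsScalarTower R R' M' := IsScalarTower.of_compHom R R' M'
  let gl : M →ₗ[R] M' :=
    { toFun := g
      map_add' := map_add g
      map_smul' := fun r m => hg r m }
  let φ : R' ⊗[R] M →ₗ[R'] M' := LinearMap.liftBaseChange R' gl
  have hφ : ∀ (a : R') (m : M), φ (a ⊗ₜ[R] m) = a • g m := fun a m =>
    LinearMap.liftBaseChange_tmul R' gl a m
  have hinj : Function.Injective φ := by
    have key : ∀ z : R' ⊗[R] M, z = (1 : R') ⊗ₜ[R] g.symm (φ z) := by
      intro z
      induction z using TensorProduct.induction_on with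
      | zero => simp
      | tmul a m =>
        rw [hφ]
        have ha : a = algebraMap R R' (e.symm a) := by rw [halg, RingEquiv.apply_symm_apply]
        have h2 : a • g m = g (e.symm a • m) := by
          rw [hg, RingEquiv.apply_symm_apply]
        rw [h2, AddEquiv.symm_apply_apply, TensorProduct.tmul_smul]
        conv_lhs => rw [ha]
        rw [Algebra.algebraMap_eq_smul_one, TensorProduct.smul_tmul']
      | add x y hx hy =>
        rw [map_add, map_add, TensorProduct.tmul_add, ← hx, ← hy]
    intro z w hzw
    rw [key z, key w, hzw]
  have hsurj : Function.Surjective φ := by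
    intro m'
    refine ⟨(1 : R') ⊗ₜ[R] g.symm m', ?_⟩
    rw [hφ, one_smul, AddEquiv.apply_symm_apply]
  exact hasProjectiveDimensionLT_of_iso
    (LinearEquiv.ofBijective φ ⟨hinj, hsurj⟩).toModuleIso n

/-- Projective dimension of a localization at a prime does not depend on the model of the
localization. -/
theorem hasProjectiveDimensionLT_iff_of_isLocalizedModule {A : Type u} [CommRing A] (p : Ideal A)
    [p.IsPrime] (B : Type u) [CommRing B] [Algebra A B] [IsLocalization.AtPrime B p]
    {M N : Type u} [AddCommGroup M] [Module A M] [AddCommGroup N] [Module A N] [Module B N]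
    [IsScalarTower A B N] (f : M →ₗ[A] N) [IsLocalizedModule p.primeCompl f] (n : ℕ) :
    HasProjectiveDimensionLT (ModuleCat.of B N) n ↔
      HasProjectiveDimensionLT (ModuleCat.of (Localization.AtPrime p)
        (LocalizedModule p.primeCompl M)) n := by
  let e : Localization.AtPrime p ≃ₐ[A] B := IsLocalization.algEquiv p.primeCompl _ _
  let g : LocalizedModule p.primeCompl M ≃ₗ[A] N := IsLocalizedModule.iso p.primeCompl f
  have hg : ∀ (r : Localization.AtPrime p) (m : LocalizedModule p.primeCompl M),
      g (r • m) = e r • g m := by
    intro r m
    obtain ⟨a, s, rfl⟩ := IsLocalization.exists_mk'_eq p.primeCompl r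
    apply IsLocalizedModule.smul_injective f s
    have h1 : (s : A) • (IsLocalization.mk' (Localization.AtPrime p) a s • m) = a • m := by
      rw [← algebraMap_smul (Localization.AtPrime p) (s : A), smul_smul, mul_comm,
        IsLocalization.mk'_spec, algebraMap_smul]
    have h2 : (s : A) • (e (IsLocalization.mk' (Localization.AtPrime p) a s) • g m) = a • g m := by
      rw [← algebraMap_smul B (s : A), smul_smul, ← e.commutes, ← map_mul, mul_comm,
        IsLocalization.mk'_spec, e.commutes, algebraMap_smul]
    change (s : A) • g (IsLocalization.mk' (Localization.AtPrime p) a s • m) =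
      (s : A) • (e (IsLocalization.mk' (Localization.AtPrime p) a s) • g m)
    rw [h2, ← map_smul, h1, map_smul]
  constructor
  · intro h
    refine hasProjectiveDimensionLT_of_semilinear e.symm.toRingEquiv n N
      (LocalizedModule p.primeCompl M) g.symm.toAddEquiv ?_ h
    intro b y
    apply g.injective
    change g (g.symm (b • y)) = g (e.symm b • g.symm y)
    rw [hg, LinearEquiv.apply_symm_apply, LinearEquiv.apply_symm_apply, AlgEquiv.apply_symm_apply]
  · intro h
    exact hasProjectiveDimensionLT_of_semilinear e.toRingEquiv n
      (LocalizedModule p.primeCompl M) N g.toAddEquiv hg h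

end Groth.Agent.Lib.Helper73.PdStalk
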