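import Groth.Agent.Lib.Helper73.PdStalk
import Groth.Agent.Lib.Helper45.FiniteType
import Groth.Agent.Lib.Helper45.QCohStalk

/-!
# The locus where a coherent module has projective dimension `< n` is open (helper73)
-/

universe u

set_option maxSynthPendingDepth 3
set_option autoImplicit false
set_option linter.style.haveILetI false

open CategoryTheory AlgebraicGeometry TopologicalSpace

namespace Groth.Agent.Lib.Helper73.PdStalk

open Groth.Agent.Lib.Helper45

attribute [local instance] stalkModuleSections

variable {X : Scheme.{u}} (F : X.Modules)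

/-- transfer of projective dimension between the stalk and the localized sections over an affine
open -/
theorem hasProjectiveDimensionLT_stalk_iff (hF : Coh.IsCoh F) {W : X.Opens}
    (hW : IsAffineOpen W) (x : W) (n : ℕ) :
    HasProjectiveDimensionLT (ModuleCat.of (X.presheaf.stalk (x : X))
        (F.presheaf.stalk (x : X))) n ↔
      HasProjectiveDimensionLT (ModuleCat.of (Localization.AtPrime (hW.primeIdealOf x).asIdeal)
        (LocalizedModule (hW.primeIdealOf x).asIdeal.primeCompl Γ(F, W))) n := by
  haveI hq : SheafOfModules.IsQuasicoherent.{u, u, u} F := hF.1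
  have := hW.isLocalization_stalk x
  have := isLocalizedModule_germₗ hW F x
  exact hasProjectiveDimensionLT_iff_of_isLocalizedModule (hW.primeIdealOf x).asIdeal
    (X.presheaf.stalk (x : X)) (germₗ F x) n

/-- Upper semicontinuity of the projective dimension of the stalks of a coherent module. -/
theorem isOpen_setOf_hasProjectiveDimensionLT_stalk [IsLocallyNoetherian X] (hF : Coh.IsCoh F)
    (n : ℕ) :
    IsOpen {x : X | HasProjectiveDimensionLT (ModuleCat.of (X.presheaf.stalk x)
      (F.presheaf.stalk x)) n} := by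
  rw [isOpen_iff_forall_mem_open]
  intro x₀ hx₀
  obtain ⟨_, ⟨W, hW : IsAffineOpen W, rfl⟩, hxW, -⟩ :=
    X.isBasis_affineOpens.exists_subset_of_mem_open (Set.mem_univ x₀) isOpen_univ
  haveI : IsNoetherianRing Γ(X, W) := IsLocallyNoetherian.component_noetherian ⟨W, hW⟩
  haveI : Module.Finite Γ(X, W) Γ(F, W) := finite_sections_of_isCoh hW F hF
  have h1 := (hasProjectiveDimensionLT_stalk_iff F hF hW ⟨x₀, hxW⟩ n).mp hx₀
  obtain ⟨s, hs, hpd⟩ := PdLocalize.exists_away_hasProjectiveDimensionLT
    (hW.primeIdealOf ⟨x₀, hxW⟩).asIdeal n Γ(F, W) h1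
  refine ⟨X.basicOpen s, ?_, (X.basicOpen s).isOpen, ?_⟩
  · intro x hx
    have hxW' : x ∈ W := X.basicOpen_le s hx
    have hsx : s ∉ (hW.primeIdealOf ⟨x, hxW'⟩).asIdeal :=
      (mem_basicOpen_iff_not_mem_primeIdealOf hW ⟨x, hxW'⟩ s).mp hx
    exact (hasProjectiveDimensionLT_stalk_iff F hF hW ⟨x, hxW'⟩ n).mpr
      (PdLocalize.hasProjectiveDimensionLT_atPrime_of_away _ s hsx Γ(F, W) n hpd)
  · exact (mem_basicOpen_iff_not_mem_primeIdealOf hW ⟨x₀, hxW⟩ s).mpr hs

end Groth.Agent.Lib.Helper73.PdStalk
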