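import Mathlib

/-!
# Projective dimension over "coherent-like" flat algebras over a Bezout domain (helper73)

Abstract form of the arguments for local rings of flat finitely presented algebras over a valuation
ring `V`: if finite `V`-torsion-free `R`-modules are finitely presented and finitely presented
`V`-torsion-free `R`-modules have projective dimension `≤ n`, then every finitely presented
`R`-module has projective dimension `≤ n + 1` and every finitely presented reflexive one has
projective dimension `≤ n - 1`.
-/

set_option autoImplicit false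
set_option linter.style.haveILetI false
universe u
open CategoryTheory

namespace Groth.Agent.Lib.Helper73.PdValRing

section syzygy

variable {R : Type u} [CommRing R]

/-- For a surjection `π : F → M` from a projective module, `pd M < n + 2` iff `pd (ker π) < n + 1`. -/
theorem hasProjectiveDimensionLT_succ_iff_ker {M F : Type u} [AddCommGroup M] [Module R M]
    [AddCommGroup F] [Module R F] [Module.Projective R F] (π : F →ₗ[R] M)
    (hπ : Function.Surjective π) (n : ℕ) :
    HasProjectiveDimensionLT (ModuleCat.of R M) (n + 2) ↔
      HasProjectiveDimensionLT (ModuleCat.of R (LinearMap.ker π)) (n + 1) := by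
  have hS : (ModuleCat.shortComplexOfCompEqZero (LinearMap.ker π).subtype π
        (LinearMap.exact_subtype_ker_map π).linearMap_comp_eq_zero).ShortExact :=
      ModuleCat.shortComplex_shortExact _ (LinearMap.exact_subtype_ker_map π)
        Subtype.val_injective hπ
  have hproj : Projective (ModuleCat.of R F) :=
    (IsProjective.iff_projective (R := R) F).mp inferInstance
  exact hS.hasProjectiveDimensionLT_X₃_iff n hproj

/-- An exact sequence `0 → M → F → Q → 0` with `F` projective and `pd Q ≤ n` gives
`pd M ≤ n - 1` (truncated subtraction). -/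
theorem hasProjectiveDimensionLE_pred_of_exact {M F Q : Type u} [AddCommGroup M] [Module R M]
    [AddCommGroup F] [Module R F] [Module.Projective R F] [AddCommGroup Q] [Module R Q]
    (j : M →ₗ[R] F) (p : F →ₗ[R] Q) (hj : Function.Injective j) (hjp : Function.Exact j p)
    (hp : Function.Surjective p) (n : ℕ)
    (hQ : HasProjectiveDimensionLE (ModuleCat.of R Q) n) :
    HasProjectiveDimensionLE (ModuleCat.of R M) (n - 1) := by
  have hS : (ModuleCat.shortComplexOfCompEqZero j p hjp.linearMap_comp_eq_zero).ShortExact :=
    ModuleCat.shortComplex_shortExact _ hjp hj hp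
  have hproj : Projective (ModuleCat.of R F) :=
    (IsProjective.iff_projective (R := R) F).mp inferInstance
  have h1 : HasProjectiveDimensionLT (ModuleCat.of R F) 1 := inferInstance
  cases n with
  | zero =>
    have h3 : HasProjectiveDimensionLT (ModuleCat.of R Q) 2 :=
      hasProjectiveDimensionLT_of_ge _ 1 2 (by omega)
    exact hS.hasProjectiveDimensionLT_X₁ 1 h1 h3
  | succ k =>
    have h2 : HasProjectiveDimensionLT (ModuleCat.of R F) (k + 1) :=
      hasProjectiveDimensionLT_of_ge _ 1 (k + 1) (by omega)
    exact hS.hasProjectiveDimensionLT_X₁ (k + 1) h2 hQ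

end syzygy

section vtf

variable (V : Type u) [CommRing V] (R : Type u) [CommRing R] [Algebra V R]

/-- `V`-torsion-freeness of an `R`-module (through `algebraMap V R`). -/
def VTF (N : Type u) [AddCommGroup N] [Module R N] : Prop :=
  ∀ v : V, v ≠ 0 → ∀ x : N, algebraMap V R v • x = 0 → x = 0

variable {V R}

lemma VTF.of_injective {N N' : Type u} [AddCommGroup N] [Module R N] [AddCommGroup N']
    [Module R N'] (f : N →ₗ[R] N') (hf : Function.Injective f) (h : VTF V R N') : VTF V R N := by
  intro v hv x hx
  apply hf
  rw [map_zero]
  apply h v hv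
  rw [← map_smul, hx, map_zero]

lemma VTF.self [IsDomain V] [Module.Flat V R] : VTF V R R := by
  intro v hv x hx
  have hx' : v • x = 0 := by rw [Algebra.smul_def]; exact hx
  have : x ∈ Submodule.torsion V R :=
    (Submodule.mem_torsion_iff x).mpr ⟨⟨v, mem_nonZeroDivisors_of_ne_zero hv⟩, hx'⟩
  rw [Module.Flat.torsion_eq_bot] at this
  exact (Submodule.mem_bot V).mp this

lemma VTF.hom (h : VTF V R R) (N : Type u) [AddCommGroup N] [Module R N] :
    VTF V R (N →ₗ[R] R) := by
  intro v hv f hf
  ext x
  have := LinearMap.congr_fun hf x
  rw [LinearMap.smul_apply, LinearMap.zero_apply] at this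
  exact h v hv _ this

lemma VTF.pi (h : VTF V R R) (ι : Type) : VTF V R (ι → R) := by
  intro v hv f hf
  funext i
  have := congrFun hf i
  rw [Pi.smul_apply, Pi.zero_apply] at this
  exact h v hv _ this

/-- A `V`-torsion-free `R`-module is flat over the Bezout domain `V`. -/
lemma flat_of_VTF [IsDomain V] [IsBezout V] {N : Type u} [AddCommGroup N] [Module R N]
    [Module V N] [IsScalarTower V R N] (h : VTF V R N) : Module.Flat V N := by
  rw [Module.Flat.flat_iff_torsion_eq_bot_of_isBezout, Submodule.eq_bot_iff]
  intro x hx
  obtain ⟨a, ha⟩ := (Submodule.mem_torsion_iff x).mp hx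
  refine h a.1 (nonZeroDivisors.ne_zero a.2) x ?_
  rw [algebraMap_smul]
  exact ha

end vtf

section main

variable {V : Type u} [CommRing V] {R : Type u} [CommRing R] [Algebra V R]

/-- Every finitely presented module has `pd ≤ n + 1`. -/
theorem hasProjectiveDimensionLE_succ (hR : VTF V R R) (n : ℕ)
    (hcoh : ∀ (N : Type u) [AddCommGroup N] [Module R N] [Module.Finite R N],
      VTF V R N → Module.FinitePresentation R N)
    (hpd : ∀ (N : Type u) [AddCommGroup N] [Module R N] [Module.FinitePresentation R N],
      VTF V R N → HasProjectiveDimensionLE (ModuleCat.of R N) n)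
    (M : Type u) [AddCommGroup M] [Module R M] [Module.FinitePresentation R M] :
    HasProjectiveDimensionLE (ModuleCat.of R M) (n + 1) := by
  obtain ⟨r, π, hπ⟩ := Module.Finite.exists_fin' R M
  have hKfg : (LinearMap.ker π).FG := Module.FinitePresentation.fg_ker π hπ
  haveI : Module.Finite R (LinearMap.ker π) := Module.Finite.iff_fg.mpr hKfg
  have hK : VTF V R (LinearMap.ker π) :=
    VTF.of_injective (LinearMap.ker π).subtype Subtype.val_injective (VTF.pi hR _)
  haveI := hcoh _ hK
  exact (hasProjectiveDimensionLT_succ_iff_ker π hπ n).mpr (hpd _ hK)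

/-- The dual of a finitely presented module is finite. -/
theorem finite_dual (hR : VTF V R R)
    (hcoh : ∀ (N : Type u) [AddCommGroup N] [Module R N] [Module.Finite R N],
      VTF V R N → Module.FinitePresentation R N)
    (M : Type u) [AddCommGroup M] [Module R M] [Module.FinitePresentation R M] :
    Module.Finite R (Module.Dual R M) := by
  obtain ⟨r, π, hπ⟩ := Module.Finite.exists_fin' R M
  have hKfg : (LinearMap.ker π).FG := Module.FinitePresentation.fg_ker π hπ
  obtain ⟨s, k, hk⟩ := Submodule.fg_iff_exists_fin_generating_family.mp hKfg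
  let ev : Module.Dual R (Fin r → R) →ₗ[R] (Fin s → R) :=
    LinearMap.pi fun i => LinearMap.applyₗ (k i)
  have hev : ∀ g i, ev g i = g (k i) := fun g i => rfl
  -- the range of `ev` is finitely presented
  haveI : Module.Finite R (LinearMap.range ev) := Module.Finite.range ev
  have hI : VTF V R (LinearMap.range ev) :=
    VTF.of_injective (LinearMap.range ev).subtype Subtype.val_injective (VTF.pi hR _)
  haveI := hcoh _ hI
  have hkerfg : (LinearMap.ker ev).FG := by
    have := Module.FinitePresentation.fg_ker ev.rangeRestrict ev.surjective_rangeRestrict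
    rwa [LinearMap.ker_rangeRestrict] at this
  -- the dual of `M` is the kernel of `ev`
  have hinj : Function.Injective π.dualMap := LinearMap.dualMap_injective_of_surjective hπ
  have hrange : LinearMap.range π.dualMap = LinearMap.ker ev := by
    ext g
    rw [LinearMap.mem_range, LinearMap.mem_ker]
    constructor
    · rintro ⟨f, rfl⟩
      funext i
      rw [hev, LinearMap.dualMap_apply, Pi.zero_apply]
      have : k i ∈ LinearMap.ker π := by rw [← hk]; exact Submodule.subset_span ⟨i, rfl⟩
      rw [LinearMap.mem_ker.mp this, map_zero]
    · intro hg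
      have hle : LinearMap.ker π ≤ LinearMap.ker g := by
        rw [← hk, Submodule.span_le]
        rintro _ ⟨i, rfl⟩
        have := congrFun hg i
        rw [hev, Pi.zero_apply] at this
        exact LinearMap.mem_ker.mpr this
      refine ⟨((LinearMap.ker π).liftQ g hle).comp
        (LinearMap.quotKerEquivOfSurjective π hπ).symm.toLinearMap, ?_⟩
      refine LinearMap.ext fun x => ?_
      rw [LinearMap.dualMap_apply, LinearMap.comp_apply, LinearEquiv.coe_coe]
      have : (LinearMap.quotKerEquivOfSurjective π hπ).symm (π x) =
          (LinearMap.ker π).mkQ x := by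
        rw [LinearEquiv.symm_apply_eq]
        rfl
      rw [this, Submodule.mkQ_apply, Submodule.liftQ_apply]
  have hfg : (LinearMap.range π.dualMap).FG := hrange ▸ hkerfg
  haveI : Module.Finite R (LinearMap.range π.dualMap) := Module.Finite.iff_fg.mpr hfg
  exact Module.Finite.equiv (LinearEquiv.ofInjective π.dualMap hinj).symm

/-- Every finitely presented reflexive module has `pd ≤ n - 1`. -/
theorem hasProjectiveDimensionLE_pred_of_isReflexive (hR : VTF V R R) (n : ℕ)
    (hcoh : ∀ (N : Type u) [AddCommGroup N] [Module R N] [Module.Finite R N],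
      VTF V R N → Module.FinitePresentation R N)
    (hpd : ∀ (N : Type u) [AddCommGroup N] [Module R N] [Module.FinitePresentation R N],
      VTF V R N → HasProjectiveDimensionLE (ModuleCat.of R N) n)
    (M : Type u) [AddCommGroup M] [Module R M] [Module.FinitePresentation R M]
    [Module.IsReflexive R M] :
    HasProjectiveDimensionLE (ModuleCat.of R M) (n - 1) := by
  haveI := finite_dual hR hcoh M
  obtain ⟨t, ρ, hρ⟩ := Module.Finite.exists_fin' R (Module.Dual R M)
  have hρinj : Function.Injective ρ.dualMap := LinearMap.dualMap_injective_of_surjective hρ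
  have hev : Function.Bijective (Module.Dual.eval R M) := Module.bijective_dual_eval R M
  let j : M →ₗ[R] Module.Dual R (Fin t → R) := ρ.dualMap.comp (Module.Dual.eval R M)
  have hj : Function.Injective j := hρinj.comp hev.1
  -- restriction to the kernel of `ρ`
  let res : Module.Dual R (Fin t → R) →ₗ[R] (LinearMap.ker ρ →ₗ[R] R) :=
    LinearMap.lcomp R R (LinearMap.ker ρ).subtype
  have hres : ∀ g x, res g x = g x.1 := fun g x => rfl
  have hker : LinearMap.ker res = LinearMap.range j := by
    ext g
    rw [LinearMap.mem_ker, LinearMap.mem_range]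
    constructor
    · intro hg
      have hle : LinearMap.ker ρ ≤ LinearMap.ker g := by
        intro x hx
        have := LinearMap.congr_fun hg ⟨x, hx⟩
        rw [hres, LinearMap.zero_apply] at this
        exact LinearMap.mem_ker.mpr this
      let φ : Module.Dual R (Module.Dual R M) := ((LinearMap.ker ρ).liftQ g hle).comp
        (LinearMap.quotKerEquivOfSurjective ρ hρ).symm.toLinearMap
      obtain ⟨m, hm⟩ := hev.2 φ
      refine ⟨m, ?_⟩
      refine LinearMap.ext fun x => ?_
      rw [LinearMap.comp_apply, hm, LinearMap.dualMap_apply, LinearMap.comp_apply,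
        LinearEquiv.coe_coe]
      have : (LinearMap.quotKerEquivOfSurjective ρ hρ).symm (ρ x) =
          (LinearMap.ker ρ).mkQ x := by
        rw [LinearEquiv.symm_apply_eq]
        rfl
      rw [this, Submodule.mkQ_apply, Submodule.liftQ_apply]
    · rintro ⟨m, rfl⟩
      ext x
      rw [hres, LinearMap.zero_apply, LinearMap.comp_apply, LinearMap.dualMap_apply,
        LinearMap.mem_ker.mp x.2, map_zero]
  -- the quotient
  let Q := Module.Dual R (Fin t → R) ⧸ LinearMap.range j
  haveI : Module.FinitePresentation R (Module.Dual R (Fin t → R)) :=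
    Module.finitePresentation_of_projective R _
  have hQfp : Module.FinitePresentation R Q :=
    Module.finitePresentation_of_surjective (LinearMap.range j).mkQ
      (LinearMap.range j).mkQ_surjective
      (by rw [Submodule.ker_mkQ, LinearMap.range_eq_map]; exact Submodule.FG.map _ Module.Finite.fg_top)
  have hQ : VTF V R Q := by
    refine VTF.of_injective ((LinearMap.range j).liftQ res (by rw [hker])) ?_
      (VTF.hom hR (LinearMap.ker ρ))
    rw [← LinearMap.ker_eq_bot, Submodule.ker_liftQ, hker, Submodule.mkQ_map_self]
  have hpdQ := hpd Q hQ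
  exact hasProjectiveDimensionLE_pred_of_exact j (LinearMap.range j).mkQ hj
    (LinearMap.exact_map_mkQ_range j) (LinearMap.range j).mkQ_surjective n hpdQ

end main

end Groth.Agent.Lib.Helper73.PdValRing
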