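import Mathlib
import Groth.Agent.Lib.Helper73.PdValRing
import Groth.Agent.Lib.Helper71.PdLocal
import Groth.Agent.Lib.Helper12.NagataFP
import Groth.Agent.S0563

/-!
# Picard group of the generic fibre of a local flat algebra with regular closed fibre over a
valuation ring (helper73)

The stably-free induction is adapted from helper88's `S9247.isStablyFree_of_pd` (there for
Noetherian local rings); here Noetherianity is replaced by the hypothesis that kernels of finite
free covers of finitely presented modules are finitely presented (coherence).
-/

set_option autoImplicit false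
set_option linter.style.haveILetI false
universe u
open CategoryTheory

namespace Groth.Agent.Lib.Helper73.PicValRing

open Groth.Agent.Lib.Helper73.PdValRing

/-- Over a local ring in which syzygies of finitely presented modules are finitely presented,
if `M` is finitely presented with projective dimension `< n + 1` and `L` is a localization of `M`
which is projective over the localized ring, then `L` is stably free. -/
theorem isStablyFree_of_pd {R : Type u} [CommRing R] [IsLocalRing R]
    (hker : ∀ (M : Type u) [AddCommGroup M] [Module R M] [Module.FinitePresentation R M] (k : ℕ)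
      (g : (Fin k → R) →ₗ[R] M), Function.Surjective g →
        Module.FinitePresentation R (LinearMap.ker g))
    (S : Submonoid R) (A : Type u) [CommRing A] [Algebra R A] [IsLocalization S A] :
    ∀ (n : ℕ) (M : Type u) [AddCommGroup M] [Module R M] [Module.FinitePresentation R M]
      (_ : HasProjectiveDimensionLT (ModuleCat.of R M) (n + 1))
      (L : Type u) [AddCommGroup L] [Module R L] [Module A L] [IsScalarTower R A L]
      (ι : M →ₗ[R] L) [IsLocalizedModule S ι] [Module.Projective A L],
      Module.IsStablyFree A L := by
  intro n
  induction n with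
  | zero =>
    intro M _ _ _ hpd L _ _ _ _ ι _ _
    have hproj : Projective (ModuleCat.of R M) := by
      rw [projective_iff_hasProjectiveDimensionLT_one]
      exact hpd
    have hP : Module.Projective R M := (IsProjective.iff_projective (R := R) M).mpr hproj
    have hF : Module.Free R M := Module.free_of_flat_of_isLocalRing
    have : Module.Free A L := Module.free_of_isLocalizedModule S ι
    infer_instance
  | succ n ih =>
    intro M _ _ _ hpd L _ _ _ _ ι _ _
    obtain ⟨k, g, hg⟩ := Module.Finite.exists_fin' R M
    have hex : Function.Exact (LinearMap.ker g).subtype g := LinearMap.exact_subtype_ker_map g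
    have hi : Function.Injective (LinearMap.ker g).subtype := Submodule.injective_subtype _
    have hS : (ModuleCat.shortComplexOfCompEqZero (LinearMap.ker g).subtype g
        hex.linearMap_comp_eq_zero).ShortExact :=
      ModuleCat.shortComplex_shortExact _ hex hi hg
    have hK : HasProjectiveDimensionLT (ModuleCat.of R (LinearMap.ker g)) (n + 1) := by
      refine (hS.hasProjectiveDimensionLT_X₃_iff n ?_).mp hpd
      change Projective (ModuleCat.of R (Fin k → R))
      rw [← IsProjective.iff_projective]
      infer_instance
    let φ : (Fin k → R) →ₗ[R] (Fin k → A) := LinearMap.pi fun i =>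
      (Algebra.linearMap R A).comp (LinearMap.proj i)
    have hφ : IsLocalizedModule S φ := IsLocalizedModule.pi S fun _ => Algebra.linearMap R A
    let g' : (Fin k → A) →ₗ[A] L :=
      (IsLocalizedModule.map S φ ι g).extendScalarsOfIsLocalization S A
    have hg' : Function.Surjective g' := IsLocalizedModule.map_surjective S φ ι g hg
    let K' : Submodule A (Fin k → A) := (LinearMap.ker g).localized' A S φ
    have hK' : K' = LinearMap.ker g' := LinearMap.localized'_ker_eq_ker_localizedMap A S φ ι g
    have hιK : IsLocalizedModule S ((LinearMap.ker g).toLocalized' A S φ) :=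
      Submodule.isLocalizedModule A S φ (LinearMap.ker g)
    obtain ⟨s, hs⟩ := Module.projective_lifting_property g' LinearMap.id hg'
    have hex' : Function.Exact K'.subtype g' := by
      rw [hK']
      exact LinearMap.exact_subtype_ker_map g'
    obtain ⟨e, -, -⟩ := (hex'.splitSurjectiveEquiv K'.injective_subtype ⟨s, hs⟩)
    have hprojK' : Module.Projective A K' := by
      have hfr : Module.Free A (Fin k → A) := Module.Free.pi _ _
      have hprF : Module.Projective A (Fin k → A) := Module.Projective.of_free
      have : Module.Projective A (K' × L) := Module.Projective.of_equiv e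
      exact Module.Projective.of_split (LinearMap.inl A K' L) (LinearMap.fst A K' L)
        (by ext x; simp)
    haveI hfpK : Module.FinitePresentation R (LinearMap.ker g) := hker M k g hg
    have hsfK : Module.IsStablyFree A K' :=
      ih (LinearMap.ker g) hK K' ((LinearMap.ker g).toLocalized' A S φ)
    obtain ⟨N, _, _, _, _, hfree⟩ := Module.IsStablyFree.exist_free_prod A K'
    have hfinK' : Module.Finite A K' :=
      Module.Finite.of_isLocalizedModule S ((LinearMap.ker g).toLocalized' A S φ)
    let E : (L × (K' × N)) ≃ₗ[A] ((Fin k → A) × N) :=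
      (LinearEquiv.prodAssoc A L K' N).symm ≪≫ₗ
        ((LinearEquiv.prodComm A L K' ≪≫ₗ e.symm).prodCongr (LinearEquiv.refl A N))
    have : Module.Free A (L × (K' × N)) := Module.Free.of_equiv E.symm
    exact Module.IsStablyFree.of_free_prod A L (K' × N)

/-- The Picard group of the generic fibre is trivial. -/
theorem pic_subsingleton (V A : Type u) [CommRing V] [IsDomain V] [ValuationRing V]
    [CommRing A] [IsLocalRing A] [Algebra V A] [IsLocalHom (algebraMap V A)]
    [Module.Flat V A] [Algebra.EssFiniteType V A]
    (hreg : IsRegularRing (TensorProduct V (IsLocalRing.ResidueField V) A)) :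
    Subsingleton (CommRing.Pic (TensorProduct V (FractionRing V) A)) := by
  have hR : VTF V A A := VTF.self
  have hcoh : ∀ (N : Type u) [AddCommGroup N] [Module A N] [Module.Finite A N],
      VTF V A N → Module.FinitePresentation A N := by
    intro N _ _ _ hN
    letI : Module V N := Module.compHom N (algebraMap V A)
    haveI : IsScalarTower V A N := IsScalarTower.of_algebraMap_smul (fun _ _ => rfl)
    haveI : Module.Flat V N := flat_of_VTF hN
    exact Groth.Agent.Lib.Helper12.NagataFP.finitePresentation_of_essFiniteType (R := V) A N
  -- the closed fibre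
  let 𝔞 : Ideal V := IsLocalRing.maximalIdeal V
  have h𝔞 : 𝔞.map (algebraMap V A) ≤ IsLocalRing.maximalIdeal A := by
    rw [Ideal.map_le_iff_le_comap]
    intro v hv
    exact map_nonunit (algebraMap V A) v hv
  have hne : 𝔞.map (algebraMap V A) ≠ ⊤ := fun h =>
    (IsLocalRing.maximalIdeal.isMaximal A).ne_top (top_le_iff.mp (h ▸ h𝔞))
  haveI : Nontrivial (A ⧸ 𝔞.map (algebraMap V A)) := Ideal.Quotient.nontrivial_iff.mpr hne
  haveI : IsLocalRing (A ⧸ 𝔞.map (algebraMap V A)) :=
    IsLocalRing.of_surjective' (Ideal.Quotient.mk _) Ideal.Quotient.mk_surjective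
  let e₁ : (A ⧸ 𝔞.map (algebraMap V A)) ≃+* TensorProduct V (IsLocalRing.ResidueField V) A :=
    ((Algebra.TensorProduct.quotIdealMapEquivTensorQuot A 𝔞).toRingEquiv).trans
      (Algebra.TensorProduct.comm V A (V ⧸ 𝔞)).toRingEquiv
  haveI : IsRegularRing (A ⧸ 𝔞.map (algebraMap V A)) := IsRegularRing.of_ringEquiv e₁.symm
  haveI : IsRegularLocalRing (A ⧸ 𝔞.map (algebraMap V A)) :=
    IsRegularLocalRing.of_isRegularRing_of_isLocalRing _
  obtain ⟨n, hn⟩ : ∃ n : ℕ, ringKrullDim (A ⧸ 𝔞.map (algebraMap V A)) = n :=
    ⟨_, (IsRegularLocalRing.spanFinrank_maximalIdeal (R := A ⧸ 𝔞.map (algebraMap V A))).symm⟩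
  -- syzygies
  have hsyz : Groth.Agent.Lib.Helper71.PdLocal.HasFPSyzygies V A := by
    intro M _ _ _ _ _ _
    obtain ⟨r, π, hπ⟩ := Module.Finite.exists_fin' A M
    refine ⟨r, π, hπ, ?_⟩
    have hKfg : (LinearMap.ker π).FG := Module.FinitePresentation.fg_ker π hπ
    haveI : Module.Finite A (LinearMap.ker π) := Module.Finite.iff_fg.mpr hKfg
    exact hcoh _ (VTF.of_injective (LinearMap.ker π).subtype Subtype.val_injective (VTF.pi hR _))
  have hpd : ∀ (N : Type u) [AddCommGroup N] [Module A N] [Module.FinitePresentation A N],
      VTF V A N → HasProjectiveDimensionLE (ModuleCat.of A N) n := by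
    intro N _ _ _ hN
    letI : Module V N := Module.compHom N (algebraMap V A)
    haveI : IsScalarTower V A N := IsScalarTower.of_algebraMap_smul (fun _ _ => rfl)
    haveI : Module.Flat V N := flat_of_VTF hN
    exact (Groth.Agent.Lib.Helper71.PdLocal.hasProjectiveDimensionLE_iff_quotient 𝔞 hsyz h𝔞 n
      N).mpr (Groth.Agent.S0563.result _ n hn _)
  have hker : ∀ (M : Type u) [AddCommGroup M] [Module A M] [Module.FinitePresentation A M]
      (k : ℕ) (g : (Fin k → A) →ₗ[A] M), Function.Surjective g →
        Module.FinitePresentation A (LinearMap.ker g) := by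
    intro M _ _ _ k g hg
    have hKfg : (LinearMap.ker g).FG := Module.FinitePresentation.fg_ker g hg
    haveI : Module.Finite A (LinearMap.ker g) := Module.Finite.iff_fg.mpr hKfg
    exact hcoh _ (VTF.of_injective (LinearMap.ker g).subtype Subtype.val_injective (VTF.pi hR _))
  -- the generic fibre as a localization
  letI : Algebra A (TensorProduct V (FractionRing V) A) := Algebra.TensorProduct.rightAlgebra
  let S : Submonoid A := Algebra.algebraMapSubmonoid A (nonZeroDivisors V)
  haveI hloc : IsLocalization S (TensorProduct V (FractionRing V) A) :=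
    IsLocalization.tensorRight (S := A) (A := FractionRing V) (nonZeroDivisors V)
  rw [CommRing.Pic.subsingleton_iff]
  intro L _ _ hL
  let T := TensorProduct V (FractionRing V) A
  letI : Module A L := Module.compHom L (algebraMap A T)
  haveI : IsScalarTower A T L := IsScalarTower.of_algebraMap_smul fun r x => rfl
  obtain ⟨s, hs⟩ := (Module.Finite.fg_top : (⊤ : Submodule T L).FG)
  let M : Submodule A L := Submodule.span A (s : Set L)
  haveI hMfin : Module.Finite A M := Module.Finite.span_finset A s
  have hMV : VTF V A M := by
    intro v hv x hx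
    have hu : IsUnit (algebraMap A T (algebraMap V A v)) :=
      IsLocalization.map_units T (⟨algebraMap V A v,
        Algebra.mem_algebraMapSubmonoid_of_mem ⟨v, mem_nonZeroDivisors_of_ne_zero hv⟩⟩ : S)
    have hx' : (algebraMap A T (algebraMap V A v)) • (x : L) = 0 := by
      have := congrArg Subtype.val hx
      rw [Submodule.coe_smul, Submodule.coe_zero] at this
      exact this
    apply Subtype.ext
    have h2 : (x : L) = (↑hu.unit⁻¹ : T) • ((algebraMap A T (algebraMap V A v)) • (x : L)) := by
      rw [smul_smul, IsUnit.val_inv_mul, one_smul]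
    rw [hx', smul_zero] at h2
    exact h2
  haveI hMfp : Module.FinitePresentation A M := hcoh M hMV
  have hpdM := hpd M hMV
  have hid : IsLocalizedModule S (LinearMap.id : L →ₗ[A] L) := isLocalizedModule_id S L T
  let M' : Submodule T L := M.localized' T S LinearMap.id
  have hM' : M' = ⊤ := by
    change Submodule.localized' T S LinearMap.id (Submodule.span A (s : Set L)) = ⊤
    rw [Submodule.localized'_span, ← hs]
    simp
  have hlocM : IsLocalizedModule S (M.toLocalized' T S LinearMap.id) :=
    Submodule.isLocalizedModule T S LinearMap.id M
  let e : M' ≃ₗ[T] L := LinearEquiv.ofTop M' hM'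
  have hproj : Module.Projective T M' := Module.Projective.of_equiv e.symm
  have := isStablyFree_of_pd hker S T n M hpdM M' (M.toLocalized' T S LinearMap.id)
  haveI : Module.IsStablyFree T L := Module.IsStablyFree.equiv e
  exact Module.free_of_isStablyFree_of_invertible T L

end Groth.Agent.Lib.Helper73.PicValRing
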