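import Mathlib

set_option autoImplicit false
universe u

open DirectSum HomogeneousLocalization

namespace Groth.Agent.Lib.Helper73.ProjCM

variable {A : Type u} [CommRing A] (𝒜 : ℕ → AddSubgroup A) [GradedRing 𝒜]
variable (P : Ideal A) [hPp : P.IsPrime]

/-- Key computation: an equation with arbitrary coefficients in `A_P` between fractions with a
common homogeneous denominator can be replaced by one with coefficients in `A_(P)`. -/
theorem exists_homogeneous_coeffs {κ : Type} [Fintype κ] (n : ℕ) (t : 𝒜 n) (ht : (t : A) ∈ P.primeCompl)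
    (a : 𝒜 n) (as : κ → 𝒜 n) (y : κ → Localization.AtPrime P)
    (h : Localization.mk (a : A) ⟨t, ht⟩ = ∑ j, y j * Localization.mk (as j : A) ⟨t, ht⟩) :
    ∃ z : κ → AtPrime 𝒜 P,
      (HomogeneousLocalization.mk ⟨n, a, t, ht⟩ : AtPrime 𝒜 P) =
        ∑ j, z j * HomogeneousLocalization.mk ⟨n, as j, t, ht⟩ := by
  classical
  -- common denominator
  obtain ⟨u, hu⟩ := IsLocalization.exist_integer_multiples_of_finset P.primeCompl
    (Finset.univ.image y)
  have hb : ∀ j, ∃ b : A, algebraMap A (Localization.AtPrime P) b = (u : A) • y j := fun j =>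
    hu (y j) (Finset.mem_image_of_mem y (Finset.mem_univ j))
  choose b hb using hb
  -- clear denominators
  have ht' : ∀ c : A, Localization.mk c ⟨(t : A), ht⟩ * algebraMap A (Localization.AtPrime P) t =
      algebraMap A (Localization.AtPrime P) c := by
    intro c
    rw [Localization.mk_eq_mk']
    exact IsLocalization.mk'_spec (M := P.primeCompl) (Localization.AtPrime P) c ⟨(t : A), ht⟩
  have h1 : algebraMap A (Localization.AtPrime P) ((u : A) * a) =
      algebraMap A (Localization.AtPrime P) (∑ j, b j * (as j : A)) := by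
    rw [map_mul, map_sum, ← ht' a, h, Finset.sum_mul, Finset.mul_sum]
    refine Finset.sum_congr rfl fun j _ => ?_
    rw [map_mul, hb j, ← ht' (as j), Algebra.smul_def]
    ring
  obtain ⟨v, hv⟩ := (IsLocalization.eq_iff_exists P.primeCompl _).mp h1
  -- `w = v * u ∉ P`
  set w : A := (v : A) * (u : A) with hw
  have hwP : w ∉ P := fun hmem => (hPp.mem_or_mem hmem).elim v.2 u.2
  obtain ⟨m, hm⟩ : ∃ m : ℕ, (DirectSum.decompose 𝒜 w m : A) ∉ P := by
    by_contra hall
    push Not at hall
    apply hwP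
    rw [← DirectSum.sum_support_decompose 𝒜 w]
    exact Ideal.sum_mem _ (fun i _ => hall i)
  have heq : w * (a : A) = ∑ j, ((v : A) * b j) * (as j : A) := by
    rw [hw, mul_assoc, hv, Finset.mul_sum]
    exact Finset.sum_congr rfl fun j _ => by ring
  have hcomp : (DirectSum.decompose 𝒜 w m : A) * (a : A) =
      ∑ j, (DirectSum.decompose 𝒜 ((v : A) * b j) m : A) * (as j : A) := by
    rw [← DirectSum.coe_decompose_mul_add_of_right_mem 𝒜 a.2, heq, DirectSum.decompose_sum,
      DFinsupp.finsetSum_apply, AddSubgroup.val_finsetSum]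
    exact Finset.sum_congr rfl fun j _ =>
      DirectSum.coe_decompose_mul_add_of_right_mem 𝒜 (as j).2
  have hm' : (DirectSum.decompose 𝒜 w m : A) ∈ P.primeCompl := hm
  refine ⟨fun j => HomogeneousLocalization.mk
    ⟨m, DirectSum.decompose 𝒜 ((v : A) * b j) m, DirectSum.decompose 𝒜 w m, hm'⟩, ?_⟩
  apply HomogeneousLocalization.val_injective
  rw [← HomogeneousLocalization.algebraMap_apply, ← HomogeneousLocalization.algebraMap_apply,
    map_sum]
  simp only [map_mul, HomogeneousLocalization.algebraMap_apply, HomogeneousLocalization.val_mk,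
    Localization.mk_mul]
  have hwt : (DirectSum.decompose 𝒜 w m : A) * (t : A) ∈ P.primeCompl := mul_mem hm' ht
  trans Localization.mk (∑ j, (DirectSum.decompose 𝒜 ((v : A) * b j) m : A) * (as j : A))
    (⟨_, hwt⟩ : P.primeCompl)
  · rw [← hcomp, Localization.mk_eq_mk_iff, Localization.r_iff_exists]
    refine ⟨1, ?_⟩
    simp only [OneMemClass.coe_one, one_mul]
    ring
  · exact Localization.mk_sum _ _ _

/-- Finitely many elements of `A_(P)` have a common homogeneous denominator. -/
theorem exists_common_den {κ : Type} [Fintype κ] (g : κ → AtPrime 𝒜 P) :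
    ∃ (n : ℕ) (t : 𝒜 n) (ht : (t : A) ∈ P.primeCompl) (a : κ → 𝒜 n),
      ∀ j, g j = HomogeneousLocalization.mk ⟨n, a j, t, ht⟩ := by
  classical
  have hden : ∀ j, (g j).den ∈ P.primeCompl := fun j => (g j).den_mem
  have hprod : ∀ s : Finset κ, ∏ j ∈ s, (g j).den ∈ 𝒜 (∑ j ∈ s, (g j).deg) := fun s =>
    SetLike.prod_mem_graded 𝒜 _ _ fun j _ => (g j).den_mem_deg
  have hnum : ∀ j, (g j).num * ∏ i ∈ Finset.univ.erase j, (g i).den ∈
      𝒜 (∑ j, (g j).deg) := by
    intro j
    rw [← Finset.add_sum_erase Finset.univ (fun j => (g j).deg) (Finset.mem_univ j)]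
    exact SetLike.mul_mem_graded (g j).num_mem_deg (hprod _)
  refine ⟨∑ j, (g j).deg, ⟨∏ j, (g j).den, hprod _⟩, prod_mem fun j _ => hden j,
    fun j => ⟨_, hnum j⟩, fun j => ?_⟩
  apply HomogeneousLocalization.val_injective
  rw [HomogeneousLocalization.val_mk, (g j).eq_num_div_den, Localization.mk_eq_mk_iff,
    Localization.r_iff_exists]
  refine ⟨1, ?_⟩
  simp only [OneMemClass.coe_one, one_mul]
  rw [← Finset.mul_prod_erase Finset.univ (fun j => (g j).den) (Finset.mem_univ j)]
  ring

/-- Purity: every ideal of `A_(P)` is contracted from `A_P`. -/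
theorem comap_map_eq (I : Ideal (AtPrime 𝒜 P)) :
    (I.map (algebraMap (AtPrime 𝒜 P) (Localization.AtPrime P))).comap
      (algebraMap (AtPrime 𝒜 P) (Localization.AtPrime P)) = I := by
  classical
  refine le_antisymm ?_ Ideal.le_comap_map
  intro x hx
  rw [Ideal.mem_comap, Ideal.map, Ideal.span, Submodule.mem_span_set'] at hx
  obtain ⟨k, f, g, hfg⟩ := hx
  have hg : ∀ j, ∃ g' : AtPrime 𝒜 P, g' ∈ I ∧
      algebraMap (AtPrime 𝒜 P) (Localization.AtPrime P) g' = (g j : Localization.AtPrime P) :=
    fun j => (g j).2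
  choose g' hg'I hg' using hg
  obtain ⟨n, t, ht, a, ha⟩ := exists_common_den 𝒜 P
    (fun o : Option (Fin k) => o.elim x g')
  have hx' : x = HomogeneousLocalization.mk ⟨n, a none, t, ht⟩ := ha none
  have hg'' : ∀ j, g' j = HomogeneousLocalization.mk ⟨n, a (some j), t, ht⟩ := fun j => ha (some j)
  obtain ⟨z, hz⟩ := exists_homogeneous_coeffs 𝒜 P n t ht (a none) (fun j => a (some j)) f (by
    rw [← HomogeneousLocalization.val_mk (𝒜 := 𝒜) (x := P.primeCompl) ⟨n, a none, t, ht⟩, ← hx',
      ← HomogeneousLocalization.algebraMap_apply, ← hfg]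
    refine Finset.sum_congr rfl fun j _ => ?_
    rw [smul_eq_mul, ← hg' j, hg'' j, HomogeneousLocalization.algebraMap_apply,
      HomogeneousLocalization.val_mk])
  rw [hx', hz]
  refine Ideal.sum_mem _ fun j _ => Ideal.mul_mem_left _ _ ?_
  rw [← hg'' j]
  exact hg'I j

end Groth.Agent.Lib.Helper73.ProjCM
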