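import Groth.Agent.Lib.Helper73.ProjCM1
import Groth.Agent.Lib.Helper73.ProjCM2

/-!
# `Proj` of a Cohen–Macaulay graded ring is Cohen–Macaulay (helper73)
-/

set_option autoImplicit false
universe u

open DirectSum HomogeneousLocalization AlgebraicGeometry

namespace Groth.Agent.Lib.Helper73.ProjCM

variable {A : Type u} [CommRing A] (𝒜 : ℕ → AddSubgroup A) [GradedRing 𝒜]

/-- a homogeneous element of positive degree outside a relevant prime -/
theorem exists_pos_notMem (x : ProjectiveSpectrum 𝒜) :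
    ∃ (f : A) (m : ℕ) (_ : f ∈ 𝒜 m) (_ : 0 < m), f ∉ x.asHomogeneousIdeal := by
  classical
  by_contra!
  refine x.not_irrelevant_le fun z hz ↦ ?_
  rw [← DirectSum.sum_support_decompose 𝒜 z]
  exact x.1.toIdeal.sum_mem fun k hk ↦ this _ k (SetLike.coe_mem _) <| by_contra <| by aesop

section

variable {f : A} {m : ℕ} (f_deg : f ∈ 𝒜 m) (hm : 0 < m)

/-- The map `Spec A_(f) → Spec A`. -/
noncomputable def fromSpecPrime (q : PrimeSpectrum (Away 𝒜 f)) : PrimeSpectrum A :=
  ⟨ProjIsoSpecTopComponent.FromSpec.carrier.asIdeal f_deg hm q,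
    ProjIsoSpecTopComponent.FromSpec.carrier.asIdeal.prime f_deg hm q⟩

theorem fromSpecPrime_strictMono : StrictMono (fromSpecPrime 𝒜 f_deg hm) := by
  have hmono : Monotone (fromSpecPrime 𝒜 f_deg hm) := by
    intro q q' hqq' a ha
    exact fun i => hqq' (ha i)
  refine hmono.strictMono_of_injective ?_
  intro q q' h
  have h1 : ProjIsoSpecTopComponent.FromSpec.toFun f_deg hm q =
      ProjIsoSpecTopComponent.FromSpec.toFun f_deg hm q' := by
    refine Subtype.ext <| ProjectiveSpectrum.ext <| HomogeneousIdeal.toIdeal_injective ?_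
    exact congrArg PrimeSpectrum.asIdeal h
  have h2 := congrArg (ProjIsoSpecTopComponent.toSpec 𝒜 f) h1
  exact (ProjIsoSpecTopComponent.toSpec_fromSpec 𝒜 f_deg hm q).symm.trans
    (h2.trans (ProjIsoSpecTopComponent.toSpec_fromSpec 𝒜 f_deg hm q'))

end

/-- `dim A_(P) ≤ dim A_P` for a relevant homogeneous prime `P`. -/
theorem ringKrullDim_atPrime_le (x : ProjectiveSpectrum 𝒜) :
    ringKrullDim (AtPrime 𝒜 x.asHomogeneousIdeal.toIdeal) ≤
      ringKrullDim (Localization.AtPrime x.asHomogeneousIdeal.toIdeal) := by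
  obtain ⟨f, m, f_deg, hm, hx⟩ := exists_pos_notMem 𝒜 x
  have hxP : x.asHomogeneousIdeal.toIdeal.IsPrime := x.isPrime
  let x' : ProjectiveSpectrum.basicOpen 𝒜 f := ⟨x, hx⟩
  let q₀ : PrimeSpectrum (Away 𝒜 f) :=
    (AlgebraicGeometry.ProjectiveSpectrum.Proj.toSpec 𝒜 f).base x'
  let _ : Algebra (Away 𝒜 f) (AtPrime 𝒜 x.asHomogeneousIdeal.toIdeal) :=
    (mapId 𝒜 (Submonoid.powers_le.mpr hx)).toAlgebra
  have hloc : IsLocalization.AtPrime (AtPrime 𝒜 x.asHomogeneousIdeal.toIdeal) q₀.asIdeal :=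
    AlgebraicGeometry.ProjectiveSpectrum.Proj.isLocalization_atPrime 𝒜 f x' f_deg hm
  rw [IsLocalization.AtPrime.ringKrullDim_eq_height q₀.asIdeal,
    IsLocalization.AtPrime.ringKrullDim_eq_height x.asHomogeneousIdeal.toIdeal
      (Localization.AtPrime _)]
  have hq₀ : fromSpecPrime 𝒜 f_deg hm q₀ = ⟨x.asHomogeneousIdeal.toIdeal, x.isPrime⟩ := by
    have h1 : q₀ = ProjIsoSpecTopComponent.toSpec 𝒜 f x' :=
      AlgebraicGeometry.ProjectiveSpectrum.Proj.toSpec_base_apply_eq 𝒜 x'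
    have h2 := ProjIsoSpecTopComponent.fromSpec_toSpec 𝒜 f_deg hm x'
    rw [← h1] at h2
    have h3 := congrArg (fun y => (y.1 : ProjectiveSpectrum 𝒜).asHomogeneousIdeal.toIdeal) h2
    exact PrimeSpectrum.ext h3
  have h4 := Order.height_le_height_apply_of_strictMono _ (fromSpecPrime_strictMono 𝒜 f_deg hm) q₀
  rw [hq₀, ← PrimeSpectrum.height_eq_orderHeight, ← PrimeSpectrum.height_eq_orderHeight] at h4
  exact_mod_cast h4

/-- `𝔪_{A_(P)} A_P` is `𝔪_{A_P}`-primary, for a relevant homogeneous prime `P`. -/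
theorem maximalIdeal_le_radical_aux (P : Ideal A) [hPp : P.IsPrime] (hPh : P.IsHomogeneous 𝒜)
    {f : A} {m : ℕ} (f_deg : f ∈ 𝒜 m) (hm : 0 < m) (hx : f ∉ P) :
    IsLocalRing.maximalIdeal (Localization.AtPrime P) ≤
      ((IsLocalRing.maximalIdeal (AtPrime 𝒜 P)).map
        (algebraMap (AtPrime 𝒜 P) (Localization.AtPrime P))).radical := by
  classical
  rw [← Localization.AtPrime.map_eq_maximalIdeal, Ideal.map_le_iff_le_comap]
  intro a ha
  rw [Ideal.mem_comap, ← DirectSum.sum_support_decompose 𝒜 a, map_sum]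
  refine Ideal.sum_mem _ fun i _ => ?_
  have hai : (DirectSum.decompose 𝒜 a i : A) ∈ P := hPh i ha
  have hfi : f ^ i ∈ P.primeCompl := fun h => hx (hPp.mem_of_pow_mem i h)
  have hdeg1 : (DirectSum.decompose 𝒜 a i : A) ^ m ∈ 𝒜 (m * i) := by
    have := SetLike.pow_mem_graded m (DirectSum.decompose 𝒜 a i).2
    rwa [smul_eq_mul] at this
  have hdeg2 : f ^ i ∈ 𝒜 (m * i) := by
    have := SetLike.pow_mem_graded i f_deg
    rwa [smul_eq_mul, mul_comm] at this
  set z : AtPrime 𝒜 P := HomogeneousLocalization.mk ⟨m * i, ⟨_, hdeg1⟩, ⟨_, hdeg2⟩, hfi⟩ with hz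
  have hzmem : z ∈ IsLocalRing.maximalIdeal (AtPrime 𝒜 P) := by
    rw [IsLocalRing.mem_maximalIdeal, mem_nonunits_iff, ← HomogeneousLocalization.isUnit_iff_isUnit_val,
      hz, HomogeneousLocalization.val_mk, Localization.mk_eq_mk',
      IsLocalization.AtPrime.isUnit_mk'_iff (Localization.AtPrime P) P]
    exact fun h => h (Ideal.pow_mem_of_mem _ hai m hm)
  refine ⟨m, ?_⟩
  have hid : algebraMap A (Localization.AtPrime P) (DirectSum.decompose 𝒜 a i : A) ^ m =
      algebraMap (AtPrime 𝒜 P) (Localization.AtPrime P) z *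
        algebraMap A (Localization.AtPrime P) (f ^ i) := by
    rw [HomogeneousLocalization.algebraMap_apply, hz, HomogeneousLocalization.val_mk,
      Localization.mk_eq_mk', ← map_pow]
    exact (IsLocalization.mk'_spec (M := P.primeCompl) (Localization.AtPrime P) _ ⟨f ^ i, hfi⟩).symm
  rw [hid]
  exact Ideal.mul_mem_right _ _ (Ideal.mem_map_of_mem _ hzmem)

theorem maximalIdeal_le_radical (x : ProjectiveSpectrum 𝒜) :
    IsLocalRing.maximalIdeal (Localization.AtPrime x.asHomogeneousIdeal.toIdeal) ≤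
      ((IsLocalRing.maximalIdeal (AtPrime 𝒜 x.asHomogeneousIdeal.toIdeal)).map
        (algebraMap (AtPrime 𝒜 x.asHomogeneousIdeal.toIdeal)
          (Localization.AtPrime x.asHomogeneousIdeal.toIdeal))).radical := by
  obtain ⟨f, m, f_deg, hm, hx⟩ := exists_pos_notMem 𝒜 x
  exact maximalIdeal_le_radical_aux 𝒜 x.asHomogeneousIdeal.toIdeal
    x.asHomogeneousIdeal.isHomogeneous f_deg hm hx

/-- The homogeneous localization of a Cohen–Macaulay graded ring at a relevant homogeneous prime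
is Cohen–Macaulay. -/
theorem isCohenMacaulayLocalRing_atPrime [LocCoh.IsCohenMacaulayRing A]
    (x : ProjectiveSpectrum 𝒜) :
    LocCoh.IsCohenMacaulayLocalRing (AtPrime 𝒜 x.asHomogeneousIdeal.toIdeal) := by
  have hS : LocCoh.IsCohenMacaulayLocalRing
      (Localization.AtPrime x.asHomogeneousIdeal.toIdeal) :=
    LocCoh.IsCohenMacaulayRing.isCohenMacaulayLocalRing_localization _
  exact isCohenMacaulayLocalRing_of_pure
    (algebraMap (AtPrime 𝒜 x.asHomogeneousIdeal.toIdeal)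
      (Localization.AtPrime x.asHomogeneousIdeal.toIdeal))
    (comap_map_eq 𝒜 _) (maximalIdeal_le_radical 𝒜 x) (ringKrullDim_atPrime_le 𝒜 x)

end Groth.Agent.Lib.Helper73.ProjCM
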