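import Mathlib

/-!
# Helper library: the horseshoe lemma for projective resolutions

For a short exact short complex `S` in an abelian category and projective resolutions `P₁`, `P₃` of
its outer terms we build a projective resolution of `S.X₂` whose complex is degreewise
`P₁.X n ⊞ P₃.X n`, together with chain maps lifting `S.f`, `S.g`.
(Dual of `Groth.Agent.Lib.Helper83.Horseshoe`.)
-/

universe v u

open CategoryTheory CategoryTheory.Limits

noncomputable section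

set_option backward.isDefEq.respectTransparency false

namespace Groth.Agent.Lib.Helper73

namespace ProjHorseshoe

variable {C : Type u} [Category.{v} C] [Abelian C]
variable {S : ShortComplex C} (hS : S.ShortExact)
  (P₁ : ProjectiveResolution S.X₁) (P₃ : ProjectiveResolution S.X₃)

/-- lift of the augmentation of `P₃` to `S.X₂` -/
def α : P₃.complex.X 0 ⟶ S.X₂ :=
  have : Epi S.g := hS.epi_g
  Projective.factorThru (P₃.π.f 0) S.g

lemma α_g : α hS P₃ ≫ S.g = P₃.π.f 0 := by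
  have : Epi S.g := hS.epi_g
  exact Projective.factorThru_comp _ _

lemma d_α_g : P₃.complex.d 1 0 ≫ α hS P₃ ≫ S.g = 0 := by
  rw [α_g]
  exact P₃.complex_d_comp_π_f_zero

/-- the obstruction class `P₃₁ ⟶ S.X₁` -/
def β : P₃.complex.X 1 ⟶ S.X₁ :=
  have : Mono S.f := hS.mono_f
  hS.exact.lift (P₃.complex.d 1 0 ≫ α hS P₃) (by rw [Category.assoc]; exact d_α_g hS P₃)

lemma β_f : β hS P₃ ≫ S.f = P₃.complex.d 1 0 ≫ α hS P₃ := by
  have : Mono S.f := hS.mono_f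
  exact hS.exact.lift_f _ _

lemma d_β : P₃.complex.d 2 1 ≫ β hS P₃ = 0 := by
  have : Mono S.f := hS.mono_f
  rw [← cancel_mono S.f, Category.assoc, β_f, ← Category.assoc, HomologicalComplex.d_comp_d,
    zero_comp, zero_comp]

/-- data of two consecutive components of the twisting cochain -/
structure ThetaStep (n : ℕ) where
  t : P₃.complex.X (n + 1) ⟶ P₁.complex.X n
  t' : P₃.complex.X (n + 2) ⟶ P₁.complex.X (n + 1)
  comm : P₃.complex.d (n + 2) (n + 1) ≫ t + t' ≫ P₁.complex.d (n + 1) n = 0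

def θ₀ : P₃.complex.X 1 ⟶ P₁.complex.X 0 :=
  Projective.factorThru (-β hS P₃) (P₁.π.f 0)

lemma θ₀_π : θ₀ hS P₁ P₃ ≫ P₁.π.f 0 = -β hS P₃ := Projective.factorThru_comp _ _

def θ₁ : P₃.complex.X 2 ⟶ P₁.complex.X 1 :=
  P₁.exact₀.liftFromProjective (-(P₃.complex.d 2 1 ≫ θ₀ hS P₁ P₃)) (by
    dsimp
    rw [Preadditive.neg_comp, Category.assoc, θ₀_π, Preadditive.comp_neg, d_β, neg_zero, neg_zero])

lemma θ₁_d : θ₁ hS P₁ P₃ ≫ P₁.complex.d 1 0 = -(P₃.complex.d 2 1 ≫ θ₀ hS P₁ P₃) :=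
  P₁.exact₀.liftFromProjective_comp _ _

def thetaStepZero : ThetaStep P₁ P₃ 0 where
  t := θ₀ hS P₁ P₃
  t' := θ₁ hS P₁ P₃
  comm := by rw [θ₁_d, add_neg_cancel]

def thetaStepSucc (n : ℕ) (p : ThetaStep P₁ P₃ n) : ThetaStep P₁ P₃ (n + 1) where
  t := p.t'
  t' := (P₁.exact_succ n).liftFromProjective (-(P₃.complex.d (n + 3) (n + 2) ≫ p.t')) (by
    dsimp
    have h := p.comm
    have h' : p.t' ≫ P₁.complex.d (n + 1) n = -(P₃.complex.d (n + 2) (n + 1) ≫ p.t) :=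
      eq_neg_of_add_eq_zero_right h
    rw [Preadditive.neg_comp, Category.assoc, h', Preadditive.comp_neg, ← Category.assoc,
      HomologicalComplex.d_comp_d, zero_comp, neg_zero, neg_zero])
  comm := by
    rw [(P₁.exact_succ n).liftFromProjective_comp, add_neg_cancel]

def thetaStep : (n : ℕ) → ThetaStep P₁ P₃ n
  | 0 => thetaStepZero hS P₁ P₃
  | n + 1 => thetaStepSucc P₁ P₃ n (thetaStep n)

/-- the twisting cochain -/
def θ (n : ℕ) : P₃.complex.X (n + 1) ⟶ P₁.complex.X n := (thetaStep hS P₁ P₃ n).t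

lemma θ_zero : θ hS P₁ P₃ 0 = θ₀ hS P₁ P₃ := rfl

lemma θ_succ (n : ℕ) : θ hS P₁ P₃ (n + 1) = (thetaStep hS P₁ P₃ n).t' := rfl

lemma θ_comm (n : ℕ) :
    P₃.complex.d (n + 2) (n + 1) ≫ θ hS P₁ P₃ n +
      θ hS P₁ P₃ (n + 1) ≫ P₁.complex.d (n + 1) n = 0 := by
  rw [θ_succ]
  exact (thetaStep hS P₁ P₃ n).comm

lemma θ_comm' (n : ℕ) :
    θ hS P₁ P₃ (n + 1) ≫ P₁.complex.d (n + 1) n +
      P₃.complex.d (n + 2) (n + 1) ≫ θ hS P₁ P₃ n = 0 :=
  (add_comm _ _).trans (θ_comm hS P₁ P₃ n)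

lemma θ_π : θ hS P₁ P₃ 0 ≫ P₁.π.f 0 = -β hS P₃ := θ₀_π hS P₁ P₃

/-- the objects of the middle complex -/
abbrev midX (n : ℕ) : C := P₁.complex.X n ⊞ P₃.complex.X n

/-- the differential of the twisted sum -/
def D (n : ℕ) : midX P₁ P₃ (n + 1) ⟶ midX P₁ P₃ n :=
  biprod.desc (P₁.complex.d (n + 1) n ≫ biprod.inl)
    (θ hS P₁ P₃ n ≫ biprod.inl + P₃.complex.d (n + 1) n ≫ biprod.inr)

lemma inl_D (n : ℕ) : biprod.inl ≫ D hS P₁ P₃ n = P₁.complex.d (n + 1) n ≫ biprod.inl :=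
  biprod.inl_desc _ _

lemma inr_D (n : ℕ) : biprod.inr ≫ D hS P₁ P₃ n =
    θ hS P₁ P₃ n ≫ biprod.inl + P₃.complex.d (n + 1) n ≫ biprod.inr :=
  biprod.inr_desc _ _

lemma D_snd (n : ℕ) : D hS P₁ P₃ n ≫ biprod.snd = biprod.snd ≫ P₃.complex.d (n + 1) n := by
  apply biprod.hom_ext'
  · rw [← Category.assoc, inl_D]
    simp
  · rw [← Category.assoc, inr_D]
    simp

lemma D_fst (n : ℕ) : D hS P₁ P₃ n ≫ biprod.fst =
    biprod.fst ≫ P₁.complex.d (n + 1) n + biprod.snd ≫ θ hS P₁ P₃ n := by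
  apply biprod.hom_ext'
  · rw [← Category.assoc, inl_D]
    simp
  · rw [← Category.assoc, inr_D]
    simp

lemma D_D (n : ℕ) : D hS P₁ P₃ (n + 1) ≫ D hS P₁ P₃ n = 0 := by
  apply biprod.hom_ext'
  · rw [← Category.assoc, inl_D, Category.assoc, inl_D, ← Category.assoc,
      HomologicalComplex.d_comp_d, zero_comp, comp_zero]
  · rw [← Category.assoc, inr_D, Preadditive.add_comp, Category.assoc, Category.assoc, inl_D,
      inr_D, Preadditive.comp_add, ← Category.assoc, ← Category.assoc, ← Category.assoc,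
      HomologicalComplex.d_comp_d, zero_comp, add_zero, ← Preadditive.add_comp,
      θ_comm', zero_comp, comp_zero]

/-- the middle complex of the horseshoe -/
def mid : ChainComplex C ℕ :=
  ChainComplex.of (midX P₁ P₃) (D hS P₁ P₃) (D_D hS P₁ P₃)

lemma mid_d (n : ℕ) : (mid hS P₁ P₃).d (n + 1) n = D hS P₁ P₃ n := ChainComplex.of_d _ _ _

/-- the inclusion `P₁ ⟶ mid` -/
def fMap : P₁.complex ⟶ mid hS P₁ P₃ :=
  ChainComplex.ofHom (fun n => (biprod.inl : P₁.complex.X n ⟶ midX P₁ P₃ n))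
    (fun n => by rw [mid_d, inl_D])

/-- the projection `mid ⟶ P₃` -/
def gMap : mid hS P₁ P₃ ⟶ P₃.complex :=
  ChainComplex.ofHom (fun n => (biprod.snd : midX P₁ P₃ n ⟶ P₃.complex.X n))
    (fun n => by rw [mid_d, D_snd])

lemma fMap_f (n : ℕ) : (fMap hS P₁ P₃).f n = biprod.inl := rfl

lemma gMap_f (n : ℕ) : (gMap hS P₁ P₃).f n = biprod.snd := rfl

lemma fMap_gMap : fMap hS P₁ P₃ ≫ gMap hS P₁ P₃ = 0 := by
  ext n
  simp [fMap_f, gMap_f]

/-- the degreewise splitting -/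
def splitting (n : ℕ) :
    ((ShortComplex.mk (fMap hS P₁ P₃) (gMap hS P₁ P₃) (fMap_gMap hS P₁ P₃)).map
      (HomologicalComplex.eval C (ComplexShape.down ℕ) n)).Splitting :=
  ShortComplex.Splitting.ofHasBinaryBiproduct (P₁.complex.X n) (P₃.complex.X n)

lemma shortExact_mid :
    (ShortComplex.mk (fMap hS P₁ P₃) (gMap hS P₁ P₃) (fMap_gMap hS P₁ P₃)).ShortExact := by
  apply HomologicalComplex.shortExact_of_degreewise_shortExact
  intro n
  exact (splitting hS P₁ P₃ n).shortExact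

/-- the augmentation of the middle complex -/
def aug : midX P₁ P₃ 0 ⟶ S.X₂ := biprod.desc (P₁.π.f 0 ≫ S.f) (α hS P₃)

lemma inl_aug : biprod.inl ≫ aug hS P₁ P₃ = P₁.π.f 0 ≫ S.f := biprod.inl_desc _ _

lemma inr_aug : biprod.inr ≫ aug hS P₁ P₃ = α hS P₃ := biprod.inr_desc _ _

lemma aug_eq : aug hS P₁ P₃ = biprod.fst ≫ P₁.π.f 0 ≫ S.f + biprod.snd ≫ α hS P₃ := by
  apply biprod.hom_ext'
  · rw [inl_aug]; simp
  · rw [inr_aug]; simp

lemma D_aug : D hS P₁ P₃ 0 ≫ aug hS P₁ P₃ = 0 := by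
  apply biprod.hom_ext'
  · rw [← Category.assoc, inl_D, Category.assoc, inl_aug, ← Category.assoc,
      P₁.complex_d_comp_π_f_zero, zero_comp, comp_zero]
  · rw [← Category.assoc, inr_D, Preadditive.add_comp, Category.assoc, Category.assoc, inl_aug,
      inr_aug, ← Category.assoc, θ_π, Preadditive.neg_comp, β_f, neg_add_cancel, comp_zero]

lemma aug_g : aug hS P₁ P₃ ≫ S.g = biprod.snd ≫ P₃.π.f 0 := by
  apply biprod.hom_ext'
  · rw [← Category.assoc, inl_aug, Category.assoc, S.zero, comp_zero]; simp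
  · rw [← Category.assoc, inr_aug, α_g]; simp

instance epi_aug : Epi (aug hS P₁ P₃) := by
  rw [epi_iff_surjective_up_to_refinements]
  intro A z
  have : Epi S.g := hS.epi_g
  obtain ⟨A₁, π₁, hπ₁, x₃, hx₃⟩ := surjective_up_to_refinements_of_epi (P₃.π.f 0) (z ≫ S.g)
  have h0 : (π₁ ≫ z - x₃ ≫ α hS P₃) ≫ S.g = 0 := by
    rw [Preadditive.sub_comp, Category.assoc, Category.assoc, α_g, hx₃, sub_self]
  obtain ⟨A₂, π₂, hπ₂, w, hw⟩ := hS.exact.exact_up_to_refinements _ h0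
  obtain ⟨A₃, π₃, hπ₃, x₁, hx₁⟩ := surjective_up_to_refinements_of_epi (P₁.π.f 0) w
  refine ⟨A₃, π₃ ≫ π₂ ≫ π₁, inferInstance, x₁ ≫ biprod.inl + (π₃ ≫ π₂ ≫ x₃) ≫ biprod.inr, ?_⟩
  have e1 : (x₁ ≫ biprod.inl) ≫ aug hS P₁ P₃ = π₃ ≫ w ≫ S.f := by
    rw [Category.assoc, inl_aug, ← Category.assoc, ← hx₁, Category.assoc]
  have e2 : ((π₃ ≫ π₂ ≫ x₃) ≫ biprod.inr) ≫ aug hS P₁ P₃ = π₃ ≫ π₂ ≫ x₃ ≫ α hS P₃ := by
    simp only [Category.assoc, inr_aug]
  rw [Preadditive.add_comp, e1, e2, ← hw]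
  simp only [Preadditive.comp_sub, Category.assoc]
  abel

lemma exact_aug : (ShortComplex.mk (D hS P₁ P₃ 0) (aug hS P₁ P₃) (D_aug hS P₁ P₃)).Exact := by
  rw [ShortComplex.exact_iff_exact_up_to_refinements]
  intro A x hx
  dsimp at x hx
  have hx' : x ≫ aug hS P₁ P₃ = 0 := hx
  have : Mono S.f := hS.mono_f
  -- third component
  have h3 : (x ≫ biprod.snd) ≫ P₃.π.f 0 = 0 := by
    have := hx' =≫ S.g
    rwa [Category.assoc, aug_g, zero_comp, ← Category.assoc] at this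
  obtain ⟨A₁, π₁, hπ₁, y₃, hy₃⟩ := P₃.exact₀.exact_up_to_refinements _ h3
  dsimp at y₃ hy₃
  have h1 : (π₁ ≫ x ≫ biprod.fst - y₃ ≫ θ hS P₁ P₃ 0) ≫ P₁.π.f 0 = 0 := by
    rw [← cancel_mono S.f, zero_comp, Category.assoc, Preadditive.sub_comp, Category.assoc,
      Category.assoc, Category.assoc, ← Category.assoc (θ hS P₁ P₃ 0), θ_π, Preadditive.neg_comp,
      β_f, Preadditive.comp_neg, sub_neg_eq_add, ← Category.assoc y₃, ← hy₃]
    have := hx'
    rw [aug_eq, Preadditive.comp_add] at this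
    simp only [Category.assoc] at this ⊢
    rw [← Preadditive.comp_add, this, comp_zero]
  obtain ⟨A₂, π₂, hπ₂, y₁, hy₁⟩ := P₁.exact₀.exact_up_to_refinements _ h1
  dsimp at y₁ hy₁
  refine ⟨A₂, π₂ ≫ π₁, inferInstance, y₁ ≫ biprod.inl + (π₂ ≫ y₃) ≫ biprod.inr, ?_⟩
  dsimp
  apply biprod.hom_ext
  · simp only [Category.assoc, D_fst]
    simp only [Preadditive.add_comp, Preadditive.comp_add, Category.assoc, biprod.inl_fst_assoc,
      biprod.inr_fst_assoc, biprod.inl_snd_assoc, biprod.inr_snd_assoc, zero_comp, comp_zero,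
      add_zero, zero_add]
    rw [← hy₁]
    simp only [Preadditive.comp_sub]
    abel
  · simp only [Category.assoc, D_snd]
    simp only [Preadditive.add_comp, Category.assoc, biprod.inl_snd_assoc, biprod.inr_snd_assoc,
      zero_comp, comp_zero, zero_add]
    rw [← hy₃]

/-- the augmentation as a chain map -/
def πMid : mid hS P₁ P₃ ⟶ (ChainComplex.single₀ C).obj S.X₂ :=
  (ChainComplex.toSingle₀Equiv _ _).symm ⟨aug hS P₁ P₃, by
    rw [mid_d]
    exact D_aug hS P₁ P₃⟩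

lemma πMid_f_zero : (πMid hS P₁ P₃).f 0 = aug hS P₁ P₃ := by
  simp [πMid]

instance (n : ℕ) : Projective ((mid hS P₁ P₃).X n) :=
  inferInstanceAs (Projective (P₁.complex.X n ⊞ P₃.complex.X n))

lemma mid_exactAt_succ (n : ℕ) : (mid hS P₁ P₃).ExactAt (n + 1) :=
  (shortExact_mid hS P₁ P₃).exactAt_X₂ (n + 1) (P₁.complex_exactAt_succ n)
    (P₃.complex_exactAt_succ n)

instance quasiIso_πMid : QuasiIso (πMid hS P₁ P₃) := ⟨fun n => by
  cases n with
  | zero =>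
    rw [ChainComplex.quasiIsoAt₀_iff, ShortComplex.quasiIso_iff_of_zeros']
    · refine (ShortComplex.exact_and_epi_g_iff_of_iso ?_).2
        ⟨exact_aug hS P₁ P₃, epi_aug hS P₁ P₃⟩
      exact ShortComplex.isoMk (Iso.refl _) (Iso.refl _) (Iso.refl _)
        (by simp [mid_d]) (by simp [πMid_f_zero])
    all_goals rfl
  | succ n =>
    rw [quasiIsoAt_iff_exactAt']
    · exact mid_exactAt_succ hS P₁ P₃ n
    · exact ChainComplex.exactAt_succ_single_obj _ _⟩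

/-- the middle resolution -/
def midRes : ProjectiveResolution S.X₂ where
  complex := mid hS P₁ P₃
  π := πMid hS P₁ P₃

lemma fMap_π : fMap hS P₁ P₃ ≫ (midRes hS P₁ P₃).π =
    P₁.π ≫ (ChainComplex.single₀ C).map S.f := by
  apply HomologicalComplex.to_single_hom_ext
  change (fMap hS P₁ P₃).f 0 ≫ (πMid hS P₁ P₃).f 0 =
    P₁.π.f 0 ≫ ((ChainComplex.single₀ C).map S.f).f 0
  rw [fMap_f, πMid_f_zero, inl_aug]
  simp

lemma gMap_π : gMap hS P₁ P₃ ≫ P₃.π =
    (midRes hS P₁ P₃).π ≫ (ChainComplex.single₀ C).map S.g := by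
  apply HomologicalComplex.to_single_hom_ext
  change (gMap hS P₁ P₃).f 0 ≫ P₃.π.f 0 =
    (πMid hS P₁ P₃).f 0 ≫ ((ChainComplex.single₀ C).map S.g).f 0
  rw [gMap_f, πMid_f_zero]
  simp [aug_g]

end ProjHorseshoe

end Groth.Agent.Lib.Helper73
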