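import Mathlib
import Groth.Agent.Lib.Helper80.RefExtend
import Groth.Agent.Lib.Helper80.ModHartogsConv
import Groth.Agent.Lib.Helper80.UnitIsoDepth
import Groth.Agent.Lib.Helper80.FreeLocus
import Groth.Agent.Lib.Helper45.ReflexiveDepth
import Groth.Agent.Lib.Helper45.EpiStalk
import Groth.Agent.Lib.Helper49.FinLocFree
import Groth.Agent.Lib.Helper49.FreeNear
import Groth.Agent.Lib.Helper73.MCM
import Groth.Agent.Lib.Helper73.RegularNormal

/-!
helper73: extension of finite locally free modules across a regular closed point of dimension 2,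
and extension of morphisms across a point of depth ≥ 2.
-/

set_option autoImplicit false
universe u

open CategoryTheory CategoryTheory.Limits AlgebraicGeometry TopologicalSpace

namespace Groth.Agent.Lib.Helper73.PunctureExtend

/-- Finite free modules have depth at least the depth of the ring. -/
theorem depth_le_depth_of_free (R : Type u) [CommRing R] [IsLocalRing R] [IsNoetherianRing R]
    (F : Type u) [AddCommGroup F] [Module R F] [Module.Free R F] [Module.Finite R F] :
    LocCoh.depth R R ≤ LocCoh.depth R F := by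
  have e : F ≃ₗ[R] (Fin (Module.finrank R F) → R) := (Module.finBasis R F).equivFun
  rw [LocCoh.depth, LocCoh.depth, Groth.Agent.Lib.Helper29.idealDepth_congr _ e]
  exact Groth.Agent.Lib.Helper45.ReflexiveDepth.idealDepth_pi_ge _ _

/-- the depth of a regular local ring of dimension `2` over itself is `2` -/
theorem depth_self_eq_two (R : Type u) [CommRing R] [IsRegularLocalRing R]
    (hdim : ringKrullDim R = 2) : LocCoh.depth R R = 2 := by
  have hd := Groth.Agent.Lib.Helper73.RegularNormal.depth_self_of_isRegularLocalRing R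
  apply WithBot.coe_injective
  rw [hd, hdim]; rfl

theorem spanFinrank_eq_two (R : Type u) [CommRing R] [IsRegularLocalRing R]
    (hdim : ringKrullDim R = 2) : (IsLocalRing.maximalIdeal R).spanFinrank = 2 := by
  have hs : ((IsLocalRing.maximalIdeal R).spanFinrank : WithBot ℕ∞) = ringKrullDim R :=
    IsRegularLocalRing.spanFinrank_maximalIdeal
  rw [hdim] at hs
  exact_mod_cast hs

variable {X : Scheme.{u}}

theorem isFinLocFree_of_iso {M N : X.Modules} (e : M ≅ N) (h : FlatMod.IsFinLocFree M) :
    FlatMod.IsFinLocFree N := by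
  intro x
  obtain ⟨U, n, hxU, ⟨φ⟩⟩ := h x
  exact ⟨U, n, hxU, ⟨(Scheme.Modules.restrictFunctor U.ι).mapIso e.symm ≪≫ φ⟩⟩

/-- If the unit `F → j_* j^* F` is an isomorphism, morphisms `D|_U → F|_U` extend to `D → F`. -/
theorem exists_map_of_restrict (U : X.Opens) (D F : X.Modules)
    (hiso : IsIso ((Scheme.Modules.restrictAdjunction U.ι).unit.app F))
    (ψ : (Scheme.Modules.restrictFunctor U.ι).obj D ⟶ (Scheme.Modules.restrictFunctor U.ι).obj F) :
    ∃ φ : D ⟶ F, (Scheme.Modules.restrictFunctor U.ι).map φ = ψ := by
  let adj := Scheme.Modules.restrictAdjunction U.ι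
  refine ⟨adj.homEquiv _ _ ψ ≫ inv (adj.unit.app F), ?_⟩
  have h1 : (Scheme.Modules.restrictFunctor U.ι).map (inv (adj.unit.app F)) =
      adj.counit.app _ := by
    have := adj.left_triangle_components F
    rw [← cancel_epi ((Scheme.Modules.restrictFunctor U.ι).map (adj.unit.app F)), this,
      ← Functor.map_comp, IsIso.hom_inv_id]
    exact (Scheme.Modules.restrictFunctor U.ι).map_id _
  rw [Functor.map_comp, h1, ← adj.homEquiv_counit, Equiv.symm_apply_apply]

variable [IsLocallyNoetherian X]

/-- **Extension of finite locally free modules across a regular closed point of dimension 2.** -/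
theorem exists_finLocFree_extension [CompactSpace X] [QuasiSeparatedSpace X] (p : X)
    (U : X.Opens) (hU : (U : Set X) = {p}ᶜ)
    (hreg : IsRegularLocalRing (X.presheaf.stalk p))
    (hdim : ringKrullDim (X.presheaf.stalk p) = 2)
    (E : (U : Scheme.{u}).Modules) (hE : FlatMod.IsFinLocFree E) :
    ∃ (D : X.Modules) (_ : D.restrict U.ι ≅ E), FlatMod.IsFinLocFree D := by
  have hnot : ∀ x : X, x ∉ U → x = p := by
    intro x hx
    have : x ∉ (U : Set X) := hx
    rw [hU] at this
    simpa using this
  have hpU : p ∉ U := by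
    intro h
    have : p ∈ (U : Set X) := h
    rw [hU] at this
    exact this rfl
  have hdepthO : ∀ x : X, x ∉ U →
      (2 : ℕ∞) ≤ LocCoh.depth (X.presheaf.stalk x) (X.presheaf.stalk x) := by
    intro x hx
    obtain rfl := hnot x hx
    rw [depth_self_eq_two _ hdim]
  have hEfp := Groth.Agent.Lib.Helper49.isFinitePresentation_of_isFinLocFree E hE
  have hEc : Coh.IsCoh E := Groth.Agent.Lib.Helper80.RefExtend.isCoh_of_isFinitePresentation E hEfp
  have hr : ∀ y : (U : Scheme.{u}),
      Module.IsReflexive ((U : Scheme.{u}).presheaf.stalk y) (E.presheaf.stalk y) := by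
    intro y
    have := Groth.Agent.Lib.Helper12.QuasiFlat.finite_stalk_of_isCoh E hEc y
    have := Groth.Agent.Lib.Helper49.free_stalk_of_isFinLocFree E hE y
    infer_instance
  obtain ⟨D, e, hDc, hiso⟩ := Groth.Agent.Lib.Helper80.RefExtend.exists_coh_extension U hdepthO E hEc hr
  refine ⟨D, e, ?_⟩
  have hDq : D.IsQuasicoherent := hDc.1
  have hDfp := Groth.Agent.Lib.Helper49.isFinitePresentation_of_isFiniteType_of_noetherian D hDc.2
  have hDU : FlatMod.IsFinLocFree (D.restrict U.ι) := isFinLocFree_of_iso e.symm hE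
  have hfree : ∀ x : X, Module.Free (X.presheaf.stalk x) ↑(D.presheaf.stalk x) := by
    intro x
    by_cases hx : x ∈ U
    · exact Groth.Agent.Lib.Helper80.FreeLocus.free_stalk_of_isFinLocFree_restrict D U hDU x hx
    · obtain rfl := hnot x hx
      have := Groth.Agent.Lib.Helper12.QuasiFlat.finite_stalk_of_isCoh D hDc x
      apply Groth.Agent.Lib.Helper73.MCM.free_of_le_depth
      rw [spanFinrank_eq_two _ hdim]
      refine Groth.Agent.Lib.Helper80.two_le_depth_of_res_bijective D hDc U (fun V => ?_) x hx
      have h1 : IsIso (((Scheme.Modules.restrictAdjunction U.ι).unit.app D).app V) :=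
        Scheme.Modules.Hom.isIso_iff_isIso_app.mp hiso V
      rw [ConcreteCategory.isIso_iff_bijective] at h1
      have he : V ⊓ U = U.ι ''ᵁ U.ι ⁻¹ᵁ V := by
        rw [ZClos.ι_image_preimage, inf_comm]
      exact (Groth.Agent.Lib.Helper49.ZClosure.map_bijective_iff_of_eq D inf_le_left
        (U.ι.image_preimage_le V) he).mpr h1
  intro x
  exact Groth.Agent.Lib.Helper49.exists_iso_restrict_freeMod_of_stalk_free D hDfp x (hfree x)

end Groth.Agent.Lib.Helper73.PunctureExtend
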