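import Mathlib

/-!
# Reducedness along flat maps, part 1 (helper73) — pure Mathlib

* `map_inf_of_flat`, `map_finset_inf_of_flat`: extension of ideals along a flat algebra commutes
  with finite intersections (via the equational criterion of flatness).
* `isReduced_of_isRadical_span_singleton`: `S` Noetherian, `s` a nonzerodivisor in the Jacobson
  radical with `S/sS` reduced ⇒ `S` reduced.
* `exists_seq_primes_iInf_eq_bot`: a Noetherian local domain of dimension `≥ 2` has a sequence of
  nonzero primes with zero intersection.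
* `isReduced_of_pid`: a Noetherian flat algebra `T` over a semi-local PID `D` with `T/nT` reduced for
  all maximal `n` and every maximal ideal of `T` lying over a nonzero prime is reduced.
-/
set_option autoImplicit false
set_option linter.style.haveILetI false
set_option linter.unusedSectionVars false
universe u
namespace Groth.Agent.Lib.Helper73.RedFibre
open IsLocalRing nonZeroDivisors

section FlatInf
variable {A B : Type*} [CommRing A] [CommRing B] [Algebra A B]

/-- elements of `I B` as finite sums `∑ a i • c i` with `a i ∈ I`. -/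
theorem exists_sum_of_mem_map (I : Ideal A) {x : B} (hx : x ∈ I.map (algebraMap A B)) :
    ∃ (n : ℕ) (a : Fin n → A) (c : Fin n → B), (∀ i, a i ∈ I) ∧ ∑ i, a i • c i = x := by
  rw [Ideal.map, Ideal.span, Submodule.mem_span_set'] at hx
  obtain ⟨n, f, g, rfl⟩ := hx
  have hg : ∀ i, ∃ a : A, a ∈ I ∧ algebraMap A B a = (g i : B) := fun i => (g i).2
  choose a ha1 ha2 using hg
  refine ⟨n, a, f, ha1, ?_⟩
  apply Finset.sum_congr rfl
  intro i _
  rw [Algebra.smul_def, ha2, smul_eq_mul, mul_comm]

theorem map_inf_of_flat [Module.Flat A B] (I J : Ideal A) :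
    (I ⊓ J).map (algebraMap A B) = I.map (algebraMap A B) ⊓ J.map (algebraMap A B) := by
  apply le_antisymm (Ideal.map_inf_le _)
  rintro x ⟨hxI, hxJ⟩
  obtain ⟨n, a, c, ha, hac⟩ := exists_sum_of_mem_map I hxI
  obtain ⟨m, a', c', ha', hac'⟩ := exists_sum_of_mem_map J hxJ
  have hrel : ∑ i : Fin n ⊕ Fin m, (Sum.elim a (fun l => - a' l) i) • (Sum.elim c c' i) = 0 := by
    rw [Fintype.sum_sum_type]
    simp only [Sum.elim_inl, Sum.elim_inr, neg_smul, Finset.sum_neg_distrib]
    rw [hac, hac', add_neg_cancel]
  obtain ⟨k, β, y, hy1, hy2⟩ := Module.Flat.isTrivialRelation_of_sum_smul_eq_zero (R := A) (M := B) hrel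
  -- e_j = ∑_i a_i β_ij ∈ I ∩ J
  have hx : x = ∑ j : Fin k, (∑ i : Fin n, a i * β (Sum.inl i) j) • y j := by
    rw [← hac]
    have : ∀ i : Fin n, a i • c i = ∑ j : Fin k, (a i * β (Sum.inl i) j) • y j := by
      intro i
      have := hy1 (Sum.inl i)
      simp only [Sum.elim_inl] at this
      rw [this, Finset.smul_sum]
      apply Finset.sum_congr rfl
      intro j _
      rw [mul_smul]
    simp_rw [this]
    rw [Finset.sum_comm]
    apply Finset.sum_congr rfl
    intro j _
    rw [Finset.sum_smul]
  rw [hx]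
  apply Ideal.sum_mem
  intro j _
  have hej : (∑ i : Fin n, a i * β (Sum.inl i) j) ∈ I ⊓ J := by
    constructor
    · exact Ideal.sum_mem _ fun i _ => Ideal.mul_mem_right _ _ (ha i)
    · have h2 := hy2 j
      rw [Fintype.sum_sum_type] at h2
      simp only [Sum.elim_inl, Sum.elim_inr, neg_mul, Finset.sum_neg_distrib] at h2
      have h3 : (∑ i : Fin n, a i * β (Sum.inl i) j) = ∑ l : Fin m, a' l * β (Sum.inr l) j := by
        linear_combination h2
      rw [h3]
      exact Ideal.sum_mem _ fun l _ => Ideal.mul_mem_right _ _ (ha' l)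
  rw [Algebra.smul_def]
  exact Ideal.mul_mem_right _ _ (Ideal.mem_map_of_mem _ hej)

end FlatInf

section LemmaT
variable {S : Type*} [CommRing S] [IsNoetherianRing S]

theorem isReduced_of_isRadical_span_singleton (s : S)
    (hs : s ∈ Ideal.jacobson (⊥ : Ideal S)) (hreg : IsSMulRegular S s)
    (hred : (Ideal.span {s}).IsRadical) : IsReduced S := by
  rw [← nilradical_eq_bot_iff]
  have hle : nilradical S ≤ Ideal.span {s} • nilradical S := by
    intro x hx
    obtain ⟨n, hn⟩ := (mem_nilradical.mp hx)
    have hxs : x ∈ Ideal.span {s} := hred ⟨n, by rw [hn]; exact Ideal.zero_mem _⟩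
    obtain ⟨y, rfl⟩ := Ideal.mem_span_singleton'.mp hxs
    have hy : y ∈ nilradical S := by
      rw [mem_nilradical]
      refine ⟨n, ?_⟩
      rw [mul_pow] at hn
      have h1 : IsSMulRegular S (s ^ n) := hreg.pow n
      apply h1
      change s ^ n • y ^ n = s ^ n • 0
      rw [smul_eq_mul, smul_eq_mul, mul_zero, mul_comm]
      exact hn
    rw [mul_comm]
    exact Submodule.smul_mem_smul (Ideal.mem_span_singleton_self s) hy
  have hfg : (nilradical S).FG := IsNoetherian.noetherian _
  have hj : Ideal.span {s} ≤ Ideal.jacobson (⊥ : Ideal S) := by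
    rw [Ideal.span_le]
    simpa using hs
  exact Submodule.eq_bot_of_le_smul_of_le_jacobson_bot _ _ hfg hle hj

end LemmaT

section Seq
variable {R : Type*} [CommRing R] [IsDomain R] [IsNoetherianRing R] [IsLocalRing R]

/-- In a Noetherian local domain of dimension `≥ 2` there is a sequence of nonzero primes with zero
intersection. -/
theorem exists_seq_primes_iInf_eq_bot (q : Ideal R) [q.IsPrime] (hq0 : q ≠ ⊥)
    (hqm : q ≠ maximalIdeal R) :
    ∃ P : ℕ → Ideal R, (∀ n, (P n).IsPrime) ∧ (∀ n, P n ≠ ⊥) ∧ ⨅ n, P n = ⊥ := by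
  classical
  let PP : Set (Ideal R) := {P | P.IsPrime ∧ P ≠ ⊥ ∧ P.height ≤ 1}
  have hbot : (⊥ : Ideal R).IsPrime := Ideal.isPrime_bot
  have hA : ∀ x : R, x ≠ 0 → x ∈ maximalIdeal R → ∃ P ∈ PP, x ∈ P := by
    intro x hx0 hxm
    have hle : Ideal.span {x} ≤ maximalIdeal R := by
      rw [Ideal.span_le]; simpa using hxm
    obtain ⟨P, hP, -⟩ := Ideal.exists_minimalPrimes_le hle
    have hxP : x ∈ P := hP.1.2 (Ideal.mem_span_singleton_self x)
    refine ⟨P, ⟨hP.1.1, ?_, ?_⟩, hxP⟩
    · rintro rfl
      exact hx0 (by simpa using hxP)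
    · exact Ideal.height_le_one_of_isPrincipal_of_mem_minimalPrimes _ P hP
  have hqlt : q < maximalIdeal R := lt_of_le_of_ne (le_maximalIdeal (Ideal.IsPrime.ne_top ‹_›)) hqm
  have hB : ¬ (maximalIdeal R).height ≤ 1 := by
    have h1 : (⊥ : Ideal R).height < q.height :=
      Ideal.height_strict_mono_of_isPrime (bot_lt_iff_ne_bot.mpr hq0)
    have h2 : q.height < (maximalIdeal R).height := Ideal.height_strict_mono_of_isPrime hqlt
    intro h3
    have h4 : q.height < 1 := lt_of_lt_of_le h2 h3
    have h5 : q.height = 0 := by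
      rcases Order.lt_one_iff.mp h4 with h
      exact h
    rw [h5] at h1
    exact not_lt_bot h1
  have hD : ∀ x : R, x ≠ 0 → {P | P ∈ PP ∧ x ∈ P} ⊆ (Ideal.span {x}).minimalPrimes := by
    rintro x hx0 P ⟨⟨hPp, hP0, hPh⟩, hxP⟩
    have hle : Ideal.span {x} ≤ P := by
      rw [Ideal.span_le]; simpa using hxP
    obtain ⟨P', hP', hP'P⟩ := Ideal.exists_minimalPrimes_le hle
    have hP'p : P'.IsPrime := hP'.1.1
    have hxP' : x ∈ P' := hP'.1.2 (Ideal.mem_span_singleton_self x)
    have hP'0 : P' ≠ ⊥ := by
      rintro rfl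
      exact hx0 (by simpa using hxP')
    rcases eq_or_lt_of_le hP'P with h | h
    · rw [← h]; exact hP'
    · exfalso
      have h1 : (⊥ : Ideal R).height < P'.height :=
        Ideal.height_strict_mono_of_isPrime (bot_lt_iff_ne_bot.mpr hP'0)
      have h2 : P'.height < P.height := Ideal.height_strict_mono_of_isPrime h
      have h4 : P'.height < 1 := lt_of_lt_of_le h2 hPh
      have h5 : P'.height = 0 := Order.lt_one_iff.mp h4
      rw [h5] at h1
      exact not_lt_bot h1
  have hC : PP.Infinite := by
    intro hfin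
    obtain ⟨x0, hx0q, hx00⟩ : ∃ x ∈ q, x ≠ 0 := by
      by_contra hcon
      push Not at hcon
      exact hq0 (eq_bot_iff.mpr fun x hx => by simpa using hcon x hx)
    obtain ⟨P0, hP0, -⟩ := hA x0 hx00 (hqlt.le hx0q)
    have hsub : ((maximalIdeal R : Ideal R) : Set R) ⊆ ⋃ P ∈ hfin.toFinset, ((id P : Ideal R) : Set R) := by
      intro x hx
      by_cases hx0 : x = 0
      · subst hx0
        exact Set.mem_biUnion (hfin.mem_toFinset.mpr hP0) (Ideal.zero_mem _)
      · obtain ⟨P, hP, hxP⟩ := hA x hx0 hx
        exact Set.mem_biUnion (hfin.mem_toFinset.mpr hP) hxP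
    have hprime : ∀ P ∈ hfin.toFinset, (id P : Ideal R).IsPrime := fun P hP =>
      (hfin.mem_toFinset.mp hP).1
    obtain ⟨P, hP, hmP⟩ := (Ideal.subset_union_prime (s := hfin.toFinset) (f := id) P0 P0
      (fun P hP _ _ => hprime P hP)).mp hsub
    have hP' := hfin.mem_toFinset.mp hP
    have : P = maximalIdeal R := le_antisymm (le_maximalIdeal hP'.1.ne_top) hmP
    exact hB (this ▸ hP'.2.2)
  let e := hC.natEmbedding
  refine ⟨fun n => (e n : Ideal R), fun n => (e n).2.1, fun n => (e n).2.2.1, ?_⟩
  rw [eq_bot_iff]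
  intro x hx
  rw [Ideal.mem_iInf] at hx
  by_contra hx0
  have hx0' : x ≠ 0 := by simpa using hx0
  have hfin : {P | P ∈ PP ∧ x ∈ P}.Finite :=
    (Ideal.finite_minimalPrimes_of_isNoetherianRing R _).subset (hD x hx0')
  have hinf : (Set.range fun n => (e n : Ideal R)).Infinite :=
    Set.infinite_range_of_injective (fun a b hab => e.injective (Subtype.ext hab))
  apply hinf
  apply hfin.subset
  rintro _ ⟨n, rfl⟩
  exact ⟨(e n).2, hx n⟩

end Seq

section FinsetInf
variable {A B : Type*} [CommRing A] [CommRing B] [Algebra A B] [Module.Flat A B]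

theorem map_finset_inf_of_flat {ι : Type*} (s : Finset ι) (f : ι → Ideal A) :
    (s.inf f).map (algebraMap A B) = s.inf fun i => (f i).map (algebraMap A B) := by
  classical
  induction s using Finset.induction_on with
  | empty => simp [Ideal.map_top]
  | insert a s ha ih => rw [Finset.inf_insert, Finset.inf_insert, map_inf_of_flat, ih]

end FinsetInf

section LemmaE
variable (D : Type u) [CommRing D] [IsDomain D] [IsPrincipalIdealRing D]
  (T : Type u) [CommRing T] [IsNoetherianRing T] [Algebra D T] [Module.Flat D T]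

theorem isReduced_of_pid (hfin : {n : Ideal D | n.IsMaximal}.Finite)
    (t0 : D) (ht0 : t0 ≠ 0) (ht0j : t0 ∈ Ideal.jacobson (⊥ : Ideal D))
    (h1 : ∀ n : Ideal D, n.IsMaximal → (n.map (algebraMap D T)).IsRadical)
    (h2 : ∀ M : Ideal T, M.IsMaximal → algebraMap D T t0 ∈ M) : IsReduced T := by
  classical
  -- the Jacobson radical of `D` as a finite intersection
  have hjac : Ideal.jacobson (⊥ : Ideal D) = hfin.toFinset.inf id := by
    apply le_antisymm
    · refine Finset.le_inf fun n hn => ?_
      have hn' : n.IsMaximal := hfin.mem_toFinset.mp hn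
      exact sInf_le ⟨bot_le, hn'⟩
    · refine le_sInf fun n hn => ?_
      exact Finset.inf_le (f := id) (hfin.mem_toFinset.mpr hn.2)
  obtain ⟨s, hs⟩ := (IsPrincipalIdealRing.principal (Ideal.jacobson (⊥ : Ideal D))).principal
  have hs' : Ideal.jacobson (⊥ : Ideal D) = Ideal.span {s} := hs
  have hs0 : s ≠ 0 := by
    rintro rfl
    rw [hs'] at ht0j
    exact ht0 (by simpa using ht0j)
  have hsj : s ∈ Ideal.jacobson (⊥ : Ideal D) := by
    rw [hs']; exact Ideal.mem_span_singleton_self s
  -- radical
  have hrad : (Ideal.span {algebraMap D T s}).IsRadical := by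
    have : Ideal.span {algebraMap D T s} = (Ideal.jacobson (⊥ : Ideal D)).map (algebraMap D T) := by
      rw [hs', Ideal.map_span, Set.image_singleton]
    rw [this, hjac, map_finset_inf_of_flat]
    have : ∀ (u : Finset (Ideal D)), (∀ n ∈ u, n.IsMaximal) →
        (u.inf fun i => (id i).map (algebraMap D T)).IsRadical := by
      intro u
      induction u using Finset.induction_on with
      | empty =>
        intro _
        rw [Finset.inf_empty]
        exact Ideal.radical_top T ▸ Ideal.radical_isRadical _
      | insert a u ha ih =>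
        intro hu
        rw [Finset.inf_insert]
        exact (h1 a (hu a (Finset.mem_insert_self a u))).inf
          (ih fun n hn => hu n (Finset.mem_insert_of_mem hn))
    exact this _ fun n hn => hfin.mem_toFinset.mp hn
  -- regular
  have hreg : IsSMulRegular T (algebraMap D T s) := by
    have h := Module.Flat.isSMulRegular_of_nonZeroDivisors (M := T)
      (mem_nonZeroDivisors_of_ne_zero hs0)
    intro x y hxy
    apply h
    simpa [Algebra.smul_def] using hxy
  -- in the radical
  have hjacT : algebraMap D T s ∈ Ideal.jacobson (⊥ : Ideal T) := by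
    rw [Ideal.jacobson, Ideal.mem_sInf]
    rintro M ⟨-, hM⟩
    have hMp : M.IsPrime := hM.isPrime
    have hc : (M.comap (algebraMap D T)).IsPrime := Ideal.comap_isPrime _ _
    have hc0 : M.comap (algebraMap D T) ≠ ⊥ := by
      intro h
      have : t0 ∈ M.comap (algebraMap D T) := h2 M hM
      rw [h] at this
      exact ht0 (by simpa using this)
    have hcm : (M.comap (algebraMap D T)).IsMaximal := IsPrime.to_maximal_ideal hc0
    have : s ∈ M.comap (algebraMap D T) := by
      have := hsj
      rw [Ideal.jacobson, Ideal.mem_sInf] at this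
      exact this ⟨bot_le, hcm⟩
    exact this
  exact isReduced_of_isRadical_span_singleton _ hjacT hreg hrad

end LemmaE

end Groth.Agent.Lib.Helper73.RedFibre
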