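import Groth.Agent.Lib.Helper73.RedFibre1
import Groth.Agent.Lib.Helper62.ChevalleySymbolic

/-!
# Reducedness along flat maps, part 2 (helper73): the case of a complete local domain

`isReduced_of_domain`: `R` a complete Noetherian local domain, `S` a Noetherian flat `R`-algebra with
`𝔪 S ⊆ rad S`, such that `k' ⊗ S` is reduced for every field `k'` finite over `R`, and such that
`J S` is radical for every nonzero radical ideal `J` of `R`. Then `S` is reduced.
Cases: `R` a field; `dim R = 1` (`finite_integralClosure` via Chevalley's lemma, then the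
normalization is a semi-local PID); `dim R ≥ 2` (Chevalley's lemma for a sequence of primes with
zero intersection).
-/
set_option autoImplicit false
set_option linter.style.haveILetI false
set_option linter.unusedSectionVars false
set_option maxSynthPendingDepth 3
universe u
namespace Groth.Agent.Lib.Helper73.RedFibre
open IsLocalRing nonZeroDivisors TensorProduct

/-- partial intersections of a sequence of ideals -/
def infSeq {R : Type*} [CommRing R] (P : ℕ → Ideal R) : ℕ → Ideal R
  | 0 => ⊤
  | n + 1 => infSeq P n ⊓ P n

section DimTwo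
variable (R : Type u) [CommRing R] [IsDomain R] [IsNoetherianRing R] [IsLocalRing R]
  [IsAdicComplete (maximalIdeal R) R]
  (S : Type u) [CommRing S] [IsNoetherianRing S] [Algebra R S]

theorem isReduced_of_dim_ge_two
    (hrad : (maximalIdeal R).map (algebraMap R S) ≤ Ideal.jacobson ⊥)
    (IH : ∀ J : Ideal R, J ≠ ⊥ → J.IsRadical → (J.map (algebraMap R S)).IsRadical)
    (q : Ideal R) [q.IsPrime] (hq0 : q ≠ ⊥) (hqm : q ≠ maximalIdeal R) : IsReduced S := by
  obtain ⟨P, hPp, hP0, hPinf⟩ := exists_seq_primes_iInf_eq_bot q hq0 hqm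
  let I : ℕ → Ideal R := infSeq P
  have hI0 : I 0 = ⊤ := rfl
  have hIs : ∀ n, I (n + 1) = I n ⊓ P n := fun n => rfl
  have hanti : Antitone I := antitone_nat_of_succ_le fun n => by rw [hIs]; exact inf_le_left
  have hIbot : ⨅ n, I n = ⊥ := by
    rw [eq_bot_iff, ← hPinf]
    refine le_iInf fun n => ?_
    refine (iInf_le I (n + 1)).trans ?_
    rw [hIs]; exact inf_le_right
  have hIne : ∀ n, I n ≠ ⊥ := by
    intro n
    induction n with
    | zero => rw [hI0]; exact top_ne_bot
    | succ n ih =>
      rw [hIs]
      intro h
      have h1 : I n * P n ≤ ⊥ := by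
        have h0 : I n * P n ≤ I n ⊓ P n := Ideal.mul_le_inf
        rwa [h] at h0
      rw [le_bot_iff, Ideal.mul_eq_bot] at h1
      rcases h1 with h1 | h1
      · exact ih h1
      · exact hP0 n h1
  have hIrad : ∀ n, (I n).IsRadical := by
    intro n
    induction n with
    | zero => rw [hI0]; exact Ideal.radical_top R ▸ Ideal.radical_isRadical _
    | succ n ih =>
      rw [hIs]
      exact ih.inf (hPp n).isRadical
  rw [← nilradical_eq_bot_iff, eq_bot_iff]
  intro x hx
  have hxn : IsNilpotent x := mem_nilradical.mp hx
  have key : ∀ N : ℕ, x ∈ ((maximalIdeal R).map (algebraMap R S)) ^ N := by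
    intro N
    obtain ⟨n, hn⟩ := Groth.Agent.Lib.Helper62.ChevalleySymbolic.chevalley_general I hanti hIbot N
    have h1 : x ∈ (I n).map (algebraMap R S) := by
      obtain ⟨k, hk⟩ := hxn
      exact IH (I n) (hIne n) (hIrad n) ⟨k, by rw [hk]; exact Ideal.zero_mem _⟩
    rw [← Ideal.map_pow]
    exact Ideal.map_mono hn h1
  have h2 := Ideal.iInf_pow_smul_eq_bot_of_le_jacobson (M := S) _ hrad
  have h3 : x ∈ (⨅ i : ℕ, ((maximalIdeal R).map (algebraMap R S)) ^ i • ⊤ : Submodule S S) := by
    rw [Submodule.mem_iInf]
    intro N
    rw [smul_eq_mul, Ideal.mul_top]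
    exact key N
  rw [h2] at h3
  exact h3

end DimTwo

section DimOne
variable (R : Type u) [CommRing R] [IsDomain R] [IsNoetherianRing R] [IsLocalRing R]

variable {R} in
theorem exists_pow_mem_span (h1 : ∀ q : Ideal R, q.IsPrime → q ≠ ⊥ → q = maximalIdeal R)
    (a : R) (ha : a ≠ 0) (t : R) (ht : t ∈ maximalIdeal R) : ∃ l : ℕ, t ^ l ∈ Ideal.span {a} := by
  have : t ∈ (Ideal.span {a}).radical := by
    rw [Ideal.radical_eq_sInf, Ideal.mem_sInf]
    rintro J ⟨hJ1, hJ2⟩
    have : J ≠ ⊥ := by
      rintro rfl
      exact ha (by simpa using hJ1 (Ideal.mem_span_singleton_self a))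
    rw [h1 J hJ2 this]; exact ht
  exact this

theorem finite_integralClosure [IsAdicComplete (maximalIdeal R) R]
    (h1 : ∀ q : Ideal R, q.IsPrime → q ≠ ⊥ → q = maximalIdeal R)
    (hm : maximalIdeal R ≠ ⊥) : Module.Finite R (integralClosure R (FractionRing R)) := by
  classical
  obtain ⟨t, htm, ht0⟩ : ∃ t ∈ maximalIdeal R, t ≠ 0 := by
    by_contra hcon
    push Not at hcon
    exact hm (eq_bot_iff.mpr fun x hx => by simpa using hcon x hx)
  set K := FractionRing R with hK
  set R' := integralClosure R K with hR'
  have hinjK : Function.Injective (algebraMap R K) := IsFractionRing.injective R K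
  have hinj : Function.Injective (algebraMap R R') := by
    intro a b hab
    apply hinjK
    exact congrArg (Subtype.val) hab
  set t' : R' := algebraMap R R' t with ht'
  have ht'0 : t' ≠ 0 := by
    intro h
    exact ht0 (hinj (by rw [← ht', h, map_zero]))
  let I : ℕ → Ideal R := fun n => (Ideal.span {t' ^ n}).comap (algebraMap R R')
  have hanti : Antitone I := by
    intro a b hab
    apply Ideal.comap_mono
    rw [Ideal.span_singleton_le_span_singleton]
    exact pow_dvd_pow t' hab
  -- `t'` is not a unit
  have hnu : ¬ IsUnit t' := by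
    intro hu
    have hker : RingHom.ker (algebraMap R R') ≤ maximalIdeal R := by
      rw [(RingHom.injective_iff_ker_eq_bot _).mp hinj]; exact bot_le
    obtain ⟨Q, hQ, hQc⟩ := Ideal.exists_ideal_over_maximal_of_isIntegral (S := R')
      (maximalIdeal R) hker
    have : t' ∈ Q := by
      have : t ∈ Q.comap (algebraMap R R') := by rw [hQc]; exact htm
      exact this
    exact hQ.ne_top (Ideal.eq_top_of_isUnit_mem _ this hu)
  have hIbot : ⨅ n, I n = ⊥ := by
    rw [eq_bot_iff]
    intro x hx
    rw [Ideal.mem_iInf] at hx
    by_contra hx0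
    have hx0' : x ≠ 0 := by simpa using hx0
    obtain ⟨l, hl⟩ := exists_pow_mem_span h1 x hx0' t htm
    obtain ⟨c, hc⟩ := Ideal.mem_span_singleton'.mp hl
    have h2 : algebraMap R R' x ∈ Ideal.span {t' ^ (l + 1)} := hx (l + 1)
    obtain ⟨z, hz⟩ := Ideal.mem_span_singleton'.mp h2
    have h3 : t' ^ l * 1 = t' ^ l * (algebraMap R R' c * z * t') := by
      have : t' ^ l = algebraMap R R' c * algebraMap R R' x := by
        rw [← map_mul, hc, map_pow]
      rw [mul_one]
      conv_lhs => rw [this, ← hz]
      ring
    have h4 := mul_left_cancel₀ (pow_ne_zero l ht'0) h3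
    exact hnu (.of_mul_eq_one _ (by rw [mul_comm]; exact h4.symm))
  -- `m^N ≤ (t)`
  have hmrad : maximalIdeal R ≤ (Ideal.span {t}).radical := by
    intro x hx
    exact exists_pow_mem_span h1 t ht0 x hx
  obtain ⟨N, hN⟩ := Ideal.exists_pow_le_of_le_radical_of_fg hmrad (IsNoetherian.noetherian _)
  obtain ⟨n, hn⟩ := Groth.Agent.Lib.Helper62.ChevalleySymbolic.chevalley_general I hanti hIbot N
  have hIn : I n ≤ Ideal.span {t} := hn.trans hN
  set tK : K := algebraMap R K t with htK
  have htK0 : tK ≠ 0 := by
    intro h
    exact ht0 (hinjK (by rw [← htK, h, map_zero]))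
  -- key: `t^n y ∈ R` for integral `y`
  have key : ∀ y : K, IsIntegral R y → ∃ a : R, algebraMap R K a = tK ^ n * y := by
    intro y hy
    have hex : ∃ l : ℕ, ∃ a : R, algebraMap R K a = tK ^ l * y := by
      obtain ⟨a0, b0, hb0, rfl⟩ := IsFractionRing.div_surjective (A := R) y
      have hb00 : b0 ≠ 0 := nonZeroDivisors.ne_zero hb0
      obtain ⟨l, hl⟩ := exists_pow_mem_span h1 b0 hb00 t htm
      obtain ⟨c, hc⟩ := Ideal.mem_span_singleton'.mp hl
      refine ⟨l, c * a0, ?_⟩
      have hb0K : algebraMap R K b0 ≠ 0 := by
        intro h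
        exact hb00 (hinjK (by rw [h, map_zero]))
      rw [htK, ← map_pow, ← hc, map_mul, map_mul]
      rw [mul_assoc, ← mul_div_assoc, mul_div_cancel_left₀ _ hb0K]
    have hmin : ∀ m : ℕ, m < Nat.find hex → ¬ ∃ a : R, algebraMap R K a = tK ^ m * y :=
      fun m hm => Nat.find_min hex hm
    obtain ⟨a, ha⟩ := Nat.find_spec hex
    set l := Nat.find hex with hl
    by_cases hln : l ≤ n
    · refine ⟨t ^ (n - l) * a, ?_⟩
      rw [map_mul, ha, map_pow, ← htK, ← mul_assoc, ← pow_add, Nat.sub_add_cancel hln]
    · exfalso
      push Not at hln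
      have hl1 : 1 ≤ l := by omega
      have haI : a ∈ I l := by
        change algebraMap R R' a ∈ Ideal.span {t' ^ l}
        rw [Ideal.mem_span_singleton']
        refine ⟨⟨y, hy⟩, ?_⟩
        apply Subtype.ext
        change y * ((t' ^ l : R') : K) = algebraMap R K a
        rw [ha, mul_comm]
        congr 1
      have haI' : a ∈ Ideal.span {t} := hIn (hanti hln.le haI)
      obtain ⟨c, hc⟩ := Ideal.mem_span_singleton'.mp haI'
      apply hmin (l - 1) (by omega)
      refine ⟨c, ?_⟩
      have h5 : algebraMap R K c * tK = tK ^ (l - 1) * y * tK := by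
        rw [htK, ← map_mul, hc, ha]
        have : l = (l - 1) + 1 := by omega
        conv_lhs => rw [this, pow_succ]
        ring
      exact mul_right_cancel₀ htK0 h5
  -- `R' ⊆ (1/t^n) R`
  have hle : Subalgebra.toSubmodule R' ≤ Submodule.span R {(tK ^ n)⁻¹} := by
    intro y hy
    obtain ⟨a, ha⟩ := key y hy
    rw [Submodule.mem_span_singleton]
    refine ⟨a, ?_⟩
    rw [Algebra.smul_def, ha]
    rw [mul_comm (tK ^ n) y, mul_assoc, mul_inv_cancel₀ (pow_ne_zero n htK0), mul_one]
  have hfg : (Subalgebra.toSubmodule R').FG :=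
    Submodule.FG.of_le (Submodule.fg_span_singleton _) hle
  exact Module.Finite.iff_fg.mpr hfg

end DimOne

section DimOneCase
variable (R : Type u) [CommRing R] [IsDomain R] [IsNoetherianRing R] [IsLocalRing R]
  [IsAdicComplete (maximalIdeal R) R]
  (S : Type u) [CommRing S] [IsNoetherianRing S] [Algebra R S] [Module.Flat R S]

theorem isReduced_of_dim_one
    (hrad : (maximalIdeal R).map (algebraMap R S) ≤ Ideal.jacobson ⊥)
    (H : ∀ (k' : Type u) [Field k'] [Algebra R k'] [Module.Finite R k'], IsReduced (k' ⊗[R] S))
    (h1 : ∀ q : Ideal R, q.IsPrime → q ≠ ⊥ → q = maximalIdeal R)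
    (hm : maximalIdeal R ≠ ⊥) : IsReduced S := by
  classical
  obtain ⟨t, htm, ht0⟩ : ∃ t ∈ maximalIdeal R, t ≠ 0 := by
    by_contra hcon
    push Not at hcon
    exact hm (eq_bot_iff.mpr fun x hx => by simpa using hcon x hx)
  haveI hfin : Module.Finite R (integralClosure R (FractionRing R)) :=
    finite_integralClosure R h1 hm
  haveI : IsNoetherianRing (integralClosure R (FractionRing R)) := IsNoetherianRing.of_finite R _
  haveI : Ring.DimensionLEOne R := ⟨fun {p} hp0 hpp => by
    rw [h1 p hpp hp0]; infer_instance⟩
  haveI : Ring.DimensionLEOne (integralClosure R (FractionRing R)) :=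
    Ring.DimensionLEOne.integralClosure R (FractionRing R)
  haveI : IsIntegrallyClosed (integralClosure R (FractionRing R)) :=
    integralClosure.isIntegrallyClosedOfFiniteExtension (FractionRing R)
  haveI : IsDedekindRing (integralClosure R (FractionRing R)) := {}
  haveI : IsDedekindDomain (integralClosure R (FractionRing R)) := {}
  have hinj : Function.Injective (algebraMap R (integralClosure R (FractionRing R))) := by
    intro a b hab
    apply IsFractionRing.injective R (FractionRing R)
    exact congrArg (Subtype.val) hab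
  -- maximal ideals lie over `m`
  have hover : ∀ Q : Ideal (integralClosure R (FractionRing R)), Q.IsMaximal →
      Q.comap (algebraMap R (integralClosure R (FractionRing R))) = maximalIdeal R := by
    intro Q hQ
    haveI := Ideal.isMaximal_comap_of_isIntegral_of_isMaximal (R := R) Q
    exact IsLocalRing.eq_maximalIdeal inferInstance
  have hmaxfin : {Q : Ideal (integralClosure R (FractionRing R)) | Q.IsMaximal}.Finite := by
    apply (Algebra.QuasiFinite.finite_primesOver (S := integralClosure R (FractionRing R))
      (maximalIdeal R)).subset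
    intro Q hQ
    exact ⟨hQ.isPrime, ⟨(hover Q hQ).symm⟩⟩
  haveI : IsPrincipalIdealRing (integralClosure R (FractionRing R)) :=
    IsPrincipalIdealRing.of_finite_maximals hmaxfin
  -- Noetherian
  haveI : IsNoetherianRing (S ⊗[R] integralClosure R (FractionRing R)) :=
    IsNoetherianRing.of_finite S _
  haveI : IsNoetherianRing (integralClosure R (FractionRing R) ⊗[R] S) :=
    isNoetherianRing_of_ringEquiv (S ⊗[R] integralClosure R (FractionRing R))
      (Algebra.TensorProduct.comm R S (integralClosure R (FractionRing R))).toRingEquiv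
  have hT : IsReduced (integralClosure R (FractionRing R) ⊗[R] S) := by
    refine isReduced_of_pid (integralClosure R (FractionRing R))
      (integralClosure R (FractionRing R) ⊗[R] S) hmaxfin
      (algebraMap R (integralClosure R (FractionRing R)) t) ?_ ?_ ?_ ?_
    · intro h
      exact ht0 (hinj (by rw [h, map_zero]))
    · rw [Ideal.jacobson, Ideal.mem_sInf]
      rintro Q ⟨-, hQ⟩
      have : t ∈ Q.comap (algebraMap R (integralClosure R (FractionRing R))) := by
        rw [hover Q hQ]; exact htm
      exact this
    · intro n hn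
      rw [Ideal.isRadical_iff_quotient_reduced]
      letI : Field (integralClosure R (FractionRing R) ⧸ n) := Ideal.Quotient.field n
      have hred : IsReduced ((integralClosure R (FractionRing R) ⧸ n) ⊗[R] S) :=
        H (integralClosure R (FractionRing R) ⧸ n)
      let e1 := Algebra.TensorProduct.quotIdealMapEquivQuotTensor
        (integralClosure R (FractionRing R) ⊗[R] S) n
      let e2 := Algebra.TensorProduct.cancelBaseChange R (integralClosure R (FractionRing R))
        (integralClosure R (FractionRing R) ⧸ n) (integralClosure R (FractionRing R) ⧸ n) S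
      exact isReduced_of_injective (e1.trans e2).toRingEquiv (e1.trans e2).injective
    · intro M hM
      -- contraction to `S`
      let c := (Algebra.TensorProduct.comm R S (integralClosure R (FractionRing R))).toRingEquiv
      have hM' : (M.comap (c : S ⊗[R] integralClosure R (FractionRing R) →+*
          integralClosure R (FractionRing R) ⊗[R] S)).IsMaximal :=
        Ideal.comap_isMaximal_of_equiv c
      haveI := hM'
      have hM'' : ((M.comap (c : S ⊗[R] integralClosure R (FractionRing R) →+*
          integralClosure R (FractionRing R) ⊗[R] S)).comap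
          (algebraMap S (S ⊗[R] integralClosure R (FractionRing R)))).IsMaximal :=
        Ideal.isMaximal_comap_of_isIntegral_of_isMaximal (R := S) _
      have h3 : algebraMap R S t ∈ ((M.comap (c : S ⊗[R] integralClosure R (FractionRing R) →+*
          integralClosure R (FractionRing R) ⊗[R] S)).comap
          (algebraMap S (S ⊗[R] integralClosure R (FractionRing R)))) := by
        have h4 : algebraMap R S t ∈ Ideal.jacobson (⊥ : Ideal S) :=
          hrad (Ideal.mem_map_of_mem _ htm)
        rw [Ideal.jacobson, Ideal.mem_sInf] at h4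
        exact h4 ⟨bot_le, hM''⟩
      rw [Ideal.mem_comap, Ideal.mem_comap] at h3
      convert h3 using 1
      rw [← IsScalarTower.algebraMap_apply, ← IsScalarTower.algebraMap_apply]
      simp [c]
      rw [Algebra.algebraMap_eq_smul_one, Algebra.algebraMap_eq_smul_one (R := R) (A := S),
        TensorProduct.smul_tmul]
  exact isReduced_of_injective
    (Algebra.TensorProduct.includeRight :
      S →ₐ[R] integralClosure R (FractionRing R) ⊗[R] S)
    (Algebra.TensorProduct.includeRight_injective hinj)

end DimOneCase

section DomainCase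
variable (R : Type u) [CommRing R] [IsDomain R] [IsNoetherianRing R] [IsLocalRing R]
  [IsAdicComplete (maximalIdeal R) R]
  (S : Type u) [CommRing S] [IsNoetherianRing S] [Algebra R S] [Module.Flat R S]

theorem isReduced_of_domain
    (hrad : (maximalIdeal R).map (algebraMap R S) ≤ Ideal.jacobson ⊥)
    (H : ∀ (k' : Type u) [Field k'] [Algebra R k'] [Module.Finite R k'], IsReduced (k' ⊗[R] S))
    (IH : ∀ J : Ideal R, J ≠ ⊥ → J.IsRadical → (J.map (algebraMap R S)).IsRadical) :
    IsReduced S := by
  by_cases hm : maximalIdeal R = ⊥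
  · have hF : IsField R := IsLocalRing.isField_iff_maximalIdeal_eq.mpr hm
    letI := hF.toField
    have h := H R
    exact isReduced_of_injective (Algebra.TensorProduct.lid R S).symm.toRingEquiv
      (Algebra.TensorProduct.lid R S).symm.injective
  · by_cases h1 : ∀ q : Ideal R, q.IsPrime → q ≠ ⊥ → q = maximalIdeal R
    · exact isReduced_of_dim_one R S hrad H h1 hm
    · push Not at h1
      obtain ⟨q, hq, hq0, hqm⟩ := h1
      exact isReduced_of_dim_ge_two R S hrad IH q hq0 hqm

end DomainCase

end Groth.Agent.Lib.Helper73.RedFibre
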