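import Mathlib
import Groth.Agent.S0563
import Groth.Agent.S5809
import Groth.Agent.Lib.Helper73.Serre

universe u

set_option maxSynthPendingDepth 3

open CategoryTheory IsLocalRing RingTheory.Sequence Limits

namespace Groth.Agent.Lib.Helper73.RegularPd

/-- the residue field of a regular local ring of dimension `d` has projective dimension `d`. -/
theorem projectiveDimension_residueField (R : Type u) [CommRing R] [IsRegularLocalRing R] (d : ℕ)
    (hd : ringKrullDim R = d) :
    projectiveDimension (ModuleCat.of R (IsLocalRing.ResidueField R)) = d := by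
  have hspan : (maximalIdeal R).spanFinrank = d := by
    have := IsRegularLocalRing.spanFinrank_maximalIdeal (R := R)
    rw [hd] at this
    exact_mod_cast this
  obtain ⟨x, hx⟩ := Groth.Agent.Lib.Helper85.exists_fin_span_range_eq (maximalIdeal R)
    (IsNoetherian.noetherian _) hspan
  have reg : IsRegular R (List.ofFn x) :=
    Groth.Agent.Lib.Helper85.isRegular_ofFn_of_span_eq_maximalIdeal d hd x hx
  have hpd := ModuleCat.projectiveDimension_quotient_eq_length.{u} (List.ofFn x) reg
  have hlist : Ideal.ofList (List.ofFn x) = maximalIdeal R := by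
    rw [← hx]
    have hset : {r | r ∈ List.ofFn x} = Set.range x := by
      ext r
      simp only [Set.mem_ofPred_eq, Set.mem_range]
      exact List.mem_ofFn' x r
    change Ideal.span {r | r ∈ List.ofFn x} = _
    rw [hset]
  rw [List.length_ofFn] at hpd
  let e : Shrink.{u} (R ⧸ Ideal.ofList (List.ofFn x)) ≃ₗ[R] IsLocalRing.ResidueField R :=
    (Shrink.linearEquiv R _).trans (Submodule.quotEquivOfEq _ _ hlist)
  rw [← hpd]
  exact (projectiveDimension_eq_of_iso e.toModuleIso).symm

/-- **depth zero modules over a local ring have maximal projective dimension**: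
if `m ∈ Ass N` and `pd k = d` exactly then `pd N ≥ d`. -/
theorem le_of_mem_associatedPrimes (R : Type u) [CommRing R] [IsLocalRing R] [IsNoetherianRing R]
    (d : ℕ) (hk : HasProjectiveDimensionLT (ModuleCat.of R (ResidueField R)) (d + 1))
    (hk' : ¬ HasProjectiveDimensionLT (ModuleCat.of R (ResidueField R)) d)
    (N : Type u) [AddCommGroup N] [Module R N] [Module.Finite R N]
    (hass : maximalIdeal R ∈ associatedPrimes R N) (n : ℕ)
    (hN : HasProjectiveDimensionLT (ModuleCat.of R N) (n + 1)) : d ≤ n := by
  by_contra hlt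
  push Not at hlt
  obtain ⟨d, rfl⟩ : ∃ d', d = d' + 1 := ⟨d - 1, by omega⟩
  have hN' : HasProjectiveDimensionLT (ModuleCat.of R N) (d + 1) :=
    hasProjectiveDimensionLT_of_ge _ (n + 1) (d + 1) (by omega)
  have htorN := (Groth.Agent.S5809.result R N d).1 hN' (d + 1) (by omega)
  rw [AssociatedPrimes.mem_iff, isAssociatedPrime_iff] at hass
  obtain ⟨-, a, ha⟩ := hass
  -- the embedding `k → N`
  let j : ResidueField R →ₗ[R] N :=
    Submodule.liftQ (maximalIdeal R) (LinearMap.toSpanSingleton R N a) (by
      intro r hr
      rw [ha, Submodule.mem_colon_singleton] at hr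
      simpa using hr)
  have hj : Function.Injective j := by
    rw [← LinearMap.ker_eq_bot]
    apply Submodule.ker_liftQ_eq_bot
    intro r hr
    rw [ha, Submodule.mem_colon_singleton]
    simpa using hr
  have hS := PdQuotient.shortExact_of_linear (A := R) (N₁ := ResidueField R) (N₂ := N)
    (N₃ := N ⧸ LinearMap.range j) j (LinearMap.range j).mkQ
    hj (Submodule.mkQ_surjective _) (LinearMap.exact_map_mkQ_range _)
  obtain ⟨-, δ, w₁, w₂, -, hex⟩ := leftDerived_les
    (Groth.Agent.S5809.TF (ModuleCat.of R (ResidueField R))) hS (d + 1)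
  have hz3 : IsZero (((Groth.Agent.S5809.TF (ModuleCat.of R (ResidueField R))).leftDerived
      (d + 1 + 1)).obj (ModuleCat.of R (N ⧸ LinearMap.range j))) :=
    Groth.Agent.S5805.tor_vanish_of_pd (d + 1) _ hk _ (d + 2) (by omega)
  have hz1 : IsZero (((Groth.Agent.S5809.TF (ModuleCat.of R (ResidueField R))).leftDerived
      (d + 1)).obj (ModuleCat.of R (ResidueField R))) :=
    hex.isZero_of_both_isZero hz3 htorN
  exact hk' (Groth.Agent.S5809.suff d (ResidueField R) hz1)

end Groth.Agent.Lib.Helper73.RegularPd
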