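import Groth.Agent.Lib.Helper24.GorenFibreBaseChange
import Groth.Agent.Lib.Helper24.GorenAt
import Groth.Agent.Lib.Helper24.CMEtaleField
import Groth.Agent.Lib.Helper24.FibreStalkQuot

/-!
# Fibres of a morphism locally of finite type over a locally Noetherian base (helper73)
-/

set_option autoImplicit false
universe u
open CategoryTheory AlgebraicGeometry

namespace Groth.Agent.Lib.Helper73.SpecialFibreGoren

set_option backward.isDefEq.respectTransparency.types false in
/-- The fibres of a morphism locally of finite type are locally Noetherian schemes. -/
theorem isLocallyNoetherian_fiber {X Y : Scheme.{u}} (p : X ⟶ Y) [LocallyOfFiniteType p] (y : Y) :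
    IsLocallyNoetherian (p.fiber y) := by
  have : LocallyOfFiniteType (p.fiberToSpecResidueField y) :=
    MorphismProperty.pullback_snd _ _ inferInstance
  exact LocallyOfFiniteType.isLocallyNoetherian (p.fiberToSpecResidueField y)

end Groth.Agent.Lib.Helper73.SpecialFibreGoren
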