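import Groth.Agent.Lib.Helper73.SpecialFibreGoren

/-!
# Fibres over a closed point with the same residue field (helper73)
-/

set_option autoImplicit false
universe u
open CategoryTheory AlgebraicGeometry Limits

namespace Groth.Agent.Lib.Helper73.SpecialFibreGoren

set_option linter.style.haveILetI false

/-- For a field `K`, the canonical morphism `Spec κ(y) ⟶ Spec K` is an isomorphism. -/
theorem isIso_fromSpecResidueField_of_field (K : Type u) [Field K]
    (y : ↥(Spec (CommRingCat.of K))) :
    IsIso ((Spec (CommRingCat.of K)).fromSpecResidueField y) := by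
  rw [← Scheme.Spec.map_residueFieldIso_inv_eq_fromSpecResidueField]
  have hp : y.asIdeal.IsPrime := PrimeSpectrum.isPrime y
  have hmax : y.asIdeal.IsMaximal := by
    have : y.asIdeal = ⊥ := Ideal.eq_bot_of_prime y.asIdeal
    rw [this]; exact Ideal.bot_isMaximal
  have hbij : Function.Bijective (algebraMap K y.asIdeal.ResidueField) :=
    ⟨(algebraMap K y.asIdeal.ResidueField).injective, y.asIdeal.algebraMap_residueField_surjective⟩
  have : IsIso (CommRingCat.ofHom (algebraMap K y.asIdeal.ResidueField)) :=
    (ConcreteCategory.isIso_iff_bijective _).mpr hbij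
  infer_instance

end Groth.Agent.Lib.Helper73.SpecialFibreGoren

namespace Groth.Agent.Lib.Helper73.SpecialFibreGoren

set_option linter.style.haveILetI false

/-- A closed immersion induces isomorphisms on residue fields. -/
theorem isIso_residueFieldMap_of_isClosedImmersion {Y' Y : Scheme.{u}} (g : Y' ⟶ Y)
    [IsClosedImmersion g] (y' : Y') : IsIso (g.residueFieldMap y') := by
  refine (ConcreteCategory.isIso_iff_bijective _).mpr ⟨(g.residueFieldMap y').hom.injective, ?_⟩
  intro b
  obtain ⟨b', rfl⟩ := IsLocalRing.residue_surjective b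
  obtain ⟨a, rfl⟩ := g.stalkMap_surjective y' b'
  refine ⟨Y.residue (g y') a, ?_⟩
  have := congr($(Scheme.residue_residueFieldMap g y') a)
  exact this

/-- If the base change map induces an isomorphism on residue fields at `y'`, the fibre of `f'` over
`y'` is isomorphic to the fibre of `f` over `g y'`. -/
theorem isLocallyNoetherian_fiber_of_isPullback {X Y X' Y' : Scheme.{u}} {f : X ⟶ Y}
    {f' : X' ⟶ Y'} {g' : X' ⟶ X} {g : Y' ⟶ Y} (hc : IsPullback g' f' f g) (y' : Y')
    [IsIso (g.residueFieldMap y')] [IsLocallyNoetherian (f'.fiber y')] :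
    IsLocallyNoetherian (f.fiber (g y')) := by
  have hpb := isPullback_fiberToSpecResidueField_of_isPullback hc y'
  have : IsIso (Spec.map (g.residueFieldMap y')) := inferInstance
  generalize pullback.map f' (Y'.fromSpecResidueField y') f (Y.fromSpecResidueField (g y')) g'
      (Spec.map (Scheme.Hom.residueFieldMap g y')) g _ _ = a at hpb
  have hiso : IsIso a := hpb.isIso_fst_of_isIso
  have : IsLocallyNoetherian (pullback f' (Y'.fromSpecResidueField y')) :=
    inferInstanceAs (IsLocallyNoetherian (f'.fiber y'))
  change IsLocallyNoetherian (pullback f (Y.fromSpecResidueField (g y')))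
  exact isLocallyNoetherian_of_isOpenImmersion (inv a)

end Groth.Agent.Lib.Helper73.SpecialFibreGoren

namespace Groth.Agent.Lib.Helper73.SpecialFibreGoren

set_option linter.style.haveILetI false

/-- The fibres of a morphism from a locally Noetherian scheme to the spectrum of a field are locally
Noetherian. -/
theorem isLocallyNoetherian_fiber_over_field {X : Scheme.{u}} (K : Type u) [Field K]
    (q : X ⟶ Spec (CommRingCat.of K)) [IsLocallyNoetherian X]
    (y : ↥(Spec (CommRingCat.of K))) : IsLocallyNoetherian (q.fiber y) := by
  have := isIso_fromSpecResidueField_of_field K y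
  change IsLocallyNoetherian (pullback q ((Spec (CommRingCat.of K)).fromSpecResidueField y))
  exact isLocallyNoetherian_of_isOpenImmersion
    (pullback.fst q ((Spec (CommRingCat.of K)).fromSpecResidueField y))

/-- The local rings of a scheme over a field are the local rings of its fibre. -/
theorem isGorensteinLocalRing_fibre_stalk_over_field_iff {X : Scheme.{u}} (K : Type u) [Field K]
    (q : X ⟶ Spec (CommRingCat.of K)) (x : X) :
    LocCoh.IsGorensteinLocalRing ((q.fiber (q x)).presheaf.stalk (q.asFiber x)) ↔
      LocCoh.IsGorensteinLocalRing (X.presheaf.stalk x) := by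
  obtain ⟨e⟩ := Groth.Agent.Lib.Helper24.nonempty_fibre_stalk_ringEquiv_quotient q x
  have hm := Groth.Agent.Lib.Helper24.maximalIdeal_stalk_Spec_field_eq_bot (q x)
  let e' : (↑(X.presheaf.stalk x) ⧸
      (IsLocalRing.maximalIdeal ↑((Spec (CommRingCat.of K)).presheaf.stalk
        (q x))).map (q.stalkMap x).hom) ≃+* ↑(X.presheaf.stalk x) :=
    (Ideal.quotEquivOfEq (by rw [hm, Ideal.map_bot])).trans (RingEquiv.quotientBot _)
  exact Groth.Agent.Lib.Helper24.isGorensteinLocalRing_iff_of_ringEquiv (e.trans e')

end Groth.Agent.Lib.Helper73.SpecialFibreGoren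

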