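import Mathlib
import Groth.Agent.H46.ExtPowBaseChange

/-!
# Base change criteria via localization, and exterior powers under base change (helper73)

* `isBaseChange_of_forall_maximal`, `bijective_map_liftBaseChange`: a map `M → N` over `A → B` is a
  base change if at every maximal ideal `q` of `B`, `B_q` is a localization of `A` and `N_q` is the
  corresponding localization of `M`.
* `extPowEquiv`: for base change maps `M → N`, `⋀^n_A M → K` along `A → B`, the identification
  `K ≃ ⋀^n_B N`; `extPowEquiv_compat`: compatibility with a further semilinear map `B → B'`.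
-/

set_option autoImplicit false
set_option linter.style.haveILetI false

namespace Groth.Agent.Lib.Helper73.TildeAffineBC


open TensorProduct

universe u v w w'

variable {A : Type u} {B : Type v} [CommRing A] [CommRing B] [Algebra A B]
  {M : Type w} [AddCommGroup M] [Module A M]
  {N : Type w'} [AddCommGroup N] [Module A N] [Module B N] [IsScalarTower A B N]

/-- A map is a base change if the canonical map from the tensor product is bijective after
localizing at every maximal ideal of the target ring. -/
theorem isBaseChange_of_forall_maximal (f : M →ₗ[A] N)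
    (H : ∀ (q : Ideal B) [q.IsMaximal],
      Function.Bijective (LocalizedModule.map q.primeCompl (LinearMap.liftBaseChange B f))) :
    IsBaseChange B f := by
  have hb : Function.Bijective (LinearMap.liftBaseChange B f) :=
    bijective_of_localized_maximal _ H
  exact IsBaseChange.of_equiv (LinearEquiv.ofBijective (LinearMap.liftBaseChange B f) hb)
    (fun x => by simp)

/-- Local criterion at a prime `q` of `B`: if `S` is a localization of `B` at `q` and of `A` at the
contraction `p` of `q`, and `P` is a localization of `N` at `q` such that `M → N → P` is a localization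
of `M` at `p`, then the localization at `q` of `B ⊗ M → N` is bijective. -/
theorem bijective_map_liftBaseChange (f : M →ₗ[A] N) (q : Ideal B) [q.IsPrime]
    (S : Type*) [CommRing S] [Algebra B S] [Algebra A S] [IsScalarTower A B S]
    [IsLocalization.AtPrime S q]
    (hS : IsLocalization (q.comap (algebraMap A B)).primeCompl S)
    (P : Type*) [AddCommGroup P] [Module B P] [Module A P] [IsScalarTower A B P]
    (g : N →ₗ[B] P) [IsLocalizedModule q.primeCompl g]
    (hP : IsLocalizedModule (q.comap (algebraMap A B)).primeCompl ((g.restrictScalars A).comp f)) :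
    Function.Bijective (LocalizedModule.map q.primeCompl (LinearMap.liftBaseChange B f)) := by
  set p : Ideal A := q.comap (algebraMap A B) with hp
  -- `B_q` is a localization of `A` at `p`
  have hBq : IsLocalization p.primeCompl (Localization q.primeCompl) := by
    let e : S ≃ₐ[B] Localization q.primeCompl := IsLocalization.algEquiv q.primeCompl _ _
    exact IsLocalization.isLocalization_of_algEquiv p.primeCompl (e.restrictScalars A)
  -- `N_q` is a localization of `M` at `p`
  let kN : N →ₗ[B] LocalizedModule q.primeCompl N := LocalizedModule.mkLinearMap q.primeCompl N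
  have hN : IsLocalizedModule p.primeCompl ((kN.restrictScalars A).comp f) := by
    have h1 := IsLocalizedModule.of_linearEquiv p.primeCompl ((g.restrictScalars A).comp f)
      ((IsLocalizedModule.iso q.primeCompl g).symm.restrictScalars A)
    have h2 : (((IsLocalizedModule.iso q.primeCompl g).symm.restrictScalars A : P ≃ₗ[A] _) :
        P →ₗ[A] LocalizedModule q.primeCompl N) ∘ₗ ((g.restrictScalars A).comp f) =
        (kN.restrictScalars A).comp f := by
      ext m
      exact LinearMap.congr_fun (IsLocalizedModule.iso_symm_comp q.primeCompl g) (f m)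
    rwa [h2] at h1
  -- `T_q` is a localization of `M` at `p`
  let kT : B ⊗[A] M →ₗ[B] LocalizedModule q.primeCompl (B ⊗[A] M) :=
    LocalizedModule.mkLinearMap q.primeCompl _
  have hT : IsLocalizedModule p.primeCompl
      ((kT.restrictScalars A).comp (TensorProduct.mk A B M 1)) := by
    rw [isLocalizedModule_iff_isBaseChange p.primeCompl (Localization q.primeCompl)]
    exact (TensorProduct.isBaseChange A M B).comp
      (IsLocalizedModule.isBaseChange q.primeCompl (Localization q.primeCompl) kT)
  -- the two maps agree
  let ψ := LocalizedModule.map q.primeCompl (LinearMap.liftBaseChange B f)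
  let e := IsLocalizedModule.linearEquiv p.primeCompl
    ((kT.restrictScalars A).comp (TensorProduct.mk A B M 1)) ((kN.restrictScalars A).comp f)
  have hψ : (ψ.restrictScalars A) = (e : _ →ₗ[A] _) := by
    apply IsLocalizedModule.linearMap_ext p.primeCompl
      ((kT.restrictScalars A).comp (TensorProduct.mk A B M 1)) ((kN.restrictScalars A).comp f)
    ext m
    have h3 := IsLocalizedModule.linearEquiv_apply p.primeCompl
      ((kT.restrictScalars A).comp (TensorProduct.mk A B M 1)) ((kN.restrictScalars A).comp f) m
    refine Eq.trans ?_ h3.symm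
    simp [ψ, kT, kN, LocalizedModule.map_mk]
  have : (ψ : _ → _) = e := by
    funext x
    exact LinearMap.congr_fun hψ x
  rw [show (LocalizedModule.map q.primeCompl (LinearMap.liftBaseChange B f) : _ → _) = e from this]
  exact e.bijective




open exteriorPower Groth.Agent.H46.ExtBC

universe v' w₁ w₂ w₃ w₄

section Core

variable {A : Type u} {B : Type v} [CommRing A] [CommRing B] [Algebra A B]
  {M : Type w} [AddCommGroup M] [Module A M]
  {N : Type w₁} [AddCommGroup N] [Module A N] [Module B N] [IsScalarTower A B N]
  (n : ℕ)
  {K : Type w₂} [AddCommGroup K] [Module A K] [Module B K] [IsScalarTower A B K]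

/-- The identification `K ≃ ⋀^n_B N` attached to base change maps `M → N` and `⋀^n_A M → K`. -/
noncomputable def extPowEquiv {fN : M →ₗ[A] N} (hfN : IsBaseChange B fN)
    {fK : ↥(⋀[A]^n M) →ₗ[A] K} (hfK : IsBaseChange B fK) : K ≃ₗ[B] ↥(⋀[B]^n N) :=
  hfK.equiv.symm ≪≫ₗ LinearEquiv.ofBijective (bcMap A B fN n) (bcMap_bijective hfN n)

theorem extPowEquiv_apply {fN : M →ₗ[A] N} (hfN : IsBaseChange B fN)
    {fK : ↥(⋀[A]^n M) →ₗ[A] K} (hfK : IsBaseChange B fK) (y : ↥(⋀[A]^n M)) :
    extPowEquiv n hfN hfK (fK y) = extMap A B fN n y := by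
  unfold extPowEquiv
  rw [LinearEquiv.trans_apply, hfK.equiv_symm_apply, LinearEquiv.ofBijective_apply, bcMap_tmul,
    one_smul]

end Core

section Compat

variable {A : Type u} {B : Type v} {B' : Type v'} [CommRing A] [CommRing B] [CommRing B']
  [Algebra A B] [Algebra A B']
  (ρ : B →+* B') (hρ : ∀ a, ρ (algebraMap A B a) = algebraMap A B' a)
  {M : Type w} [AddCommGroup M] [Module A M]
  {N : Type w₁} [AddCommGroup N] [Module A N] [Module B N] [IsScalarTower A B N]
  {N' : Type w₂} [AddCommGroup N'] [Module A N'] [Module B' N'] [IsScalarTower A B' N']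
  (n : ℕ)
  {K : Type w₃} [AddCommGroup K] [Module A K] [Module B K] [IsScalarTower A B K]
  {K' : Type w₄} [AddCommGroup K'] [Module A K'] [Module B' K'] [IsScalarTower A B' K']

include hρ in
theorem extPowEquiv_compat
    {fN : M →ₗ[A] N} (hfN : IsBaseChange B fN) {fN' : M →ₗ[A] N'} (hfN' : IsBaseChange B' fN')
    {fK : ↥(⋀[A]^n M) →ₗ[A] K} (hfK : IsBaseChange B fK)
    {fK' : ↥(⋀[A]^n M) →ₗ[A] K'} (hfK' : IsBaseChange B' fK')
    (r : N →+ N') (hr : ∀ (b : B) (x : N), r (b • x) = ρ b • r x) (hrf : ∀ m, r (fN m) = fN' m)
    (rK : K →+ K') (hrK : ∀ (b : B) (x : K), rK (b • x) = ρ b • rK x)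
    (hrKf : ∀ y, rK (fK y) = fK' y) (e : Fin n → N) :
    rK ((extPowEquiv n hfN hfK).symm (ιMulti B n e)) =
      (extPowEquiv n hfN' hfK').symm (ιMulti B' n (fun j => r (e j))) := by
  letI : Algebra B B' := ρ.toAlgebra
  letI : Module B N' := Module.compHom N' ρ
  haveI : IsScalarTower B B' N' := IsScalarTower.of_compHom _ _ _
  haveI := isScalarTower_extPow (N := N') B B' n
  haveI := isScalarTower_extPow (N := N) A B n
  haveI := isScalarTower_extPow (N := N') A B' n
  let rL : N →ₗ[B] N' :=
    { toFun := r
      map_add' := r.map_add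
      map_smul' := fun b x => hr b x }
  let Λr : ↥(⋀[B]^n N) →ₗ[B] ↥(⋀[B']^n N') := extMap B B' rL n
  -- Step 4
  have h4 : ∀ y : ↥(⋀[A]^n M), Λr (extMap A B fN n y) = extMap A B' fN' n y := by
    intro y
    have hy : y ∈ Submodule.span A (Set.range (ιMulti A n (M := M))) := by
      rw [ιMulti_span A n M]; trivial
    induction hy using Submodule.span_induction with
    | mem y hy =>
      obtain ⟨m, rfl⟩ := hy
      rw [extMap_ιMulti, extMap_ιMulti, extMap_ιMulti]
      congr 1
      funext i
      exact hrf (m i)
    | zero => simp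
    | add y z _ _ hy hz => rw [map_add, map_add, map_add, hy, hz]
    | smul a y _ hy =>
      rw [LinearMap.map_smul (extMap A B fN n) a y, LinearMap.map_smul (extMap A B' fN' n) a y,
        ← hy, ← algebraMap_smul B a (extMap A B fN n y), LinearMap.map_smul Λr,
        ← algebraMap_smul B' (algebraMap A B a) (Λr _), ← algebraMap_smul B' a (Λr _)]
      congr 1
      exact hρ a
  -- Step 3
  have h3 : ∀ k : K, extPowEquiv n hfN' hfK' (rK k) = Λr (extPowEquiv n hfN hfK k) := by
    intro k
    refine hfK.inductionOn k (fun k => extPowEquiv n hfN' hfK' (rK k) =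
      Λr (extPowEquiv n hfN hfK k)) ?_ ?_ ?_ ?_
    · simp
    · intro y
      rw [hrKf, extPowEquiv_apply, extPowEquiv_apply, h4]
    · intro b k hk
      rw [hrK, map_smul, hk, map_smul, map_smul]
      exact (algebraMap_smul B' b _)
    · intro k₁ k₂ h₁ h₂
      rw [map_add, map_add, h₁, h₂, map_add, map_add]
  have h5 := h3 ((extPowEquiv n hfN hfK).symm (ιMulti B n e))
  rw [LinearEquiv.apply_symm_apply] at h5
  rw [LinearEquiv.eq_symm_apply, h5]
  exact extMap_ιMulti B B' rL n e

end Compat


end Groth.Agent.Lib.Helper73.TildeAffineBC
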