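import Mathlib
import Groth.Agent.Lib.Helper45.QCohStalk
import Groth.Agent.Lib.Helper45.ModulesBasic
import Groth.Agent.Lib.Helper73.TildeAffineBC1

/-!
# Sections of `M~` over an affine open are a base change of `M` (helper73)

`isBaseChange_toOpenL`: for an affine open `U ⊆ Spec R`, the map `M → Γ(M~, U)` exhibits
`Γ(M~, U)` as the base change of `M` along `R → Γ(Spec R, U)`.
-/

set_option autoImplicit false
set_option linter.style.haveILetI false

open AlgebraicGeometry CategoryTheory TopologicalSpace Opposite

namespace Groth.Agent.Lib.Helper73.TildeAffineBC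

universe u
variable {R : CommRingCat.{u}} (M : ModuleCat.{u} R) (U : (Spec R).Opens)

/-- `M → Γ(M~, U)` as an `R`-linear map. -/
noncomputable def toOpenL : M →ₗ[R] Γ(tilde M, U) := (tilde.toOpen M U).hom

noncomputable abbrev algStalk (x : Spec R) :
    Algebra R ((Spec R).presheaf.stalk x) :=
  StructureSheaf.stalkAlgebra (↑R) x

attribute [local instance] algStalk

theorem locStalk (x : Spec R) :
    IsLocalization.AtPrime ((Spec R).presheaf.stalk x)
      (show PrimeSpectrum R from x).asIdeal :=
  StructureSheaf.IsLocalization.to_stalk R x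

noncomputable abbrev modStalk (x : Spec R) : Module R ((tilde M).presheaf.stalk x) :=
  inferInstanceAs (Module R ((tilde M).presheaf.stalk (show PrimeSpectrum.Top R from x)))

attribute [local instance] modStalk

theorem towerStalk (x : Spec R) :
    IsScalarTower R ((Spec R).presheaf.stalk x) ((tilde M).presheaf.stalk x) :=
  .of_algebraMap_smul fun _ _ ↦ rfl

theorem towerSec {U : (Spec R).Opens} (x : U) :
    IsScalarTower R Γ(Spec R, U) ((Spec R).presheaf.stalk (x : Spec R)) := by
  refine IsScalarTower.of_algebraMap_eq fun r => ?_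
  exact (StructureSheaf.algebraMap_germ_apply U x.1 x.2 r).symm


set_option backward.isDefEq.respectTransparency.types false in
theorem isLocalizedModule_toStalk (y : PrimeSpectrum.Top R) :
    IsLocalizedModule y.asIdeal.primeCompl (tilde.toStalk M y).hom := inferInstance

open Groth.Agent.Lib.Helper45 in
attribute [local instance] Groth.Agent.Lib.Helper45.stalkModuleSections in
theorem isBaseChange_toOpenL {U : (Spec R).Opens} (hU : IsAffineOpen U) :
    IsBaseChange Γ(Spec R, U) (toOpenL M U) := by
  apply isBaseChange_of_forall_maximal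
  intro q hq
  obtain ⟨x, hx⟩ := exists_primeIdealOf_eq hU ⟨q, hq.isPrime⟩
  have hxq : (hU.primeIdealOf x).asIdeal = q := congrArg PrimeSpectrum.asIdeal hx
  subst hxq
  haveI := towerSec x
  haveI := towerStalk M (x : Spec R)
  haveI : IsLocalization.AtPrime ((Spec R).presheaf.stalk (x : Spec R))
      (hU.primeIdealOf x).asIdeal := hU.isLocalization_stalk x
  haveI : IsScalarTower R Γ(Spec R, U) ((tilde M).presheaf.stalk (x : Spec R)) := by
    refine ⟨fun a b p => ?_⟩
    rw [← algebraMap_smul ((Spec R).presheaf.stalk (x : Spec R)) b p,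
      ← algebraMap_smul ((Spec R).presheaf.stalk (x : Spec R)) (a • b) p, Algebra.smul_def,
      map_mul, mul_smul, ← IsScalarTower.algebraMap_apply,
      algebraMap_smul ((Spec R).presheaf.stalk (x : Spec R)) a]
  haveI := isLocalizedModule_germₗ hU (tilde M) x
  have hcomap : ((hU.primeIdealOf x).asIdeal.comap (algebraMap R Γ(Spec R, U))).primeCompl =
      (show PrimeSpectrum R from (x : Spec R)).asIdeal.primeCompl := by
    haveI := locStalk (x : Spec R)
    ext a
    have h1 : a ∈ ((hU.primeIdealOf x).asIdeal.comap (algebraMap R Γ(Spec R, U))).primeCompl ↔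
        algebraMap R Γ(Spec R, U) a ∈ (hU.primeIdealOf x).asIdeal.primeCompl := Iff.rfl
    rw [h1, ← IsLocalization.AtPrime.isUnit_to_map_iff ((Spec R).presheaf.stalk (x : Spec R))
        (hU.primeIdealOf x).asIdeal,
      ← IsLocalization.AtPrime.isUnit_to_map_iff ((Spec R).presheaf.stalk (x : Spec R))
        (show PrimeSpectrum R from (x : Spec R)).asIdeal, ← IsScalarTower.algebraMap_apply]
  refine bijective_map_liftBaseChange (toOpenL M U) _ ((Spec R).presheaf.stalk (x : Spec R)) ?_
    ((tilde M).presheaf.stalk (x : Spec R)) (germₗ (tilde M) x) ?_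
  · rw [hcomap]
    exact locStalk (x : Spec R)
  · rw [hcomap]
    have hmap : ((germₗ (tilde M) x).restrictScalars R).comp (toOpenL M U) =
        (tilde.toStalk M (show PrimeSpectrum.Top R from (x : Spec R))).hom := by
      ext m
      change (tilde M).presheaf.germ U x x.2 ((tilde.toOpen M U).hom m) = _
      rw [← tilde.toOpen_res M ⊤ U (homOfLE le_top)]
      exact TopCat.Presheaf.germ_res_apply _ _ _ _ _
    rw [hmap]
    exact isLocalizedModule_toStalk M x.1

end Groth.Agent.Lib.Helper73.TildeAffineBC
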