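import Groth.Prelude.Def_ExtPow2
import Groth.Agent.Lib.Helper73.TildeAffineBC2

/-!
# `(⋀^n M)~` is an `n`-th exterior power of `M~` on `Spec R` (helper73)
-/
set_option autoImplicit false
universe u
open AlgebraicGeometry CategoryTheory Opposite
namespace Groth.Agent.Lib.Helper73.TildeAffineBC

theorem isExtPow_tilde (R : CommRingCat.{u}) (M : ModuleCat.{u} R) (n : ℕ) :
    ExtPow.IsExtPow n (tilde M) (tilde (ModuleCat.of R ↥(⋀[R]^n M))) := by
  have hE : ∀ U : (Spec R).affineOpens, IsBaseChange Γ(Spec R, U.1) (toOpenL M U.1) :=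
    fun U => isBaseChange_toOpenL _ U.2
  have hL : ∀ U : (Spec R).affineOpens, IsBaseChange Γ(Spec R, U.1)
      (toOpenL (ModuleCat.of R ↥(⋀[R]^n M)) U.1) :=
    fun U => isBaseChange_toOpenL _ U.2
  refine ⟨fun U => (show Γ(tilde (ModuleCat.of R ↥(⋀[R]^n M)), U.1) ≃ₗ[Γ(Spec R, U.1)]
    ↥(⋀[Γ(Spec R, U.1)]^n Γ(tilde M, U.1)) from extPowEquiv n (hE U) (hL U)), ?_⟩
  intro U V h e
  have key := extPowEquiv_compat (A := R) (B := Γ(Spec R, U.1)) (B' := Γ(Spec R, V.1))
    ((Spec R).presheaf.map (homOfLE h).op).hom (fun a => rfl) n (hE U) (hE V) (hL U) (hL V)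
    ((tilde M).presheaf.map (homOfLE h).op).hom
    (fun b x => Scheme.Modules.map_smul (tilde M) (homOfLE h) b x)
    (fun m => rfl)
    ((tilde (ModuleCat.of R ↥(⋀[R]^n M))).presheaf.map (homOfLE h).op).hom
    (fun b x => Scheme.Modules.map_smul _ (homOfLE h) b x)
    (fun m => rfl) e
  exact key

end Groth.Agent.Lib.Helper73.TildeAffineBC
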