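import Mathlib
import Groth.Agent.Lib.Helper73.FlatQuot
import Groth.Agent.Lib.Helper18.LSubQcqs

/-!
# Torsion free coherent quotients on Noetherian integral schemes with affine diagonal
(helper73; S14989)

* `noZeroSMulDivisors_sections`, `noZeroSMulDivisors_stalk`: torsion freeness of stalks vs sections
  on an integral scheme.
* `noZeroSMulDivisors_sections_jP`, `tf_F1_of_mem`, `tf_F1_of_tf`: the step of `FlatQuot` keeps
  torsion freeness.
* `exists_tf_epi`, `exists_coh_tf_epi`.
-/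

set_option autoImplicit false
universe u
open AlgebraicGeometry CategoryTheory CategoryTheory.Limits TopologicalSpace

namespace Groth.Agent.Lib.Helper73.TorsionFreeQuot

open Groth.Agent.Lib.Helper45 Groth.Agent.Lib.Helper49 Groth.Agent.Lib.Helper73.FlatQuot

attribute [local instance] stalkModuleSections

variable {X : Scheme.{u}} [IsIntegral X]

/-- sections over an open `W` of a module whose stalks at the points of `W` are torsion free are
torsion free (integral scheme). -/
theorem noZeroSMulDivisors_sections (A : X.Modules) (W : X.Opens)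
    (h : ∀ x ∈ W, NoZeroSMulDivisors (X.presheaf.stalk x) (A.presheaf.stalk x)) :
    NoZeroSMulDivisors Γ(X, W) Γ(A, W) := by
  rw [noZeroSMulDivisors_iff_right_eq_zero_of_smul]
  intro c hc m hcm
  refine section_ext_germ A W m 0 fun x hx => ?_
  rw [map_zero]
  have h1 : X.presheaf.germ W x hx c • A.presheaf.germ W x hx m = 0 := by
    rw [← germ_smul, hcm, map_zero]
  have h2 : X.presheaf.germ W x hx c ≠ 0 := by
    intro h0
    exact hc (germ_injective_of_isIntegral X x hx (h0.trans (map_zero _).symm))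
  haveI := h x hx
  exact (eq_zero_or_eq_zero_of_smul_eq_zero h1).resolve_left h2

/-- stalks at points of an affine open `W` of a quasi-coherent module with torsion free sections
over `W` are torsion free. -/
theorem noZeroSMulDivisors_stalk (A : X.Modules) [A.IsQuasicoherent] {W : X.Opens}
    (hW : IsAffineOpen W) (h : NoZeroSMulDivisors Γ(X, W) Γ(A, W)) (x : X) (hxW : x ∈ W) :
    NoZeroSMulDivisors (X.presheaf.stalk x) (A.presheaf.stalk x) := by
  obtain ⟨x, rfl⟩ : ∃ x' : W, (x' : X) = x := ⟨⟨x, hxW⟩, rfl⟩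
  haveI : Nonempty W := ⟨x⟩
  haveI := hW.isLocalization_stalk x
  haveI := isLocalizedModule_germₗ hW A x
  rw [noZeroSMulDivisors_iff_right_eq_zero_of_smul]
  intro c hc a hca
  let S := (hW.primeIdealOf x).asIdeal.primeCompl
  obtain ⟨⟨m, s⟩, hms⟩ := IsLocalizedModule.surj S (germₗ A x) a
  obtain ⟨⟨r, t⟩, hrt⟩ := IsLocalization.surj S c
  have hms' : (s : Γ(X, W)) • a = germₗ A x m := hms
  have hrt' : c * algebraMap Γ(X, W) (X.presheaf.stalk (x : X)) (t : Γ(X, W)) =
      algebraMap Γ(X, W) (X.presheaf.stalk (x : X)) r := hrt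
  -- `germ (r • m) = 0`
  have h1 : germₗ A x (r • m) = 0 := by
    calc germₗ A x (r • m) = r • germₗ A x m := map_smul _ _ _
      _ = r • ((s : Γ(X, W)) • a) := by rw [hms']
      _ = (s : Γ(X, W)) • (r • a) := smul_comm _ _ _
      _ = (s : Γ(X, W)) • (algebraMap Γ(X, W) (X.presheaf.stalk (x : X)) r • a) := by
        rw [algebraMap_smul]
      _ = (s : Γ(X, W)) • ((c * algebraMap Γ(X, W) (X.presheaf.stalk (x : X)) (t : Γ(X, W))) • a) := by
        rw [hrt']
      _ = (s : Γ(X, W)) • (algebraMap Γ(X, W) (X.presheaf.stalk (x : X)) (t : Γ(X, W)) • (c • a)) := by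
        rw [mul_comm, mul_smul]
      _ = 0 := by rw [hca, smul_zero, smul_zero]
  obtain ⟨u, hu⟩ := (IsLocalizedModule.eq_zero_iff S (germₗ A x)).mp h1
  have hu' : (u : Γ(X, W)) • (r • m) = 0 := hu
  have hu0 : (u : Γ(X, W)) ≠ 0 := fun h0 => u.2 (h0 ▸ Ideal.zero_mem _)
  have hr0 : r ≠ 0 := by
    intro h0
    rw [h0, map_zero] at hrt'
    have ht : IsUnit (algebraMap Γ(X, W) (X.presheaf.stalk (x : X)) (t : Γ(X, W))) :=
      IsLocalization.map_units _ t
    exact hc ((ht.mul_left_eq_zero).mp hrt')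
  have hm0 : m = 0 := by
    rw [smul_smul] at hu'
    exact (eq_zero_or_eq_zero_of_smul_eq_zero hu').resolve_left (mul_ne_zero hu0 hr0)
  rw [hm0, map_zero] at hms'
  have hs : IsUnit (algebraMap Γ(X, W) (X.presheaf.stalk (x : X)) (s : Γ(X, W))) :=
    IsLocalization.map_units _ s
  rw [← algebraMap_smul (X.presheaf.stalk (x : X)) (s : Γ(X, W)) a] at hms'
  exact (hs.smul_eq_zero).mp hms'

section Step

variable {U : X.Opens} (hU : IsAffineOpen U) (M : X.Modules)

/-- sections of `j_* P0` are torsion free. -/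
theorem noZeroSMulDivisors_sections_jP (W : X.Opens) :
    NoZeroSMulDivisors Γ(X, W) Γ(jP hU M, W) := by
  rw [noZeroSMulDivisors_iff_right_eq_zero_of_smul]
  intro c hc p hcp
  let p' : Γ(P0 hU M, hU.fromSpec ⁻¹ᵁ W) := p
  have hcp' : (hU.fromSpec.app W c) • p' = 0 := hcp
  suffices h : p' = 0 from h
  refine section_ext_germ (P0 hU M) (hU.fromSpec ⁻¹ᵁ W) p' 0 fun y hy => ?_
  rw [map_zero]
  haveI : Nonempty (Spec Γ(X, U)) := ⟨y⟩
  haveI : IsIntegral (Spec Γ(X, U)) := isIntegral_of_isOpenImmersion hU.fromSpec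
  have h1 : (Spec Γ(X, U)).presheaf.germ (hU.fromSpec ⁻¹ᵁ W) y hy (hU.fromSpec.app W c) •
      (P0 hU M).presheaf.germ (hU.fromSpec ⁻¹ᵁ W) y hy p' = 0 := by
    rw [← germ_smul, hcp', map_zero]
  have h2 : (Spec Γ(X, U)).presheaf.germ (hU.fromSpec ⁻¹ᵁ W) y hy (hU.fromSpec.app W c) ≠ 0 := by
    rw [← Scheme.Hom.germ_stalkMap_apply]
    intro h0
    have hinj : Function.Injective (hU.fromSpec.stalkMap y).hom :=
      ((ConcreteCategory.isIso_iff_bijective (hU.fromSpec.stalkMap y)).mp inferInstance).1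
    have h3 : X.presheaf.germ W (hU.fromSpec y) hy c = 0 :=
      hinj (h0.trans (map_zero _).symm)
    exact hc (germ_injective_of_isIntegral X (hU.fromSpec y) hy (h3.trans (map_zero _).symm))
  haveI hfl : Module.Flat ((Spec Γ(X, U)).presheaf.stalk y) ((P0 hU M).presheaf.stalk y) :=
    isFlat_P0 hU M y
  have hreg := Module.Flat.isSMulRegular_of_nonZeroDivisors
    (M := (P0 hU M).presheaf.stalk y) (mem_nonZeroDivisors_of_ne_zero h2)
  exact hreg (h1.trans (smul_zero _).symm)

end Step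

section Step2

open Groth.Agent.Lib.Helper18.FPM

variable (hd : ∀ V W : X.Opens, IsAffineOpen V → IsAffineOpen W → IsAffineOpen (V ⊓ W))
variable {U : X.Opens} (hU : IsAffineOpen U) (M : X.Modules) [M.IsQuasicoherent]

include hd in
theorem tf_F1_of_mem (x : X) (hx : x ∈ U) :
    NoZeroSMulDivisors (X.presheaf.stalk x) ((F1 hU M).presheaf.stalk x) := by
  haveI := isQuasicoherent_F1 hd hU M
  refine noZeroSMulDivisors_stalk (F1 hU M) hU ?_ x hx
  haveI := noZeroSMulDivisors_sections_jP hU M U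
  exact Function.Injective.noZeroSMulDivisors (Groth.Agent.Lib.Helper45.appₗ (pi2 hU M) U)
    (pi2_app_bijective hU M).1 (map_zero _) (fun c s => map_smul _ c s)

include hd in
theorem tf_F1_of_tf (V : X.Opens)
    (hV : ∀ x ∈ V, NoZeroSMulDivisors (X.presheaf.stalk x) (M.presheaf.stalk x)) (x : X)
    (hx : x ∈ V) : NoZeroSMulDivisors (X.presheaf.stalk x) ((F1 hU M).presheaf.stalk x) := by
  haveI := isQuasicoherent_F1 hd hU M
  obtain ⟨_, ⟨W, hW : IsAffineOpen W, rfl⟩, hxW, hWV⟩ :=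
    X.isBasis_affineOpens.exists_subset_of_mem_open hx V.2
  refine noZeroSMulDivisors_stalk (F1 hU M) hW ?_ x hxW
  haveI h1 : NoZeroSMulDivisors Γ(X, W) Γ(M, W) :=
    noZeroSMulDivisors_sections M W fun y hy => hV y (hWV hy)
  haveI h2 := noZeroSMulDivisors_sections_jP hU M W
  haveI h3 : NoZeroSMulDivisors Γ(X, W) (Γ(M, W) × Γ(jP hU M, W)) := by
    rw [noZeroSMulDivisors_iff_right_eq_zero_of_smul]
    rintro c hc ⟨a, b⟩ hab
    have ha : c • a = 0 := congrArg Prod.fst hab
    have hb : c • b = 0 := congrArg Prod.snd hab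
    exact Prod.ext ((eq_zero_or_eq_zero_of_smul_eq_zero ha).resolve_left hc)
      ((eq_zero_or_eq_zero_of_smul_eq_zero hb).resolve_left hc)
  let f : Γ(F1 hU M, W) →ₗ[Γ(X, W)] (Γ(M, W) × Γ(jP hU M, W)) :=
    (biprodSectionsEquiv M (jP hU M) W).toLinearMap ∘ₗ
      Groth.Agent.Lib.Helper45.appₗ (kernel.ι (phi hU M)) W
  have hf : Function.Injective f :=
    (biprodSectionsEquiv M (jP hU M) W).injective.comp
      (Groth.Agent.Lib.Helper45.app_injective_of_mono (kernel.ι (phi hU M)) W)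
  exact Function.Injective.noZeroSMulDivisors f hf (map_zero _) (fun c s => map_smul _ c s)

include hd in
theorem exists_tf_of_list (M : X.Modules) [M.IsQuasicoherent] (L : List X.Opens)
    (hL : ∀ U ∈ L, IsAffineOpen U) :
    ∃ (F : X.Modules) (π : F ⟶ M), F.IsQuasicoherent ∧ Epi π ∧
      ∀ U ∈ L, ∀ x ∈ U, NoZeroSMulDivisors (X.presheaf.stalk x) (F.presheaf.stalk x) := by
  induction L with
  | nil => exact ⟨M, 𝟙 M, inferInstance, inferInstance, by simp⟩
  | cons U L ih =>
    obtain ⟨F', π', hq, he, hfl⟩ := ih (fun V hV => hL V (List.mem_cons_of_mem _ hV))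
    haveI := hq
    have hU := hL U List.mem_cons_self
    refine ⟨F1 hU F', pi1 hU F' ≫ π', isQuasicoherent_F1 hd hU F', ?_, ?_⟩
    · haveI := epi_pi1 hd hU F'
      exact epi_comp _ _
    intro V hV x hx
    rcases List.mem_cons.mp hV with rfl | hV'
    · exact tf_F1_of_mem hd hU F' x hx
    · exact tf_F1_of_tf hd hU F' V (hfl V hV') x hx

include hd in
/-- on a quasi-compact integral scheme with affine diagonal every quasi-coherent module is a
quotient of a quasi-coherent module with torsion free stalks. -/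
theorem exists_tf_epi [CompactSpace X] (M : X.Modules) [M.IsQuasicoherent] :
    ∃ (F : X.Modules) (π : F ⟶ M), F.IsQuasicoherent ∧ Epi π ∧
      ∀ x : X, NoZeroSMulDivisors (X.presheaf.stalk x) (F.presheaf.stalk x) := by
  obtain ⟨T, hT⟩ := Groth.Agent.Lib.Helper18.FTApprox.exists_finite_affine_cover X
  obtain ⟨F, π, hq, he, hfl⟩ := exists_tf_of_list hd M (T.toList.map (fun U => U.1))
    (by
      intro U hU
      obtain ⟨V, -, rfl⟩ := List.mem_map.mp hU
      exact V.2)
  refine ⟨F, π, hq, he, fun x => ?_⟩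
  have hx : x ∈ (⨆ U : ↥T, (U.1 : X.affineOpens).1) := by rw [hT]; trivial
  obtain ⟨U, hxU⟩ := Opens.mem_iSup.mp hx
  exact hfl U.1.1 (List.mem_map.mpr ⟨U.1, Finset.mem_toList.mpr U.2, rfl⟩) x hxU

end Step2

section Main

open Groth.Agent.Lib.Helper18.LSubM

variable (hd : ∀ V W : X.Opens, IsAffineOpen V → IsAffineOpen W → IsAffineOpen (V ⊓ W))

include hd in
/-- on a Noetherian integral scheme with affine diagonal every coherent module is a quotient of a
coherent module with torsion free stalks. -/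
theorem exists_coh_tf_epi [IsNoetherian X] (F : X.Modules) (hF : Coh.IsCoh F) :
    ∃ (F' : X.Modules) (π : F' ⟶ F), Coh.IsCoh F' ∧
      (∀ y : X, NoZeroSMulDivisors (X.presheaf.stalk y) (F'.presheaf.stalk y)) ∧ Epi π := by
  classical
  haveI : F.IsQuasicoherent := hF.1
  obtain ⟨G, πG, hGq, hGe, hGtf⟩ := exists_tf_epi hd F
  haveI := hGq
  haveI := hGe
  obtain ⟨T, hT⟩ := Groth.Agent.Lib.Helper18.FTApprox.exists_finite_affine_cover X
  have hfin : ∀ U : ↥T, Module.Finite Γ(X, U.1.1) Γ(F, U.1.1) :=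
    fun U => finite_sections_of_isFiniteType F hF.2 U.1.2
  choose n s hs using fun U : ↥T =>
    haveI := hfin U
    Module.Finite.exists_fin (R := Γ(X, U.1.1)) (M := Γ(F, U.1.1))
  have hsurj : ∀ U : ↥T, Function.Surjective (πG.app U.1.1) :=
    fun U => Groth.Agent.Lib.Helper18.EpiAffine.app_surjective_of_epi πG U.1.2
  choose g hg using fun (k : Σ U : ↥T, Fin (n U)) => hsurj k.1 (s k.1 k.2)
  obtain ⟨K, hK, hKmem⟩ := exists_isQFT_through_sections (F := G)
    (Finset.univ : Finset (Σ U : ↥T, Fin (n U))) (fun k => k.1.1.1) (fun k => k.1.1.2) g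
  refine ⟨K.toModules, K.ι ≫ πG, ⟨hK.isQuasicoherent, hK.isFiniteType⟩, ?_, ?_⟩
  · intro y
    haveI := hGtf y
    exact Function.Injective.noZeroSMulDivisors (stalkMapLinear K.ι y)
      (stalkMap_injective_of_mono K.ι y) (map_zero _) (fun c a => map_smul _ c a)
  · haveI := hK.isQuasicoherent
    refine Groth.Agent.Lib.Helper18.FPPullEpi.epi_of_app_surjective_affine (K.ι ≫ πG) fun x => ?_
    have hx : x ∈ (⨆ U : ↥T, (U.1 : X.affineOpens).1) := by rw [hT]; trivial
    obtain ⟨U, hxU⟩ := Opens.mem_iSup.mp hx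
    refine ⟨U.1.1, U.1.2, hxU, fun f => ?_⟩
    have hf : f ∈ Submodule.span Γ(X, U.1.1) (Set.range (s U)) := by rw [hs U]; trivial
    have hle : Submodule.span Γ(X, U.1.1) (Set.range (s U)) ≤
        LinearMap.range (Groth.Agent.Lib.Helper45.appₗ (K.ι ≫ πG) U.1.1) := by
      rw [Submodule.span_le]
      rintro _ ⟨i, rfl⟩
      have hmem := hKmem ⟨U, i⟩ (Finset.mem_univ _)
      refine ⟨K.sec U.1.1 (g ⟨U, i⟩) hmem, ?_⟩
      change πG.app U.1.1 (K.ι.app U.1.1 (K.sec U.1.1 (g ⟨U, i⟩) hmem)) = s U i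
      rw [LSub.ι_app_sec]
      exact hg ⟨U, i⟩
    obtain ⟨z, hz⟩ := hle hf
    exact ⟨z, hz⟩

end Main

end Groth.Agent.Lib.Helper73.TorsionFreeQuot
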