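import Mathlib
import Groth.Agent.Lib.Helper73.PunctureExtend
import Groth.Agent.Lib.Helper18.FPQuot
import Groth.Agent.Lib.Helper11.ResProp
import Groth.Agent.Lib.Helper49.StalkNbhd2

/-!
helper73: a coherent module on a Noetherian scheme which is locally free near two regular closed
points `p ≠ q` of dimension 2, and which is a quotient of a finite locally free module on `X ∖ p`
and on `X ∖ q`, is a quotient of a finite locally free module.
-/

set_option autoImplicit false
universe u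

open CategoryTheory CategoryTheory.Limits AlgebraicGeometry TopologicalSpace

namespace Groth.Agent.Lib.Helper73.TwoPunctures

open Groth.Agent.Lib.Helper73.PunctureExtend

variable {X : Scheme.{u}} [IsLocallyNoetherian X]

theorem exists_finLocFree_map_half [CompactSpace X] [QuasiSeparatedSpace X]
    (F : X.Modules) (hF : Coh.IsCoh F) (p : X) (U : X.Opens) (hU : (U : Set X) = {p}ᶜ)
    (hreg : IsRegularLocalRing (X.presheaf.stalk p))
    (hdim : ringKrullDim (X.presheaf.stalk p) = 2)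
    (hFp : ∃ W : X.Opens, p ∈ W ∧ FlatMod.IsFinLocFree (F.restrict W.ι))
    (E : (U : Scheme.{u}).Modules) (π : E ⟶ F.restrict U.ι) (hE : FlatMod.IsFinLocFree E)
    (hπ : Epi π) :
    ∃ (D : X.Modules) (φ : D ⟶ F), FlatMod.IsFinLocFree D ∧
      ∀ x ∈ U, Function.Surjective (Groth.Agent.Lib.Helper49.stalkMap φ x).hom := by
  have hFq : F.IsQuasicoherent := hF.1
  obtain ⟨D, e, hD⟩ := exists_finLocFree_extension p U hU hreg hdim E hE
  have hnot : ∀ x : X, x ∉ U → x = p := by
    intro x hx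
    have : x ∉ (U : Set X) := hx
    rw [hU] at this
    simpa using this
  have hisoF : IsIso ((Scheme.Modules.restrictAdjunction U.ι).unit.app F) := by
    refine Groth.Agent.Lib.Helper80.isIso_unit_of_depth F hF U fun x hx => ?_
    obtain rfl := hnot x hx
    obtain ⟨W, hxW, hFW⟩ := hFp
    have := Groth.Agent.Lib.Helper80.FreeLocus.free_stalk_of_isFinLocFree_restrict F W hFW x hxW
    have := Groth.Agent.Lib.Helper12.QuasiFlat.finite_stalk_of_isCoh F hF x
    have hN : IsNoetherianRing (X.presheaf.stalk x) := inferInstance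
    refine le_trans ?_ (depth_le_depth_of_free (X.presheaf.stalk x) (F.presheaf.stalk x))
    rw [depth_self_eq_two _ hdim]
  obtain ⟨φ, hφ⟩ := exists_map_of_restrict U D F hisoF (e.hom ≫ π)
  refine ⟨D, φ, hD, fun x hx => ?_⟩
  obtain ⟨y, rfl⟩ := Groth.Agent.Lib.Helper49.exists_ι_eq U x hx
  apply Groth.Agent.Lib.Helper49.stalkMap_surjective_of_restrict U.ι φ y
  rw [hφ]
  have : Epi (e.hom ≫ π) := epi_comp _ _
  exact Groth.Agent.Lib.Helper45.stalkMap_surjective_of_epi _ y

attribute [local instance] Abelian.hasFiniteBiproducts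

theorem exists_finLocFree_epi_of_two_punctures [CompactSpace X] [QuasiSeparatedSpace X]
    (F : X.Modules) (hF : Coh.IsCoh F) (p q : X) (hpq : p ≠ q)
    (hpreg : IsRegularLocalRing (X.presheaf.stalk p))
    (hqreg : IsRegularLocalRing (X.presheaf.stalk q))
    (hpdim : ringKrullDim (X.presheaf.stalk p) = 2)
    (hqdim : ringKrullDim (X.presheaf.stalk q) = 2)
    (hFp : ∃ W : X.Opens, p ∈ W ∧ FlatMod.IsFinLocFree (F.restrict W.ι))
    (hFq : ∃ W : X.Opens, q ∈ W ∧ FlatMod.IsFinLocFree (F.restrict W.ι))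
    (Up Uq : X.Opens) (hUp : (Up : Set X) = {p}ᶜ) (hUq : (Uq : Set X) = {q}ᶜ)
    (hp' : ∃ (E : (↑Up : Scheme.{u}).Modules) (π : E ⟶ F.restrict Up.ι),
      FlatMod.IsFinLocFree E ∧ Epi π)
    (hq' : ∃ (E : (↑Uq : Scheme.{u}).Modules) (π : E ⟶ F.restrict Uq.ι),
      FlatMod.IsFinLocFree E ∧ Epi π) :
    ∃ (E : X.Modules) (π : E ⟶ F), FlatMod.IsFinLocFree E ∧ Epi π := by
  obtain ⟨Ep, πp, hEp, hπp⟩ := hp'
  obtain ⟨Eq, πq, hEq, hπq⟩ := hq'
  obtain ⟨Dp, φp, hDp, hsp⟩ := exists_finLocFree_map_half F hF p Up hUp hpreg hpdim hFp Ep πp hEp hπp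
  obtain ⟨Dq, φq, hDq, hsq⟩ := exists_finLocFree_map_half F hF q Uq hUq hqreg hqdim hFq Eq πq hEq hπq
  let N : Fin 2 → X.Modules := fun j => Fin.cases Dp (fun _ => Dq) j
  have hN : ∀ j, FlatMod.IsFinLocFree (N j) := by
    intro j
    refine Fin.cases ?_ (fun i => ?_) j
    · exact hDp
    · exact hDq
  let φ : ∀ j, N j ⟶ F := fun j => Fin.cases (motive := fun j => N j ⟶ F) φp (fun _ => φq) j
  refine ⟨⨁ N, biproduct.desc φ, Groth.Agent.Lib.Helper11.ResProp.isFinLocFree_biproduct N hN, ?_⟩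
  apply Groth.Agent.Lib.Helper45.epi_of_stalkMap_surjective
  intro x
  by_cases hx : x = p
  · have hxq : x ∈ Uq := by
      show x ∈ (Uq : Set X)
      rw [hUq, hx]
      exact hpq
    apply Groth.Agent.Lib.Helper18.FPM.stalkMap_surjective_of_comp (biproduct.ι N 1)
    rw [biproduct.ι_desc]
    exact hsq x hxq
  · have hxp : x ∈ Up := by
      show x ∈ (Up : Set X)
      rw [hUp]
      exact hx
    apply Groth.Agent.Lib.Helper18.FPM.stalkMap_surjective_of_comp (biproduct.ι N 0)
    rw [biproduct.ι_desc]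
    exact hsp x hxp

end Groth.Agent.Lib.Helper73.TwoPunctures
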